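import Groth.Agent.MorLib.SmoothAlg

/-! The smooth locus: base change, flat descent, and the pointwise fibre criterion. -/

set_option autoImplicit false
universe u

namespace Groth.Agent.MorLib.SmoothLoc

open AlgebraicGeometry CategoryTheory Limits TopologicalSpace
open scoped TensorProduct

/-- Formal smoothness of the stalk map. -/
abbrev SM {X S : Scheme.{u}} (f : X ⟶ S) (x : X) : Prop := (f.stalkMap x).hom.FormallySmooth

theorem sm_comp_left {X Z S : Scheme.{u}} (m : Z ⟶ X) [IsOpenImmersion m] (f : X ⟶ S) (z : Z) :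
    SM (m ≫ f) z ↔ SM f (m z) := by
  show ((m ≫ f).stalkMap z).hom.FormallySmooth ↔ _
  rw [Scheme.Hom.stalkMap_comp]
  exact RingHom.FormallySmooth.respectsIso.cancel_right_isIso _ (m.stalkMap z)

theorem sm_comp_right {X S T : Scheme.{u}} (f : X ⟶ S) (u : S ⟶ T) [IsOpenImmersion u] (x : X) :
    SM (f ≫ u) x ↔ SM f x := by
  show ((f ≫ u).stalkMap x).hom.FormallySmooth ↔ _
  rw [Scheme.Hom.stalkMap_comp]
  exact RingHom.FormallySmooth.respectsIso.cancel_left_isIso (u.stalkMap (f x)) _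

theorem sm_Spec_iff {R A : Type u} [CommRing R] [CommRing A] [Algebra R A] (q : PrimeSpectrum A) :
    SM (Spec.map (CommRingCat.ofHom (algebraMap R A))) q ↔ Algebra.IsSmoothAt R q.asIdeal := by
  let p := q.asIdeal.under R
  let := Localization.AtPrime.algebraOfLiesOver p q.asIdeal
  refine (RingHom.FormallySmooth.respectsIso.arrow_mk_iso_iff
    (Scheme.arrowStalkMapSpecIso (CommRingCat.ofHom (algebraMap R A)) q)).trans ?_
  refine Iff.trans ?_ (Algebra.FormallySmooth.iff_restrictScalars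
    (R := R) (A := Localization.AtPrime p) (B := Localization.AtPrime q.asIdeal)).symm
  rw [← RingHom.formallySmooth_algebraMap]
  rfl

theorem flat_Spec_stalk {R A : Type u} [CommRing R] [CommRing A] [Algebra R A] (q : PrimeSpectrum A)
    (h : ((Spec.map (CommRingCat.ofHom (algebraMap R A))).stalkMap q).hom.Flat) :
    letI := Localization.AtPrime.algebraOfLiesOver (q.asIdeal.under R) q.asIdeal
    Module.Flat (Localization.AtPrime (q.asIdeal.under R)) (Localization.AtPrime q.asIdeal) := by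
  let := Localization.AtPrime.algebraOfLiesOver (q.asIdeal.under R) q.asIdeal
  have := (RingHom.Flat.respectsIso.arrow_mk_iso_iff
    (Scheme.arrowStalkMapSpecIso (CommRingCat.ofHom (algebraMap R A)) q)).mp h
  rw [← RingHom.flat_algebraMap_iff]
  exact this

/-- Reduction of a point of a base change to affine charts. -/
theorem reduce {X S X' S' : Scheme.{u}} (f : X ⟶ S) (g : S' ⟶ S) (f' : X' ⟶ S') (g' : X' ⟶ X)
    (hc : IsPullback g' f' f g) {R A R' : Type u} [CommRing R] [CommRing A] [CommRing R']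
    [Algebra R A] [Algebra R R'] (u : Spec (.of R) ⟶ S) [IsOpenImmersion u]
    (a : Spec (.of A) ⟶ X) [IsOpenImmersion a] (b : Spec (.of R') ⟶ S') [IsOpenImmersion b]
    (ha : Spec.map (CommRingCat.ofHom (algebraMap R A)) ≫ u = a ≫ f)
    (hb : Spec.map (CommRingCat.ofHom (algebraMap R R')) ≫ u = b ≫ g)
    (y : X') (hy : g' y ∈ Set.range a) (hy' : f' y ∈ Set.range b) :
    ∃ z : PrimeSpectrum (R' ⊗[R] A),
      a (z.comap (Algebra.TensorProduct.includeRight (R := R) (A := R') (B := A)).toRingHom) = g' y ∧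
      (SM f' y ↔ SM (Spec.map (CommRingCat.ofHom (algebraMap R' (R' ⊗[R] A)))) z) := by
  let M := pullback.map (Spec.map (CommRingCat.ofHom (algebraMap R R')))
    (Spec.map (CommRingCat.ofHom (algebraMap R A))) g f b a u hb ha
  let e := hc.flip.isoPullback
  haveI : IsOpenImmersion M := inferInstance
  let m : Spec (.of (R' ⊗[R] A)) ⟶ X' := (pullbackSpecIso R R' A).inv ≫ M ≫ e.inv
  have hmf : m ≫ f' = Spec.map (CommRingCat.ofHom (algebraMap R' (R' ⊗[R] A))) ≫ b := by
    simp only [m, e, Category.assoc, IsPullback.isoPullback_inv_fst, M, pullback.lift_fst,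
      pullbackSpecIso_inv_fst'_assoc]
  have hmg : m ≫ g' = Spec.map (CommRingCat.ofHom
      (Algebra.TensorProduct.includeRight (R := R) (A := R') (B := A)).toRingHom) ≫ a := by
    simp only [m, e, Category.assoc, IsPullback.isoPullback_inv_snd, M, pullback.lift_snd]
    rw [pullbackSpecIso_inv_snd_assoc]
    rfl
  obtain ⟨w, hw⟩ : e.hom y ∈ Set.range M := by
    rw [Scheme.Pullback.range_map]
    refine ⟨?_, ?_⟩
    · rw [Set.mem_preimage, ← Scheme.Hom.comp_apply, IsPullback.isoPullback_hom_fst]; exact hy'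
    · rw [Set.mem_preimage, ← Scheme.Hom.comp_apply, IsPullback.isoPullback_hom_snd]; exact hy
  refine ⟨(pullbackSpecIso R R' A).hom w, ?_, ?_⟩
  all_goals
    have hm : m ((pullbackSpecIso R R' A).hom w) = y := by
      simp only [m, Scheme.Hom.comp_apply, Scheme.hom_inv_apply, hw]
  · show a ((Spec.map (CommRingCat.ofHom
      (Algebra.TensorProduct.includeRight (R := R) (A := R') (B := A)).toRingHom))
        ((pullbackSpecIso R R' A).hom w)) = g' y
    rw [← Scheme.Hom.comp_apply, ← hmg, Scheme.Hom.comp_apply, hm]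
  · have := sm_comp_left m f' ((pullbackSpecIso R R' A).hom w)
    rw [hm, hmf, sm_comp_right] at this
    exact this.symm

theorem descend_charts {X S X' S' : Scheme.{u}} (f : X ⟶ S) (g : S' ⟶ S) (f' : X' ⟶ S') (g' : X' ⟶ X)
    (hc : IsPullback g' f' f g) {R A R' : Type u} [CommRing R] [CommRing A] [CommRing R']
    [Algebra R A] [Algebra R R'] [Algebra.FinitePresentation R A] [Module.Flat R R']
    (u : Spec (.of R) ⟶ S) [IsOpenImmersion u]
    (a : Spec (.of A) ⟶ X) [IsOpenImmersion a] (b : Spec (.of R') ⟶ S') [IsOpenImmersion b]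
    (ha : Spec.map (CommRingCat.ofHom (algebraMap R A)) ≫ u = a ≫ f)
    (hb : Spec.map (CommRingCat.ofHom (algebraMap R R')) ≫ u = b ≫ g)
    (y : X') (hy : g' y ∈ Set.range a) (hy' : f' y ∈ Set.range b) (h : SM f' y) : SM f (g' y) := by
  obtain ⟨z, hz, hsm⟩ := reduce f g f' g' hc u a b ha hb y hy hy'
  have hs := SmoothAlg.isSmoothAt_descend z.asIdeal ((sm_Spec_iff z).mp (hsm.mp h))
  let q : Spec (CommRingCat.of A) :=
    z.comap (Algebra.TensorProduct.includeRight (R := R) (A := R') (B := A)).toRingHom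
  have h1 : SM (Spec.map (CommRingCat.ofHom (algebraMap R A))) q := (sm_Spec_iff _).mpr hs
  rw [← sm_comp_right _ u, ha, sm_comp_left] at h1
  exact hz ▸ h1

/-- Smoothness at a point descends along a flat base change. -/
theorem sm_descend {X S X' S' : Scheme.{u}} (f : X ⟶ S) (g : S' ⟶ S) (f' : X' ⟶ S') (g' : X' ⟶ X)
    (hc : IsPullback g' f' f g) [LocallyOfFinitePresentation f] [Flat g] (y : X') (h : SM f' y) :
    SM f (g' y) := by
  obtain ⟨U, hU, hxU, -⟩ := exists_isAffineOpen_mem_and_subset (x := f (g' y)) (U := ⊤) trivial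
  obtain ⟨V, hV, hxV, hVU'⟩ := exists_isAffineOpen_mem_and_subset (x := g' y) (U := f ⁻¹ᵁ U) hxU
  have hVU : V ≤ f ⁻¹ᵁ U := hVU'
  have hyU : f' y ∈ g ⁻¹ᵁ U := by
    show g (f' y) ∈ U
    rw [← Scheme.Hom.comp_apply, ← hc.w]; exact hxU
  obtain ⟨U', hU', hyU', hU'U'⟩ := exists_isAffineOpen_mem_and_subset (x := f' y) (U := g ⁻¹ᵁ U) hyU
  have hU'U : U' ≤ g ⁻¹ᵁ U := hU'U'
  letI := (f.appLE U V hVU).hom.toAlgebra
  letI := (g.appLE U U' hU'U).hom.toAlgebra
  haveI : Algebra.FinitePresentation Γ(S, U) Γ(X, V) := f.finitePresentation_appLE hU hV hVU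
  haveI : Module.Flat Γ(S, U) Γ(S', U') := g.flat_appLE hU hU' hU'U
  exact descend_charts f g f' g' hc (R := Γ(S, U)) (A := Γ(X, V)) (R' := Γ(S', U'))
    hU.fromSpec hV.fromSpec hU'.fromSpec (hU.SpecMap_appLE_fromSpec f hV hVU)
    (hU.SpecMap_appLE_fromSpec g hU' hU'U) y (by erw [hV.range_fromSpec]; exact hxV)
    (by erw [hU'.range_fromSpec]; exact hyU') h

theorem fiber_charts {X S X' : Scheme.{u}} (f : X ⟶ S) {K : Type u} [Field K]
    (t : Spec (.of K) ⟶ S) (f' : X' ⟶ Spec (.of K)) (g' : X' ⟶ X) (hc : IsPullback g' f' f t)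
    {R A : Type u} [CommRing R] [CommRing A] [Algebra R A] [Algebra R K]
    [Algebra.FinitePresentation R A] (u : Spec (.of R) ⟶ S) [IsOpenImmersion u]
    (a : Spec (.of A) ⟶ X) [IsOpenImmersion a]
    (ha : Spec.map (CommRingCat.ofHom (algebraMap R A)) ≫ u = a ≫ f)
    (hb : Spec.map (CommRingCat.ofHom (algebraMap R K)) ≫ u = t)
    (y : X') (hy : g' y ∈ Set.range a) (hflat : (f.stalkMap (g' y)).hom.Flat) (h : SM f' y) :
    SM f (g' y) := by
  obtain ⟨z, hz, hsm⟩ := reduce f t f' g' hc u a (𝟙 _) ha (by rw [hb, Category.id_comp]) y hy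
    ⟨f' y, rfl⟩
  let i := Algebra.TensorProduct.includeRight (R := R) (A := K) (B := A)
  let q : Spec (CommRingCat.of A) := z.comap i.toRingHom
  let p := (z.comap i.toRingHom).asIdeal.under R
  have hbot : z.asIdeal.comap (algebraMap K (K ⊗[R] A)) = ⊥ :=
    (Ideal.eq_bot_or_top _).resolve_right (Ideal.IsPrime.comap _).ne_top
  have hp : p = RingHom.ker (algebraMap R K) := by
    show (z.asIdeal.comap i.toRingHom).comap (algebraMap R A) = _
    rw [RingHom.ker_eq_comap_bot, ← hbot, Ideal.comap_comap, Ideal.comap_comap]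
    congr 1
    ext r
    show i (algebraMap _ _ r) = algebraMap K _ (algebraMap _ K r)
    rw [AlgHom.commutes, ← IsScalarTower.algebraMap_apply]
  letI : Algebra p.ResidueField K := (Ideal.ResidueField.lift p (algebraMap R K) hp.le
    (fun r (hr : r ∉ p) => isUnit_iff_ne_zero.mpr fun h0 => hr (hp ▸ h0))).toAlgebra
  haveI : IsScalarTower R p.ResidueField K := .of_algebraMap_eq fun r =>
    (Ideal.ResidueField.lift_algebraMap _ _ _ _ _).symm
  have hflat' : ((Spec.map (CommRingCat.ofHom (algebraMap R A))).stalkMap q).hom.Flat := by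
    have h0 : ((a ≫ f).stalkMap q).hom.Flat := by
      rw [Scheme.Hom.stalkMap_comp]
      refine (RingHom.Flat.respectsIso.cancel_right_isIso _ _).mpr ?_
      rw [← hz] at hflat
      exact hflat
    rw [← ha, Scheme.Hom.stalkMap_comp] at h0
    exact (RingHom.Flat.respectsIso.cancel_left_isIso _ _).mp h0
  have hs := SmoothAlg.isSmoothAt_of_fiber_field (A := R) (B := A) p (z.comap i.toRingHom).asIdeal
    (flat_Spec_stalk (z.comap i.toRingHom) hflat') K z.asIdeal rfl ((sm_Spec_iff z).mp (hsm.mp h))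
  have h1 : SM (Spec.map (CommRingCat.ofHom (algebraMap R A))) q := (sm_Spec_iff _).mpr hs
  rw [← sm_comp_right _ u, ha, sm_comp_left] at h1
  exact hz ▸ h1

/-- Smoothness at a point from flatness at the point and smoothness of a fibre over a field. -/
theorem sm_of_fiber {X S X' : Scheme.{u}} (f : X ⟶ S) [LocallyOfFinitePresentation f] {K : Type u}
    [Field K] (t : Spec (.of K) ⟶ S) (f' : X' ⟶ Spec (.of K)) (g' : X' ⟶ X)
    (hc : IsPullback g' f' f t) (y : X') (hflat : (f.stalkMap (g' y)).hom.Flat) (h : SM f' y) :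
    SM f (g' y) := by
  obtain ⟨U, hU, hxU, -⟩ := exists_isAffineOpen_mem_and_subset (x := f (g' y)) (U := ⊤) trivial
  obtain ⟨V, hV, hxV, hVU'⟩ := exists_isAffineOpen_mem_and_subset (x := g' y) (U := f ⁻¹ᵁ U) hxU
  have hVU : V ≤ f ⁻¹ᵁ U := hVU'
  have hrange : Set.range t ⊆ Set.range hU.fromSpec := by
    rintro _ ⟨w, rfl⟩
    rw [hU.range_fromSpec, Subsingleton.elim w (f' y), ← Scheme.Hom.comp_apply, ← hc.w]
    exact hxU
  obtain ⟨ψ, hψ⟩ := Spec.map_surjective (IsOpenImmersion.lift hU.fromSpec t hrange)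
  letI : Algebra Γ(S, U) K := ψ.hom.toAlgebra
  letI := (f.appLE U V hVU).hom.toAlgebra
  haveI : Algebra.FinitePresentation Γ(S, U) Γ(X, V) := f.finitePresentation_appLE hU hV hVU
  exact fiber_charts f t f' g' hc (R := Γ(S, U)) (A := Γ(X, V)) hU.fromSpec hV.fromSpec
    (hU.SpecMap_appLE_fromSpec f hV hVU)
    (by
      show Spec.map ψ ≫ hU.fromSpec = t
      rw [hψ, IsOpenImmersion.lift_fac])
    y (by erw [hV.range_fromSpec]; exact hxV) hflat h

/-- The smooth locus pulls back into the smooth locus. -/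
theorem preimage_le {X S X' S' : Scheme.{u}} (f : X ⟶ S) (g : S' ⟶ S) (f' : X' ⟶ S') (g' : X' ⟶ X)
    (hc : IsPullback g' f' f g) [LocallyOfFinitePresentation f] [LocallyOfFinitePresentation f'] :
    g' ⁻¹ᵁ f.smoothLocus ≤ f'.smoothLocus := by
  intro y hy
  let W := f.smoothLocus
  haveI : Smooth (W.ι ≫ f) := by
    rw [← Scheme.Hom.smoothLocus_eq_top_iff, ← Scheme.Hom.preimage_smoothLocus_eq]
    exact Scheme.Opens.ι_preimage_self W
  haveI : Smooth ((g' ⁻¹ᵁ W).ι ≫ f') :=
    MorphismProperty.of_isPullback ((isPullback_morphismRestrict g' W).paste_vert hc) ‹_›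
  have h : (⟨y, hy⟩ : (g' ⁻¹ᵁ W : X'.Opens)) ∈ ((g' ⁻¹ᵁ W).ι ≫ f').smoothLocus := by
    rw [Scheme.Hom.smoothLocus_eq_top]; trivial
  rw [← Scheme.Hom.preimage_smoothLocus_eq] at h
  exact h

end Groth.Agent.MorLib.SmoothLoc
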