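import Mathlib.RingTheory.Smooth.Fiber
import Mathlib.RingTheory.Smooth.Locus
import Mathlib.RingTheory.Etale.Descent
import Mathlib

/-! Smoothness at a prime descends along flat base change; pointwise fibre criterion. -/

set_option autoImplicit false
universe u

namespace Groth.Agent.MorLib.SmoothAlg

open scoped TensorProduct
attribute [local instance] Algebra.TensorProduct.rightAlgebra

theorem localRingHom_faithfullyFlat {S B : Type u} [CommRing S] [CommRing B] [Algebra S B]
    [Module.Flat S B] (q' : Ideal B) [q'.IsPrime] (q : Ideal S) [q.IsPrime] [q'.LiesOver q] :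
    letI := Localization.AtPrime.algebraOfLiesOver q q'
    Module.FaithfullyFlat (Localization.AtPrime q) (Localization.AtPrime q') := by
  let := Localization.AtPrime.algebraOfLiesOver q q'
  haveI : IsLocalHom (algebraMap (Localization.AtPrime q) (Localization.AtPrime q')) :=
    Localization.isLocalHom_localRingHom q q' (algebraMap S B) _
  haveI : Module.Flat (Localization.AtPrime q) (Localization.AtPrime q') :=
    (Module.flat_iff_of_isLocalization (Localization.AtPrime q) q.primeCompl _).mpr (Module.Flat.trans S B _)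
  exact Module.FaithfullyFlat.of_flat_of_isLocalHom

variable {R S T : Type u} [CommRing R] [CommRing S] [CommRing T] [Algebra R S] [Algebra R T]
  [Module.Flat R T]

theorem flat_base : Module.Flat S (T ⊗[R] S) := by
  let e : T ⊗[R] S ≃ₗ[S] S ⊗[R] T :=
    { TensorProduct.comm R T S with
      map_smul' := fun s x => by
        induction x using TensorProduct.induction_on with
        | zero => simp
        | add a b ha hb =>
          change TensorProduct.comm R T S (s • (a + b)) = s • TensorProduct.comm R T S (a + b)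
          change TensorProduct.comm R T S (s • a) = s • TensorProduct.comm R T S a at ha
          change TensorProduct.comm R T S (s • b) = s • TensorProduct.comm R T S b at hb
          rw [smul_add, map_add, map_add, ha, hb, smul_add]
        | tmul t s' =>
          change TensorProduct.comm R T S (s • (t ⊗ₜ[R] s')) = s • (s' ⊗ₜ[R] t)
          rw [show s • (t ⊗ₜ[R] s') = t ⊗ₜ[R] (s * s') by
            simp [Algebra.smul_def, RingHom.algebraMap_toAlgebra], TensorProduct.comm_tmul,
            TensorProduct.smul_tmul', smul_eq_mul] }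
  exact Module.Flat.of_linearEquiv e

/-- Smoothness at a prime descends along a flat base change. -/
theorem isSmoothAt_descend [Algebra.FinitePresentation R S] (q' : Ideal (T ⊗[R] S)) [q'.IsPrime]
    (h : Algebra.IsSmoothAt T q') : Algebra.IsSmoothAt R (q'.under S) := by
  let q := q'.under S
  haveI : Module.Flat S (T ⊗[R] S) := flat_base
  let Sq := Localization.AtPrime q
  let L := Localization.AtPrime q'
  let := Localization.AtPrime.algebraOfLiesOver q q'
  haveI hff : Module.FaithfullyFlat Sq L := localRingHom_faithfullyFlat q' q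
  have h' : (⟨q', ‹_›⟩ : PrimeSpectrum (T ⊗[R] S)) ∈ Algebra.smoothLocus T (T ⊗[R] S) := h
  rw [Algebra.smoothLocus_eq_compl_support_inter] at h'
  change (⟨q, inferInstance⟩ : PrimeSpectrum S) ∈ Algebra.smoothLocus R S
  rw [Algebra.smoothLocus_eq_compl_support_inter]
  obtain ⟨hH, hΩ⟩ := h'
  refine ⟨?_, ?_⟩
  · let φ : Algebra.H1Cotangent R S →ₗ[S] Algebra.H1Cotangent T (T ⊗[R] S) :=
      Algebra.H1Cotangent.map R T S (T ⊗[R] S)
    let Φ : (T ⊗[R] S) ⊗[S] Algebra.H1Cotangent R S →ₗ[T ⊗[R] S] Algebra.H1Cotangent T (T ⊗[R] S) :=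
      φ.liftBaseChange (T ⊗[R] S)
    let e₀ : T ⊗[R] Algebra.H1Cotangent R S ≃+ Algebra.H1Cotangent T (T ⊗[R] S) :=
      (Algebra.tensorH1CotangentOfFlat R S T).toAddEquiv
    let c : T ⊗[R] Algebra.H1Cotangent R S →ₗ[R] (T ⊗[R] S) ⊗[S] Algebra.H1Cotangent R S :=
      TensorProduct.lift (LinearMap.mk₂ R (fun t x => (t ⊗ₜ[R] (1 : S)) ⊗ₜ[S] x)
        (fun a b x => by rw [TensorProduct.add_tmul, TensorProduct.add_tmul])
        (fun r a x => by rw [← TensorProduct.smul_tmul', ← TensorProduct.smul_tmul'])
        (fun a x y => by rw [TensorProduct.tmul_add])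
        (fun r a x => by rw [TensorProduct.tmul_smul]))
    have hc : Function.Surjective c := fun z => by
      induction z using TensorProduct.induction_on with
      | zero => exact ⟨0, map_zero c⟩
      | add a b ha hb =>
        obtain ⟨x, rfl⟩ := ha
        obtain ⟨y, rfl⟩ := hb
        exact ⟨x + y, map_add c x y⟩
      | tmul b x =>
        induction b using TensorProduct.induction_on with
        | zero => exact ⟨0, by rw [map_zero, TensorProduct.zero_tmul]⟩
        | add a b ha hb =>
          obtain ⟨u, hu⟩ := ha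
          obtain ⟨v, hv⟩ := hb
          exact ⟨u + v, by rw [map_add, hu, hv, TensorProduct.add_tmul]⟩
        | tmul t s =>
          refine ⟨t ⊗ₜ[R] (s • x), ?_⟩
          show (t ⊗ₜ[R] (1 : S)) ⊗ₜ[S] (s • x) = (t ⊗ₜ[R] s) ⊗ₜ[S] x
          rw [← TensorProduct.smul_tmul]
          congr 1
          simp [Algebra.smul_def, RingHom.algebraMap_toAlgebra]
    have hΦc : ∀ z, Φ (c z) = e₀ z := fun z => by
      induction z using TensorProduct.induction_on with
      | zero => simp
      | add a b ha hb => simp [ha, hb]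
      | tmul t x =>
        show Φ ((t ⊗ₜ[R] (1 : S)) ⊗ₜ[S] x) = Algebra.tensorH1CotangentOfFlat R S T (t ⊗ₜ[R] x)
        rw [Algebra.tensorH1CotangentOfFlat_tmul]
        simp only [Φ, LinearMap.liftBaseChange_tmul]
        rw [← algebraMap_smul (T ⊗[R] S) t]
        rfl
    have hΦ : Function.Injective Φ := fun a b hab => by
      obtain ⟨x, rfl⟩ := hc a
      obtain ⟨y, rfl⟩ := hc b
      rw [hΦc, hΦc] at hab
      rw [e₀.injective hab]
    rw [Set.mem_compl_iff, Module.notMem_support_iff] at hH ⊢
    haveI : Subsingleton (LocalizedModule q'.primeCompl (Algebra.H1Cotangent T (T ⊗[R] S))) := hH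
    haveI : Subsingleton (LocalizedModule q'.primeCompl ((T ⊗[R] S) ⊗[S] Algebra.H1Cotangent R S)) :=
      (IsLocalizedModule.map_injective q'.primeCompl (LocalizedModule.mkLinearMap q'.primeCompl _)
        (LocalizedModule.mkLinearMap q'.primeCompl _) Φ hΦ).subsingleton
    haveI : Subsingleton (L ⊗[T ⊗[R] S] ((T ⊗[R] S) ⊗[S] Algebra.H1Cotangent R S)) :=
      (LocalizedModule.equivTensorProduct q'.primeCompl _).symm.subsingleton
    haveI : Subsingleton (L ⊗[S] Algebra.H1Cotangent R S) :=
      (TensorProduct.AlgebraTensorModule.cancelBaseChange S (T ⊗[R] S) L L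
        (Algebra.H1Cotangent R S)).symm.subsingleton
    haveI : Subsingleton (L ⊗[Sq] (Sq ⊗[S] Algebra.H1Cotangent R S)) :=
      (TensorProduct.AlgebraTensorModule.cancelBaseChange S Sq L L
        (Algebra.H1Cotangent R S)).subsingleton
    haveI : Subsingleton (Sq ⊗[S] Algebra.H1Cotangent R S) :=
      Module.FaithfullyFlat.lTensor_reflects_triviality Sq L _
    exact (LocalizedModule.equivTensorProduct q.primeCompl _).subsingleton
  · rw [Module.mem_freeLocus_iff_tensor _ L] at hΩ
    rw [Module.mem_freeLocus_iff_tensor _ Sq]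
    haveI : Algebra.IsPushout R T S (T ⊗[R] S) := inferInstance
    let e := KaehlerDifferential.tensorKaehlerEquiv R T S (T ⊗[R] S)
    haveI : Module.Free L (L ⊗[T ⊗[R] S] Ω[T ⊗[R] S⁄T]) := hΩ
    haveI : Module.Free L (L ⊗[S] Ω[S⁄R]) := Module.Free.of_equiv
      ((TensorProduct.AlgebraTensorModule.congr (LinearEquiv.refl L L) e.symm).trans
        (TensorProduct.AlgebraTensorModule.cancelBaseChange S (T ⊗[R] S) L L Ω[S⁄R]))
    haveI : Module.Free L (L ⊗[Sq] (Sq ⊗[S] Ω[S⁄R])) := Module.Free.of_equiv
      (TensorProduct.AlgebraTensorModule.cancelBaseChange S Sq L L Ω[S⁄R]).symm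
    haveI : Module.Flat Sq (Sq ⊗[S] Ω[S⁄R]) := Module.Flat.of_flat_tensorProduct _ _ L
    exact Module.free_of_flat_of_isLocalRing

section fiber

variable {A B : Type u} [CommRing A] [CommRing B] [Algebra A B] [Algebra.FinitePresentation A B]
  (p : Ideal A) [p.IsPrime]

theorem exists_clear (w : p.ResidueField ⊗[A] B) :
    ∃ s ∉ p, ∃ b : B, algebraMap A (p.ResidueField ⊗[A] B) s * w = 1 ⊗ₜ b := by
  induction w using TensorProduct.induction_on with
  | zero => exact ⟨1, p.primeCompl.one_mem, 0, by simp⟩
  | tmul c b =>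
    obtain ⟨r, s, rfl⟩ : ∃ (r : A) (s : p.primeCompl),
        algebraMap A p.ResidueField r / algebraMap A p.ResidueField s.1 = c := by
      obtain ⟨x, rfl⟩ := IsLocalRing.residue_surjective c
      obtain ⟨r, s, rfl⟩ := IsLocalization.exists_mk'_eq p.primeCompl x
      refine ⟨r, s, (div_eq_iff ?_).mpr ?_⟩
      · exact fun h => s.2 (Ideal.algebraMap_residueField_eq_zero.mp h)
      · show _ = IsLocalRing.residue _ _ * IsLocalRing.residue _ (algebraMap A _ s.1)
        rw [← map_mul, IsLocalization.mk'_spec]
        rfl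
    refine ⟨s.1, s.2, r • b, ?_⟩
    rw [Algebra.TensorProduct.algebraMap_apply, Algebra.TensorProduct.tmul_mul_tmul, one_mul,
      mul_div_cancel₀ _ (fun h => s.2 (Ideal.algebraMap_residueField_eq_zero.mp h)),
      ← mul_one (algebraMap A p.ResidueField r), ← Algebra.smul_def, TensorProduct.smul_tmul]
  | add x y hx hy =>
    obtain ⟨s, hs, b, hb⟩ := hx
    obtain ⟨t, ht, b', hb'⟩ := hy
    refine ⟨s * t, p.primeCompl.mul_mem hs ht, t • b + s • b', ?_⟩
    have h : ∀ (r : A) (c : B), algebraMap A (p.ResidueField ⊗[A] B) r * (1 ⊗ₜ c) = 1 ⊗ₜ (r • c) :=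
      fun r c => by rw [← Algebra.smul_def, TensorProduct.tmul_smul]
    rw [TensorProduct.tmul_add, map_mul, mul_add, ← h, ← h, ← hb, ← hb']
    ring

/-- The fibre criterion at a point: flat at the point and smooth at the point of the fibre. -/
theorem isSmoothAt_of_fiber (q : Ideal B) [q.IsPrime] [q.LiesOver p]
    (hflat : letI := Localization.AtPrime.algebraOfLiesOver p q
      Module.Flat (Localization.AtPrime p) (Localization.AtPrime q))
    (q'' : Ideal (p.ResidueField ⊗[A] B)) [q''.IsPrime] (hq : q''.under B = q)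
    (h : Algebra.IsSmoothAt p.ResidueField q'') : Algebra.IsSmoothAt A q := by
  let Rp := Localization.AtPrime p
  let Sp := Localization (Algebra.algebraMapSubmonoid B p.primeCompl)
  let Sq := Localization.AtPrime q
  let := Localization.AtPrime.algebraOfLiesOver p q
  let f : Sp →ₐ[B] Sq := IsLocalization.liftAlgHom (M := Algebra.algebraMapSubmonoid B p.primeCompl)
        (f := Algebra.ofId _ _) (by
      rintro ⟨_, x, hx, rfl⟩
      simpa using! IsLocalization.map_units (M := q.primeCompl) Sq ⟨algebraMap _ _ x,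
        by simp_all [q.over_def p]⟩)
  algebraize [f.toRingHom]
  have : IsScalarTower A Sp Sq := .to₁₃₄ _ B _ _
  have : IsScalarTower Rp Sp Sq := .of_algebraMap_eq' <| by
    apply IsLocalization.ringHom_ext p.primeCompl
    simp only [RingHom.comp_assoc, ← IsScalarTower.algebraMap_eq]
  have : IsLocalization (Algebra.algebraMapSubmonoid Sp q.primeCompl) Sq :=
    .isLocalization_of_submonoid_le _ _ (Algebra.algebraMapSubmonoid B p.primeCompl) _
    (by rintro _ ⟨x, hx, rfl⟩; simp_all [q.over_def p])
  have : Algebra.FinitePresentation Rp Sp := by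
    have : Algebra.IsPushout A Rp B Sp :=
      .symm <| Algebra.isPushout_of_isLocalization p.primeCompl _ _ _
    exact .equiv (Algebra.IsPushout.equiv A Rp B Sp)
  let F := p.ResidueField ⊗[A] B
  let M : Submonoid F := Algebra.algebraMapSubmonoid F q.primeCompl
  have hM : M ≤ q''.primeCompl := by
    rintro _ ⟨x, hx, rfl⟩ hx'
    exact hx (hq ▸ hx' : x ∈ q)
  have hloc : IsLocalization M (F ⊗[B] Sq) :=
    isLocalizedModule_iff_isLocalization.mp
      ((isLocalizedModule_iff_isBaseChange q.primeCompl Sq
        (IsScalarTower.toAlgHom B F (F ⊗[B] Sq)).toLinearMap).mpr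
        (Algebra.IsPushout.out (R := B) (S := Sq) (R' := F) (S' := F ⊗[B] Sq)))
  have hloc' : IsLocalization q''.primeCompl (F ⊗[B] Sq) := by
    refine IsLocalization.of_le M q''.primeCompl hM fun w hw => ?_
    obtain ⟨s, hs, b, hb⟩ := exists_clear p w
    have hb' : b ∉ q := fun hbq => by
      have h1 : (1 ⊗ₜ[A] b : F) ∈ q'' := by rw [← hq] at hbq; exact hbq
      rw [← hb] at h1
      rcases (inferInstance : q''.IsPrime).mem_or_mem h1 with h2 | h2
      · refine hs ?_
        have h3 : algebraMap A B s ∈ q := by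
          rw [← hq, Ideal.under_def, Ideal.mem_comap, ← IsScalarTower.algebraMap_apply]; exact h2
        rwa [q.over_def p, Ideal.under_def, Ideal.mem_comap]
      · exact hw h2
    have hu : IsUnit (algebraMap F (F ⊗[B] Sq) (algebraMap A F s * w)) := by
      rw [hb]
      exact IsLocalization.map_units (M := M) (F ⊗[B] Sq) ⟨_, b, hb', rfl⟩
    rw [map_mul] at hu
    exact (IsUnit.mul_iff.mp hu).2
  have : Algebra.FormallySmooth (IsLocalRing.ResidueField Rp) (IsLocalRing.ResidueField Rp ⊗[Rp] Sq) := by
    let e₀ : Localization.AtPrime q'' ≃ₐ[F] F ⊗[B] Sq := IsLocalization.algEquiv q''.primeCompl _ _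
    haveI : Algebra.FormallySmooth p.ResidueField (F ⊗[B] Sq) :=
      haveI := h
      .of_equiv (e₀.restrictScalars p.ResidueField)
    let e : F ≃ₐ[B] B ⊗[A] p.ResidueField :=
      { __ := Algebra.TensorProduct.comm _ _ _, commutes' _ := rfl }
    let e' : F ⊗[B] Sq ≃ₐ[A] p.ResidueField ⊗[Rp] Sq :=
      ((Algebra.TensorProduct.comm _ _ _).restrictScalars A).trans <|
      ((Algebra.TensorProduct.congr (.refl (R := B)) e).restrictScalars A).trans <|
      ((Algebra.TensorProduct.cancelBaseChange _ _ B _ _).restrictScalars A).trans <|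
      (Algebra.TensorProduct.comm _ _ _).trans (Algebra.TensorProduct.equivOfCompatibleSMul ..)
    have : e'.toAlgHom.comp (IsScalarTower.toAlgHom A p.ResidueField _) =
        IsScalarTower.toAlgHom _ _ _ := by ext
    let e'' : F ⊗[B] Sq ≃ₐ[p.ResidueField] p.ResidueField ⊗[Rp] Sq :=
      { __ := e', commutes' r := congr($this r) }
    exact .of_equiv e''
  haveI : Module.Flat Rp Sq := hflat
  have := Algebra.FormallySmooth.of_formallySmooth_residueField_tensor
    (R := Rp) (S := Sq) (P := Sp) (Algebra.algebraMapSubmonoid _ q.primeCompl)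
  exact .comp A Rp Sq

/-- The fibre criterion at a point, with the fibre taken over an arbitrary field. -/
theorem isSmoothAt_of_fiber_field (q : Ideal B) [q.IsPrime] [q.LiesOver p]
    (hflat : letI := Localization.AtPrime.algebraOfLiesOver p q
      Module.Flat (Localization.AtPrime p) (Localization.AtPrime q))
    (K : Type u) [Field K] [Algebra A K] [Algebra p.ResidueField K] [IsScalarTower A p.ResidueField K]
    (q' : Ideal (K ⊗[A] B)) [q'.IsPrime] (hq : q'.under B = q)
    (h : Algebra.IsSmoothAt K q') : Algebra.IsSmoothAt A q := by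
  let F := p.ResidueField ⊗[A] B
  let e : K ⊗[p.ResidueField] F ≃ₐ[K] K ⊗[A] B :=
    Algebra.TensorProduct.cancelBaseChange A p.ResidueField K K B
  let r := q'.comap e.toRingEquiv.toRingHom
  haveI : r.IsPrime := Ideal.IsPrime.comap _
  have h1 : Algebra.IsSmoothAt K r := by
    let g : Localization.AtPrime r ≃ₐ[K] Localization.AtPrime q' :=
      IsLocalization.algEquivOfAlgEquiv (R := K ⊗[p.ResidueField] F) (M := r.primeCompl) (T := q'.primeCompl)
        _ _ e (by
          ext x
          obtain ⟨y, rfl⟩ := e.surjective x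
          simp [r])
    haveI := h
    exact .of_equiv g.symm
  refine isSmoothAt_of_fiber p q hflat (r.under F) ?_ (isSmoothAt_descend r h1)
  rw [← hq]
  ext b
  simp only [Ideal.under_def, Ideal.mem_comap, r]
  have : e (algebraMap F (K ⊗[p.ResidueField] F) (algebraMap B F b)) = algebraMap B (K ⊗[A] B) b := by
    simp [e, F, RingHom.algebraMap_toAlgebra]
  exact iff_of_eq (congrArg (· ∈ q') this)

end fiber

end Groth.Agent.MorLib.SmoothAlg
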