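import Groth.Agent.CAlgUI.DescentProj
import Mathlib.RingTheory.Flat.FaithfullyFlat.Algebra
import Mathlib.RingTheory.Localization.Away.Basic
import Mathlib.RingTheory.Flat.Stability
import Mathlib.RingTheory.TensorProduct.IsBaseChangePi

/-! Projectivity is local for the Zariski topology (via faithfully flat descent). -/

set_option autoImplicit false
universe u

namespace Groth.Agent.MorLib

open TensorProduct

theorem projective_trans (R : Type u) [CommRing R] (S : Type u) [CommRing S] [Algebra R S]
    [Module.Projective R S] (P : Type u) [AddCommGroup P] [Module R P] [Module S P]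
    [IsScalarTower R S P] [Module.Projective S P] : Module.Projective R P := by
  classical
  obtain ⟨s, hs⟩ := (inferInstance : Module.Projective S P).out
  have : Module.Projective R (P →₀ S) :=
    Module.Projective.of_equiv (finsuppLequivDFinsupp (ι := P) (M := S) R).symm
  exact Module.Projective.of_split (s.restrictScalars R)
    ((Finsupp.linearCombination S (id : P → P)).restrictScalars R)
    (LinearMap.ext hs)

theorem projective_pi_tensor {B : Type u} [CommRing B] {ι : Type u} [Fintype ι] [DecidableEq ι]
    (S : ι → Type u) [∀ i, CommRing (S i)] [∀ i, Algebra B (S i)] (Q : Type u) [AddCommGroup Q]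
    [Module B Q] (h : ∀ i, Module.Projective (S i) (S i ⊗[B] Q)) :
    Module.Projective (∀ i, S i) ((∀ i, S i) ⊗[B] Q) := by
  refine Module.Projective.of_lifting_property fun {M N} _ _ _ _ f g hf => ?_
  -- work with the `B`-linear map underlying `g`
  let g₀ : Q →+ N :=
    { toFun := fun q => g (1 ⊗ₜ q)
      map_zero' := by rw [tmul_zero, map_zero]
      map_add' := fun x y => by rw [tmul_add, map_add] }
  have key : ∀ i, ∃ k : (∀ i, S i) ⊗[B] Q →ₗ[∀ i, S i] M,
      ∀ q, f (k (1 ⊗ₜ q)) = (Pi.single i 1 : ∀ i, S i) • g₀ q := by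
    intro i
    let : Algebra (∀ i, S i) (S i) := (Pi.evalRingHom S i).toAlgebra
    have : IsScalarTower B (∀ i, S i) (S i) := IsScalarTower.of_algebraMap_eq fun _ => rfl
    let sgl : S i →ₗ[∀ i, S i] (∀ i, S i) :=
      { toFun := Pi.single i
        map_add' := Pi.single_add i
        map_smul' := fun r x => by
          funext j
          by_cases hj : j = i
          · subst hj
            simp [Algebra.smul_def, RingHom.algebraMap_toAlgebra]
          · simp [hj] }
    have : Module.Projective (∀ i, S i) (S i) := by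
      let pr : (∀ i, S i) →ₗ[∀ i, S i] S i := Algebra.linearMap _ _
      exact Module.Projective.of_split sgl pr (LinearMap.ext fun x => by
        simp [pr, sgl, RingHom.algebraMap_toAlgebra])
    have := h i
    have : Module.Projective (∀ i, S i) (S i ⊗[B] Q) := projective_trans _ (S i) _
    let e : S i ⊗[B] Q →ₗ[∀ i, S i] (∀ i, S i) ⊗[B] Q := AlgebraTensorModule.map sgl LinearMap.id
    let p : (∀ i, S i) ⊗[B] Q →ₗ[∀ i, S i] S i ⊗[B] Q :=
      AlgebraTensorModule.map (Algebra.linearMap (∀ i, S i) (S i)) LinearMap.id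
    obtain ⟨k, hk⟩ := Module.projective_lifting_property f (g.comp e) hf
    refine ⟨k.comp p, fun q => ?_⟩
    have h2 : (f.comp k) (p (1 ⊗ₜ q)) = (g.comp e) (p (1 ⊗ₜ q)) := by rw [hk]
    have h3 : e (p ((1 : ∀ i, S i) ⊗ₜ q)) = (Pi.single i 1 : ∀ i, S i) • ((1 : ∀ i, S i) ⊗ₜ[B] q) := by
      simp only [e, p, AlgebraTensorModule.map_tmul, LinearMap.id_apply, Algebra.linearMap_apply,
        map_one, smul_tmul']
      congr 1
      simp [sgl]
    simp only [LinearMap.comp_apply] at h2 ⊢
    rw [h2, h3, map_smul]
    rfl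
  choose k hk using key
  refine ⟨∑ i, k i, LinearMap.ext fun x => ?_⟩
  induction x using TensorProduct.induction_on with
  | zero => rw [map_zero, map_zero]
  | add x y hx hy => rw [map_add, map_add, hx, hy]
  | tmul r q =>
    have hr : (r ⊗ₜ[B] q : (∀ i, S i) ⊗[B] Q) = r • ((1 : ∀ i, S i) ⊗ₜ[B] q) := by
      rw [smul_tmul', smul_eq_mul, mul_one]
    rw [hr, map_smul, map_smul, LinearMap.comp_apply, LinearMap.sum_apply, map_sum]
    simp only [hk]
    have h1 : (∑ i, (Pi.single i 1 : ∀ i, S i)) = 1 := Finset.univ_sum_single (1 : ∀ i, S i)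
    rw [← Finset.sum_smul, h1, one_smul]
    rfl

/-- Zariski local projectivity descends. -/
theorem projective_of_span {B : Type u} [CommRing B] (Q : Type u) [AddCommGroup Q] [Module B Q]
    (s : Set B) (hs : Ideal.span s = ⊤)
    (h : ∀ r : s, Module.Projective (Localization.Away (r : B)) (Localization.Away (r : B) ⊗[B] Q)) :
    Module.Projective B Q := by
  classical
  obtain ⟨t, hts, ht⟩ := (Ideal.span_eq_top_iff_finite s).mp hs
  let S : {x // x ∈ t} → Type u := fun r => Localization.Away (r : B)
  have : Module.Flat B (∀ r, S r) :=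
    Module.Flat.of_linearEquiv (DFinsupp.linearEquivFunOnFintype (R := B) (M := S)).symm
  have : Module.FaithfullyFlat B (∀ r, S r) := by
    refine Module.FaithfullyFlat.of_comap_surjective fun P => ?_
    obtain ⟨r, hr, hrP⟩ : ∃ r ∈ (t : Set B), r ∉ P.asIdeal := by
      by_contra H
      push Not at H
      exact P.isPrime.ne_top (top_le_iff.mp (ht ▸ Ideal.span_le.mpr H))
    obtain ⟨P', hP'⟩ : ∃ P', PrimeSpectrum.comap (algebraMap B (Localization.Away r)) P' = P := by
      change P ∈ Set.range _
      rw [PrimeSpectrum.localization_away_comap_range (Localization.Away r) r]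
      exact hrP
    refine ⟨PrimeSpectrum.comap (Pi.evalRingHom S ⟨r, hr⟩) P', ?_⟩
    rw [← hP', ← PrimeSpectrum.comap_comp_apply]
    rfl
  have : Module.Projective (∀ r, S r) ((∀ r, S r) ⊗[B] Q) :=
    projective_pi_tensor S Q fun r => h ⟨r, hts r.2⟩
  exact Groth.Agent.CAlgUI.projective_descent (S := ∀ r, S r)

end Groth.Agent.MorLib
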