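import Groth.Agent.MorLib.FirstOrder
import Mathlib.RingTheory.Etale.Basic
import Mathlib.RingTheory.Smooth.Basic

/-! Infinitesimal lifting properties `MoreMor.IsFormallySmoothHom`, `MoreMor.IsFormallyEtaleHom`. -/

set_option autoImplicit false
universe u

namespace Groth.Agent.MorLib

open AlgebraicGeometry CategoryTheory Limits

variable {X Y T T' : Scheme.{u}}

/-- A first order thickening with affine target is isomorphic to some `Spec (A ⧸ I) ⟶ Spec A`. -/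
theorem exists_iso_quotientMk [IsAffine T'] (t : T ⟶ T') (ht : MoreMor.IsFirstOrderThickening t) :
    ∃ (A : CommRingCat.{u}) (I : Ideal A) (_ : I ^ 2 = ⊥)
      (e' : Spec (CommRingCat.of A) ≅ T') (e : Spec (CommRingCat.of (A ⧸ I)) ≅ T),
      e.hom ≫ t = Spec.map (CommRingCat.ofHom (Ideal.Quotient.mk I)) ≫ e'.hom := by
  have hc := ht.1.1
  have hT : IsAffine T := isAffine_of_isAffineHom t
  let A := Γ(T', ⊤)
  let I : Ideal A := RingHom.ker t.appTop.hom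
  have hsurj : Function.Surjective t.appTop.hom := t.app_surjective ⊤ (isAffineOpen_top T')
  let ψ : CommRingCat.of (A ⧸ I) ⟶ Γ(T, ⊤) :=
    (RingHom.quotientKerEquivOfSurjective hsurj).toCommRingCatIso.hom
  have hψ : CommRingCat.ofHom (Ideal.Quotient.mk I) ≫ ψ = t.appTop := by
    ext x
    exact RingHom.quotientKerEquivOfSurjective_apply_mk hsurj x
  refine ⟨A, I, ker_appTop_sq_eq_bot t ht.2, T'.isoSpec.symm,
    (asIso (Spec.map ψ)).symm ≪≫ T.isoSpec.symm, ?_⟩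
  simp only [Iso.trans_hom, Iso.symm_hom, asIso_inv, Category.assoc, IsIso.inv_comp_eq]
  rw [← Scheme.isoSpec_inv_naturality, ← hψ, Spec.map_comp_assoc]

/-- The affine lifting property gives unique lifts along affine first order thickenings. -/
theorem existsUnique_lift_of_isAffine {f : X ⟶ Y} (hf : MoreMor.IsFormallyEtaleHom f)
    [IsAffine T'] (t : T ⟶ T') (ht : MoreMor.IsFirstOrderThickening t) (a : T ⟶ X) (b : T' ⟶ Y)
    (w : t ≫ b = a ≫ f) : ∃! l : T' ⟶ X, t ≫ l = a ∧ l ≫ f = b := by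
  obtain ⟨A, I, hI, e', e, he⟩ := exists_iso_quotientMk t ht
  obtain ⟨l, ⟨hl1, hl2⟩, hl⟩ := hf A I hI (e.hom ≫ a) (e'.hom ≫ b)
    (by rw [← reassoc_of% he, w, Category.assoc])
  refine ⟨e'.inv ≫ l, ⟨?_, ?_⟩, fun m ⟨hm1, hm2⟩ => ?_⟩
  · rw [← cancel_epi e.hom, reassoc_of% he, e'.hom_inv_id_assoc, hl1]
  · rw [Category.assoc, hl2, e'.inv_hom_id_assoc]
  · have := hl (e'.hom ≫ m) ⟨by rw [← reassoc_of% he, hm1], by rw [Category.assoc, hm2]⟩
    rw [← this, e'.inv_hom_id_assoc]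

theorem exists_lift_of_isAffine {f : X ⟶ Y} (hf : MoreMor.IsFormallySmoothHom f)
    [IsAffine T'] (t : T ⟶ T') (ht : MoreMor.IsFirstOrderThickening t) (a : T ⟶ X) (b : T' ⟶ Y)
    (w : t ≫ b = a ≫ f) : ∃ l : T' ⟶ X, t ≫ l = a ∧ l ≫ f = b := by
  obtain ⟨A, I, hI, e', e, he⟩ := exists_iso_quotientMk t ht
  obtain ⟨l, hl1, hl2⟩ := hf A I hI (e.hom ≫ a) (e'.hom ≫ b)
    (by rw [← reassoc_of% he, w, Category.assoc])
  exact ⟨e'.inv ≫ l, by rw [← cancel_epi e.hom, reassoc_of% he, e'.hom_inv_id_assoc, hl1],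
    by rw [Category.assoc, hl2, e'.inv_hom_id_assoc]⟩

/-- A lift through a surjective morphism lands in any open containing the given map. -/
theorem range_lift_subset (t : T ⟶ T') [Surjective t] {U : Scheme.{u}} (j : U ⟶ X) (a : T ⟶ U)
    (l : T' ⟶ X) (hl : t ≫ l = a ≫ j) : Set.range l ⊆ Set.range j := by
  rintro _ ⟨p, rfl⟩
  obtain ⟨q, rfl⟩ := t.surjective p
  exact ⟨a q, by rw [← Scheme.Hom.comp_apply, ← Scheme.Hom.comp_apply, hl]⟩

section Square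

variable {U V : Scheme.{u}} {f : X ⟶ Y} {g : U ⟶ V} {j : U ⟶ X} {k : V ⟶ Y}
  [IsOpenImmersion j] [IsOpenImmersion k]

theorem exists_lift_of_square (sq : g ≫ k = j ≫ f) (t : T ⟶ T') [Surjective t] (a : T ⟶ U)
    (b : T' ⟶ V) (h : ∃ l : T' ⟶ X, t ≫ l = a ≫ j ∧ l ≫ f = b ≫ k) :
    ∃ l : T' ⟶ U, t ≫ l = a ∧ l ≫ g = b := by
  obtain ⟨l, hl1, hl2⟩ := h
  refine ⟨IsOpenImmersion.lift j l (range_lift_subset t j a l hl1), ?_, ?_⟩
  · rw [← cancel_mono j, Category.assoc, IsOpenImmersion.lift_fac, hl1]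
  · rw [← cancel_mono k, Category.assoc, sq, IsOpenImmersion.lift_fac_assoc, hl2]

theorem existsUnique_lift_of_square (sq : g ≫ k = j ≫ f) (t : T ⟶ T') [Surjective t] (a : T ⟶ U)
    (b : T' ⟶ V) (h : ∃! l : T' ⟶ X, t ≫ l = a ≫ j ∧ l ≫ f = b ≫ k) :
    ∃! l : T' ⟶ U, t ≫ l = a ∧ l ≫ g = b := by
  obtain ⟨l, hl1, hl2⟩ := exists_lift_of_square sq t a b h.exists
  refine ⟨l, ⟨hl1, hl2⟩, fun m ⟨hm1, hm2⟩ => ?_⟩
  rw [← cancel_mono j]
  exact h.unique ⟨by rw [reassoc_of% hm1], by rw [Category.assoc, ← sq, reassoc_of% hm2]⟩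
    ⟨by rw [reassoc_of% hl1], by rw [Category.assoc, ← sq, reassoc_of% hl2]⟩

theorem lift_of_square_iff (sq : g ≫ k = j ≫ f) (t : T ⟶ T') [Surjective t] (a : T ⟶ U)
    (b : T' ⟶ V) :
    (∃! l : T' ⟶ U, t ≫ l = a ∧ l ≫ g = b) ↔
      ∃! l : T' ⟶ X, t ≫ l = a ≫ j ∧ l ≫ f = b ≫ k := by
  refine ⟨fun h => ?_, existsUnique_lift_of_square sq t a b⟩
  obtain ⟨l, ⟨hl1, hl2⟩, hl⟩ := h
  refine ⟨l ≫ j, ⟨by rw [reassoc_of% hl1], by rw [Category.assoc, ← sq, reassoc_of% hl2]⟩,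
    fun m ⟨hm1, hm2⟩ => ?_⟩
  obtain ⟨m', rfl⟩ : ∃ m', m' ≫ j = m :=
    ⟨_, IsOpenImmersion.lift_fac j m (range_lift_subset t j a m hm1)⟩
  rw [hl m' ⟨(cancel_mono j).mp (by rw [Category.assoc, hm1]),
    (cancel_mono k).mp (by rw [Category.assoc, sq, ← Category.assoc, hm2])⟩]

theorem isFormallyEtaleHom_of_square (sq : g ≫ k = j ≫ f) (hf : MoreMor.IsFormallyEtaleHom f) :
    MoreMor.IsFormallyEtaleHom g := fun A _ I hI a b w => by
  have := (isFirstOrderThickening_quotientMk A I hI).1.2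
  exact existsUnique_lift_of_square sq _ a b
    (hf A I hI _ _ (by rw [reassoc_of% w, sq, Category.assoc]))

theorem isFormallySmoothHom_of_square (sq : g ≫ k = j ≫ f) (hf : MoreMor.IsFormallySmoothHom f) :
    MoreMor.IsFormallySmoothHom g := fun A _ I hI a b w => by
  have := (isFirstOrderThickening_quotientMk A I hI).1.2
  exact exists_lift_of_square sq _ a b
    (hf A I hI _ _ (by rw [reassoc_of% w, sq, Category.assoc]))

end Square

/-- Unique lifts on all small affine opens glue to a unique lift. -/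
theorem existsUnique_lift_of_local (f : X ⟶ Y) (t : T ⟶ T') (a : T ⟶ X) (b : T' ⟶ Y)
    (H : ∀ x : T', ∃ W : T'.Opens, x ∈ W ∧ ∀ W' ≤ W, IsAffineOpen W' →
      ∃! l : W'.toScheme ⟶ X, (t ∣_ W') ≫ l = (t ⁻¹ᵁ W').ι ≫ a ∧ l ≫ f = W'.ι ≫ b) :
    ∃! l : T' ⟶ X, t ≫ l = a ∧ l ≫ f = b := by
  let 𝒲 := {W : T'.Opens // IsAffineOpen W ∧ ∃ W₀ : T'.Opens, W ≤ W₀ ∧ ∀ W' ≤ W₀, IsAffineOpen W' →
    ∃! l : W'.toScheme ⟶ X, (t ∣_ W') ≫ l = (t ⁻¹ᵁ W').ι ≫ a ∧ l ≫ f = W'.ι ≫ b}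
  have hcov : ∀ x : T', ∃ W : 𝒲, x ∈ W.1 := fun x => by
    obtain ⟨W₀, hx, hW₀⟩ := H x
    obtain ⟨_, ⟨W, hW, rfl⟩, hxW, hle⟩ :=
      T'.isBasis_affineOpens.exists_subset_of_mem_open hx W₀.isOpen
    exact ⟨⟨W, hW, W₀, hle, hW₀⟩, hxW⟩
  have huniq (W : 𝒲) (W' : T'.Opens) (hle : W' ≤ W.1) (hW' : IsAffineOpen W') :=
    let ⟨_, _, h1, h2⟩ := W.2
    h2 W' (hle.trans h1) hW'
  choose L hL using fun W : 𝒲 => (huniq W W.1 le_rfl W.2.1).exists
  -- restriction of a lift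
  have hres (W : 𝒲) (W' : T'.Opens) (hle : W' ≤ W.1) :
      (t ∣_ W') ≫ (T'.homOfLE hle ≫ L W) = (t ⁻¹ᵁ W').ι ≫ a ∧
        (T'.homOfLE hle ≫ L W) ≫ f = W'.ι ≫ b := by
    constructor
    · have : (t ∣_ W') ≫ T'.homOfLE hle = T.homOfLE (show t ⁻¹ᵁ W' ≤ t ⁻¹ᵁ W.1 from fun x hx => hle hx) ≫ (t ∣_ W.1) := by
        rw [← cancel_mono W.1.ι]
        simp [morphismRestrict_ι]
      rw [reassoc_of% this, (hL W).1]
      simp
    · rw [Category.assoc, (hL W).2]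
      simp
  let 𝒰 : T'.OpenCover := T'.openCoverOfIsOpenCover (fun W : 𝒲 => W.1)
    (eq_top_iff.mpr fun x _ => TopologicalSpace.Opens.mem_iSup.mpr (hcov x))
  have hcompat (W₁ W₂ : 𝒲) : pullback.fst W₁.1.ι W₂.1.ι ≫ L W₁ = pullback.snd _ _ ≫ L W₂ := by
    refine Scheme.hom_ext_of_forall _ _ fun z => ?_
    let p := pullback.fst W₁.1.ι W₂.1.ι ≫ W₁.1.ι
    have hp1 : p z ∈ W₁.1 := by simp [p]
    have hp2 : p z ∈ W₂.1 := by simp [p, pullback.condition]
    obtain ⟨_, ⟨W', hW', rfl⟩, hzW', hle⟩ := T'.isBasis_affineOpens.exists_subset_of_mem_open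
      (show p z ∈ (W₁.1 ⊓ W₂.1 : T'.Opens) from ⟨hp1, hp2⟩) (W₁.1 ⊓ W₂.1).isOpen
    have h1 : W' ≤ W₁.1 := fun x hx => (hle hx).1
    have h2 : W' ≤ W₂.1 := fun x hx => (hle hx).2
    refine ⟨p ⁻¹ᵁ W', hzW', ?_⟩
    have e1 : (p ⁻¹ᵁ W').ι ≫ pullback.fst W₁.1.ι W₂.1.ι = (p ∣_ W') ≫ T'.homOfLE h1 := by
      rw [← cancel_mono W₁.1.ι, Category.assoc, Category.assoc, Scheme.homOfLE_ι]
      exact (morphismRestrict_ι p W').symm
    have e2 : (p ⁻¹ᵁ W').ι ≫ pullback.snd W₁.1.ι W₂.1.ι = (p ∣_ W') ≫ T'.homOfLE h2 := by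
      rw [← cancel_mono W₂.1.ι, Category.assoc, Category.assoc, Scheme.homOfLE_ι, ← pullback.condition]
      exact (morphismRestrict_ι p W').symm
    rw [reassoc_of% e1, reassoc_of% e2,
      (huniq W₁ W' h1 hW').unique (hres W₁ W' h1) (hres W₂ W' h2)]
  let l := 𝒰.glueMorphisms L hcompat
  have hl (W : 𝒲) : W.1.ι ≫ l = L W := 𝒰.ι_glueMorphisms L hcompat W
  refine ⟨l, ⟨?_, ?_⟩, fun m ⟨hm1, hm2⟩ => ?_⟩
  · refine Scheme.hom_ext_of_forall _ _ fun x => ?_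
    obtain ⟨W, hW⟩ := hcov (t x)
    refine ⟨t ⁻¹ᵁ W.1, hW, ?_⟩
    rw [← morphismRestrict_ι_assoc, hl, (hL W).1]
  · refine 𝒰.hom_ext _ _ fun W => ?_
    show W.1.ι ≫ l ≫ f = W.1.ι ≫ b
    rw [reassoc_of% (hl W), (hL W).2]
  · refine 𝒰.hom_ext _ _ fun W => ?_
    show W.1.ι ≫ m = W.1.ι ≫ l
    rw [hl]
    refine (huniq W W.1 le_rfl W.2.1).unique ⟨?_, ?_⟩ (hL W)
    · rw [morphismRestrict_ι_assoc, hm1]
    · rw [Category.assoc, hm2]

/-- Unique lifting along arbitrary first order thickenings. -/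
theorem existsUnique_lift_of_isFirstOrderThickening {f : X ⟶ Y}
    (hf : MoreMor.IsFormallyEtaleHom f) (t : T ⟶ T') (ht : MoreMor.IsFirstOrderThickening t)
    (a : T ⟶ X) (b : T' ⟶ Y) (w : t ≫ b = a ≫ f) :
    ∃! l : T' ⟶ X, t ≫ l = a ∧ l ≫ f = b :=
  existsUnique_lift_of_local f t a b fun x => ⟨⊤, trivial, fun W' _ hW' =>
    haveI : IsAffine W'.toScheme := hW'
    existsUnique_lift_of_isAffine hf _ (isFirstOrderThickening_restrict t ht W') _ _
      (by rw [morphismRestrict_ι_assoc, w, Category.assoc])⟩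

section Affine

variable {R S : CommRingCat.{u}} (φ : R ⟶ S)

theorem isFormallyEtaleHom_SpecMap_iff :
    MoreMor.IsFormallyEtaleHom (Spec.map φ) ↔
      letI := φ.hom.toAlgebra; Algebra.FormallyEtale R S := by
  letI := φ.hom.toAlgebra
  rw [Algebra.FormallyEtale.iff_comp_bijective]
  constructor
  · intro H B _ _ I hI
    refine (Function.bijective_iff_existsUnique _).mpr fun g => ?_
    obtain ⟨l, ⟨hl1, hl2⟩, hl⟩ := H B I hI (Spec.map (CommRingCat.ofHom g.toRingHom))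
      (Spec.map (CommRingCat.ofHom (algebraMap R B))) (by
        rw [← Spec.map_comp, ← Spec.map_comp]
        congr 1
        ext x
        exact (g.commutes x).symm)
    obtain ⟨ψ, rfl⟩ := Spec.map_surjective l
    rw [← Spec.map_comp, Spec.map_inj] at hl1 hl2
    refine ⟨⟨ψ.hom, fun r => congr($hl2 r)⟩, AlgHom.ext fun x => congr($hl1 x), fun g' hg' => ?_⟩
    have := hl (Spec.map (CommRingCat.ofHom g'.toRingHom))
      ⟨by rw [← Spec.map_comp, Spec.map_inj]; ext x; exact congr($hg' x),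
       by rw [← Spec.map_comp, Spec.map_inj]; ext x; exact g'.commutes x⟩
    rw [Spec.map_inj] at this
    exact AlgHom.ext fun x => congr($this x)
  · intro H A _ I hI a b w
    obtain ⟨α, rfl⟩ := Spec.map_surjective a
    obtain ⟨β, rfl⟩ := Spec.map_surjective b
    letI := β.hom.toAlgebra
    rw [← Spec.map_comp, ← Spec.map_comp, Spec.map_inj] at w
    let g : S →ₐ[R] A ⧸ I := ⟨α.hom, fun r => (congr($w r)).symm⟩
    obtain ⟨ψ, hψ, hu⟩ := (Function.bijective_iff_existsUnique _).mp (H I hI) g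
    refine ⟨Spec.map (CommRingCat.ofHom ψ.toRingHom), ⟨?_, ?_⟩, fun m ⟨hm1, hm2⟩ => ?_⟩
    · rw [← Spec.map_comp, Spec.map_inj]; ext x; exact congr($hψ x)
    · rw [← Spec.map_comp, Spec.map_inj]; ext x; exact ψ.commutes x
    · obtain ⟨μ, rfl⟩ := Spec.map_surjective m
      rw [← Spec.map_comp, Spec.map_inj] at hm1 hm2
      have := hu ⟨μ.hom, fun r => congr($hm2 r)⟩ (AlgHom.ext fun x => congr($hm1 x))
      rw [Spec.map_inj]
      ext x
      exact congr($this x)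

theorem formallySmooth_of_isFormallySmoothHom_SpecMap
    (H : MoreMor.IsFormallySmoothHom (Spec.map φ)) :
    letI := φ.hom.toAlgebra; Algebra.FormallySmooth R S := by
  letI := φ.hom.toAlgebra
  refine Algebra.FormallySmooth.of_comp_surjective fun B _ _ I hI g => ?_
  obtain ⟨l, hl1, hl2⟩ := H B I hI (Spec.map (CommRingCat.ofHom g.toRingHom))
      (Spec.map (CommRingCat.ofHom (algebraMap R B))) (by
        rw [← Spec.map_comp, ← Spec.map_comp]
        congr 1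
        ext x
        exact (g.commutes x).symm)
  obtain ⟨ψ, rfl⟩ := Spec.map_surjective l
  rw [← Spec.map_comp, Spec.map_inj] at hl1 hl2
  exact ⟨⟨ψ.hom, fun r => congr($hl2 r)⟩, AlgHom.ext fun x => congr($hl1 x)⟩

end Affine

/-- A formally étale ring map on every pair of affine charts gives unique lifting. -/
theorem isFormallyEtaleHom_iff_appLE (f : X ⟶ Y) :
    MoreMor.IsFormallyEtaleHom f ↔
      ∀ (U : X.Opens) (V : Y.Opens) (_ : IsAffineOpen U) (_ : IsAffineOpen V) (hUV : U ≤ f ⁻¹ᵁ V),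
        letI := (f.appLE V U hUV).hom.toAlgebra
        Algebra.FormallyEtale Γ(Y, V) Γ(X, U) := by
  constructor
  · intro hf U V hU hV hUV
    exact (isFormallyEtaleHom_SpecMap_iff _).mp
      (isFormallyEtaleHom_of_square (hV.SpecMap_appLE_fromSpec f hU hUV) hf)
  · intro H A _ I hI a b w
    have ht := isFirstOrderThickening_quotientMk A I hI
    generalize ht' : Spec.map (CommRingCat.ofHom (Ideal.Quotient.mk I)) = t at w ht ⊢
    have hts := ht.1.2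
    refine existsUnique_lift_of_local f t a b fun x => ?_
    obtain ⟨y, rfl⟩ := t.surjective x
    obtain ⟨_, ⟨V, hV, rfl⟩, hyV, -⟩ :=
      Y.isBasis_affineOpens.exists_subset_of_mem_open (Set.mem_univ (f (a y))) isOpen_univ
    obtain ⟨_, ⟨U, hU, rfl⟩, hyU, hUV : U ≤ f ⁻¹ᵁ V⟩ :=
      X.isBasis_affineOpens.exists_subset_of_mem_open hyV (f ⁻¹ᵁ V).isOpen
    have hcl := ht.1.1
    have hopen : IsOpen (t '' (a ⁻¹ᵁ U : Set _)) :=
      (t.isClosedEmbedding.toIsEmbedding.toHomeomorphOfSurjective t.surjective).isOpenMap _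
        (a ⁻¹ᵁ U).isOpen
    refine ⟨⟨_, hopen⟩ ⊓ b ⁻¹ᵁ V, ⟨⟨y, hyU, rfl⟩, ?_⟩, fun W hW hWa => ?_⟩
    · show b (t y) ∈ V
      rw [← Scheme.Hom.comp_apply, w]
      exact hyV
    have haW : Set.range ((t ⁻¹ᵁ W).ι ≫ a) ⊆ Set.range hU.fromSpec := by
      rintro _ ⟨q, rfl⟩
      obtain ⟨q', hq', heq⟩ := (hW q.2).1
      rw [hU.range_fromSpec]
      have := t.isClosedEmbedding.injective heq
      subst this
      exact hq'
    have hbW : Set.range (W.ι ≫ b) ⊆ Set.range hV.fromSpec := by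
      rintro _ ⟨q, rfl⟩
      rw [hV.range_fromSpec]
      exact (hW q.2).2
    have hstep := isFirstOrderThickening_restrict t ht W
    have := hstep.1.2
    have : IsAffine W.toScheme := hWa
    rw [← IsOpenImmersion.lift_fac hU.fromSpec _ haW, ← IsOpenImmersion.lift_fac hV.fromSpec _ hbW]
    refine (lift_of_square_iff (hV.SpecMap_appLE_fromSpec f hU hUV) (t ∣_ W) _ _).mp ?_
    refine existsUnique_lift_of_isAffine ((isFormallyEtaleHom_SpecMap_iff _).mpr (H U V hU hV hUV))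
      (t ∣_ W) hstep _ _ ?_
    rw [← cancel_mono hV.fromSpec, Category.assoc, IsOpenImmersion.lift_fac, Category.assoc,
      hV.SpecMap_appLE_fromSpec f hU hUV, IsOpenImmersion.lift_fac_assoc, morphismRestrict_ι_assoc,
      w, Category.assoc]

theorem formallySmooth_appLE_of_isFormallySmoothHom (f : X ⟶ Y)
    (hf : MoreMor.IsFormallySmoothHom f) (U : X.Opens) (V : Y.Opens) (hU : IsAffineOpen U)
    (hV : IsAffineOpen V) (hUV : U ≤ f ⁻¹ᵁ V) :
    letI := (f.appLE V U hUV).hom.toAlgebra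
    Algebra.FormallySmooth Γ(Y, V) Γ(X, U) :=
  formallySmooth_of_isFormallySmoothHom_SpecMap _
    (isFormallySmoothHom_of_square (hV.SpecMap_appLE_fromSpec f hU hUV) hf)

end Groth.Agent.MorLib
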