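import Groth.Agent.MorLib.SqZeroSection
import Groth.Agent.MorLib.FormallyEtaleHom

/-! A section of a morphism to `Spec A` over `Spec (A ⧸ I)` extends if the morphism is formally
smooth on affine charts around it. -/

set_option autoImplicit false
universe u

namespace Groth.Agent.MorLib

open AlgebraicGeometry CategoryTheory TopologicalSpace

theorem support_ker_sq {X Y : Scheme.{u}} (a : X ⟶ Y) [IsClosedImmersion a] :
    ((a.ker ^ 2).support : Set Y) = Set.range a := by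
  rw [show (2 : ℕ) = 1 + 1 from rfl, Scheme.IdealSheafData.support_pow_succ,
    Scheme.Hom.support_ker, IsClosed.closure_eq a.isClosedEmbedding.isClosed_range]

theorem ker_sq_le {X Y : Scheme.{u}} (a : X ⟶ Y) [IsClosedImmersion a] :
    (a.ker ^ 2).subschemeι.ker ≤ a.ker := by
  rw [Scheme.IdealSheafData.ker_subschemeι]
  intro U
  simp only [Scheme.IdealSheafData.ideal_pow, Pi.pow_apply]
  exact Ideal.pow_le_self two_ne_zero

/-- The local model attached to an affine chart. -/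
theorem isLocalModel_of_chart {A : Type u} [CommRing A] (I : Ideal A)
    {U₀ : Scheme.{u}} (p : U₀ ⟶ Spec (CommRingCat.of A))
    (a : Spec (CommRingCat.of (A ⧸ I)) ⟶ U₀) [IsClosedImmersion a]
    {X₁ : Scheme.{u}} [IsAffine X₁] (i : X₁ ⟶ U₀)
    (hsurj : ∀ W : U₀.Opens, IsAffineOpen W → Function.Surjective (i.app W))
    (hkeri : ∀ (W : U₀.Opens) (hW : IsAffineOpen W),
      RingHom.ker (i.app W).hom = a.ker.ideal ⟨W, hW⟩ ^ 2)
    (a₁ : Spec (CommRingCat.of (A ⧸ I)) ⟶ X₁) [QuasiCompact a₁] (ha₁ : a₁ ≫ i = a)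
    [Algebra A Γ(X₁, ⊤)]
    (hσ : CommRingCat.ofHom (algebraMap A Γ(X₁, ⊤)) =
      (Scheme.ΓSpecIso (CommRingCat.of A)).inv ≫ (i ≫ p).appTop)
    (π : Γ(X₁, ⊤) →ₐ[A] A ⧸ I) (hπker : RingHom.ker π = RingHom.ker a₁.appTop.hom)
    (h : A) (W : U₀.Opens) (hW : IsAffineOpen W)
    (he : i ⁻¹ᵁ W = X₁.basicOpen (algebraMap A Γ(X₁, ⊤) h))
    (hsm : letI := ((Scheme.ΓSpecIso (CommRingCat.of A)).inv ≫ p.appLE ⊤ W le_top).hom.toAlgebra
      Algebra.FormallySmooth A Γ(U₀, W)) :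
    IsLocalModel I π h := by
  let ψ := (Scheme.ΓSpecIso (CommRingCat.of A)).inv ≫ p.appLE ⊤ W le_top
  let : Algebra A Γ(U₀, W) := ψ.hom.toAlgebra
  let res : Γ(X₁, ⊤) ⟶ Γ(X₁, i ⁻¹ᵁ W) := X₁.presheaf.map (homOfLE le_top).op
  let : Algebra Γ(X₁, ⊤) Γ(X₁, i ⁻¹ᵁ W) := res.hom.toAlgebra
  have : IsLocalization.Away (algebraMap A Γ(X₁, ⊤) h) Γ(X₁, i ⁻¹ᵁ W) :=
    (isAffineOpen_top X₁).isLocalization_of_eq_basicOpen (algebraMap A Γ(X₁, ⊤) h) (homOfLE le_top) he
  let e := IsLocalization.algEquiv (Submonoid.powers (algebraMap A Γ(X₁, ⊤) h))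
    Γ(X₁, i ⁻¹ᵁ W) (Localization.Away (algebraMap A Γ(X₁, ⊤) h))
  have hψres : ψ ≫ i.app W = CommRingCat.ofHom (algebraMap A Γ(X₁, ⊤)) ≫ res := by
    rw [hσ]
    simp only [ψ, res, Category.assoc, Scheme.Hom.comp_appTop]
    congr 1
    change (p.app ⊤ ≫ U₀.presheaf.map (homOfLE le_top).op) ≫ i.app W = p.app ⊤ ≫ i.app ⊤ ≫ res
    exact (Category.assoc _ _ _).trans
      (congrArg (p.app ⊤ ≫ ·) (i.naturality (homOfLE le_top : W ⟶ ⊤).op))
  let ρ : Γ(U₀, W) →ₐ[A] Localization.Away (algebraMap A Γ(X₁, ⊤) h) :=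
    { (e.toRingEquiv.toRingHom.comp (i.app W).hom) with
      commutes' := fun r => by
        change e (i.app W (ψ r)) = _
        rw [show i.app W (ψ r) = res (algebraMap A Γ(X₁, ⊤) r) from congr($hψres r)]
        exact (e.commutes (algebraMap A Γ(X₁, ⊤) r)).trans (IsScalarTower.algebraMap_apply A Γ(X₁, ⊤) _ r).symm }
  refine ⟨Γ(U₀, W), inferInstance, inferInstance, hsm, ρ,
    e.surjective.comp (hsurj W hW), ?_⟩
  have h1 : RingHom.ker ρ = a.ker.ideal ⟨W, hW⟩ ^ 2 := by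
    rw [← hkeri W hW]
    ext x
    change e (i.app W x) = 0 ↔ i.app W x = 0
    exact map_eq_zero_iff _ e.injective
  rw [h1]
  congr 1
  -- `comap ρ (K · Γ(X₁)_h) = ker (a.app W)`
  have h2 : Ideal.map res.hom (RingHom.ker π) = RingHom.ker (a₁.app (i ⁻¹ᵁ W)).hom := by
    rw [hπker]
    have h3 := a₁.ker.map_ideal_basicOpen ⟨⊤, isAffineOpen_top X₁⟩ (algebraMap A Γ(X₁, ⊤) h)
    simp only [Scheme.Hom.ker_apply] at h3
    revert h3
    simp only [res, Scheme.affineBasicOpen]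
    rw! [he]
    exact fun h3 => h3
  have h4 : Ideal.map (algebraMap Γ(X₁, ⊤) (Localization.Away (algebraMap A Γ(X₁, ⊤) h)))
      (RingHom.ker π) = Ideal.map e.toRingEquiv.toRingHom (Ideal.map res.hom (RingHom.ker π)) := by
    rw [Ideal.map_map]
    congr 1
    exact RingHom.ext fun x => (e.commutes x).symm
  rw [h4, h2, Scheme.Hom.ker_apply]
  have h5 : ∀ x, a.app W x = 0 ↔ a₁.app (i ⁻¹ᵁ W) (i.app W x) = 0 := fun x => by
    subst ha₁
    rw [Scheme.Hom.comp_app]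
    rfl
  refine Ideal.ext fun x => ?_
  rw [RingHom.mem_ker, Ideal.mem_comap,
    Ideal.mem_map_iff_of_surjective e.toRingEquiv.toRingHom e.toRingEquiv.surjective]
  constructor
  · intro hx
    exact ⟨i.app W x, (h5 x).mp hx, rfl⟩
  · rintro ⟨y, hy, hxy⟩
    rw [show y = i.app W x from e.injective hxy] at hy
    exact (h5 x).mpr hy

/-- Sections extend along square zero thickenings of the affine base, if the morphism is
formally smooth on affine charts around the given section. -/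
theorem exists_section_of_charts {A : Type u} [CommRing A] (I : Ideal A) (hI : I ^ 2 = ⊥)
    {U₀ : Scheme.{u}} (p : U₀ ⟶ Spec (CommRingCat.of A))
    (a : Spec (CommRingCat.of (A ⧸ I)) ⟶ U₀) [IsClosedImmersion a]
    (hap : a ≫ p = Spec.map (CommRingCat.ofHom (Ideal.Quotient.mk I)))
    (s : Set A) (hs : Ideal.span s = ⊤)
    (H : ∀ h ∈ s, ∃ W : U₀.Opens, IsAffineOpen W ∧ W ≤ p ⁻¹ᵁ PrimeSpectrum.basicOpen h ∧
      a ⁻¹ᵁ (p ⁻¹ᵁ PrimeSpectrum.basicOpen h) ≤ a ⁻¹ᵁ W ∧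
      letI := ((Scheme.ΓSpecIso (CommRingCat.of A)).inv ≫ p.appLE ⊤ W le_top).hom.toAlgebra
      Algebra.FormallySmooth A Γ(U₀, W)) :
    ∃ l : Spec (CommRingCat.of A) ⟶ U₀,
      Spec.map (CommRingCat.ofHom (Ideal.Quotient.mk I)) ≫ l = a ∧ l ≫ p = 𝟙 _ := by
  let X₁ := (a.ker ^ 2).subscheme
  let i : X₁ ⟶ U₀ := (a.ker ^ 2).subschemeι
  let q := i ≫ p
  let a₁ : Spec (CommRingCat.of (A ⧸ I)) ⟶ X₁ := IsClosedImmersion.lift i a (ker_sq_le a)
  have ha₁ : a₁ ≫ i = a := IsClosedImmersion.lift_fac _ _ _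
  have : IsClosedImmersion (a₁ ≫ i) := by rw [ha₁]; infer_instance
  have : IsClosedImmersion a₁ := IsClosedImmersion.of_comp_isClosedImmersion a₁ i
  let σ : CommRingCat.of A ⟶ Γ(X₁, ⊤) := (Scheme.ΓSpecIso _).inv ≫ q.appTop
  have hbo : ∀ h : A, q ⁻¹ᵁ PrimeSpectrum.basicOpen h = X₁.basicOpen (σ h) := fun h => by
    rw [← basicOpen_eq_of_affine (R := CommRingCat.of A), Scheme.preimage_basicOpen]
    rfl
  -- charts
  have hpre : ∀ h ∈ s, ∃ W : U₀.Opens, IsAffineOpen W ∧ i ⁻¹ᵁ W = X₁.basicOpen (σ h) ∧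
      letI := ((Scheme.ΓSpecIso (CommRingCat.of A)).inv ≫ p.appLE ⊤ W le_top).hom.toAlgebra
      Algebra.FormallySmooth A Γ(U₀, W) := by
    intro h hh
    obtain ⟨W, hW, hle, hge, hsm⟩ := H h hh
    refine ⟨W, hW, ?_, hsm⟩
    rw [← hbo]
    refine le_antisymm (fun z hz => hle hz) fun z hz => ?_
    have hz' : i z ∈ Set.range a := by
      rw [← support_ker_sq a, ← Scheme.IdealSheafData.range_subschemeι]
      exact ⟨z, rfl⟩
    obtain ⟨y, hy⟩ := hz'
    show i z ∈ W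
    rw [← hy]
    exact hge (show p (a y) ∈ PrimeSpectrum.basicOpen h by rw [hy]; exact hz)
  have : IsAffine X₁ := by
    refine isAffine_of_isAffineOpen_basicOpen (σ '' s) ?_ ?_
    · rw [← Ideal.map_span, hs, Ideal.map_top]
    · rintro _ ⟨h, hh, rfl⟩
      obtain ⟨W, hW, he, -⟩ := hpre h hh
      rw [← he]
      exact hW.preimage i
  -- the algebra
  let : Algebra A Γ(X₁, ⊤) := σ.hom.toAlgebra
  let π₀ : Γ(X₁, ⊤) ⟶ CommRingCat.of (A ⧸ I) := a₁.appTop ≫ (Scheme.ΓSpecIso _).hom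
  have hπ₀ : σ ≫ π₀ = CommRingCat.ofHom (Ideal.Quotient.mk I) := by
    have h1 : (a₁ ≫ q).appTop = (Spec.map (CommRingCat.ofHom (Ideal.Quotient.mk I))).appTop := by
      rw [show a₁ ≫ q = Spec.map (CommRingCat.ofHom (Ideal.Quotient.mk I)) by
        simp only [q, reassoc_of% ha₁, hap]]
    simp only [σ, π₀, Category.assoc]
    rw [← Category.assoc q.appTop, ← Scheme.Hom.comp_appTop, h1, Scheme.ΓSpecIso_naturality,
      Iso.inv_hom_id_assoc]
  let π : Γ(X₁, ⊤) →ₐ[A] A ⧸ I :=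
    { π₀.hom with commutes' := fun r => congr($hπ₀ r) }
  have hπker : RingHom.ker π = RingHom.ker a₁.appTop.hom := by
    ext x
    change π₀ x = 0 ↔ a₁.appTop x = 0
    exact map_eq_zero_iff _ (ConcreteCategory.bijective_of_isIso (Scheme.ΓSpecIso _).hom).1
  obtain ⟨φ, hφ⟩ := exists_algHom_section hI s hs (I := I) (π := π) fun h hh => by
    obtain ⟨W, hW, he, hsm⟩ := hpre h hh
    exact isLocalModel_of_chart I p a i
      (fun V hV => (a.ker ^ 2).subschemeι_app_surjective ⟨V, hV⟩)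
      (fun V hV => (a.ker ^ 2).ker_subschemeι_app ⟨V, hV⟩)
      a₁ ha₁ rfl π hπker h W hW he hsm
  have hφσ : σ ≫ CommRingCat.ofHom φ.toRingHom = 𝟙 _ := by
    ext r
    exact φ.commutes r
  have hφπ : CommRingCat.ofHom φ.toRingHom ≫ CommRingCat.ofHom (Ideal.Quotient.mk I) = π₀ := by
    ext x
    exact congr($hφ x)
  refine ⟨Spec.map (CommRingCat.ofHom φ.toRingHom) ≫ X₁.isoSpec.inv ≫ i, ?_, ?_⟩
  · rw [← Spec.map_comp_assoc, hφπ]
    simp only [π₀, Spec.map_comp, Category.assoc]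
    rw [Scheme.isoSpec_inv_naturality_assoc, ← Scheme.isoSpec_Spec_hom, Iso.hom_inv_id_assoc, ha₁]
  · simp only [Category.assoc]
    change _ ≫ X₁.isoSpec.inv ≫ q = _
    rw [← Scheme.isoSpec_inv_naturality, Scheme.isoSpec_Spec_inv, ← Spec.map_comp, ← Spec.map_comp]
    exact (congrArg Spec.map hφσ).trans (Spec.map_id _)

open Limits in
theorem isFormallySmoothHom_SpecMap {R S : CommRingCat.{u}} (φ : R ⟶ S)
    (h : letI := φ.hom.toAlgebra; Algebra.FormallySmooth R S) :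
    MoreMor.IsFormallySmoothHom (Spec.map φ) := by
  intro A _ I hI a b w
  letI := φ.hom.toAlgebra
  obtain ⟨α, rfl⟩ := Spec.map_surjective a
  obtain ⟨β, rfl⟩ := Spec.map_surjective b
  letI := β.hom.toAlgebra
  rw [← Spec.map_comp, ← Spec.map_comp, Spec.map_inj] at w
  let g : S →ₐ[R] A ⧸ I := ⟨α.hom, fun r => (congr($w r)).symm⟩
  obtain ⟨ψ, hψ⟩ := Algebra.FormallySmooth.comp_surjective R S I hI g
  refine ⟨Spec.map (CommRingCat.ofHom ψ.toRingHom), ?_, ?_⟩
  · rw [← Spec.map_comp, Spec.map_inj]; ext x; exact congr($hψ x)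
  · rw [← Spec.map_comp, Spec.map_inj]; ext x; exact ψ.commutes x

open Limits in
theorem isFormallySmoothHom_pullback_snd_comp {X Y Z T : Scheme.{u}} (g : X ⟶ Z) (b : Y ⟶ Z)
    (hg : MoreMor.IsFormallySmoothHom g) (j : Y ⟶ T) [IsOpenImmersion j] :
    MoreMor.IsFormallySmoothHom (pullback.snd g b ≫ j) := by
  intro A _ I hI a c w
  have := (isFirstOrderThickening_quotientMk A I hI).1.2
  have hr : Set.range c ⊆ Set.range j :=
    range_lift_subset _ j (a ≫ pullback.snd g b) c (by rw [w, Category.assoc])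
  let c' := IsOpenImmersion.lift j c hr
  have hc' : c' ≫ j = c := IsOpenImmersion.lift_fac j c hr
  have w' : Spec.map (CommRingCat.ofHom (Ideal.Quotient.mk I)) ≫ c' = a ≫ pullback.snd g b := by
    rw [← cancel_mono j, Category.assoc, hc', w, Category.assoc]
  obtain ⟨l, hl1, hl2⟩ := hg A I hI (a ≫ pullback.fst g b) (c' ≫ b)
    (by rw [reassoc_of% w', Category.assoc, pullback.condition])
  refine ⟨pullback.lift l c' hl2, pullback.hom_ext ?_ ?_, ?_⟩
  · rw [Category.assoc, pullback.lift_fst, hl1]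
  · rw [Category.assoc, pullback.lift_snd, w']
  · rw [pullback.lift_snd_assoc, hc']

open Limits in
/-- Formally smooth on all affine charts implies formally smooth. -/
theorem isFormallySmoothHom_of_appLE {X Y : Scheme.{u}} (f : X ⟶ Y)
    (H : ∀ (U : X.Opens) (V : Y.Opens) (_ : IsAffineOpen U) (_ : IsAffineOpen V)
      (hUV : U ≤ f ⁻¹ᵁ V),
      letI := (f.appLE V U hUV).hom.toAlgebra
      Algebra.FormallySmooth Γ(Y, V) Γ(X, U)) : MoreMor.IsFormallySmoothHom f := by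
  intro A _ I hI a b w
  let t := Spec.map (CommRingCat.ofHom (Ideal.Quotient.mk I))
  have htF : MoreMor.IsFirstOrderThickening t := isFirstOrderThickening_quotientMk A I hI
  have htc : IsClosedImmersion t := htF.1.1
  have hts : Surjective t := htF.1.2
  let a' := pullback.lift a t w.symm
  have ha'f : a' ≫ pullback.fst f b = a := pullback.lift_fst _ _ _
  have ha's : a' ≫ pullback.snd f b = t := pullback.lift_snd _ _ _
  -- charts
  have hchart : ∀ x : Spec (CommRingCat.of A), ∃ (h : A) (W : (pullback f b).Opens),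
      x ∈ PrimeSpectrum.basicOpen h ∧ IsAffineOpen W ∧
      W ≤ pullback.snd f b ⁻¹ᵁ PrimeSpectrum.basicOpen h ∧
      (∀ y, t y ∈ PrimeSpectrum.basicOpen h → a' y ∈ W) ∧
      MoreMor.IsFormallySmoothHom (W.ι ≫ pullback.snd f b) := by
    intro x
    obtain ⟨y, rfl⟩ := t.surjective x
    obtain ⟨V, hV, hyV, -⟩ :=
      exists_isAffineOpen_mem_and_subset (x := f (a y)) (U := (⊤ : Y.Opens)) trivial
    obtain ⟨U, hU, hyU, hUV'⟩ :=
      exists_isAffineOpen_mem_and_subset (x := a y) (U := f ⁻¹ᵁ V) hyV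
    have hUV : U ≤ f ⁻¹ᵁ V := hUV'
    have hopen : IsOpen (t '' (a ⁻¹ᵁ U : Set _)) :=
      (t.isClosedEmbedding.toIsEmbedding.toHomeomorphOfSurjective t.surjective).isOpenMap _
        (a ⁻¹ᵁ U).isOpen
    obtain ⟨_, ⟨_, ⟨h, rfl⟩, rfl⟩, hxh, hsub⟩ :=
      PrimeSpectrum.isBasis_basic_opens.exists_subset_of_mem_open
        (show t y ∈ (t '' (a ⁻¹ᵁ U : Set _) ∩ (b ⁻¹ᵁ V : Set _)) from ⟨⟨y, hyU, rfl⟩, by
          show b (t y) ∈ V
          rw [← Scheme.Hom.comp_apply, w]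
          exact hyV⟩) (hopen.inter (b ⁻¹ᵁ V).isOpen)
    let D : (Spec (CommRingCat.of A)).Opens := PrimeSpectrum.basicOpen h
    have hDV : D ≤ b ⁻¹ᵁ V := fun z hz => (hsub hz).2
    let j := pullback.map (f.resLE V U hUV) (b.resLE V D hDV) f b U.ι D.ι V.ι
      (Scheme.Hom.resLE_comp_ι f hUV) (Scheme.Hom.resLE_comp_ι b hDV)
    have hj2 : j ≫ pullback.snd f b = pullback.snd (f.resLE V U hUV) (b.resLE V D hDV) ≫ D.ι :=
      pullback.lift_snd _ _ _
    have : IsAffine U.toScheme := hU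
    have : IsAffine V.toScheme := hV
    have : IsAffine D.toScheme := IsAffineOpen.Spec_basicOpen h
    refine ⟨h, j.opensRange, hxh, isAffineOpen_opensRange j, ?_, fun z hz => ?_, ?_⟩
    · rintro _ ⟨q, rfl⟩
      show pullback.snd f b (j q) ∈ D
      rw [← Scheme.Hom.comp_apply, hj2, Scheme.Hom.comp_apply]
      exact (pullback.snd (f.resLE V U hUV) (b.resLE V D hDV) q).2
    · have hzU : a z ∈ U := by
        obtain ⟨z', hz', he⟩ := (hsub hz).1
        rwa [t.isClosedEmbedding.injective he] at hz'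
      let E : (Spec (CommRingCat.of (A ⧸ I))).Opens := t ⁻¹ᵁ D
      have hEU : E ≤ a ⁻¹ᵁ U := fun q hq => by
        obtain ⟨q', hq', he⟩ := (hsub hq).1
        rwa [t.isClosedEmbedding.injective he] at hq'
      let l := pullback.lift (f := f.resLE V U hUV) (g := b.resLE V D hDV) (a.resLE U E hEU)
        (t.resLE D E le_rfl) (by
          rw [← cancel_mono V.ι]
          simp only [Category.assoc, Scheme.Hom.resLE_comp_ι, Scheme.Hom.resLE_comp_ι_assoc]
          rw [w])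
      have hl : l ≫ j = E.ι ≫ a' := by
        apply pullback.hom_ext
        · simp only [l, j, Category.assoc]
          erw [pullback.lift_fst, pullback.lift_fst_assoc]
          rw [Scheme.Hom.resLE_comp_ι, ha'f]
        · rw [Category.assoc, hj2, Category.assoc, ha's]
          simp only [l]
          erw [pullback.lift_snd_assoc]
          rw [Scheme.Hom.resLE_comp_ι]
      refine ⟨l ⟨z, hz⟩, ?_⟩
      exact congr($hl ⟨z, hz⟩)
    · have hg : MoreMor.IsFormallySmoothHom (f.resLE V U hUV) := by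
        refine isFormallySmoothHom_of_square (k := hV.isoSpec.hom) (j := hU.isoSpec.hom) ?_
          (isFormallySmoothHom_SpecMap _ (H U V hU hV hUV))
        rw [← cancel_mono hV.fromSpec, Category.assoc, Category.assoc,
          hV.SpecMap_appLE_fromSpec f hU hUV]
        simp [IsAffineOpen.isoSpec_hom, Scheme.Hom.resLE_comp_ι]
      refine isFormallySmoothHom_of_square (k := 𝟙 _) (j := (j.isoOpensRange).inv) ?_
        (isFormallySmoothHom_pullback_snd_comp _ _ hg D.ι)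
      rw [Category.comp_id, ← hj2, Scheme.Hom.isoOpensRange_inv_comp_assoc]
  choose h W hxh hW hWle hWa hWsm using hchart
  let U₀ : (pullback f b).Opens := ⨆ x, W x
  have hrange : Set.range a' ⊆ Set.range U₀.ι := by
    rintro _ ⟨y, rfl⟩
    rw [Scheme.Opens.range_ι]
    exact Opens.mem_iSup.mpr ⟨t y, hWa (t y) y (hxh (t y))⟩
  let a₀ := IsOpenImmersion.lift U₀.ι a' hrange
  have ha₀ : a₀ ≫ U₀.ι = a' := IsOpenImmersion.lift_fac _ _ _
  let p₀ := U₀.ι ≫ pullback.snd f b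
  have hap : a₀ ≫ p₀ = t := by rw [reassoc_of% ha₀, ha's]
  have hpre : ∀ x, a₀ ⁻¹ᵁ (U₀.ι ⁻¹ᵁ W x) = t ⁻¹ᵁ PrimeSpectrum.basicOpen (h x) := fun x => by
    refine le_antisymm (fun y hy => ?_) fun y hy => ?_
    · show t y ∈ PrimeSpectrum.basicOpen (h x)
      rw [← hap]
      exact hWle x hy
    · show U₀.ι (a₀ y) ∈ W x
      rw [← Scheme.Hom.comp_apply, ha₀]
      exact hWa x y hy
  have : IsClosedImmersion a₀ := by
    refine IsZariskiLocalAtTarget.of_iSup_eq_top (fun x => U₀.ι ⁻¹ᵁ W x) ?_ fun x => ?_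
    · refine eq_top_iff.mpr fun y _ => ?_
      obtain ⟨x, hx⟩ := Opens.mem_iSup.mp y.2
      exact Opens.mem_iSup.mpr ⟨x, hx⟩
    let D : (Spec (CommRingCat.of A)).Opens := PrimeSpectrum.basicOpen (h x)
    have hle : U₀.ι ⁻¹ᵁ W x ≤ p₀ ⁻¹ᵁ D := fun y hy => hWle x hy
    let r := p₀.resLE D (U₀.ι ⁻¹ᵁ W x) hle
    have hr : (a₀ ∣_ (U₀.ι ⁻¹ᵁ W x)) ≫ r =
        (Spec (CommRingCat.of (A ⧸ I))).homOfLE (hpre x).le ≫ (t ∣_ D) := by
      rw [← cancel_mono D.ι]
      simp only [r, Category.assoc, Scheme.Hom.resLE_comp_ι, morphismRestrict_ι_assoc,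
        morphismRestrict_ι, Scheme.homOfLE_ι_assoc]
      rw [hap]
      exact (Scheme.homOfLE_ι_assoc _ _ _).symm
    have : IsClosedImmersion (t ∣_ D) := IsZariskiLocalAtTarget.restrict htc D
    have : IsIso ((Spec (CommRingCat.of (A ⧸ I))).homOfLE (hpre x).le) := by
      rw [← Scheme.isoOfEq_hom _ (hpre x)]
      infer_instance
    have : IsClosedImmersion ((a₀ ∣_ (U₀.ι ⁻¹ᵁ W x)) ≫ r) := by
      rw [hr]
      infer_instance
    have : IsAffine (U₀.ι ⁻¹ᵁ W x).toScheme :=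
      (hW x).preimage_of_isOpenImmersion U₀.ι (by
        rw [Scheme.Opens.opensRange_ι]
        exact le_iSup W x)
    exact IsClosedImmersion.of_comp _ r
  obtain ⟨l, hl1, hl2⟩ := exists_section_of_charts I hI p₀ a₀ hap (Set.range h)
    (by
      rw [← PrimeSpectrum.iSup_basicOpen_eq_top_iff]
      exact eq_top_iff.mpr fun x _ => Opens.mem_iSup.mpr ⟨x, hxh x⟩)
    (by
      rintro _ ⟨x, rfl⟩
      have hWaff : IsAffineOpen (U₀.ι ⁻¹ᵁ W x) := (hW x).preimage_of_isOpenImmersion U₀.ι (by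
        rw [Scheme.Opens.opensRange_ι]
        exact le_iSup W x)
      refine ⟨U₀.ι ⁻¹ᵁ W x, hWaff, fun y hy => hWle x hy, fun y hy => ?_, ?_⟩
      · show y ∈ a₀ ⁻¹ᵁ (U₀.ι ⁻¹ᵁ W x)
        rw [hpre]
        have : t y = p₀ (a₀ y) := by rw [← Scheme.Hom.comp_apply, hap]
        exact (this ▸ hy : t y ∈ PrimeSpectrum.basicOpen (h x))
      · have hs : MoreMor.IsFormallySmoothHom ((U₀.ι ⁻¹ᵁ W x).ι ≫ p₀) := by
          refine isFormallySmoothHom_of_square (k := 𝟙 _)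
            (j := U₀.ι ∣_ W x) ?_ (hWsm x)
          rw [Category.comp_id, morphismRestrict_ι_assoc]
        have : IsAffine (U₀.ι ⁻¹ᵁ W x).toScheme := hWaff
        refine formallySmooth_of_isFormallySmoothHom_SpecMap _
          (isFormallySmoothHom_of_square (k := 𝟙 _) (j := hWaff.isoSpec.inv) ?_ hs)
        rw [Category.comp_id, Spec.map_comp, hWaff.isoSpec_inv_ι_assoc, ← Scheme.isoSpec_Spec_inv,
          ← IsAffineOpen.fromSpec_top]
        exact (isAffineOpen_top (Spec (CommRingCat.of A))).SpecMap_appLE_fromSpec p₀ hWaff le_top)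
  refine ⟨l ≫ U₀.ι ≫ pullback.fst f b, ?_, ?_⟩
  · rw [← Category.assoc, hl1, reassoc_of% ha₀, ha'f]
  · simp only [Category.assoc]
    rw [pullback.condition, ← Category.assoc U₀.ι, ← Category.assoc l, hl2, Category.id_comp]

end Groth.Agent.MorLib
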