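import Groth.Agent.MorLib.Descend

/-! Descent of closed immersions and finite morphisms along limits. -/

set_option autoImplicit false
universe u

namespace Groth.Agent.MorLib.Desc

open AlgebraicGeometry CategoryTheory Limits TopologicalSpace Opposite

theorem subring_eq_top_of_isPushout {A B C P : CommRingCat.{u}} {f : A ⟶ B} {g : A ⟶ C}
    {inl : B ⟶ P} {inr : C ⟶ P} (h : IsPushout f g inl inr) (R : Subring P)
    (h1 : ∀ b, inl b ∈ R) (h2 : ∀ c, inr c ∈ R) : R = ⊤ := by
  let l1 : B ⟶ CommRingCat.of R := CommRingCat.ofHom (inl.hom.codRestrict R h1)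
  let l2 : C ⟶ CommRingCat.of R := CommRingCat.ofHom (inr.hom.codRestrict R h2)
  have w : f ≫ l1 = g ≫ l2 := by
    ext a
    have e : (f ≫ inl) a = (g ≫ inr) a := by rw [h.w]
    change _ = _
    exact e
  let d := h.desc l1 l2 w
  have hd : d ≫ CommRingCat.ofHom R.subtype = 𝟙 P := by
    apply h.hom_ext
    · rw [IsPushout.inl_desc_assoc, Category.comp_id]; ext b; rfl
    · rw [IsPushout.inr_desc_assoc, Category.comp_id]; ext b; rfl
  refine eq_top_iff.mpr fun p _ => ?_
  have : (d p : P) = p := congr($(hd).hom p)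
  exact this ▸ (d p).2

section

variable {I : Type u} [SmallCategory I] [IsCofiltered I] {D : I ⥤ Scheme.{u}} {c : Cone D}
  (hc : IsLimit c) [∀ {i j : I} (f : i ⟶ j), IsAffineHom (D.map f)] {i : I}
  {X₀ : Scheme.{u}} (f₀ : X₀ ⟶ D.obj i)

/-- The image of a function in the base change at a stage lies in the range of the base. -/
def InRange (b : Γ(X₀, ⊤)) (j : Over i) : Prop :=
  (pullback.fst f₀ (D.map j.hom)).appTop b ∈ (pullback.snd f₀ (D.map j.hom)).appTop.hom.range

theorem InRange.mono {b : Γ(X₀, ⊤)} {j k : Over i} (g : k ⟶ j) (h : InRange f₀ b j) :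
    InRange f₀ b k := by
  obtain ⟨a, ha⟩ := h
  have ha' : (pullback.snd f₀ (D.map j.hom)).appTop a = (pullback.fst f₀ (D.map j.hom)).appTop b := ha
  refine ⟨(D.map g.left).appTop a, ?_⟩
  let m : pullback f₀ (D.map k.hom) ⟶ pullback f₀ (D.map j.hom) := (BC.diag D f₀).map g
  have e1 : m ≫ pullback.fst f₀ (D.map j.hom) = pullback.fst f₀ (D.map k.hom) := BC.map_fst D f₀ g
  have e2 : m ≫ pullback.snd f₀ (D.map j.hom) = pullback.snd f₀ (D.map k.hom) ≫ D.map g.left :=
    BC.map_snd D f₀ g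
  have l1 := congr(($(congrArg Scheme.Hom.appTop e1)).hom b)
  have l2 := congr(($(congrArg Scheme.Hom.appTop e2)).hom a)
  simp only [Scheme.Hom.comp_appTop, CommRingCat.hom_comp, RingHom.comp_apply] at l1 l2
  rw [← l1, ← l2, ha']

include hc in
/-- Membership in the range at the limit descends to a stage. -/
theorem exists_inRange [IsAffine (D.obj i)] [IsAffine X₀] (b : Γ(X₀, ⊤)) (a : Γ(c.pt, ⊤))
    (h : (pullback.fst f₀ (c.π.app i)).appTop b = (pullback.snd f₀ (c.π.app i)).appTop a) :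
    ∃ j : Over i, InRange f₀ b j := by
  haveI : ∀ j : Over i, IsAffine ((Over.forget i ⋙ D).obj j) := fun j => by
    show IsAffine (D.obj j.left)
    exact isAffine_of_isAffineHom (D.map j.hom)
  obtain ⟨j, a', ha'⟩ : ∃ (j : Over i) (a' : Γ(D.obj j.left, ⊤)), (c.π.app j.left).appTop a' = a :=
    exists_appTop_π_eq_of_isAffine_of_isLimit (Over.forget i ⋙ D)
    (c.whisker (Over.forget i)) ((Functor.Initial.isLimitWhiskerEquiv (Over.forget i) c).symm hc) a
  let hX := IsPullback.of_hasPullback f₀ (c.π.app i)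
  let s : Γ(pullback f₀ (D.map j.hom), ⊤) :=
    (pullback.fst f₀ (D.map j.hom)).appTop b - (pullback.snd f₀ (D.map j.hom)).appTop a'
  have hs : (BC.proj D f₀ hX j).appTop s = 0 := by
    have l1 := congr(($(congrArg Scheme.Hom.appTop (BC.proj_fst D f₀ hX j))).hom b)
    have l2 := congr(($(congrArg Scheme.Hom.appTop (BC.proj_snd D f₀ hX j))).hom a')
    simp only [Scheme.Hom.comp_appTop, CommRingCat.hom_comp, RingHom.comp_apply] at l1 l2
    have ha'' : (c.π.app j.left).appTop a' = a := ha'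
    rw [map_sub, l1, l2, ha'', h, sub_self]
  haveI : ∀ {j k : Over i} (f : j ⟶ k), IsAffineHom ((BC.diag D f₀).map f) := fun g =>
    BC.isAffineHom_map D f₀ g
  obtain ⟨k, g, hk⟩ := exists_appTop_map_eq_zero_of_isLimit (BC.diag D f₀) (BC.cone D f₀ hX)
    (BC.isLimitCone D f₀ hX hc) (i := j) s hs
  refine ⟨k, (D.map g.left).appTop a', ?_⟩
  let m : pullback f₀ (D.map k.hom) ⟶ pullback f₀ (D.map j.hom) := (BC.diag D f₀).map g
  have e1 : m ≫ pullback.fst f₀ (D.map j.hom) = pullback.fst f₀ (D.map k.hom) := BC.map_fst D f₀ g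
  have e2 : m ≫ pullback.snd f₀ (D.map j.hom) = pullback.snd f₀ (D.map k.hom) ≫ D.map g.left :=
    BC.map_snd D f₀ g
  have l1 := congr(($(congrArg Scheme.Hom.appTop e1)).hom b)
  have l2 := congr(($(congrArg Scheme.Hom.appTop e2)).hom a')
  simp only [Scheme.Hom.comp_appTop, CommRingCat.hom_comp, RingHom.comp_apply] at l1 l2
  have hk' : m.appTop ((pullback.fst f₀ (D.map j.hom)).appTop b) -
      m.appTop ((pullback.snd f₀ (D.map j.hom)).appTop a') = 0 :=
    (map_sub m.appTop.hom _ _).symm.trans hk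
  rw [← l1, ← l2]
  exact (sub_eq_zero.mp hk').symm

omit [IsCofiltered I] [∀ {i j : I} (f : i ⟶ j), IsAffineHom (D.map f)] in
theorem exists_generators [IsAffine (D.obj i)] [IsAffine X₀] [LocallyOfFiniteType f₀] :
    ∃ s : Finset Γ(X₀, ⊤), ∀ R : Subring Γ(X₀, ⊤), (∀ a, f₀.appTop a ∈ R) → (∀ b ∈ s, b ∈ R) →
      R = ⊤ := by
  have hft : f₀.appTop.hom.FiniteType := HasRingHomProperty.appTop @LocallyOfFiniteType f₀ inferInstance
  letI := f₀.appTop.hom.toAlgebra
  obtain ⟨s, hs⟩ := (hft : Algebra.FiniteType Γ(D.obj i, ⊤) Γ(X₀, ⊤)).out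
  refine ⟨s, fun R h1 h2 => eq_top_iff.mpr fun x _ => ?_⟩
  let R' : Subalgebra Γ(D.obj i, ⊤) Γ(X₀, ⊤) := { R.toSubsemiring with algebraMap_mem' := h1 }
  have hle : (⊤ : Subalgebra Γ(D.obj i, ⊤) Γ(X₀, ⊤)) ≤ R' := hs ▸ Algebra.adjoin_le h2
  exact hle trivial

omit [IsCofiltered I] in
/-- A subring of the functions of an affine base change is everything once it contains the
functions from the base and the generators of the source. -/
theorem subring_stage_eq_top [IsAffine (D.obj i)] [IsAffine X₀] {s : Finset Γ(X₀, ⊤)}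
    (hs : ∀ R : Subring Γ(X₀, ⊤), (∀ a, f₀.appTop a ∈ R) → (∀ b ∈ s, b ∈ R) → R = ⊤)
    (j : Over i) (R : Subring Γ(pullback f₀ (D.map j.hom), ⊤))
    (h2 : ∀ a, (pullback.snd f₀ (D.map j.hom)).appTop a ∈ R)
    (h1 : ∀ b ∈ s, (pullback.fst f₀ (D.map j.hom)).appTop b ∈ R) : R = ⊤ := by
  haveI : IsAffine (D.obj j.left) := isAffine_of_isAffineHom (D.map j.hom)
  have hpo := isPushout_appTop_of_isPullback (IsPullback.of_hasPullback f₀ (D.map j.hom))
  refine subring_eq_top_of_isPushout hpo R (fun b => ?_) h2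
  have hb : R.comap (pullback.fst f₀ (D.map j.hom)).appTop.hom = ⊤ := by
    refine hs _ (fun a => ?_) h1
    show (f₀.appTop ≫ (pullback.fst f₀ (D.map j.hom)).appTop) a ∈ R
    rw [hpo.w]
    exact h2 _
  exact (hb.ge (Subring.mem_top b) :)

include hc in
theorem affineCase_closedImmersion [IsAffine (D.obj i)] [IsAffine X₀] [LocallyOfFiniteType f₀]
    (h : IsClosedImmersion (pullback.snd f₀ (c.π.app i))) :
    ∃ (j : I) (φ : j ⟶ i), IsClosedImmersion (pullback.snd f₀ (D.map φ)) := by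
  obtain ⟨s, hs⟩ := exists_generators f₀
  haveI : IsAffineHom (c.π.app i) := isAffineHom_π_app D c hc i
  haveI : IsAffine (((Functor.const I).obj c.pt).obj i) := isAffine_of_isAffineHom (c.π.app i)
  haveI : IsAffine c.pt := ‹IsAffine (((Functor.const I).obj c.pt).obj i)›
  have hsurj : Function.Surjective (pullback.snd f₀ (c.π.app i)).appTop :=
    Scheme.Hom.app_surjective _ ⊤ (isAffineOpen_top _)
  have hb : ∀ b : Γ(X₀, ⊤), ∃ j : Over i, InRange f₀ b j := fun b => by
    obtain ⟨a, ha⟩ := hsurj ((pullback.fst f₀ (c.π.app i)).appTop b)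
    exact exists_inRange hc f₀ b a ha.symm
  choose jb hjb using hb
  obtain ⟨k, hk⟩ : ∃ k : Over i, ∀ b ∈ s, Nonempty (k ⟶ jb b) := by
    classical
    obtain ⟨k, hk⟩ := IsCofiltered.inf_objs_exists (s.image jb)
    exact ⟨k, fun b hb => hk (Finset.mem_image_of_mem jb hb)⟩
  refine ⟨k.left, k.hom, ?_⟩
  haveI : IsAffine (D.obj k.left) := isAffine_of_isAffineHom (D.map k.hom)
  refine IsClosedImmersion.of_surjective_of_isAffine _ fun x => ?_
  have htop := subring_stage_eq_top f₀ hs k (pullback.snd f₀ (D.map k.hom)).appTop.hom.range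
    (fun a => ⟨a, rfl⟩) fun b hb => (hjb b).mono f₀ (hk b hb).some
  exact htop.ge (Subring.mem_top x)

/-- A function in the base change at a stage is integral over the base. -/
def IntegralAt (b : Γ(X₀, ⊤)) (j : Over i) : Prop :=
  (pullback.snd f₀ (D.map j.hom)).appTop.hom.IsIntegralElem ((pullback.fst f₀ (D.map j.hom)).appTop b)

omit [IsCofiltered I] [∀ {i j : I} (f : i ⟶ j), IsAffineHom (D.map f)] in
theorem IntegralAt.mono {b : Γ(X₀, ⊤)} {j k : Over i} (g : k ⟶ j) (h : IntegralAt f₀ b j) :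
    IntegralAt f₀ b k := by
  obtain ⟨p, hp, he⟩ := h
  refine ⟨p.map (D.map g.left).appTop.hom, hp.map _, ?_⟩
  let m : pullback f₀ (D.map k.hom) ⟶ pullback f₀ (D.map j.hom) := (BC.diag D f₀).map g
  have e1 : m ≫ pullback.fst f₀ (D.map j.hom) = pullback.fst f₀ (D.map k.hom) := BC.map_fst D f₀ g
  have e2 : m ≫ pullback.snd f₀ (D.map j.hom) = pullback.snd f₀ (D.map k.hom) ≫ D.map g.left :=
    BC.map_snd D f₀ g
  have l1 := congr(($(congrArg Scheme.Hom.appTop e1)).hom b)
  have l2 := congr(($(congrArg Scheme.Hom.appTop e2)).hom)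
  simp only [Scheme.Hom.comp_appTop, CommRingCat.hom_comp, RingHom.comp_apply] at l1 l2
  have he' := congrArg m.appTop.hom he
  rw [map_zero, Polynomial.hom_eval₂, l2] at he'
  rw [Polynomial.eval₂_map]
  exact l1 ▸ he'

include hc in
/-- Integrality at the limit descends to a stage. -/
theorem exists_integralAt [IsAffine (D.obj i)] [IsAffine X₀] (b : Γ(X₀, ⊤))
    (h : (pullback.snd f₀ (c.π.app i)).appTop.hom.IsIntegralElem
      ((pullback.fst f₀ (c.π.app i)).appTop b)) :
    ∃ j : Over i, IntegralAt f₀ b j := by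
  classical
  obtain ⟨p, hp, he⟩ := h
  haveI : ∀ j : Over i, IsAffine ((Over.forget i ⋙ D).obj j) := fun j => by
    show IsAffine (D.obj j.left)
    exact isAffine_of_isAffineHom (D.map j.hom)
  have hlift : ∀ n : ℕ, ∃ (j : Over i) (a' : Γ(D.obj j.left, ⊤)), (c.π.app j.left).appTop a' = p.coeff n :=
    fun n => exists_appTop_π_eq_of_isAffine_of_isLimit (Over.forget i ⋙ D)
      (c.whisker (Over.forget i)) ((Functor.Initial.isLimitWhiskerEquiv (Over.forget i) c).symm hc)
      (p.coeff n)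
  choose j a ha using hlift
  obtain ⟨k, hk⟩ := IsCofiltered.inf_objs_exists ((Finset.range p.natDegree).image j)
  have hk' : ∀ n, n < p.natDegree → Nonempty (k ⟶ j n) := fun n hn =>
    hk (Finset.mem_image_of_mem j (Finset.mem_range.mpr hn))
  let a' : ℕ → Γ(D.obj k.left, ⊤) := fun n =>
    if hn : n < p.natDegree then (D.map (hk' n hn).some.left).appTop (a n) else 0
  have ha' : ∀ n < p.natDegree, (c.π.app k.left).appTop (a' n) = p.coeff n := by
    intro n hn
    simp only [a', dif_pos hn]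
    rw [← ha n]
    exact congr($(congrArg Scheme.Hom.appTop (c.w (hk' n hn).some.left)).hom (a n))
  let q : Polynomial Γ(D.obj k.left, ⊤) :=
    Polynomial.X ^ p.natDegree + ∑ n ∈ Finset.range p.natDegree, Polynomial.C (a' n) * Polynomial.X ^ n
  have hq : q.Monic := Polynomial.monic_X_pow_add (Polynomial.degree_sum_fin_lt (fun n : Fin p.natDegree => a' n) |>
    fun h => by simpa [Finset.sum_range] using h)
  have hqmap : q.map (c.π.app k.left).appTop.hom = p := by
    conv_rhs => rw [hp.as_sum]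
    simp only [q, Polynomial.map_add, Polynomial.map_pow, Polynomial.map_X, Polynomial.map_sum,
      Polynomial.map_mul, Polynomial.map_C]
    exact congrArg (Polynomial.X ^ p.natDegree + ·)
      (Finset.sum_congr rfl fun n hn => by
        rw [show (c.π.app k.left).appTop.hom (a' n) = p.coeff n from ha' n (Finset.mem_range.mp hn)])
  let hX := IsPullback.of_hasPullback f₀ (c.π.app i)
  let s : Γ(pullback f₀ (D.map k.hom), ⊤) :=
    q.eval₂ (pullback.snd f₀ (D.map k.hom)).appTop.hom ((pullback.fst f₀ (D.map k.hom)).appTop b)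
  have hs : (BC.proj D f₀ hX k).appTop s = 0 := by
    have l1 := congr(($(congrArg Scheme.Hom.appTop (BC.proj_fst D f₀ hX k))).hom b)
    have l2 := congr(($(congrArg Scheme.Hom.appTop (BC.proj_snd D f₀ hX k))).hom)
    simp only [Scheme.Hom.comp_appTop, CommRingCat.hom_comp, RingHom.comp_apply] at l1 l2
    show (BC.proj D f₀ hX k).appTop.hom s = 0
    rw [Polynomial.hom_eval₂, l1, l2]
    rw [← hqmap, Polynomial.eval₂_map] at he
    exact he
  haveI : ∀ {j k : Over i} (f : j ⟶ k), IsAffineHom ((BC.diag D f₀).map f) := fun g =>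
    BC.isAffineHom_map D f₀ g
  obtain ⟨l, g, hl⟩ := exists_appTop_map_eq_zero_of_isLimit (BC.diag D f₀) (BC.cone D f₀ hX)
    (BC.isLimitCone D f₀ hX hc) (i := k) s hs
  refine ⟨l, q.map (D.map g.left).appTop.hom, hq.map _, ?_⟩
  let m : pullback f₀ (D.map l.hom) ⟶ pullback f₀ (D.map k.hom) := (BC.diag D f₀).map g
  have e1 : m ≫ pullback.fst f₀ (D.map k.hom) = pullback.fst f₀ (D.map l.hom) := BC.map_fst D f₀ g
  have e2 : m ≫ pullback.snd f₀ (D.map k.hom) = pullback.snd f₀ (D.map l.hom) ≫ D.map g.left :=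
    BC.map_snd D f₀ g
  have l1 := congr(($(congrArg Scheme.Hom.appTop e1)).hom b)
  have l2 := congr(($(congrArg Scheme.Hom.appTop e2)).hom)
  simp only [Scheme.Hom.comp_appTop, CommRingCat.hom_comp, RingHom.comp_apply] at l1 l2
  have hl' : m.appTop.hom s = 0 := hl
  rw [Polynomial.hom_eval₂, l2] at hl'
  rw [Polynomial.eval₂_map]
  exact l1 ▸ hl'

set_option backward.isDefEq.respectTransparency.types false in
include hc in
theorem affineCase_isFinite [IsAffine (D.obj i)] [IsAffine X₀] [LocallyOfFiniteType f₀]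
    (h : IsFinite (pullback.snd f₀ (c.π.app i))) :
    ∃ (j : I) (φ : j ⟶ i), IsFinite (pullback.snd f₀ (D.map φ)) := by
  classical
  obtain ⟨s, hs⟩ := exists_generators f₀
  haveI : IsAffineHom (c.π.app i) := isAffineHom_π_app D c hc i
  haveI : IsAffine (((Functor.const I).obj c.pt).obj i) := isAffine_of_isAffineHom (c.π.app i)
  have hint : (pullback.snd f₀ (c.π.app i)).appTop.hom.IsIntegral :=
    ((HasAffineProperty.iff_of_isAffine (P := @IsIntegralHom)).mp
      (inferInstance : IsIntegralHom (pullback.snd f₀ (c.π.app i)))).2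
  have hb : ∀ b : Γ(X₀, ⊤), ∃ j : Over i, IntegralAt f₀ b j := fun b =>
    exists_integralAt hc f₀ b (hint _)
  choose jb hjb using hb
  obtain ⟨k, hk⟩ : ∃ k : Over i, ∀ b ∈ s, Nonempty (k ⟶ jb b) := by
    obtain ⟨k, hk⟩ := IsCofiltered.inf_objs_exists (s.image jb)
    exact ⟨k, fun b hb => hk (Finset.mem_image_of_mem jb hb)⟩
  refine ⟨k.left, k.hom, ?_⟩
  haveI : IsAffine (D.obj k.left) := isAffine_of_isAffineHom (D.map k.hom)
  haveI : LocallyOfFiniteType (pullback.snd f₀ (D.map k.hom)) :=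
    MorphismProperty.pullback_snd _ _ inferInstance
  refine (IsFinite.iff_isIntegralHom_and_locallyOfFiniteType _).mpr ⟨?_, inferInstance⟩
  refine (HasAffineProperty.iff_of_isAffine (P := @IsIntegralHom)).mpr ⟨inferInstance, fun x => ?_⟩
  letI := (pullback.snd f₀ (D.map k.hom)).appTop.hom.toAlgebra
  have htop := subring_stage_eq_top f₀ hs k
    (integralClosure Γ(D.obj k.left, ⊤) Γ(pullback f₀ (D.map k.hom), ⊤)).toSubring
    (fun a => (integralClosure Γ(D.obj k.left, ⊤) Γ(pullback f₀ (D.map k.hom), ⊤)).algebraMap_mem a)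
    fun b hb => (hjb b).mono f₀ (hk b hb).some
  exact htop.ge (Subring.mem_top x)

end

/-- Reindexing: descent of a property of affine morphisms from the affine case. -/
theorem core_of_affineCase (P Q : MorphismProperty Scheme.{u}) [P.IsStableUnderBaseChange]
    [Q.IsStableUnderBaseChange] (hP : ∀ {X Y : Scheme.{u}} (f : X ⟶ Y), P f → IsAffineHom f)
    (hcase : ∀ (I : Type u) [SmallCategory I] [IsCofiltered I] (D : I ⥤ Scheme.{u}) (c : Cone D),
      IsLimit c → (∀ (i j : I) (f : i ⟶ j), IsAffineHom (D.map f)) →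
      ∀ (i : I), IsAffine (D.obj i) → ∀ {X₀ : Scheme.{u}} (f₀ : X₀ ⟶ D.obj i), IsAffine X₀ → Q f₀ →
        P (pullback.snd f₀ (c.π.app i)) → ∃ (j : I) (φ : j ⟶ i), P (pullback.snd f₀ (D.map φ))) :
    Core P Q := by
  intro I _ _ D c hc hD i hi X₀ f₀ hcs hqs hQ h
  haveI : ∀ {i j : I} (f : i ⟶ j), IsAffineHom (D.map f) := fun {i j} f => hD i j f
  obtain ⟨j, φ, hφ⟩ := core_affine I D c hc hD i hi f₀ hcs hqs trivial (hP _ h)
  haveI : IsAffine (D.obj j) := isAffine_of_isAffineHom (D.map φ)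
  haveI : IsAffineHom (pullback.snd f₀ (D.map φ)) := hφ
  haveI : IsAffine (pullback f₀ (D.map φ)) := isAffine_of_isAffineHom (pullback.snd f₀ (D.map φ))
  have hp := (IsPullback.of_hasPullback (pullback.snd f₀ (D.map φ)) (c.π.app j)).paste_horiz
    (IsPullback.of_hasPullback f₀ (D.map φ))
  rw [c.w φ] at hp
  obtain ⟨k, ψ, hψ⟩ := hcase I D c hc hD j inferInstance (pullback.snd f₀ (D.map φ)) inferInstance
    (MorphismProperty.pullback_snd _ _ hQ) (of_two P (IsPullback.of_hasPullback f₀ _) hp h)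
  refine ⟨k, ψ ≫ φ, ?_⟩
  have hp2 := (IsPullback.of_hasPullback (pullback.snd f₀ (D.map φ)) (D.map ψ)).paste_horiz
    (IsPullback.of_hasPullback f₀ (D.map φ))
  rw [← D.map_comp] at hp2
  exact of_two P hp2 (IsPullback.of_hasPullback f₀ _) hψ

theorem core_closedImmersion : Core @IsClosedImmersion @LocallyOfFiniteType :=
  core_of_affineCase @IsClosedImmersion @LocallyOfFiniteType
    (fun f h => by haveI : IsClosedImmersion f := h; infer_instance)
    fun I _ _ D c hc hD i _ X₀ f₀ _ hQ h => by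
      haveI : ∀ {i j : I} (f : i ⟶ j), IsAffineHom (D.map f) := fun {i j} f => hD i j f
      haveI : LocallyOfFiniteType f₀ := hQ
      exact affineCase_closedImmersion hc f₀ h

theorem core_isFinite : Core @IsFinite @LocallyOfFiniteType :=
  core_of_affineCase @IsFinite @LocallyOfFiniteType
    (fun f h => by haveI : IsFinite f := h; infer_instance)
    fun I _ _ D c hc hD i _ X₀ f₀ _ hQ h => by
      haveI : ∀ {i j : I} (f : i ⟶ j), IsAffineHom (D.map f) := fun {i j} f => hD i j f
      haveI : LocallyOfFiniteType f₀ := hQ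
      exact affineCase_isFinite hc f₀ h

end Groth.Agent.MorLib.Desc
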