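import Groth.Agent.MorLib.UnivHomeo
import Groth.Prelude.Def_MoreMor
import Mathlib.AlgebraicGeometry.Morphisms.UniversallyOpen

/-! Transfer of properties of morphisms along surjections and monomorphisms, with the application to thickenings. -/

set_option autoImplicit false
universe u

namespace Groth.Agent.MorLib

open AlgebraicGeometry CategoryTheory Limits

variable {X Y Z : Scheme.{u}}

theorem quasiCompact_of_comp_surjective (f : X ⟶ Y) (g : Y ⟶ Z) [Surjective f]
    [QuasiCompact (f ≫ g)] : QuasiCompact g := by
  refine ⟨fun U hU hUc => ?_⟩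
  have h := QuasiCompact.isCompact_preimage (f := f ≫ g) U hU hUc
  have := h.image f.continuous
  have e : (f ≫ g) ⁻¹' U = f ⁻¹' (g ⁻¹' U) := by ext; simp
  rwa [e, Set.image_preimage_eq _ f.surjective] at this

theorem quasiSeparated_of_comp_surjective (f : X ⟶ Y) (g : Y ⟶ Z) [Surjective f] [QuasiCompact f]
    [QuasiSeparated (f ≫ g)] : QuasiSeparated g := by
  refine ⟨?_⟩
  have heq : f ≫ pullback.diagonal g = pullback.diagonal (f ≫ g) ≫
      pullback.map (f ≫ g) (f ≫ g) g g f f (𝟙 Z) (by simp) (by simp) := by
    apply pullback.hom_ext <;> simp [pullback.map, pullback.lift_fst, pullback.lift_snd]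
  have : QuasiCompact (pullback.map (f ≫ g) (f ≫ g) g g f f (𝟙 Z) (by simp) (by simp)) :=
    MorphismProperty.pullback_map (P := @QuasiCompact) ‹_› ‹_› rfl rfl
  have : QuasiCompact (f ≫ pullback.diagonal g) := by
    rw [heq]
    infer_instance
  exact quasiCompact_of_comp_surjective f _

theorem universallyOpen_of_comp_surjective (f : X ⟶ Y) (g : Y ⟶ Z) [Surjective f]
    [UniversallyOpen (f ≫ g)] : UniversallyOpen g := by
  constructor
  intro X' Y' i₁ i₂ g' H U hU
  have hX := (IsPullback.of_hasPullback i₁ f).paste_horiz H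
  have hop := UniversallyOpen.universally_isOpenMap (f := f ≫ g) _ _ _ hX
  have hs : Surjective (pullback.fst i₁ f) := MorphismProperty.pullback_fst (P := @Surjective) _ _ ‹_›
  rw [← Set.image_preimage_eq U hs.surj, ← Set.image_comp]
  exact hop _ (hU.preimage (Scheme.Hom.continuous _))

theorem universallyOpen_of_comp_mono (f : X ⟶ Y) (g : Y ⟶ Z) [Mono g]
    [UniversallyOpen (f ≫ g)] : UniversallyOpen f := by
  constructor
  intro X' Y' i₁ i₂ f' H
  have h2 : IsPullback (𝟙 Y') i₂ (i₂ ≫ g) g := ⟨⟨by simp⟩, ⟨PullbackCone.IsLimit.mk _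
    (fun s => s.fst) (fun s => by simp)
    (fun s => (cancel_mono g).mp (by simpa using s.condition))
    (fun s m h₁ _ => by simpa using h₁)⟩⟩
  have := UniversallyOpen.universally_isOpenMap (f := f ≫ g) _ _ _ (H.paste_horiz h2)
  simpa using this

section Thickening

variable {X X' S S' : Scheme.{u}} {iX : X ⟶ X'} {iS : S ⟶ S'} {f : X ⟶ S} {f' : X' ⟶ S'}

theorem thickening_quasiCompact_iff (hX : MoreMor.IsThickening iX) (hS : MoreMor.IsThickening iS)
    (w : iX ≫ f' = f ≫ iS) : QuasiCompact f ↔ QuasiCompact f' := by
  have := hX.1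
  have := hX.2
  have := hS.1
  constructor <;> intro h
  · have : QuasiCompact (iX ≫ f') := w ▸ inferInstanceAs (QuasiCompact (f ≫ iS))
    exact quasiCompact_of_comp_surjective iX f'
  · have : QuasiCompact (f ≫ iS) := w ▸ inferInstanceAs (QuasiCompact (iX ≫ f'))
    exact QuasiCompact.of_comp f iS

theorem thickening_quasiSeparated_iff (hX : MoreMor.IsThickening iX) (hS : MoreMor.IsThickening iS)
    (w : iX ≫ f' = f ≫ iS) : QuasiSeparated f ↔ QuasiSeparated f' := by
  have := hX.1
  have := hX.2
  have := hS.1
  constructor <;> intro h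
  · have : QuasiSeparated (iX ≫ f') := w ▸ inferInstanceAs (QuasiSeparated (f ≫ iS))
    exact quasiSeparated_of_comp_surjective iX f'
  · have : QuasiSeparated (f ≫ iS) := w ▸ inferInstanceAs (QuasiSeparated (iX ≫ f'))
    exact QuasiSeparated.of_comp f iS

theorem thickening_universallyClosed_iff (hX : MoreMor.IsThickening iX)
    (hS : MoreMor.IsThickening iS) (w : iX ≫ f' = f ≫ iS) :
    UniversallyClosed f ↔ UniversallyClosed f' := by
  have := hX.1
  have := hX.2
  have := hS.1
  constructor <;> intro h
  · have : UniversallyClosed (iX ≫ f') := w ▸ inferInstanceAs (UniversallyClosed (f ≫ iS))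
    exact UniversallyClosed.of_comp_surjective iX f'
  · have : UniversallyClosed (f ≫ iS) := w ▸ inferInstanceAs (UniversallyClosed (iX ≫ f'))
    exact universallyClosed_of_comp_of_universallyInjective f iS

theorem thickening_universallyInjective_iff (hX : MoreMor.IsThickening iX)
    (hS : MoreMor.IsThickening iS) (w : iX ≫ f' = f ≫ iS) :
    UniversallyInjective f ↔ UniversallyInjective f' := by
  have := hX.1
  have := hX.2
  have := hS.1
  constructor <;> intro h
  · exact universallyInjective_of_comp_surjective iX f'
      (w ▸ MorphismProperty.comp_mem @UniversallyInjective f iS h inferInstance)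
  · exact universallyInjective_of_comp f iS (w ▸ MorphismProperty.comp_mem @UniversallyInjective iX f' inferInstance h)

theorem universallyOpen_of_isThickening {i : X ⟶ X'} (hi : MoreMor.IsThickening i) :
    UniversallyOpen i :=
  have := hi.1
  have := hi.2
  universallyOpen_of_isUnivHomeo (isUnivHomeo_of_universallyClosed i)

theorem thickening_universallyOpen_iff (hX : MoreMor.IsThickening iX)
    (hS : MoreMor.IsThickening iS) (w : iX ≫ f' = f ≫ iS) :
    UniversallyOpen f ↔ UniversallyOpen f' := by
  have := hX.1
  have := hX.2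
  have := hS.1
  have := universallyOpen_of_isThickening hX
  have := universallyOpen_of_isThickening hS
  constructor <;> intro h
  · have : UniversallyOpen (iX ≫ f') := w ▸ inferInstanceAs (UniversallyOpen (f ≫ iS))
    exact universallyOpen_of_comp_surjective iX f'
  · have : UniversallyOpen (f ≫ iS) := w ▸ inferInstanceAs (UniversallyOpen (iX ≫ f'))
    exact universallyOpen_of_comp_mono f iS

end Thickening

end Groth.Agent.MorLib
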