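import Mathlib

/-! The unramified locus of a morphism locally of finite type commutes with base change. -/

set_option autoImplicit false
universe u

namespace Groth.Agent.MorLib.UnrLocus

open AlgebraicGeometry CategoryTheory Limits TopologicalSpace
open scoped TensorProduct

theorem support_baseChange_iff {A B : Type u} [CommRing A] [CommRing B] [Algebra A B]
    (M : Type u) [AddCommGroup M] [Module A M] [Module.Finite A M] (q : PrimeSpectrum B) :
    q ∈ Module.support B (B ⊗[A] M) ↔
      PrimeSpectrum.comap (algebraMap A B) q ∈ Module.support A M := by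
  rw [Module.mem_support_iff_nontrivial_residueField_tensorProduct,
    Module.mem_support_iff_nontrivial_residueField_tensorProduct]
  let p := PrimeSpectrum.comap (algebraMap A B) q
  let k := p.asIdeal.ResidueField
  let K := q.asIdeal.ResidueField
  letI : Algebra k K := (Ideal.ResidueField.map p.asIdeal q.asIdeal (algebraMap A B) rfl).toAlgebra
  haveI : IsScalarTower A k K := IsScalarTower.of_algebraMap_eq fun a => by
    rw [RingHom.algebraMap_toAlgebra]
    exact ((Ideal.ResidueField.map_algebraMap p.asIdeal q.asIdeal (algebraMap A B) rfl a).trans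
      (IsScalarTower.algebraMap_apply A B K a).symm).symm
  rw [(TensorProduct.AlgebraTensorModule.cancelBaseChange A B K K M).nontrivial_congr,
    ← (TensorProduct.AlgebraTensorModule.cancelBaseChange A k K K M).nontrivial_congr]
  exact Module.FaithfullyFlat.nontrivial_tensorProduct_iff_right k K

/-- Points near which a morphism is formally unramified. -/
def Loc {X S : Scheme.{u}} (f : X ⟶ S) (x : X) : Prop :=
  ∃ U : X.Opens, x ∈ U ∧ FormallyUnramified (U.ι ≫ f)

theorem loc_comp_left {X Z S : Scheme.{u}} (m : Z ⟶ X) [IsOpenImmersion m] (f : X ⟶ S) (z : Z) :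
    Loc (m ≫ f) z ↔ Loc f (m z) := by
  constructor
  · rintro ⟨W, hzW, hW⟩
    refine ⟨(W.ι ≫ m).opensRange, ⟨⟨z, hzW⟩, rfl⟩, ?_⟩
    have e : (W.ι ≫ m).opensRange.ι ≫ f = (W.ι ≫ m).isoOpensRange.inv ≫ W.ι ≫ m ≫ f := by
      rw [← Category.assoc W.ι, ← Category.assoc, Scheme.Hom.isoOpensRange_inv_comp]
    rw [e]
    exact (MorphismProperty.cancel_left_of_respectsIso @FormallyUnramified _ _).mpr hW
  · rintro ⟨U, hzU, hU⟩
    refine ⟨m ⁻¹ᵁ U, hzU, ?_⟩
    have e : (m ⁻¹ᵁ U).ι ≫ m ≫ f = (m ∣_ U) ≫ U.ι ≫ f := by rw [morphismRestrict_ι_assoc]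
    rw [e]
    exact MorphismProperty.comp_mem @FormallyUnramified _ _ inferInstance hU

theorem loc_comp_right {X S T : Scheme.{u}} (f : X ⟶ S) (j : S ⟶ T) [IsOpenImmersion j] (x : X) :
    Loc (f ≫ j) x ↔ Loc f x := by
  constructor
  · rintro ⟨U, hx, hU⟩
    refine ⟨U, hx, ?_⟩
    haveI : FormallyUnramified ((U.ι ≫ f) ≫ j) := by rw [Category.assoc]; exact hU
    exact FormallyUnramified.of_comp _ j
  · rintro ⟨U, hx, hU⟩
    refine ⟨U, hx, ?_⟩
    rw [← Category.assoc]
    exact MorphismProperty.comp_mem @FormallyUnramified _ _ hU inferInstance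

theorem loc_Spec_iff (R A : Type u) [CommRing R] [CommRing A] [Algebra R A] [Algebra.FiniteType R A]
    (p : PrimeSpectrum A) :
    Loc (Spec.map (CommRingCat.ofHom (algebraMap R A))) p ↔ p ∈ Algebra.unramifiedLocus R A := by
  have key : ∀ g : A, FormallyUnramified (Spec.map (CommRingCat.ofHom (algebraMap A (Localization.Away g))) ≫
      Spec.map (CommRingCat.ofHom (algebraMap R A))) ↔
        Algebra.FormallyUnramified R (Localization.Away g) := fun g => by
    rw [← Spec.map_comp, HasRingHomProperty.Spec_iff (P := @FormallyUnramified)]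
    show ((algebraMap A (Localization.Away g)).comp (algebraMap R A)).FormallyUnramified ↔ _
    rw [← IsScalarTower.algebraMap_eq, RingHom.formallyUnramified_algebraMap]
  constructor
  · rintro ⟨U, hpU, hU⟩
    obtain ⟨_, ⟨_, ⟨g, rfl⟩, rfl⟩, hpg, hgU⟩ :=
      PrimeSpectrum.isBasis_basic_opens.exists_subset_of_mem_open hpU U.2
    refine Algebra.basicOpen_subset_unramifiedLocus_iff.mpr ((key g).mp ?_) hpg
    let j := Spec.map (CommRingCat.ofHom (algebraMap A (Localization.Away g)))
    have hj : Set.range j ⊆ Set.range U.ι := by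
      rw [Scheme.Opens.range_ι]
      exact (PrimeSpectrum.localization_away_comap_range (Localization.Away g) g).trans_subset hgU
    rw [show Spec.map (CommRingCat.ofHom (algebraMap A (Localization.Away g))) = _ from
      (IsOpenImmersion.lift_fac U.ι j hj).symm, Category.assoc]
    exact MorphismProperty.comp_mem @FormallyUnramified _ _ inferInstance hU
  · intro hp
    haveI : Algebra.IsUnramifiedAt R p.asIdeal := hp
    obtain ⟨g, hg, hu⟩ := Algebra.exists_formallyUnramified_of_isUnramifiedAt (R := R) p.asIdeal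
    let j := Spec.map (CommRingCat.ofHom (algebraMap A (Localization.Away g)))
    haveI := (key g).mpr hu
    obtain ⟨z, hz⟩ : p ∈ Set.range j :=
      (PrimeSpectrum.localization_away_comap_range (Localization.Away g) g).ge hg
    rw [← hz]
    refine (loc_comp_left j _ z).mp ⟨⊤, trivial, ?_⟩
    exact MorphismProperty.comp_mem @FormallyUnramified _ _ inferInstance ((key g).mpr hu)

theorem loc_pullback_Spec (R A R' : Type u) [CommRing R] [CommRing A] [CommRing R'] [Algebra R A]
    [Algebra R R'] [Algebra.FiniteType R A]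
    (z : ↑(pullback (Spec.map (CommRingCat.ofHom (algebraMap R A)))
      (Spec.map (CommRingCat.ofHom (algebraMap R R'))))) :
    Loc (pullback.snd (Spec.map (CommRingCat.ofHom (algebraMap R A)))
        (Spec.map (CommRingCat.ofHom (algebraMap R R')))) z ↔
      Loc (Spec.map (CommRingCat.ofHom (algebraMap R A)))
        (pullback.fst (Spec.map (CommRingCat.ofHom (algebraMap R A)))
          (Spec.map (CommRingCat.ofHom (algebraMap R R'))) z) := by
  letI : Algebra R' (A ⊗[R] R') := Algebra.TensorProduct.rightAlgebra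
  haveI : Algebra.IsPushout R R' A (A ⊗[R] R') := Algebra.IsPushout.symm inferInstance
  haveI : Algebra.FiniteType R' (A ⊗[R] R') := by
    have h := RingHom.finiteType_isStableUnderBaseChange
    exact RingHom.finiteType_algebraMap.mp
      (h R A R' (A ⊗[R] R') (RingHom.finiteType_algebraMap.mpr inferInstance))
  let e := pullbackSpecIso R A R'
  obtain ⟨w, rfl⟩ : ∃ w, e.inv w = z := ⟨e.hom z, by rw [← Scheme.Hom.comp_apply, e.hom_inv_id]; rfl⟩
  have h2 : e.inv ≫ pullback.snd _ _ = Spec.map (CommRingCat.ofHom (algebraMap R' (A ⊗[R] R'))) :=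
    pullbackSpecIso_inv_snd R A R'
  have h1 : e.inv ≫ pullback.fst _ _ = Spec.map (CommRingCat.ofHom (algebraMap A (A ⊗[R] R'))) :=
    pullbackSpecIso_inv_fst' R A R'
  rw [← loc_comp_left e.inv, h2, ← Scheme.Hom.comp_apply, h1]
  rw [loc_Spec_iff R' (A ⊗[R] R') w]
  refine Iff.trans ?_ (loc_Spec_iff R A (PrimeSpectrum.comap (algebraMap A (A ⊗[R] R')) w)).symm
  rw [Algebra.unramifiedLocus_eq_compl_support, Algebra.unramifiedLocus_eq_compl_support,
    Set.mem_compl_iff, Set.mem_compl_iff, ← support_baseChange_iff Ω[A⁄R] w,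
    LinearEquiv.support_eq (KaehlerDifferential.tensorKaehlerEquiv R R' A (A ⊗[R] R'))]

theorem loc_pullback_of_chart {X S S' : Scheme.{u}} (f : X ⟶ S) [LocallyOfFiniteType f] (g : S' ⟶ S)
    {R A R' : CommRingCat.{u}} (jS : Spec R ⟶ S) [IsOpenImmersion jS] (jX : Spec A ⟶ X) [IsOpenImmersion jX]
    (jS' : Spec R' ⟶ S') [IsOpenImmersion jS'] (φ : R ⟶ A) (ψ : R ⟶ R')
    (hf : Spec.map φ ≫ jS = jX ≫ f) (hg : Spec.map ψ ≫ jS = jS' ≫ g)
    (x' : ↑(pullback f g)) (hxX : pullback.fst f g x' ∈ Set.range jX)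
    (hxS' : pullback.snd f g x' ∈ Set.range jS') :
    Loc (pullback.snd f g) x' ↔ Loc f (pullback.fst f g x') := by
  algebraize [φ.hom, ψ.hom]
  haveI : LocallyOfFiniteType (Spec.map φ) := by
    haveI : LocallyOfFiniteType (Spec.map φ ≫ jS) := by rw [hf]; infer_instance
    exact locallyOfFiniteType_of_comp _ jS
  haveI : Algebra.FiniteType R A := (HasRingHomProperty.Spec_iff (P := @LocallyOfFiniteType)).mp ‹_›
  let m := pullback.map (Spec.map φ) (Spec.map ψ) f g jX jS' jS hf hg
  have hm1 : m ≫ pullback.fst f g = pullback.fst _ _ ≫ jX := pullback.lift_fst _ _ _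
  have hm2 : m ≫ pullback.snd f g = pullback.snd _ _ ≫ jS' := pullback.lift_snd _ _ _
  obtain ⟨z, rfl⟩ : x' ∈ Set.range m := by
    rw [Scheme.Pullback.range_map]
    exact ⟨hxX, hxS'⟩
  rw [← loc_comp_left m, hm2, loc_comp_right, ← Scheme.Hom.comp_apply m, hm1, Scheme.Hom.comp_apply,
    ← loc_comp_left jX f, ← hf, loc_comp_right]
  exact loc_pullback_Spec R A R' z

theorem loc_pullback {X S S' : Scheme.{u}} (f : X ⟶ S) [LocallyOfFiniteType f] (g : S' ⟶ S)
    (x' : ↑(pullback f g)) : Loc (pullback.snd f g) x' ↔ Loc f (pullback.fst f g x') := by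
  obtain ⟨V, hV, hsV, -⟩ := exists_isAffineOpen_mem_and_subset (x := f (pullback.fst f g x')) (U := ⊤) trivial
  obtain ⟨W, hW, hxW, hWV⟩ := exists_isAffineOpen_mem_and_subset (x := pullback.fst f g x')
    (U := f ⁻¹ᵁ V) hsV
  obtain ⟨W', hW', hxW', hWV'⟩ := exists_isAffineOpen_mem_and_subset (x := pullback.snd f g x')
    (U := g ⁻¹ᵁ V) (show g (pullback.snd f g x') ∈ V by
      rw [← Scheme.Hom.comp_apply, ← pullback.condition]; exact hsV)
  refine loc_pullback_of_chart f g hV.fromSpec hW.fromSpec hW'.fromSpec (f.appLE V W hWV) (g.appLE V W' hWV')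
    (IsAffineOpen.SpecMap_appLE_fromSpec f hV hW hWV) (IsAffineOpen.SpecMap_appLE_fromSpec g hV hW' hWV')
    x' ?_ ?_
  · rw [hW.range_fromSpec]; exact hxW
  · rw [hW'.range_fromSpec]; exact hxW'

end Groth.Agent.MorLib.UnrLocus
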