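import Groth.Agent.MorLib.BaseChangeLim

/-! Descent of properties of morphisms along limits with affine transition maps. -/

set_option autoImplicit false
universe u

namespace Groth.Agent.MorLib.Desc

open AlgebraicGeometry CategoryTheory Limits TopologicalSpace Opposite

/-- `P` descends over affine bases for morphisms satisfying `Q`. -/
def Core (P Q : MorphismProperty Scheme.{u}) : Prop :=
  ∀ (I : Type u) [SmallCategory I] [IsCofiltered I] (D : I ⥤ Scheme.{u}) (c : Cone D),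
    IsLimit c → (∀ (i j : I) (f : i ⟶ j), IsAffineHom (D.map f)) →
    ∀ (i : I), IsAffine (D.obj i) → ∀ {X₀ : Scheme.{u}} (f₀ : X₀ ⟶ D.obj i),
      CompactSpace X₀ → QuasiSeparatedSpace X₀ → Q f₀ → P (pullback.snd f₀ (c.π.app i)) →
      ∃ (j : I) (φ : j ⟶ i), P (pullback.snd f₀ (D.map φ))

theorem of_factor (P : MorphismProperty Scheme.{u}) [P.IsStableUnderBaseChange]
    {X₀ S U V : Scheme.{u}} {f₀ : X₀ ⟶ S} {g : U ⟶ S} (H : P (pullback.snd f₀ g))
    {a : V ⟶ U} {g' : V ⟶ S} (hg : a ≫ g = g') {Z : Scheme.{u}} {fst : Z ⟶ X₀} {snd : Z ⟶ V}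
    (hc : IsPullback fst snd f₀ g') : P snd := by
  let l : Z ⟶ pullback f₀ g := pullback.lift fst (snd ≫ a) (by rw [Category.assoc, hg, hc.w])
  have : IsPullback l snd (pullback.snd f₀ g) a := by
    refine IsPullback.of_right ?_ (pullback.lift_snd _ _ _) (IsPullback.of_hasPullback f₀ g)
    rw [pullback.lift_fst, hg]
    exact hc
  exact MorphismProperty.of_isPullback this H

theorem of_two (P : MorphismProperty Scheme.{u}) [P.RespectsIso] {X₀ S V Z Z' : Scheme.{u}}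
    {f₀ : X₀ ⟶ S} {g : V ⟶ S} {fst : Z ⟶ X₀} {snd : Z ⟶ V} {fst' : Z' ⟶ X₀} {snd' : Z' ⟶ V}
    (hc : IsPullback fst snd f₀ g) (hc' : IsPullback fst' snd' f₀ g) (h : P snd) : P snd' := by
  have e := hc'.isoIsPullback_hom_snd _ _ hc
  rw [← e]
  exact (P.cancel_left_of_respectsIso _ _).mpr h

section

variable {I : Type u} [SmallCategory I] [IsCofiltered I] (D : I ⥤ Scheme.{u}) (c : Cone D)
  (hc : IsLimit c) [∀ {i j : I} (f : i ⟶ j), IsAffineHom (D.map f)] (i : I)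
  [CompactSpace (D.obj i)]
include hc

set_option backward.isDefEq.respectTransparency.types false in
/-- Descent over a qcqs base from descent over affine bases. -/
theorem descend {P Q : MorphismProperty Scheme.{u}} [P.IsStableUnderBaseChange]
    [IsZariskiLocalAtTarget P] [Q.IsStableUnderBaseChange] (hcore : Core P Q)
    {X₀ : Scheme.{u}} (f₀ : X₀ ⟶ D.obj i) [QuasiCompact f₀] [QuasiSeparated f₀] (hQ : Q f₀)
    (h : P (pullback.snd f₀ (c.π.app i))) :
    ∃ (j : I) (φ : j ⟶ i), P (pullback.snd f₀ (D.map φ)) := by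
  classical
  have hloc : ∀ V : (D.obj i).affineOpens, ∃ (j : I) (φ : j ⟶ i),
      P (pullback.snd f₀ ((D.map φ ⁻¹ᵁ V.1).ι ≫ D.map φ)) := by
    intro V
    let T : Over i := Over.mk (𝟙 i)
    let e : (opensDiagram D i V.1).obj T ⟶ D.obj i := (D.map (𝟙 i) ⁻¹ᵁ V.1).ι ≫ D.map (𝟙 i)
    haveI : IsIso (D.map (𝟙 i)) := by rw [D.map_id]; infer_instance
    haveI : IsAffine ((opensDiagram D i V.1).obj T) := V.2.preimage (D.map (𝟙 i))
    haveI : IsOpenImmersion e :=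
      inferInstanceAs (IsOpenImmersion ((D.map (𝟙 i) ⁻¹ᵁ V.1).ι ≫ D.map (𝟙 i)))
    haveI : QuasiSeparated (pullback.snd f₀ e) := MorphismProperty.pullback_snd _ _ inferInstance
    haveI : QuasiCompact (pullback.snd f₀ e) := MorphismProperty.pullback_snd _ _ inferInstance
    haveI : CompactSpace ↥(pullback f₀ e) :=
      QuasiCompact.compactSpace_of_compactSpace (pullback.snd f₀ e)
    haveI : QuasiSeparatedSpace ↥(pullback f₀ e) :=
      quasiSeparatedSpace_of_quasiSeparated (pullback.snd f₀ e)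
    have hπ : (opensCone D c i V.1).π.app T ≫ e = (c.π.app i ⁻¹ᵁ V.1).ι ≫ c.π.app i := by
      show (c.π.app i).resLE _ _ _ ≫ (D.map (𝟙 i) ⁻¹ᵁ V.1).ι ≫ D.map (𝟙 i) = _
      rw [Scheme.Hom.resLE_comp_ι_assoc, c.w]
    have h' : P (pullback.snd (pullback.snd f₀ e) ((opensCone D c i V.1).π.app T)) :=
      of_factor P h hπ.symm
        ((IsPullback.of_hasPullback (pullback.snd f₀ e) ((opensCone D c i V.1).π.app T)).paste_horiz
          (IsPullback.of_hasPullback f₀ e))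
    obtain ⟨j, φ, hj⟩ := hcore (Over i) (opensDiagram D i V.1) (opensCone D c i V.1)
      (isLimitOpensCone D c hc i V.1) (fun _ _ _ => inferInstance) T inferInstance
      (pullback.snd f₀ e) inferInstance inferInstance (MorphismProperty.pullback_snd _ _ hQ) h'
    refine ⟨j.left, j.hom, ?_⟩
    have hφ : (D.map j.hom ⁻¹ᵁ V.1).ι ≫ D.map j.hom = (opensDiagram D i V.1).map φ ≫ e := by
      show _ = (D.map φ.left).resLE _ _ _ ≫ (D.map (𝟙 i) ⁻¹ᵁ V.1).ι ≫ D.map (𝟙 i)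
      rw [Scheme.Hom.resLE_comp_ι_assoc, ← D.map_comp, show φ.left ≫ 𝟙 i = j.hom from Over.w φ]
    have hp := (IsPullback.of_hasPullback (pullback.snd f₀ e) ((opensDiagram D i V.1).map φ)).paste_horiz
      (IsPullback.of_hasPullback f₀ e)
    exact of_two P (hφ ▸ hp) (IsPullback.of_hasPullback f₀ _) hj
  have hcov : ∀ p : D.obj i, ∃ V : (D.obj i).affineOpens, p ∈ V.1 := fun p => by
    obtain ⟨V, hV, hp, -⟩ := exists_isAffineOpen_mem_and_subset (x := p) (U := ⊤) trivial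
    exact ⟨⟨V, hV⟩, hp⟩
  choose W hW using hcov
  obtain ⟨F, hF⟩ := isCompact_univ.elim_finite_subcover (fun p => (((W p).1 : (D.obj i).Opens) : Set (D.obj i)))
    (fun p => (W p).1.2) fun p _ => Set.mem_iUnion.mpr ⟨p, hW p⟩
  choose k φ hk using fun p : F => hloc (W p.1)
  obtain ⟨j, ψ, χ, hχ⟩ := IsCofiltered.wideCospan φ
  refine ⟨j, ψ, ?_⟩
  refine IsZariskiLocalAtTarget.of_iSup_eq_top (P := P) (fun p : F => D.map ψ ⁻¹ᵁ (W p.1).1) ?_ fun p => ?_
  · refine top_le_iff.mp fun x _ => ?_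
    obtain ⟨q, hq, hx⟩ := Set.mem_iUnion₂.mp (hF (Set.mem_univ (D.map ψ x)))
    exact Opens.mem_iSup.mpr ⟨⟨q, hq⟩, hx⟩
  · have hle : D.map ψ ⁻¹ᵁ (W p.1).1 ≤ D.map (χ p) ⁻¹ᵁ (D.map (φ p) ⁻¹ᵁ (W p.1).1) := by
      rw [← Scheme.Hom.comp_preimage, ← D.map_comp, hχ p]
    refine of_factor P (hk p) (a := (D.map (χ p)).resLE _ _ hle) (g' := (D.map ψ ⁻¹ᵁ (W p.1).1).ι ≫ D.map ψ)
      ?_ ((isPullback_morphismRestrict (pullback.snd f₀ (D.map ψ)) _).flip.paste_horiz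
        (IsPullback.of_hasPullback f₀ (D.map ψ)))
    rw [Scheme.Hom.resLE_comp_ι_assoc, ← D.map_comp, hχ p]

end

section wrap

variable {I : Type u} [SmallCategory I] [IsCofiltered I] (D : I ⥤ Scheme.{u}) (c : Cone D)
  (hc : IsLimit c) [∀ {i j : I} (f : i ⟶ j), IsAffineHom (D.map f)] {i₀ : I}
include hc

set_option backward.isDefEq.respectTransparency.types false in
/-- Descent in the form used by the statements: a morphism between base changes of two stages. -/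
theorem descend₂ {P Q : MorphismProperty Scheme.{u}} [P.IsStableUnderBaseChange] [P.RespectsIso]
    [IsZariskiLocalAtTarget P] [Q.IsStableUnderBaseChange] [Q.RespectsIso] (hcore : Core P Q)
    {X₀ Y₀ : Scheme.{u}} (f₀ : X₀ ⟶ Y₀) (g₀ : Y₀ ⟶ D.obj i₀) (hQ : Q f₀)
    [QuasiCompact f₀] [QuasiSeparated f₀] [CompactSpace Y₀]
    {X Y : Scheme.{u}} (f : X ⟶ Y) (g : Y ⟶ c.pt) (qY : Y ⟶ Y₀) (qX : X ⟶ X₀)
    (hY : IsPullback qY g g₀ (c.π.app i₀)) (hX : IsPullback qX f f₀ qY) (h : P f) :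
    ∃ (i : I) (φ : i ⟶ i₀) (Xi Yi : Scheme.{u}) (fi : Xi ⟶ Yi) (gi : Yi ⟶ D.obj i) (pY : Yi ⟶ Y₀)
      (pX : Xi ⟶ X₀), IsPullback pY gi g₀ (D.map φ) ∧ IsPullback pX fi f₀ pY ∧ P fi := by
  let T : Over i₀ := Over.mk (𝟙 i₀)
  let u₀ : (BC.diag D g₀).obj T ⟶ Y₀ := pullback.fst g₀ (D.map (𝟙 i₀))
  haveI : IsIso (D.map (𝟙 i₀)) := by rw [D.map_id]; infer_instance
  haveI : IsIso u₀ := inferInstanceAs (IsIso (pullback.fst g₀ (D.map (𝟙 i₀))))
  let f₀' : X₀ ⟶ (BC.diag D g₀).obj T := f₀ ≫ inv u₀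
  have hu : IsPullback (𝟙 X₀) f₀' f₀ u₀ := IsPullback.of_horiz_isIso ⟨by simp [f₀']⟩
  have hπ : (BC.cone D g₀ hY).π.app T ≫ u₀ = qY := BC.proj_fst D g₀ hY T
  have h' : P (pullback.snd f₀' ((BC.cone D g₀ hY).π.app T)) := by
    have hp := (IsPullback.of_hasPullback f₀' ((BC.cone D g₀ hY).π.app T)).paste_horiz hu
    rw [hπ] at hp
    exact of_two P hX hp h
  have hQ' : Q f₀' := (Q.cancel_right_of_respectsIso f₀ (inv u₀)).mpr hQ
  haveI : CompactSpace ((BC.diag D g₀).obj T) := BC.compactSpace_obj D g₀ T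
  haveI : QuasiCompact f₀' := inferInstanceAs (QuasiCompact (f₀ ≫ inv u₀))
  haveI : QuasiSeparated f₀' := inferInstanceAs (QuasiSeparated (f₀ ≫ inv u₀))
  haveI : ∀ {j k : Over i₀} (f : j ⟶ k), IsAffineHom ((BC.diag D g₀).map f) := fun f =>
    BC.isAffineHom_map D g₀ f
  obtain ⟨j, φ, hj⟩ := descend (BC.diag D g₀) (BC.cone D g₀ hY) (BC.isLimitCone D g₀ hY hc) T
    hcore f₀' hQ' h'
  refine ⟨j.left, j.hom, pullback f₀' ((BC.diag D g₀).map φ), pullback g₀ (D.map j.hom),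
    pullback.snd f₀' _, pullback.snd g₀ _, pullback.fst g₀ _, pullback.fst f₀' _,
    IsPullback.of_hasPullback _ _, ?_, hj⟩
  have hp := (IsPullback.of_hasPullback f₀' ((BC.diag D g₀).map φ)).paste_horiz hu
  rw [show (BC.diag D g₀).map φ ≫ u₀ = pullback.fst g₀ (D.map j.hom) from BC.map_fst D g₀ φ,
    Category.comp_id] at hp
  exact hp

omit hc [IsCofiltered I] [∀ {i j : I} (f : i ⟶ j), IsAffineHom (D.map f)] in
/-- A property of a base change at a stage passes to the limit. -/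
theorem ascend₂ {P : MorphismProperty Scheme.{u}} [P.IsStableUnderBaseChange] [P.RespectsIso]
    {X₀ Y₀ : Scheme.{u}} {f₀ : X₀ ⟶ Y₀} {g₀ : Y₀ ⟶ D.obj i₀}
    {X Y : Scheme.{u}} {f : X ⟶ Y} {g : Y ⟶ c.pt} {qY : Y ⟶ Y₀} {qX : X ⟶ X₀}
    (hY : IsPullback qY g g₀ (c.π.app i₀)) (hX : IsPullback qX f f₀ qY) {j : I} {φ : j ⟶ i₀}
    {Xj Yj : Scheme.{u}} {fj : Xj ⟶ Yj} {gj : Yj ⟶ D.obj j} {pY : Yj ⟶ Y₀} {pX : Xj ⟶ X₀}
    (hYj : IsPullback pY gj g₀ (D.map φ)) (hXj : IsPullback pX fj f₀ pY) (h : P fj) : P f :=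
  of_factor P (of_two P hXj (IsPullback.of_hasPullback _ _) h)
    (a := hYj.lift qY (g ≫ c.π.app j) (by rw [Category.assoc, c.w]; exact hY.w))
    (hYj.lift_fst _ _ _) hX

end wrap

theorem core_affine : Core @IsAffineHom (⊤ : MorphismProperty Scheme.{u}) := by
  intro I _ _ D c hc hD i hi X₀ f₀ _ _ _ h
  haveI : ∀ {i j : I} (f : i ⟶ j), IsAffineHom (D.map f) := fun {i j} f => hD i j f
  haveI : IsAffineHom (c.π.app i) := isAffineHom_π_app D c hc i
  haveI : IsAffine c.pt := isAffine_of_isAffineHom (c.π.app i)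
  haveI : IsAffine (((Functor.const I).obj c.pt).obj i) := ‹IsAffine c.pt›
  have hX := IsPullback.of_hasPullback f₀ (c.π.app i)
  haveI h1 : IsAffineHom (pullback.snd f₀ (c.π.app i)) := h
  haveI : IsAffine (BC.cone D f₀ hX).pt := @isAffine_of_isAffineHom _ _ (pullback.snd f₀ (c.π.app i)) h1 _
  obtain ⟨j, hj⟩ := Scheme.exists_isAffine_of_isLimit (BC.diag D f₀) (BC.cone D f₀ hX)
    (BC.isLimitCone D f₀ hX hc)
  refine ⟨j.left, j.hom, ?_⟩
  haveI : IsAffine (pullback f₀ (D.map j.hom)) := hj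
  haveI : IsAffine (D.obj j.left) := isAffine_of_isAffineHom (D.map j.hom)
  exact isAffineHom_of_isAffine _

end Groth.Agent.MorLib.Desc
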