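import Groth.Agent.MorLib.WeightBaseChange
import Mathlib.RingTheory.RamificationInertia.Basic
import Mathlib.RingTheory.LocalRing.Length
import Mathlib.AlgebraicGeometry.Morphisms.FormallyUnramified
import Mathlib.FieldTheory.PurelyInseparable.Tower

/-! The length times inseparable degree weighting of a flat quasi-finite morphism. -/

set_option autoImplicit false
universe u

namespace Groth.Agent.MorLib.WT

open AlgebraicGeometry CategoryTheory Limits

variable {T V Z : Scheme.{u}}

/-- The ideal of the fibre in the local ring. -/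
noncomputable abbrev fibreIdeal (π : T ⟶ V) (t : T) : Ideal (T.presheaf.stalk t) :=
  Ideal.map (π.stalkMap t).hom (IsLocalRing.maximalIdeal (V.presheaf.stalk (π t)))

/-- The inseparable degree of a field homomorphism. -/
noncomputable abbrev insepOf {K L : Type u} [Field K] [Field L] (φ : K →+* L) : ℕ :=
  letI := φ.toAlgebra
  Field.finInsepDegree K L

theorem insepOf_comp {K L M : Type u} [Field K] [Field L] [Field M] (φ : K →+* L) (ψ : L →+* M)
    (h : φ.Finite) : insepOf (ψ.comp φ) = insepOf φ * insepOf ψ := by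
  letI := φ.toAlgebra
  letI := ψ.toAlgebra
  letI := (ψ.comp φ).toAlgebra
  haveI : IsScalarTower K L M := .of_algebraMap_eq fun _ => rfl
  haveI : Module.Finite K L := h
  exact (Field.finInsepDegree_mul_finInsepDegree_of_isAlgebraic ..).symm

/-- The inseparable degree of the residue extension. -/
noncomputable def insep (π : T ⟶ V) (t : T) : ℕ :=
  letI := (π.residueFieldMap t).hom.toAlgebra
  Field.finInsepDegree (V.residueField (π t)) (T.residueField t)

/-- Length of the fibre times inseparable degree. -/
noncomputable def wt (π : T ⟶ V) (t : T) : ℤ :=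
  (Module.length (T.presheaf.stalk t) (T.presheaf.stalk t ⧸ fibreIdeal π t)).toNat * (insep π t : ℤ)

set_option backward.isDefEq.respectTransparency.types false in
theorem fibreIdeal_comp (a : T ⟶ V) (b : V ⟶ Z) (t : T) :
    fibreIdeal (a ≫ b) t = (fibreIdeal b (a t)).map (a.stalkMap t).hom := by
  rw [fibreIdeal, Scheme.Hom.stalkMap_comp]
  exact (Ideal.map_map _ _).symm

theorem map_maximalIdeal_stalkMap (a : T ⟶ V) [FormallyUnramified a] [LocallyOfFiniteType a]
    (t : T) : fibreIdeal a t = IsLocalRing.maximalIdeal (T.presheaf.stalk t) := by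
  have h1 := LocallyOfFiniteType.stalkMap a t
  have h2 := FormallyUnramified.stalkMap (f := a) t
  algebraize [(a.stalkMap t).hom]
  haveI : IsLocalHom (algebraMap (V.presheaf.stalk (a t)) (T.presheaf.stalk t)) :=
    inferInstanceAs <| IsLocalHom (a.stalkMap t).hom
  exact Algebra.FormallyUnramified.map_maximalIdeal

set_option backward.isDefEq.respectTransparency.types false in
theorem insep_comp (a : T ⟶ V) (b : V ⟶ Z) [LocallyQuasiFinite b] (t : T) :
    insep (a ≫ b) t = insep b (a t) * insep a t := by
  show insepOf ((a ≫ b).residueFieldMap t).hom =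
    insepOf (b.residueFieldMap (a t)).hom * insepOf (a.residueFieldMap t).hom
  rw [Scheme.residueFieldMap_comp]
  exact insepOf_comp _ _ (GF.finite_residueFieldMap b (a t))

theorem insep_eq_one (a : T ⟶ V) [FormallyUnramified a] [LocallyOfFiniteType a] (t : T) :
    insep a t = 1 :=
  letI := (a.residueFieldMap t).hom.toAlgebra
  haveI : Algebra.IsSeparable (V.residueField (a t)) (T.residueField t) := inferInstance
  Algebra.IsSeparable.finInsepDegree_eq _ _

theorem wt_congr {π π' : T ⟶ V} (h : π = π') (t : T) : wt π t = wt π' t := by subst h; rfl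

theorem wt_comp_right (a : T ⟶ V) (b : V ⟶ Z) [Etale b] [LocallyQuasiFinite b] (t : T) :
    wt (a ≫ b) t = wt a t := by
  simp only [wt]
  rw [fibreIdeal_comp, map_maximalIdeal_stalkMap, insep_comp, insep_eq_one b, one_mul]

theorem wt_comp_left (a : T ⟶ V) (b : V ⟶ Z) [Etale a] [LocallyQuasiFinite b] (t : T) :
    wt (a ≫ b) t = wt b (a t) := by
  simp only [wt]
  rw [fibreIdeal_comp, insep_comp, insep_eq_one a, mul_one]
  congr 3
  have hflat : (a.stalkMap t).hom.Flat := Flat.stalkMap a t
  have hm := map_maximalIdeal_stalkMap a t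
  rw [fibreIdeal] at hm
  algebraize [(a.stalkMap t).hom]
  haveI : IsLocalHom (algebraMap (V.presheaf.stalk (a t)) (T.presheaf.stalk t)) :=
    inferInstanceAs <| IsLocalHom (a.stalkMap t).hom
  have key := IsLocalRing.length_baseChange (V.presheaf.stalk (a t)) (T.presheaf.stalk t)
    (V.presheaf.stalk (a t) ⧸ fibreIdeal b (a t))
  rw [← (Algebra.TensorProduct.quotIdealMapEquivTensorQuot (T.presheaf.stalk t)
    (fibreIdeal b (a t))).toLinearEquiv.length_eq] at key
  have h1 : Module.length (T.presheaf.stalk t) (T.presheaf.stalk t ⧸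
      (IsLocalRing.maximalIdeal (V.presheaf.stalk (a t))).map
        (algebraMap (V.presheaf.stalk (a t)) (T.presheaf.stalk t))) = 1 := by
    rw [RingHom.algebraMap_toAlgebra, hm, Module.length_eq_one_iff, isSimpleModule_iff_isCoatom,
      ← Ideal.isMaximal_def]
    exact IsLocalRing.maximalIdeal.isMaximal _
  rwa [h1, mul_one] at key

theorem wt_baseChange {T' V' : Scheme.{u}} {π : T ⟶ V} {π' : T' ⟶ V'} {k : T' ⟶ T} {g : V' ⟶ V}
    (hc : IsPullback k π' π g) [Etale g] [LocallyQuasiFinite g] [LocallyQuasiFinite π] (t : T') :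
    wt π' t = wt π (k t) := by
  haveI : Etale k := MorphismProperty.of_isPullback hc.flip inferInstance
  rw [← wt_comp_right π' g, ← wt_comp_left k π, wt_congr hc.w]

theorem wt_pos (π : T ⟶ V) [LocallyQuasiFinite π] (t : T) : 0 < wt π t := by
  letI := (π.residueFieldMap t).hom.toAlgebra
  haveI : Module.Finite (V.residueField (π t)) (T.residueField t) := GF.finite_residueFieldMap π t
  refine mul_pos ?_ (Int.natCast_pos.mpr (Nat.pos_of_ne_zero ?_))
  swap
  · intro h
    exact (Module.finrank_pos (R := V.residueField (π t)) (M := T.residueField t)).ne'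
      (by rw [← Field.finSepDegree_mul_finInsepDegree, show Field.finInsepDegree (V.residueField (π t))
        (T.residueField t) = 0 from h, mul_zero])
  have hJ : fibreIdeal π t ≠ ⊤ := (((IsLocalRing.local_hom_TFAE (π.stalkMap t).hom).out 0 2 rfl rfl).mp
    inferInstance).trans_lt (lt_top_iff_ne_top.mpr (IsLocalRing.maximalIdeal.isMaximal _).ne_top) |>.ne
  haveI : Nontrivial (T.presheaf.stalk t ⧸ fibreIdeal π t) := Ideal.Quotient.nontrivial_iff.mpr hJ
  let A := T.presheaf.stalk t ⧸ fibreIdeal π t
  let R := V.presheaf.stalk (π t)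
  have hq : ((Ideal.Quotient.mk (fibreIdeal π t)).comp (π.stalkMap t).hom).QuasiFinite :=
    (RingHom.QuasiFinite.of_finite (RingHom.Finite.of_surjective _ Ideal.Quotient.mk_surjective)).comp
      (π.quasiFiniteAt t)
  letI : Algebra (IsLocalRing.ResidueField R) A :=
    (Ideal.Quotient.lift _ ((Ideal.Quotient.mk (fibreIdeal π t)).comp (π.stalkMap t).hom) fun a ha =>
      Ideal.Quotient.eq_zero_iff_mem.mpr (Ideal.mem_map_of_mem _ ha)).toAlgebra
  have hq' : (algebraMap (IsLocalRing.ResidueField R) A).QuasiFinite := by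
    exact RingHom.QuasiFinite.of_comp (f := algebraMap (IsLocalRing.ResidueField R) A)
      (g := IsLocalRing.residue R) hq
  haveI : Algebra.QuasiFinite (IsLocalRing.ResidueField R) A := RingHom.quasiFinite_algebraMap.mp hq'
  haveI : Module.Finite (IsLocalRing.ResidueField R) A := Module.Finite.of_quasiFinite
  haveI : IsArtinianRing A := IsArtinianRing.of_finite (IsLocalRing.ResidueField R) A
  haveI : IsNoetherianRing A := inferInstance
  have h1 : Module.length (T.presheaf.stalk t) A = Module.length A A :=
    Module.length_eq_of_surjective Ideal.Quotient.mk_surjective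
  rw [Int.natCast_pos, show Module.length (T.presheaf.stalk t) (T.presheaf.stalk t ⧸ fibreIdeal π t) =
    Module.length A A from h1]
  refine Nat.pos_of_ne_zero fun h => ?_
  rcases ENat.toNat_eq_zero.mp h with h | h
  · exact Module.length_pos.ne' h
  · exact Module.length_ne_top h

theorem length_quotient_map {A B : Type u} [CommRing A] [CommRing B] (e : A ≃+* B) (I : Ideal A) :
    Module.length A (A ⧸ I) = Module.length B (B ⧸ I.map e.toRingHom) := by
  letI := e.toRingHom.toAlgebra
  let φ : (A ⧸ I) ≃ₗ[A] B ⧸ I.map e.toRingHom :=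
    { Ideal.quotientEquiv _ _ e rfl with
      map_smul' := fun a x => by
        obtain ⟨x, rfl⟩ := Ideal.Quotient.mk_surjective x
        show Ideal.quotientEquiv I _ e rfl (Ideal.Quotient.mk I (a * x)) =
          Ideal.Quotient.mk _ (e a) * Ideal.quotientEquiv I _ e rfl (Ideal.Quotient.mk I x)
        simp }
  rw [φ.length_eq]
  exact Module.length_eq_of_surjective e.surjective

/-- The sum of the weights with separable degrees is the length times degree. -/
theorem wt_mul_sep (π : T ⟶ V) [LocallyQuasiFinite π] (t : T) :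
    wt π t * (letI := (π.residueFieldMap t).hom.toAlgebra
      (Field.finSepDegree (V.residueField (π t)) (T.residueField t) : ℤ)) =
    (Module.length (T.presheaf.stalk t) (T.presheaf.stalk t ⧸ fibreIdeal π t)).toNat *
      (letI := (π.residueFieldMap t).hom.toAlgebra
       (Module.finrank (V.residueField (π t)) (T.residueField t) : ℤ)) := by
  letI := (π.residueFieldMap t).hom.toAlgebra
  rw [wt, mul_assoc]
  congr 1
  rw [← Nat.cast_mul, mul_comm, ← Field.finSepDegree_mul_finInsepDegree]
  rfl

set_option backward.isDefEq.respectTransparency.types false in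
theorem fibreIdeal_SpecMap {R S : CommRingCat.{u}} (φ : R ⟶ S) (q : PrimeSpectrum S) :
    (fibreIdeal (Spec.map φ) q).map (Spec.stalkIso S q).commRingCatIsoToRingEquiv.toRingHom =
      (q.comap φ.hom).asIdeal.map
        ((algebraMap S (Localization.AtPrime q.asIdeal)).comp φ.hom) := by
  have h : ((Spec.map φ).stalkMap q ≫ (Spec.stalkIso S q).hom).hom =
      ((Spec.stalkIso R (q.comap φ.hom)).hom ≫ CommRingCat.ofHom
        (Localization.localRingHom (q.comap φ.hom).asIdeal q.asIdeal φ.hom rfl)).hom :=
    congrArg CommRingCat.Hom.hom (Scheme.arrowStalkMapSpecIso φ q).hom.w.symm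
  rw [fibreIdeal, Ideal.map_map]
  show Ideal.map ((Spec.map φ).stalkMap q ≫ (Spec.stalkIso S q).hom).hom _ = _
  rw [h, CommRingCat.hom_comp, ← Ideal.map_map]
  have : (IsLocalRing.maximalIdeal ((Spec R).presheaf.stalk (q.comap φ.hom))).map
      (Spec.stalkIso R (q.comap φ.hom)).hom.hom =
      (q.comap φ.hom).asIdeal.map (algebraMap R (Localization.AtPrime (q.comap φ.hom).asIdeal)) := by
    rw [Localization.AtPrime.map_eq_maximalIdeal]
    exact IsLocalRing.map_ringEquiv_maximalIdeal (Spec.stalkIso R _).commRingCatIsoToRingEquiv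
  refine (Ideal.map_map _ _).symm.trans ((congrArg (Ideal.map
    (Localization.localRingHom (q.comap φ.hom).asIdeal q.asIdeal φ.hom rfl)) this).trans ?_)
  rw [Ideal.map_map]
  rw [Ideal.map_map]
  congr 1
  ext r
  exact Localization.localRingHom_to_map _ _ _ rfl r

set_option backward.isDefEq.respectTransparency.types false in
theorem residueFieldMap_SpecMap {R S : CommRingCat.{u}} (φ : R ⟶ S) (q : PrimeSpectrum S) :
    (Spec.map φ).residueFieldMap q ≫ (Scheme.Spec.residueFieldIso S q).hom =
      (Scheme.Spec.residueFieldIso R (q.comap φ.hom)).hom ≫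
        CommRingCat.ofHom (Ideal.ResidueField.map (q.comap φ.hom).asIdeal q.asIdeal φ.hom rfl) := by
  refine (cancel_epi (Scheme.Spec.residueFieldIso R (q.comap φ.hom)).inv).mp ?_
  refine Eq.trans ?_ (Iso.inv_hom_id_assoc _ _).symm
  refine CommRingCat.hom_ext (Ideal.ResidueField.ringHom_ext ?_)
  have : CommRingCat.ofHom (algebraMap R (q.comap φ.hom).asIdeal.ResidueField) ≫
      (Scheme.Spec.residueFieldIso R (q.comap φ.hom)).inv ≫ (Spec.map φ).residueFieldMap q =
      φ ≫ CommRingCat.ofHom (algebraMap S q.asIdeal.ResidueField) ≫ (Scheme.Spec.residueFieldIso S q).inv := by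
    rw [← Spec.map_inj]
    simp only [Spec.map_comp, Category.assoc]
    rw [Scheme.Spec.map_residueFieldIso_inv_eq_fromSpecResidueField,
      Scheme.Spec.map_residueFieldIso_inv_eq_fromSpecResidueField_assoc]
    exact (Spec.map φ).SpecMap_residueFieldMap_fromSpecResidueField q
  ext r
  have h2 := congr((Scheme.Spec.residueFieldIso S q).hom ($this r))
  simp only [CommRingCat.hom_comp, RingHom.comp_apply, CommRingCat.hom_ofHom] at h2 ⊢
  simp only [Iso.inv_hom_id_apply] at h2
  refine h2.trans ?_
  show _ = IsLocalRing.residue _ (Localization.localRingHom (q.comap φ.hom).asIdeal q.asIdeal φ.hom rfl (algebraMap R _ r))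
  rw [Localization.localRingHom_to_map]
  rfl

set_option backward.isDefEq.respectTransparency.types false in
theorem fibreIntegral_wt_Spec (R S : Type u) [CommRing R] [CommRing S] [Algebra R S]
    [Module.Finite R S] [Module.Flat R S] (p : PrimeSpectrum R) :
    MoreMor.fibreIntegral (Spec.map (CommRingCat.ofHom (algebraMap R S)))
        (wt (Spec.map (CommRingCat.ofHom (algebraMap R S)))) p =
      (Scheme.Hom.finrank (Spec.map (CommRingCat.ofHom (algebraMap R S))) p : ℤ) := by
  classical
  let φ : CommRingCat.of R ⟶ CommRingCat.of S := CommRingCat.ofHom (algebraMap R S)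
  haveI : IsFinite (Spec.map φ) := (IsFinite.SpecMap_iff φ).mpr (RingHom.finite_algebraMap.mpr ‹_›)
  haveI : Finite (p.asIdeal.primesOver S) := (Algebra.QuasiFinite.finite_primesOver p.asIdeal).to_subtype
  let := Fintype.ofFinite (p.asIdeal.primesOver S)
  rw [Scheme.Hom.finrank_SpecMap_algebraMap, Module.rankAtStalk_eq,
    ← Ideal.sum_ramification_inertia_eq_finrank_fiber, Nat.cast_sum, MoreMor.fibreIntegral]
  rw [← finsum_eq_sum_of_fintype]
  symm
  refine finsum_eq_of_bijective
    (fun q => ⟨⟨q.1, q.2.1⟩, PrimeSpectrum.ext q.2.2.over.symm⟩)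
    ⟨fun q q' h => Subtype.ext (congrArg (fun u => u.1.asIdeal) h), fun u =>
      ⟨⟨u.1.asIdeal, u.1.isPrime, ⟨(congrArg PrimeSpectrum.asIdeal u.2).symm⟩⟩, rfl⟩⟩ fun q => ?_
  obtain ⟨q, hq, hqp⟩ := q
  haveI := hq
  haveI := hqp
  let u : PrimeSpectrum S := ⟨q, hq⟩
  show ((q.ramificationIdx R * q.inertiaDeg R : ℕ) : ℤ) = wt (Spec.map φ) u * _
  rw [wt_mul_sep, Nat.cast_mul]
  congr 1
  · rw [Ideal.ramificationIdx_eq p.asIdeal q, length_quotient_map
      (Spec.stalkIso (CommRingCat.of S) u).commRingCatIsoToRingEquiv, fibreIdeal_SpecMap φ u]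
    have : (u.comap φ.hom).asIdeal = p.asIdeal := hqp.over.symm
    rw [this, IsScalarTower.algebraMap_eq R S (Localization.AtPrime q)]
    rfl
  · haveI : (u.comap φ.hom).asIdeal = p.asIdeal := hqp.over.symm
    haveI hlo : q.LiesOver (u.comap φ.hom).asIdeal := ⟨rfl⟩
    letI := Localization.AtPrime.algebraOfLiesOver (u.comap φ.hom).asIdeal q
    rw [Ideal.inertiaDeg_eq (u.comap φ.hom).asIdeal q]
    letI : Algebra ((Spec (CommRingCat.of R)).residueField (u.comap φ.hom))
        ((Spec (CommRingCat.of S)).residueField u) := ((Spec.map φ).residueFieldMap u).hom.toAlgebra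
    congr 1
    refine (Algebra.finrank_eq_of_equiv_equiv
      (Scheme.Spec.residueFieldIso (CommRingCat.of R) (u.comap φ.hom)).commRingCatIsoToRingEquiv
      (Scheme.Spec.residueFieldIso (CommRingCat.of S) u).commRingCatIsoToRingEquiv ?_).symm
    have h := congr(($(residueFieldMap_SpecMap φ u)).hom)
    simp only [CommRingCat.hom_comp, CommRingCat.hom_ofHom] at h
    refine Eq.trans ?_ h.symm
    congr 1

set_option backward.isDefEq.respectTransparency.types false in
theorem fibreIntegral_wt_Spec' {R S : CommRingCat.{u}} (φ : R ⟶ S) (hf : φ.hom.Finite)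
    (hflat : φ.hom.Flat) (p : PrimeSpectrum R) :
    MoreMor.fibreIntegral (Spec.map φ) (wt (Spec.map φ)) p = ((Spec.map φ).finrank p : ℤ) := by
  letI := φ.hom.toAlgebra
  haveI : Module.Finite R S := hf
  haveI : Module.Flat R S := hflat
  exact fibreIntegral_wt_Spec R S p

set_option backward.isDefEq.respectTransparency.types false in
theorem fibreIntegral_wt_affine {R : CommRingCat.{u}} (π : T ⟶ Spec R) [IsAffine T] [IsFinite π]
    [Flat π] (p : PrimeSpectrum R) :
    MoreMor.fibreIntegral π (wt π) p = (π.finrank p : ℤ) := by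
  obtain ⟨φ, hφ⟩ := Spec.map_surjective (T.isoSpec.inv ≫ π)
  haveI h1 : IsFinite (Spec.map φ) := by rw [hφ]; infer_instance
  haveI h2 : Flat (Spec.map φ) := by rw [hφ]; infer_instance
  have hc : IsPullback T.isoSpec.hom π (Spec.map φ) (𝟙 (Spec R)) :=
    IsPullback.of_horiz_isIso ⟨by rw [hφ, Iso.hom_inv_id_assoc, Category.comp_id]⟩
  rw [show wt π = wt (Spec.map φ) ∘ ⇑T.isoSpec.hom from funext fun t => wt_baseChange hc t,
    GF.fibreIntegral_baseChange hc _ p (Scheme.Hom.finite_preimage_singleton _ _),
    Scheme.Hom.finrank_of_isPullback T.isoSpec.hom π (Spec.map φ) (𝟙 _) hc p]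
  exact fibreIntegral_wt_Spec' φ ((IsFinite.SpecMap_iff φ).mp h1) (Flat.SpecMap_iff.mp h2) p

set_option backward.isDefEq.respectTransparency.types false in
/-- For a finite flat morphism the fibre integral of the canonical weight is the rank. -/
theorem fibreIntegral_wt_eq_finrank (π : T ⟶ V) [IsFinite π] [Flat π] (v : V) :
    MoreMor.fibreIntegral π (wt π) v = (π.finrank v : ℤ) := by
  obtain ⟨O, hO, hvO, -⟩ :=
    exists_isAffineOpen_mem_and_subset (x := v) (U := (⊤ : V.Opens)) trivial
  obtain ⟨p, rfl⟩ : ∃ p, hO.fromSpec p = v := by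
    have : v ∈ Set.range hO.fromSpec := by rw [hO.range_fromSpec]; exact hvO
    exact this
  have hc : IsPullback (pullback.fst π hO.fromSpec) (pullback.snd π hO.fromSpec) π hO.fromSpec :=
    IsPullback.of_hasPullback _ _
  haveI : IsAffine (pullback π hO.fromSpec) := isAffine_of_isAffineHom (pullback.snd π hO.fromSpec)
  rw [← GF.fibreIntegral_baseChange hc (wt π) p (Scheme.Hom.finite_preimage_singleton _ _),
    ← Scheme.Hom.finrank_of_isPullback (pullback.fst π hO.fromSpec) (pullback.snd π hO.fromSpec) π
      hO.fromSpec hc p, ← fibreIntegral_wt_affine (pullback.snd π hO.fromSpec) p,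
    show wt π ∘ ⇑(pullback.fst π hO.fromSpec) = wt (pullback.snd π hO.fromSpec) from
      funext fun t => (wt_baseChange hc t).symm]

set_option backward.isDefEq.respectTransparency.types false in
theorem locallyQuasiFinite_of_etale (g : T ⟶ V) [Etale g] : LocallyQuasiFinite g := by
  rw [HasRingHomProperty.iff_appLE (P := @LocallyQuasiFinite)]
  intro U W e
  have h1 := HasRingHomProperty.appLE @FormallyUnramified g inferInstance U W e
  have h2 := HasRingHomProperty.appLE @LocallyOfFiniteType g inferInstance U W e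
  algebraize [(g.appLE U.1 W.1 e).hom]
  have : Algebra.QuasiFinite Γ(V, U) Γ(T, W) := inferInstance
  exact this

/-- The canonical weight of a flat quasi-finite morphism is a weighting. -/
theorem isWeighting_wt (f : T ⟶ V) [LocallyQuasiFinite f] [Flat f] [LocallyOfFinitePresentation f] :
    MoreMor.IsWeighting f (wt f) := by
  intro V' g _ U hU
  haveI := locallyQuasiFinite_of_etale g
  have h : (fun u => wt f (pullback.fst f g (U.ι u))) = wt (U.ι ≫ pullback.snd f g) := by
    funext u
    rw [wt_comp_left U.ι (pullback.snd f g), wt_baseChange (IsPullback.of_hasPullback f g)]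
  have hlc := Scheme.Hom.isLocallyConstant_finrank (f := U.ι ≫ pullback.snd f g)
  rw [h]
  convert hlc.comp (fun n : ℕ => (n : ℤ)) using 1
  funext v
  exact fibreIntegral_wt_eq_finrank _ v

end Groth.Agent.MorLib.WT
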