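import Groth.Prelude.Def_MoreMor
import Mathlib.AlgebraicGeometry.Morphisms.QuasiFinite
import Mathlib.AlgebraicGeometry.PullbackCarrier

/-! Fibre integrals as sums over geometric points. -/

set_option autoImplicit false
universe u

namespace Groth.Agent.MorLib.GF

open AlgebraicGeometry CategoryTheory Limits

variable {U V : Scheme.{u}} {Ω : Type u} [Field Ω]

/-- The point under a field valued point. -/
noncomputable abbrev pt (δ : Spec (CommRingCat.of Ω) ⟶ U) : U := δ (IsLocalRing.closedPoint Ω)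

theorem pt_comp (δ : Spec (CommRingCat.of Ω) ⟶ U) (π : U ⟶ V) : pt (δ ≫ π) = π (pt δ) :=
  Scheme.Hom.comp_apply _ _ _

/-- The sum of `w` over the lifts of a field valued point. -/
noncomputable def geomSum (π : U ⟶ V) (w : U → ℤ) (yb : Spec (CommRingCat.of Ω) ⟶ V) : ℤ :=
  ∑ᶠ δ : {δ : Spec (CommRingCat.of Ω) ⟶ U // δ ≫ π = yb}, w (pt δ.1)

theorem finite_residueFieldMap' (π : U ⟶ V) (u : U) (hq : π.QuasiFiniteAt u) :
    (π.residueFieldMap u).hom.Finite := by
  have h : (V.residue (π u) ≫ π.residueFieldMap u).hom.QuasiFinite := by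
    rw [Scheme.residue_residueFieldMap, CommRingCat.hom_comp]
    exact (RingHom.QuasiFinite.of_finite (RingHom.Finite.of_surjective _
      (U.residue_surjective u))).comp hq
  rw [CommRingCat.hom_comp] at h
  have h2 := h.of_comp
  algebraize [(π.residueFieldMap u).hom]
  exact Module.Finite.of_quasiFinite

theorem finite_residueFieldMap (π : U ⟶ V) [LocallyQuasiFinite π] (u : U) :
    (π.residueFieldMap u).hom.Finite :=
  finite_residueFieldMap' π u (π.quasiFiniteAt u)

set_option backward.isDefEq.respectTransparency.types false in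
/-- Lifts through a given point are embeddings of residue fields. -/
theorem lifts_at' [IsAlgClosed Ω] (π : U ⟶ V)
    (yb : Spec (CommRingCat.of Ω) ⟶ V) (u : U) (hu : π u = pt yb) (hq : π.QuasiFiniteAt u) :
    Finite {δ : Spec (CommRingCat.of Ω) ⟶ U // δ ≫ π = yb ∧ pt δ = u} ∧
    Nat.card {δ : Spec (CommRingCat.of Ω) ⟶ U // δ ≫ π = yb ∧ pt δ = u} =
      (letI := (π.residueFieldMap u).hom.toAlgebra
       Field.finSepDegree (V.residueField (π u)) (U.residueField u)) := by
  obtain ⟨η, rfl⟩ : ∃ η : V.residueField (π u) ⟶ CommRingCat.of Ω,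
      yb = Spec.map η ≫ V.fromSpecResidueField (π u) := by
    refine ⟨(V.residueFieldCongr hu).hom ≫ V.descResidueField (Scheme.stalkClosedPointTo yb), ?_⟩
    rw [Spec.map_comp, Category.assoc, Scheme.residueFieldCongr_fromSpecResidueField,
      Scheme.descResidueField_stalkClosedPointTo_fromSpecResidueField]
  letI := (π.residueFieldMap u).hom.toAlgebra
  letI : Algebra (V.residueField (π u)) Ω := η.hom.toAlgebra
  haveI : Module.Finite (V.residueField (π u)) (U.residueField u) := finite_residueFieldMap' π u hq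
  let F : (U.residueField u →ₐ[V.residueField (π u)] Ω) →
      {δ : Spec (CommRingCat.of Ω) ⟶ U //
        δ ≫ π = Spec.map η ≫ V.fromSpecResidueField (π u) ∧ pt δ = u} := fun φ =>
    ⟨Spec.map (CommRingCat.ofHom φ.toRingHom) ≫ U.fromSpecResidueField u, by
      rw [Category.assoc, ← Scheme.Hom.SpecMap_residueFieldMap_fromSpecResidueField,
        ← Spec.map_comp_assoc]
      congr 2
      exact CommRingCat.hom_ext (RingHom.ext fun z => φ.commutes z),
      (Scheme.Hom.comp_apply _ _ _).trans (Scheme.fromSpecResidueField_apply _ _)⟩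
  have hF : Function.Bijective F := by
    refine ⟨fun φ φ' h => ?_, ?_⟩
    · have h1 := (cancel_mono _).mp (congrArg Subtype.val h)
      rw [Spec.map_inj] at h1
      exact AlgHom.ext fun z => congr($h1 z)
    rintro ⟨δ, hδ, hδu⟩
    obtain ⟨ψ, rfl⟩ : ∃ ψ : U.residueField u ⟶ CommRingCat.of Ω,
        δ = Spec.map ψ ≫ U.fromSpecResidueField u := by
      refine ⟨(U.residueFieldCongr hδu.symm).hom ≫ U.descResidueField (Scheme.stalkClosedPointTo δ), ?_⟩
      rw [Spec.map_comp, Category.assoc, Scheme.residueFieldCongr_fromSpecResidueField,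
        Scheme.descResidueField_stalkClosedPointTo_fromSpecResidueField]
    rw [Category.assoc, ← Scheme.Hom.SpecMap_residueFieldMap_fromSpecResidueField,
      ← Spec.map_comp_assoc, cancel_mono, Spec.map_inj] at hδ
    exact ⟨{ ψ.hom with commutes' := fun z => congr($hδ z) }, Subtype.ext rfl⟩
  haveI : Finite (U.residueField u →ₐ[V.residueField (π u)] Ω) := inferInstance
  refine ⟨Finite.of_surjective F hF.2, ?_⟩
  rw [← Nat.card_eq_of_bijective F hF, Field.finSepDegree_eq_of_isAlgClosed _ _ Ω]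

/-- Lifts through a given point are embeddings of residue fields. -/
theorem lifts_at [IsAlgClosed Ω] (π : U ⟶ V) [LocallyQuasiFinite π]
    (yb : Spec (CommRingCat.of Ω) ⟶ V) (u : U) (hu : π u = pt yb) :
    Finite {δ : Spec (CommRingCat.of Ω) ⟶ U // δ ≫ π = yb ∧ pt δ = u} ∧
    Nat.card {δ : Spec (CommRingCat.of Ω) ⟶ U // δ ≫ π = yb ∧ pt δ = u} =
      (letI := (π.residueFieldMap u).hom.toAlgebra
       Field.finSepDegree (V.residueField (π u)) (U.residueField u)) :=
  lifts_at' π yb u hu (π.quasiFiniteAt u)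

theorem finite_lifts [IsAlgClosed Ω] (π : U ⟶ V) [LocallyQuasiFinite π]
    (yb : Spec (CommRingCat.of Ω) ⟶ V) (hfin : (π ⁻¹' {pt yb}).Finite) :
    Finite {δ : Spec (CommRingCat.of Ω) ⟶ U // δ ≫ π = yb} := by
  haveI : Finite {u : U // π u = pt yb} := hfin.to_subtype
  haveI := fun u : {u : U // π u = pt yb} => (lifts_at π yb u.1 u.2).1
  refine Finite.of_surjective
    (fun p : Σ u : {u : U // π u = pt yb},
      {δ : Spec (CommRingCat.of Ω) ⟶ U // δ ≫ π = yb ∧ pt δ = u.1} => ⟨p.2.1, p.2.2.1⟩) fun δ => ?_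
  exact ⟨⟨⟨pt δ.1, by rw [← pt_comp, δ.2]⟩, δ.1, δ.2, rfl⟩, rfl⟩

theorem fibreIntegral_eq [IsAlgClosed Ω] (π : U ⟶ V) [LocallyQuasiFinite π] (w : U → ℤ)
    (yb : Spec (CommRingCat.of Ω) ⟶ V) (hfin : (π ⁻¹' {pt yb}).Finite) :
    MoreMor.fibreIntegral π w (pt yb) = geomSum π w yb := by
  classical
  haveI : Finite {u : U // π u = pt yb} := hfin.to_subtype
  haveI := finite_lifts π yb hfin
  let := Fintype.ofFinite {u : U // π u = pt yb}
  let := Fintype.ofFinite {δ : Spec (CommRingCat.of Ω) ⟶ U // δ ≫ π = yb}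
  rw [geomSum, MoreMor.fibreIntegral, finsum_eq_sum_of_fintype, finsum_eq_sum_of_fintype]
  let G : {δ : Spec (CommRingCat.of Ω) ⟶ U // δ ≫ π = yb} → {u : U // π u = pt yb} :=
    fun δ => ⟨pt δ.1, by rw [← pt_comp, δ.2]⟩
  rw [← Fintype.sum_fiberwise G]
  refine Finset.sum_congr rfl fun u _ => ?_
  let E : {δ // G δ = u} ≃ {δ : Spec (CommRingCat.of Ω) ⟶ U // δ ≫ π = yb ∧ pt δ = u.1} :=
    (Equiv.subtypeEquivRight fun δ => Subtype.ext_iff).trans
      (Equiv.subtypeSubtypeEquivSubtypeInter _ fun δ => pt δ = u.1)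
  rw [← (lifts_at π yb u.1 u.2).2, ← Nat.card_congr E, Finset.sum_congr rfl
    (g := fun _ => w u.1) (fun δ _ => by rw [show pt δ.1.1 = u.1 from congrArg Subtype.val δ.2]),
    Finset.sum_const, Finset.card_univ, Nat.card_eq_fintype_card, nsmul_eq_mul, mul_comm]

/-- A geometric point over every point. -/
theorem exists_geomPoint (v : V) : ∃ (Ω : Type u) (_ : Field Ω) (_ : IsAlgClosed Ω)
    (yb : Spec (CommRingCat.of Ω) ⟶ V), pt yb = v :=
  ⟨AlgebraicClosure (V.residueField v), inferInstance, inferInstance,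
    Spec.map (CommRingCat.ofHom (algebraMap (V.residueField v) (AlgebraicClosure (V.residueField v)))) ≫
      V.fromSpecResidueField v, (Scheme.Hom.comp_apply _ _ _).trans (Scheme.fromSpecResidueField_apply _ _)⟩

/-- Lifts in a cartesian square. -/
theorem geomSum_baseChange {U' V' : Scheme.{u}} {π : U ⟶ V} {π' : U' ⟶ V'} {h : U' ⟶ U}
    {g : V' ⟶ V} (hc : IsPullback h π' π g) (w : U → ℤ) (yb : Spec (CommRingCat.of Ω) ⟶ V') :
    geomSum π' (w ∘ ⇑h) yb = geomSum π w (yb ≫ g) := by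
  refine finsum_eq_of_bijective (fun δ => ⟨δ.1 ≫ h, by rw [Category.assoc, hc.w, reassoc_of% δ.2]⟩)
    ⟨fun δ δ' e => Subtype.ext (hc.hom_ext (congrArg Subtype.val e) (δ.2.trans δ'.2.symm)),
      fun δ => ⟨⟨hc.lift δ.1 yb δ.2, hc.lift_snd ..⟩, Subtype.ext (hc.lift_fst ..)⟩⟩ fun δ => ?_
  exact (congrArg w (pt_comp δ.1 h)).symm

theorem exists_lift' [IsAlgClosed Ω] (π : U ⟶ V)
    (yb : Spec (CommRingCat.of Ω) ⟶ V) (u : U) (hu : π u = pt yb) (hq : π.QuasiFiniteAt u) :
    ∃ δ : Spec (CommRingCat.of Ω) ⟶ U, δ ≫ π = yb ∧ pt δ = u := by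
  obtain ⟨hf, hc⟩ := lifts_at' π yb u hu hq
  letI := (π.residueFieldMap u).hom.toAlgebra
  haveI : Module.Finite (V.residueField (π u)) (U.residueField u) := finite_residueFieldMap' π u hq
  have := (NeZero.ne (Field.finSepDegree (V.residueField (π u)) (U.residueField u)))
  rw [← hc, Nat.card_ne_zero] at this
  obtain ⟨⟨δ, hδ⟩⟩ := this.1
  exact ⟨δ, hδ⟩

theorem exists_lift [IsAlgClosed Ω] (π : U ⟶ V) [LocallyQuasiFinite π]
    (yb : Spec (CommRingCat.of Ω) ⟶ V) (u : U) (hu : π u = pt yb) :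
    ∃ δ : Spec (CommRingCat.of Ω) ⟶ U, δ ≫ π = yb ∧ pt δ = u :=
  exists_lift' π yb u hu (π.quasiFiniteAt u)

theorem finite_preimage_baseChange {U' V' : Scheme.{u}} {π : U ⟶ V} {π' : U' ⟶ V'} {h : U' ⟶ U}
    {g : V' ⟶ V} (hc : IsPullback h π' π g) [LocallyQuasiFinite π]
    (v' : V') (hfin : (π ⁻¹' {g v'}).Finite) : (π' ⁻¹' {v'}).Finite := by
  haveI : LocallyQuasiFinite π' := MorphismProperty.of_isPullback hc inferInstance
  obtain ⟨Ω, _, _, yb, rfl⟩ := exists_geomPoint v'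
  haveI := finite_lifts π (yb ≫ g) (by rwa [pt_comp])
  haveI : Finite {δ : Spec (CommRingCat.of Ω) ⟶ U' // δ ≫ π' = yb} :=
    Finite.of_injective (β := {δ : Spec (CommRingCat.of Ω) ⟶ U // δ ≫ π = yb ≫ g})
      (fun δ => ⟨δ.1 ≫ h, by rw [Category.assoc, hc.w, reassoc_of% δ.2]⟩)
      fun δ δ' e => Subtype.ext (hc.hom_ext (congrArg Subtype.val e) (δ.2.trans δ'.2.symm))
  refine (Set.finite_range fun δ : {δ : Spec (CommRingCat.of Ω) ⟶ U' // δ ≫ π' = yb} => pt δ.1).subset
    fun u hu => ?_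
  obtain ⟨δ, hδ, rfl⟩ := exists_lift π' yb u hu
  exact ⟨⟨δ, hδ⟩, rfl⟩

theorem fibreIntegral_baseChange {U' V' : Scheme.{u}} {π : U ⟶ V} {π' : U' ⟶ V'} {h : U' ⟶ U}
    {g : V' ⟶ V} (hc : IsPullback h π' π g) [LocallyQuasiFinite π] (w : U → ℤ)
    (v' : V') (hfin : (π ⁻¹' {g v'}).Finite) :
    MoreMor.fibreIntegral π' (w ∘ ⇑h) v' = MoreMor.fibreIntegral π w (g v') := by
  haveI : LocallyQuasiFinite π' := MorphismProperty.of_isPullback hc inferInstance
  have hfin' := finite_preimage_baseChange hc v' hfin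
  obtain ⟨Ω, _, _, yb, rfl⟩ := exists_geomPoint v'
  rw [fibreIntegral_eq π' _ yb hfin', geomSum_baseChange hc, ← pt_comp,
    fibreIntegral_eq π w (yb ≫ g) (by rwa [pt_comp])]

end Groth.Agent.MorLib.GF
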