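import Groth.Agent.MorLib.BiratAlg
import Mathlib.AlgebraicGeometry.Morphisms.IsIso
import Mathlib.AlgebraicGeometry.Morphisms.FinitePresentation
import Mathlib.AlgebraicGeometry.Morphisms.FiniteType

/-! Morphisms inducing isomorphisms of local rings at generic points. -/

set_option autoImplicit false
universe u

namespace Groth.Agent.MorLib.Birat

open AlgebraicGeometry CategoryTheory Limits TopologicalSpace Opposite

variable {X Y : Scheme.{u}}

theorem isIso_of_appTop [IsAffine X] [IsAffine Y] (f : X ⟶ Y) [IsIso f.appTop] : IsIso f := by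
  rw [show f = X.isoSpec.hom ≫ Spec.map f.appTop ≫ Y.isoSpec.inv by
    rw [Scheme.isoSpec_hom_naturality_assoc, Iso.hom_inv_id, Category.comp_id]]
  infer_instance

theorem stalk_frac (f : X ⟶ Y) {x : X} (h : IsIso (f.stalkMap x)) {V : Y.Opens} (hV : IsAffineOpen V)
    {U : X.Opens} (e : U ≤ f ⁻¹ᵁ V) (hx : x ∈ U) (b : Γ(X, U)) :
    ∃ (a c : Γ(Y, V)), IsUnit (X.presheaf.germ U x hx ((f.appLE V U e).hom c)) ∧
      X.presheaf.germ U x hx ((f.appLE V U e).hom c * b - (f.appLE V U e).hom a) = 0 := by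
  have hg : ∀ z, X.presheaf.germ U x hx ((f.appLE V U e).hom z) =
      f.stalkMap x (Y.presheaf.germ V (f x) (e hx) z) := by
    intro z
    rw [Scheme.Hom.germ_stalkMap_apply, Scheme.Hom.appLE]
    exact X.presheaf.germ_res_apply (homOfLE e) x hx _
  letI := Y.presheaf.algebra_section_stalk (U := V) ⟨f x, e hx⟩
  have := hV.isLocalization_stalk ⟨f x, e hx⟩
  let z := (inv (f.stalkMap x)) (X.presheaf.germ U x hx b)
  obtain ⟨⟨a, c⟩, hac⟩ := IsLocalization.surj
    (hV.primeIdealOf ⟨f x, e hx⟩).asIdeal.primeCompl z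
  refine ⟨a, c, ?_, ?_⟩
  · rw [hg]
    exact (IsLocalization.map_units _ c).map _
  · rw [map_sub, map_mul, hg, hg, sub_eq_zero]
    have h2 := congrArg (f.stalkMap x) hac
    rw [map_mul] at h2
    rw [show f.stalkMap x z = X.presheaf.germ U x hx b from by
      show (inv (f.stalkMap x) ≫ f.stalkMap x) _ = _
      rw [IsIso.inv_hom_id]; rfl] at h2
    exact (mul_comm _ _).trans h2


theorem isUnit_germ_appLE (f : X ⟶ Y) {x : X} (h : IsIso (f.stalkMap x)) {V : Y.Opens} {U : X.Opens}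
    (e : U ≤ f ⁻¹ᵁ V) (hx : x ∈ U) (a : Γ(Y, V))
    (ha : IsUnit (X.presheaf.germ U x hx ((f.appLE V U e).hom a))) :
    IsUnit (Y.presheaf.germ V (f x) (e hx) a) := by
  have hg : X.presheaf.germ U x hx ((f.appLE V U e).hom a) =
      f.stalkMap x (Y.presheaf.germ V (f x) (e hx) a) := by
    rw [Scheme.Hom.germ_stalkMap_apply, Scheme.Hom.appLE]
    exact X.presheaf.germ_res_apply (homOfLE e) x hx _
  rw [hg] at ha
  have h1 := ha.map (inv (f.stalkMap x)).hom
  rwa [← ConcreteCategory.comp_apply, IsIso.hom_inv_id] at h1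

theorem stalk_kernel (f : X ⟶ Y) {x : X} (h : IsIso (f.stalkMap x)) {V : Y.Opens} (hV : IsAffineOpen V)
    {U : X.Opens} (e : U ≤ f ⁻¹ᵁ V) (hx : x ∈ U) (a : Γ(Y, V))
    (ha : X.presheaf.germ U x hx ((f.appLE V U e).hom a) = 0) :
    ∃ t : Γ(Y, V), IsUnit (Y.presheaf.germ V (f x) (e hx) t) ∧ t * a = 0 := by
  letI := Y.presheaf.algebra_section_stalk (U := V) ⟨f x, e hx⟩
  have := hV.isLocalization_stalk ⟨f x, e hx⟩
  have hg : X.presheaf.germ U x hx ((f.appLE V U e).hom a) =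
      f.stalkMap x (Y.presheaf.germ V (f x) (e hx) a) := by
    rw [Scheme.Hom.germ_stalkMap_apply, Scheme.Hom.appLE]
    exact X.presheaf.germ_res_apply (homOfLE e) x hx _
  rw [hg] at ha
  have h1 := congrArg (inv (f.stalkMap x)) ha
  rw [← ConcreteCategory.comp_apply, IsIso.hom_inv_id, map_zero] at h1
  obtain ⟨t, ht⟩ := (IsLocalization.map_eq_zero_iff
    (hV.primeIdealOf ⟨f x, e hx⟩).asIdeal.primeCompl (Y.presheaf.stalk (f x)) a).mp h1
  exact ⟨t.1, IsLocalization.map_units (Y.presheaf.stalk (f x)) t, ht⟩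

/-- Stalk isomorphisms spread out to isomorphisms of affine opens. -/
theorem exists_isIso_resLE (f : X ⟶ Y) [LocallyOfFiniteType f] {x : X} (h : IsIso (f.stalkMap x))
    {V₀ : Y.Opens} (hV₀ : IsAffineOpen V₀) {U₀ : X.Opens} (hU₀ : IsAffineOpen U₀) (e : U₀ ≤ f ⁻¹ᵁ V₀)
    (hx : x ∈ U₀) (hcase : LocallyOfFinitePresentation f ∨ IsDomain Γ(Y, V₀)) :
    ∃ (U : X.Opens) (V : Y.Opens) (hUV : U ≤ f ⁻¹ᵁ V), x ∈ U ∧ U ≤ U₀ ∧ V ≤ V₀ ∧
      IsIso (f.resLE V U hUV) := by
  letI : Algebra Γ(Y, V₀) Γ(X, U₀) := (f.appLE V₀ U₀ e).hom.toAlgebra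
  haveI : Algebra.FiniteType Γ(Y, V₀) Γ(X, U₀) := f.finiteType_appLE hV₀ hU₀ e
  letI := X.presheaf.algebra_section_stalk (U := U₀) ⟨x, hx⟩
  have := hU₀.isLocalization_stalk ⟨x, hx⟩
  let q := (hU₀.primeIdealOf ⟨x, hx⟩).asIdeal
  have hq : ∀ b, b ∉ q ↔ IsUnit (X.presheaf.germ U₀ x hx b) := fun b =>
    (IsLocalization.AtPrime.isUnit_to_map_iff (X.presheaf.stalk x) q b).symm
  have hzero : ∀ b, X.presheaf.germ U₀ x hx b = 0 → ∃ g, g ∉ q ∧ g * b = 0 := by
    intro b hb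
    obtain ⟨g, hg⟩ := (IsLocalization.map_eq_zero_iff q.primeCompl (X.presheaf.stalk x) b).mp hb
    exact ⟨g.1, g.2, hg⟩
  obtain ⟨a, g, hag, hgq, hbij⟩ := exists_bijective (A := Γ(Y, V₀)) q
    (fun b => by
      obtain ⟨a, c, hc, hz⟩ := stalk_frac f h hV₀ e hx b
      obtain ⟨g, hg, hgz⟩ := hzero _ hz
      exact ⟨a, c, g, (hq _).mpr hc, hg, hgz⟩)
    (fun a g hg hz => by
      have h1 : X.presheaf.germ U₀ x hx ((f.appLE V₀ U₀ e).hom a) = 0 := by
        have h2 := congrArg (X.presheaf.germ U₀ x hx) hz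
        rw [map_mul, map_zero] at h2
        exact ((hq g).mp hg).mul_right_eq_zero.mp h2
      obtain ⟨t, ht, htz⟩ := stalk_kernel f h hV₀ e hx a h1
      refine ⟨t, (hq _).mpr ?_, htz⟩
      show IsUnit (X.presheaf.germ U₀ x hx ((f.appLE V₀ U₀ e).hom t))
      have hg' : X.presheaf.germ U₀ x hx ((f.appLE V₀ U₀ e).hom t) =
          f.stalkMap x (Y.presheaf.germ V₀ (f x) (e hx) t) := by
        rw [Scheme.Hom.germ_stalkMap_apply, Scheme.Hom.appLE]
        exact X.presheaf.germ_res_apply (homOfLE e) x hx _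
      rw [hg']
      exact ht.map _)
    (hcase.imp (fun hfp => by haveI := hfp; exact f.finitePresentation_appLE hV₀ hU₀ e)
      fun hd a t ht htz => by
        haveI := hd
        exact (mul_eq_zero.mp htz).resolve_left fun h0 => ht (by rw [h0, map_zero]; exact q.zero_mem))
  have hle : X.basicOpen g ≤ f ⁻¹ᵁ Y.basicOpen a := by
    obtain ⟨k, hk⟩ := hag
    rw [hk, Scheme.basicOpen_mul, Scheme.preimage_basicOpen]
    refine inf_le_left.trans ?_
    show X.basicOpen ((f.appLE V₀ U₀ e).hom a) ≤ _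
    rw [Scheme.Hom.appLE, CommRingCat.comp_apply, Scheme.basicOpen_res]
    exact inf_le_right
  refine ⟨X.basicOpen g, Y.basicOpen a, hle, (Scheme.mem_basicOpen _ _ _ hx).mpr ((hq g).mp hgq),
    X.basicOpen_le g, Y.basicOpen_le a, ?_⟩
  haveI : IsAffine (Y.basicOpen a : Scheme.{u}) := hV₀.basicOpen a
  haveI : IsAffine (X.basicOpen g : Scheme.{u}) := hU₀.basicOpen g
  haveI := hV₀.isLocalization_basicOpen a
  haveI := hU₀.isLocalization_basicOpen g
  let e₁ := IsLocalization.algEquiv (Submonoid.powers a) (Localization.Away a) Γ(Y, Y.basicOpen a)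
  let e₂ := IsLocalization.algEquiv (Submonoid.powers g) (Localization.Away g) Γ(X, X.basicOpen g)
  let θ := (f.appLE (Y.basicOpen a) (X.basicOpen g) hle).hom
  have hsq : θ.comp (e₁ : Localization.Away a →+* Γ(Y, Y.basicOpen a)) =
      (e₂ : Localization.Away g →+* Γ(X, X.basicOpen g)).comp (awayLift hag).toRingHom := by
    refine IsLocalization.ringHom_ext (Submonoid.powers a) (RingHom.ext fun z => ?_)
    show θ (e₁ (algebraMap _ _ z)) = e₂ (awayLift hag (algebraMap _ _ z))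
    rw [AlgEquiv.commutes, AlgHom.commutes,
      IsScalarTower.algebraMap_apply Γ(Y, V₀) Γ(X, U₀) (Localization.Away g), AlgEquiv.commutes]
    show (f.appLE _ _ hle).hom ((Y.presheaf.map (homOfLE (Y.basicOpen_le a)).op).hom z) =
      (X.presheaf.map (homOfLE (X.basicOpen_le g)).op).hom ((f.appLE V₀ U₀ e).hom z)
    rw [← RingHom.comp_apply, ← RingHom.comp_apply, ← CommRingCat.hom_comp, ← CommRingCat.hom_comp,
      Scheme.Hom.map_appLE, Scheme.Hom.appLE_map]
  have hθ : Function.Bijective θ := by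
    have h1 : Function.Bijective (θ.comp (e₁ : Localization.Away a →+* Γ(Y, Y.basicOpen a))) := by
      rw [hsq]
      exact e₂.bijective.comp hbij
    exact (Function.Bijective.of_comp_iff _ e₁.bijective).mp h1
  haveI : IsIso (f.appLE (Y.basicOpen a) (X.basicOpen g) hle) :=
    (ConcreteCategory.isIso_iff_bijective _).mpr hθ
  haveI : IsIso ((f.resLE (Y.basicOpen a) (X.basicOpen g) hle).appTop) :=
    ((MorphismProperty.isomorphisms CommRingCat).arrow_mk_iso_iff
      (arrowResLEAppIso f _ _ hle)).mpr ‹_›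
  exact isIso_of_appTop _

theorem isIso_resLE_of_locally (f : X ⟶ Y) {U : X.Opens} {V : Y.Opens} (hUV : U ≤ f ⁻¹ᵁ V)
    (hloc : ∀ x ∈ U, ∃ (U' : X.Opens) (V' : Y.Opens) (h : U' ≤ f ⁻¹ᵁ V'), x ∈ U' ∧ U' ≤ U ∧
      IsIso (f.resLE V' U' h))
    (hinj : ∀ a ∈ U, ∀ b ∈ U, f a = f b → a = b) (hsurj : ∀ y ∈ V, ∃ x ∈ U, f x = y) :
    IsIso (f.resLE V U hUV) := by
  choose U' V' h' hx hU' hiso using hloc
  have key : ∀ x (hxU : x ∈ U), IsOpenImmersion ((U' x hxU).ι ≫ f) := fun x hxU => by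
    have := hiso x hxU
    rw [← Scheme.Hom.resLE_comp_ι f (h' x hxU)]
    infer_instance
  have hopen : IsOpenMap (U.ι ≫ f : (U : Scheme.{u}) ⟶ Y) := by
    intro O hO
    rw [isOpen_iff_forall_mem_open]
    rintro _ ⟨p, hp, rfl⟩
    let A : Set (U' p.1 p.2 : Scheme.{u}) :=
      (X.homOfLE (hU' p.1 p.2)) ⁻¹' O
    refine ⟨((U' p.1 p.2).ι ≫ f) '' A, ?_,
      (key p.1 p.2).base_open.isOpenMap _ (hO.preimage (X.homOfLE (hU' p.1 p.2)).continuous),
      ⟨⟨p.1, hx p.1 p.2⟩, ?_, rfl⟩⟩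
    · rintro _ ⟨q, hq, rfl⟩
      refine ⟨X.homOfLE (hU' p.1 p.2) q, hq, ?_⟩
      rw [← Scheme.Hom.comp_apply, Scheme.homOfLE_ι_assoc]
    · show X.homOfLE (hU' p.1 p.2) ⟨p.1, hx p.1 p.2⟩ ∈ O
      convert hp using 1
      exact Subtype.ext (Scheme.homOfLE_apply _ _)
  have hstalk : ∀ p : (U : Scheme.{u}), IsIso ((U.ι ≫ f).stalkMap p) := by
    intro p
    have := key p.1 p.2
    let p' : (U' p.1 p.2 : Scheme.{u}) := ⟨p.1, hx p.1 p.2⟩
    have h1 : IsIso (((U' p.1 p.2).ι ≫ f).stalkMap p') := inferInstance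
    have hι : IsIso ((U' p.1 p.2).ι.stalkMap p') := inferInstance
    rw [Scheme.Hom.stalkMap_comp] at h1
    have h2 : IsIso (f.stalkMap p.1) :=
      @IsIso.of_isIso_comp_right _ _ _ _ _ (f.stalkMap ((U' p.1 p.2).ι p')) ((U' p.1 p.2).ι.stalkMap p') hι h1
    rw [Scheme.Hom.stalkMap_comp]
    exact IsIso.comp_isIso' h2 inferInstance
  have himm : IsOpenImmersion (U.ι ≫ f) :=
    IsOpenImmersion.of_isIso_stalkMap _ (.of_continuous_injective_isOpenMap (U.ι ≫ f).continuous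
      (fun p q hpq => Subtype.ext (hinj _ p.2 _ q.2 hpq)) hopen)
  have : IsOpenImmersion (f.resLE V U hUV) := by
    have : IsOpenImmersion (f.resLE V U hUV ≫ V.ι) := by rwa [Scheme.Hom.resLE_comp_ι]
    exact IsOpenImmersion.of_comp _ V.ι
  refine (isIso_iff_isOpenImmersion_and_surjective _).mpr ⟨this, ⟨fun y => ?_⟩⟩
  obtain ⟨x, hxU, hxy⟩ := hsurj y.1 y.2
  refine ⟨⟨x, hxU⟩, V.ι.isOpenEmbedding.injective ?_⟩
  rw [← Scheme.Hom.comp_apply, Scheme.Hom.resLE_comp_ι]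
  exact hxy

theorem eq_of_specializes (f : X ⟶ Y) {x x' : X} (h : IsIso (f.stalkMap x)) (hsp : x ⤳ x')
    (he : f x' = f x) : x' ⤳ x := by
  obtain ⟨V, hV, hyV, -⟩ := exists_isAffineOpen_mem_and_subset (x := f x') (U := ⊤) trivial
  obtain ⟨U, hU, hx'U, hUV⟩ := exists_isAffineOpen_mem_and_subset (x := x') (U := f ⁻¹ᵁ V) hyV
  have e : U ≤ f ⁻¹ᵁ V := hUV
  have hxU : x ∈ U := hsp.mem_open U.2 hx'U
  letI := X.presheaf.algebra_section_stalk (U := U) ⟨x, hxU⟩
  have := hU.isLocalization_stalk ⟨x, hxU⟩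
  have key : (hU.primeIdealOf ⟨x', hx'U⟩).asIdeal ≤ (hU.primeIdealOf ⟨x, hxU⟩).asIdeal := by
    intro b hb
    obtain ⟨a, c, hc, hz⟩ := stalk_frac f h hV e hxU b
    obtain ⟨g, hg⟩ := (IsLocalization.map_eq_zero_iff
      (hU.primeIdealOf ⟨x, hxU⟩).asIdeal.primeCompl (X.presheaf.stalk x) _).mp hz
    have hc' : (f.appLE V U e).hom c ∉ (hU.primeIdealOf ⟨x, hxU⟩).asIdeal :=
      (IsLocalization.AtPrime.isUnit_to_map_iff (X.presheaf.stalk x) _ _).mp hc
    have h1 : (f.appLE V U e).hom c * b - (f.appLE V U e).hom a ∈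
        (hU.primeIdealOf ⟨x, hxU⟩).asIdeal :=
      ((hU.primeIdealOf ⟨x, hxU⟩).2.mem_or_mem (hg.symm ▸ zero_mem _ :
        _ ∈ (hU.primeIdealOf ⟨x, hxU⟩).asIdeal)).resolve_left g.2
    have hle : (hU.primeIdealOf ⟨x, hxU⟩).asIdeal ≤ (hU.primeIdealOf ⟨x', hx'U⟩).asIdeal := by
      apply (PrimeSpectrum.le_iff_specializes _ _).mpr
      apply hU.fromSpec.isOpenEmbedding.toIsEmbedding.isInducing.specializes_iff.mp
      rw [hU.fromSpec_primeIdealOf, hU.fromSpec_primeIdealOf]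
      exact hsp
    have h2 : (f.appLE V U e).hom a ∈ (hU.primeIdealOf ⟨x', hx'U⟩).asIdeal := by
      have := Ideal.sub_mem _ (Ideal.mul_mem_left _ ((f.appLE V U e).hom c) hb) (hle h1)
      rwa [sub_sub_cancel] at this
    have hcomp : ∀ (z : X) (hz : z ∈ U), (hU.primeIdealOf ⟨z, hz⟩).asIdeal.comap (f.appLE V U e).hom =
        (hV.primeIdealOf ⟨f z, e hz⟩).asIdeal := fun z hz =>
      congrArg PrimeSpectrum.asIdeal (IsAffineOpen.comap_primeIdealOf_appLE V hV U hU e hz)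
    have h3 : (f.appLE V U e).hom a ∈ (hU.primeIdealOf ⟨x, hxU⟩).asIdeal := by
      rw [← Ideal.mem_comap, hcomp] at h2 ⊢
      simp only [he] at h2
      exact h2
    have h4 := Ideal.add_mem _ h1 h3
    rw [sub_add_cancel] at h4
    exact ((hU.primeIdealOf ⟨x, hxU⟩).2.mem_or_mem h4).resolve_left hc'
  have h1 := ((PrimeSpectrum.le_iff_specializes _ _).mp key).map hU.fromSpec.continuous
  rwa [hU.fromSpec_primeIdealOf, hU.fromSpec_primeIdealOf] at h1


theorem exists_generic (z : X) : ∃ x ∈ genericPoints X, x ⤳ z := by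
  obtain ⟨C, hC, hzC⟩ := exists_mem_irreducibleComponents_subset_of_isIrreducible
    ({z} : Set X) isIrreducible_singleton
  refine ⟨(genericPoints.ofComponent ⟨C, hC⟩).1, (genericPoints.ofComponent ⟨C, hC⟩).2, ?_⟩
  exact ((genericPoints.isGenericPoint_ofComponent ⟨C, hC⟩).specializes (hzC rfl))

theorem eq_of_specializes_generic {x y : X} (hy : y ∈ genericPoints X) (h : x ⤳ y) : x = y := by
  have h1 : closure {y} ⊆ closure {x} :=
    closure_minimal (Set.singleton_subset_iff.mpr (specializes_iff_mem_closure.mp h)) isClosed_closure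
  have h2 : closure {x} ⊆ closure {y} := hy.2 isIrreducible_singleton.closure h1
  have h3 : y ⤳ x := specializes_iff_mem_closure.mpr (h2 (subset_closure rfl))
  exact (h.antisymm h3).eq

theorem dense_of_genericPoints {U : Set X} (h : genericPoints X ⊆ U) : Dense U :=
  Dense.mono h (dense_iff_closure_eq.mpr genericPoints.closure)

/-- An open neighbourhood of a generic point meeting no other component. -/
theorem exists_separating (hfin : (irreducibleComponents ↥X).Finite) {y : X} (hy : y ∈ genericPoints X) :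
    ∃ W : X.Opens, y ∈ W ∧ ∀ z ∈ W, y ⤳ z := by
  have hG : (genericPoints X \ {y}).Finite := (genericPoints.finite hfin).subset Set.sdiff_subset
  refine ⟨⟨(⋃ y' ∈ genericPoints X \ {y}, closure {y'})ᶜ,
    (hG.isClosed_biUnion fun _ _ => isClosed_closure).isOpen_compl⟩, ?_, ?_⟩
  · intro hmem
    obtain ⟨y', hy', hmem⟩ := Set.mem_iUnion₂.mp hmem
    exact hy'.2 (eq_of_specializes_generic hy (specializes_iff_mem_closure.mpr hmem))
  · intro z hz
    obtain ⟨y', hy', hsp⟩ := exists_generic z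
    by_cases he : y' = y
    · exact he ▸ hsp
    · exact absurd (Set.mem_iUnion₂.mpr ⟨y', ⟨hy', he⟩, specializes_iff_mem_closure.mp hsp⟩) hz

theorem isDomain_of_generic [IsReduced X] {y : X} {V : X.Opens} (hV : IsAffineOpen V) (hy : y ∈ V)
    (h : ∀ z ∈ V, y ⤳ z) : IsDomain Γ(X, V) := by
  haveI : IsAffine (V : Scheme.{u}) := hV
  haveI : IrreducibleSpace (V : Scheme.{u}) := by
    rw [irreducibleSpace_def]
    have h1 : (Set.univ : Set (V : Scheme.{u})) = closure {(⟨y, hy⟩ : (V : Scheme.{u}))} :=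
      (Set.eq_univ_of_forall fun z => specializes_iff_mem_closure.mp
        ((V.ι.isOpenEmbedding.toIsEmbedding.isInducing.specializes_iff
          (x := (⟨y, hy⟩ : (V : Scheme.{u}))) (y := z)).mp (h z.1 z.2))).symm
    show IsIrreducible (Set.univ : Set (V : Scheme.{u}))
    rw [h1]
    exact isIrreducible_singleton.closure
  haveI : Nonempty (V : Scheme.{u}) := ⟨⟨y, hy⟩⟩
  haveI : IsIntegral (V : Scheme.{u}) := isIntegral_of_irreducibleSpace_of_isReduced _
  haveI : IsDomain Γ((V : Scheme.{u}), ⊤) := inferInstance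
  exact V.topIso.symm.commRingCatIsoToRingEquiv.toMulEquiv.isDomain

/-- Spreading out at all generic points. -/
theorem exists_local_isos (f : X ⟶ Y) [LocallyOfFiniteType f]
    (hYfin : (irreducibleComponents ↥Y).Finite)
    (hmaps : Set.MapsTo f (genericPoints X) (genericPoints Y))
    (hiso : ∀ x ∈ genericPoints X, IsIso (f.stalkMap x))
    (hf : IsReduced Y ∨ LocallyOfFinitePresentation f) {x : X} (hx : x ∈ genericPoints X) :
    ∃ (U : X.Opens) (V : Y.Opens) (hUV : U ≤ f ⁻¹ᵁ V), x ∈ U ∧ (∀ z ∈ V, f x ⤳ z) ∧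
      IsIso (f.resLE V U hUV) := by
  obtain ⟨W, hyW, hW⟩ := exists_separating hYfin (hmaps hx)
  obtain ⟨V₀, hV₀, hyV, hV₀W⟩ := exists_isAffineOpen_mem_and_subset (x := f x) (U := W) hyW
  obtain ⟨U₀, hU₀, hxU, hUV⟩ := exists_isAffineOpen_mem_and_subset (x := x) (U := f ⁻¹ᵁ V₀) hyV
  have hdom : IsReduced Y → IsDomain Γ(Y, V₀) := fun _ =>
    isDomain_of_generic hV₀ hyV fun z hz => hW z (hV₀W hz)
  obtain ⟨U, V, e, hxU', -, hVV₀, hI⟩ := exists_isIso_resLE f (hiso x hx) hV₀ hU₀ hUV hxU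
    (hf.symm.imp id hdom)
  exact ⟨U, V, e, hxU', fun z hz => hW z (hV₀W (hVV₀ hz)), hI⟩

theorem fibre_generic (f : X ⟶ Y)
    (hbij : Set.BijOn f (genericPoints X) (genericPoints Y))
    (hiso : ∀ x ∈ genericPoints X, IsIso (f.stalkMap x))
    {x x' : X} (hx : x ∈ genericPoints X) (he : f x' = f x) : x' = x := by
  obtain ⟨x₁, hx₁, hsp⟩ := exists_generic x'
  have h1 : f x₁ = f x := eq_of_specializes_generic (hbij.mapsTo hx) (he ▸ hsp.map f.continuous)
  obtain rfl : x₁ = x := hbij.injOn hx₁ hx h1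
  exact ((eq_of_specializes f (hiso x₁ hx₁) hsp he).antisymm hsp).eq

/-- The union of the local isomorphisms at generic points. -/
theorem exists_dense_iso (f : X ⟶ Y) [LocallyOfFiniteType f]
    (hYfin : (irreducibleComponents ↥Y).Finite)
    (hbij : Set.BijOn f (genericPoints X) (genericPoints Y))
    (hiso : ∀ x ∈ genericPoints X, IsIso (f.stalkMap x))
    (hf : IsReduced Y ∨ LocallyOfFinitePresentation f) :
    ∃ (U : X.Opens) (V : Y.Opens) (hUV : U ≤ f ⁻¹ᵁ V), genericPoints X ⊆ U ∧ genericPoints Y ⊆ V ∧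
      IsIso (f.resLE V U hUV) := by
  choose U V hUV hxU hV hI using fun x : genericPoints X =>
    exists_local_isos f hYfin hbij.mapsTo hiso hf x.2
  have hsurjV : ∀ i, ∀ y ∈ V i, ∃ x ∈ U i, f x = y := fun i y hy => by
    have := hI i
    obtain ⟨p, hp⟩ := (f.resLE (V i) (U i) (hUV i)).surjective ⟨y, hy⟩
    refine ⟨p.1, p.2, ?_⟩
    have h1 := congrArg (V i).ι hp
    rw [← Scheme.Hom.comp_apply, Scheme.Hom.resLE_comp_ι] at h1
    exact h1
  have hle : (⨆ i, U i : X.Opens) ≤ f ⁻¹ᵁ (⨆ i, V i) := iSup_le fun i =>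
    (hUV i).trans (f.preimage_mono (le_iSup V i))
  refine ⟨⨆ i, U i, ⨆ i, V i, hle, fun x hx => Opens.mem_iSup.mpr ⟨⟨x, hx⟩, hxU _⟩, fun y hy => ?_,
    isIso_resLE_of_locally f hle (fun x hx => ?_) ?_ ?_⟩
  · obtain ⟨x, hx, rfl⟩ := hbij.surjOn hy
    exact Opens.mem_iSup.mpr ⟨⟨x, hx⟩, hUV _ (hxU _)⟩
  · obtain ⟨i, hi⟩ := Opens.mem_iSup.mp hx
    exact ⟨U i, V i, hUV i, hi, le_iSup U i, hI i⟩
  · intro a ha b hb hab
    obtain ⟨i, hi⟩ := Opens.mem_iSup.mp ha
    obtain ⟨j, hj⟩ := Opens.mem_iSup.mp hb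
    obtain rfl : i = j := by
      obtain ⟨y', hy', hsp⟩ := exists_generic (f a)
      have key : ∀ k, f a ∈ V k → f k.1 = y' := fun k hk => by
        have h1 := hV k _ hk
        obtain ⟨W, hyW, hW⟩ := exists_separating hYfin hy'
        by_contra hne
        have h2 : y' ∈ (V k : Set Y) := by
          by_contra hn
          exact hn (hsp.mem_open (V k).2 hk)
        exact hne (eq_of_specializes_generic hy' (hV k _ h2))
      exact Subtype.ext (hbij.injOn i.2 j.2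
        ((key i (hUV i hi)).trans (key j (hab ▸ hUV j hj)).symm))
    have := hI i
    have h1 : (f.resLE (V i) (U i) (hUV i)) ⟨a, hi⟩ = (f.resLE (V i) (U i) (hUV i)) ⟨b, hj⟩ := by
      refine (V i).ι.isOpenEmbedding.injective ?_
      rw [← Scheme.Hom.comp_apply, ← Scheme.Hom.comp_apply, Scheme.Hom.resLE_comp_ι]
      exact hab
    exact congrArg Subtype.val ((f.resLE (V i) (U i) (hUV i)).isOpenEmbedding.injective h1)
  · intro y hy
    obtain ⟨i, hi⟩ := Opens.mem_iSup.mp hy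
    obtain ⟨x, hx, rfl⟩ := hsurjV i y hi
    exact ⟨x, Opens.mem_iSup.mpr ⟨i, hx⟩, rfl⟩

end Groth.Agent.MorLib.Birat
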