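import Groth.Agent.MorLib.GenFiniteAlg
import Groth.Agent.MorLib.Birat
import Groth.Agent.Proj16.UClosed
import Groth.Agent.FDescent.QuasiFlat
import Mathlib.AlgebraicGeometry.Morphisms.Finite
import Mathlib.AlgebraicGeometry.Morphisms.QuasiSeparated
import Mathlib.AlgebraicGeometry.IdealSheaf.Functorial

/-! Finite fibre over a generic point implies finiteness over a neighbourhood. -/

set_option autoImplicit false
universe u

namespace Groth.Agent.MorLib.GenFinite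

open AlgebraicGeometry CategoryTheory Limits TopologicalSpace
open Groth.Agent.MorLib.Birat (eq_of_specializes_generic exists_separating exists_generic)

variable {X Y : Scheme.{u}}

/-- A quasi-compact piece over an affine open with no point over `η` misses a neighbourhood of `η`. -/
theorem exists_avoid (f : X ⟶ Y) {η : Y} (hη : η ∈ genericPoints Y) {T : Scheme.{u}} [CompactSpace T]
    (i : T ⟶ X) {V₀ : Y.Opens} (hV₀ : IsAffineOpen V₀) (hη₀ : η ∈ V₀)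
    (hT : ∀ t, f (i t) ∈ V₀) (h : ∀ t, f (i t) ≠ η) :
    ∃ W : Y.Opens, η ∈ W ∧ ∀ t, f (i t) ∉ W := by
  haveI : IsAffine (V₀ : Scheme.{u}) := hV₀
  let g : T ⟶ V₀ := IsOpenImmersion.lift V₀.ι (i ≫ f) (by
    rw [Scheme.Opens.range_ι]; rintro _ ⟨t, rfl⟩; rw [Scheme.Hom.comp_apply]; exact hT t)
  have hg : g ≫ V₀.ι = i ≫ f := IsOpenImmersion.lift_fac _ _ _
  haveI : QuasiCompact g := quasiCompact_of_compactSpace g
  have hgt : ∀ t, (g t).1 = f (i t) := fun t => by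
    show (g ≫ V₀.ι) t = _
    rw [hg, Scheme.Hom.comp_apply]
  refine ⟨V₀.ι ''ᵁ ⟨(closure (Set.range g))ᶜ, isClosed_closure.isOpen_compl⟩,
    ⟨⟨η, hη₀⟩, fun hmem => ?_, rfl⟩, fun t ht => ?_⟩
  · obtain ⟨t, hsp⟩ := Groth.Agent.FDescent.exists_specializes_of_mem_closure_range (f := g) hmem
    have h1 : f (i t) ⤳ η := hgt t ▸ (hsp.map V₀.ι.continuous : _)
    exact h t (eq_of_specializes_generic hη h1)
  · obtain ⟨v, hv, hvt⟩ := ht
    have : v = g t := Subtype.ext (hvt.trans (hgt t).symm)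
    exact hv (this ▸ subset_closure ⟨t, rfl⟩)

theorem exists_finite_piece (f : X ⟶ Y) [LocallyOfFiniteType f] {η : Y} (hη : η ∈ genericPoints Y)
    {V₀ : Y.Opens} (hV₀ : IsAffineOpen V₀) (hη₀ : η ∈ V₀) {U : X.Opens} (hU : IsAffineOpen U)
    (e : U ≤ f ⁻¹ᵁ V₀) (huniq : ∀ z ∈ U, ∀ z' ∈ U, f z = η → f z' = η → z = z') :
    ∃ a : Γ(Y, V₀), η ∈ Y.basicOpen a ∧ ∀ a', a ∣ a' →
      IsAffineOpen (U ⊓ f ⁻¹ᵁ Y.basicOpen a') ∧
      IsFinite (f.resLE (Y.basicOpen a') (U ⊓ f ⁻¹ᵁ Y.basicOpen a') inf_le_right) := by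
  letI : Algebra Γ(Y, V₀) Γ(X, U) := (f.appLE V₀ U e).hom.toAlgebra
  haveI : Algebra.FiniteType Γ(Y, V₀) Γ(X, U) := f.finiteType_appLE hV₀ hU e
  let p := hV₀.primeIdealOf ⟨η, hη₀⟩
  have hcomap : ∀ (z : X) (hz : z ∈ U), (hU.primeIdealOf ⟨z, hz⟩).asIdeal.comap (f.appLE V₀ U e).hom =
      (hV₀.primeIdealOf ⟨f z, e hz⟩).asIdeal := fun z hz =>
    congrArg PrimeSpectrum.asIdeal (IsAffineOpen.comap_primeIdealOf_appLE V₀ hV₀ U hU e hz)
  have hmin : ∀ p' : Ideal Γ(Y, V₀), p'.IsPrime → p' ≤ p.asIdeal → p' = p.asIdeal := by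
    intro p' hp' hle
    have hsp : (⟨p', hp'⟩ : PrimeSpectrum Γ(Y, V₀)) ⤳ p :=
      (PrimeSpectrum.le_iff_specializes _ _).mp hle
    have h1 : hV₀.fromSpec ⟨p', hp'⟩ ⤳ η := by
      have := hsp.map hV₀.fromSpec.continuous
      rwa [hV₀.fromSpec_primeIdealOf] at this
    have h2 := eq_of_specializes_generic hη h1
    exact congrArg PrimeSpectrum.asIdeal
      (hV₀.fromSpec.isOpenEmbedding.injective (h2.trans (hV₀.fromSpec_primeIdealOf ⟨η, hη₀⟩).symm))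
  obtain ⟨a, ha, hfin⟩ := exists_away_finite p.asIdeal hmin (fun Q Q' hQ hQ' => by
    have hz : ∀ Q : PrimeSpectrum Γ(X, U),
        Q.asIdeal.comap (f.appLE V₀ U e).hom = p.asIdeal →
        hU.fromSpec Q ∈ U ∧ f (hU.fromSpec Q) = η := by
      intro Q hQ
      have hmem : hU.fromSpec Q ∈ U := by
        show _ ∈ (U : Set X)
        rw [← hU.range_fromSpec]; exact ⟨Q, rfl⟩
      refine ⟨hmem, ?_⟩
      have h1 := hcomap _ hmem
      have h2 : hU.primeIdealOf ⟨hU.fromSpec Q, hmem⟩ = Q :=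
        hU.fromSpec.isOpenEmbedding.injective (hU.fromSpec_primeIdealOf _)
      rw [h2, hQ] at h1
      have h3 : p = hV₀.primeIdealOf ⟨f (hU.fromSpec Q), e hmem⟩ := PrimeSpectrum.ext h1
      have h4 := congrArg hV₀.fromSpec h3
      rw [hV₀.fromSpec_primeIdealOf, hV₀.fromSpec_primeIdealOf] at h4
      exact h4.symm
    obtain ⟨h1, h2⟩ := hz Q hQ
    obtain ⟨h1', h2'⟩ := hz Q' hQ'
    exact hU.fromSpec.isOpenEmbedding.injective (huniq _ h1 _ h1' h2 h2'))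
  refine ⟨a, ?_, fun a' haa' => ?_⟩
  · rw [Scheme.mem_basicOpen _ _ _ hη₀]
    letI := Y.presheaf.algebra_section_stalk (U := V₀) ⟨η, hη₀⟩
    have := hV₀.isLocalization_stalk ⟨η, hη₀⟩
    exact (IsLocalization.AtPrime.isUnit_to_map_iff (Y.presheaf.stalk η) p.asIdeal a).mpr ha
  have hb : U ⊓ f ⁻¹ᵁ Y.basicOpen a' = X.basicOpen ((f.appLE V₀ U e).hom a') := by
    rw [Scheme.Hom.appLE, CommRingCat.comp_apply, Scheme.basicOpen_res, Scheme.preimage_basicOpen]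
  have haff : IsAffineOpen (U ⊓ f ⁻¹ᵁ Y.basicOpen a') := hb ▸ hU.basicOpen _
  refine ⟨haff, ?_⟩
  haveI : IsAffine (Y.basicOpen a' : Scheme.{u}) := hV₀.basicOpen a'
  haveI : IsAffine ((U ⊓ f ⁻¹ᵁ Y.basicOpen a' : X.Opens) : Scheme.{u}) := haff
  let A' := Γ(Y, Y.basicOpen a')
  letI : Algebra Γ(X, U) Γ(X, U ⊓ f ⁻¹ᵁ Y.basicOpen a') :=
    (X.presheaf.map (homOfLE (inf_le_left : U ⊓ f ⁻¹ᵁ Y.basicOpen a' ≤ U)).op).hom.toAlgebra
  haveI := hV₀.isLocalization_basicOpen a'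
  haveI : IsLocalization.Away (algebraMap Γ(Y, V₀) Γ(X, U) a') Γ(X, U ⊓ f ⁻¹ᵁ Y.basicOpen a') :=
    hU.isLocalization_of_eq_basicOpen _ (homOfLE inf_le_left) hb
  have hθ := hfin a' haa' Γ(Y, Y.basicOpen a') Γ(X, U ⊓ f ⁻¹ᵁ Y.basicOpen a')
    (f.appLE (Y.basicOpen a') (U ⊓ f ⁻¹ᵁ Y.basicOpen a') inf_le_right).hom (by
      show (Y.presheaf.map (homOfLE (Y.basicOpen_le a')).op ≫
        f.appLE (Y.basicOpen a') (U ⊓ f ⁻¹ᵁ Y.basicOpen a') inf_le_right).hom =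
        (f.appLE V₀ U e ≫ X.presheaf.map (homOfLE inf_le_left).op).hom
      rw [Scheme.Hom.map_appLE, Scheme.Hom.appLE_map])
  rw [HasAffineProperty.iff_of_isAffine (P := @IsFinite)]
  refine ⟨inferInstance, ?_⟩
  exact (RingHom.finite_respectsIso.arrow_mk_iso_iff (arrowResLEAppIso f _ _ inf_le_right)).mpr hθ

/-- If the fibre over a generic point is finite and discrete and the pieces separate, the morphism is
finite over a neighbourhood. -/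
theorem exists_isFinite (f : X ⟶ Y) [LocallyOfFiniteType f] [QuasiCompact f] {η : Y}
    (hη : η ∈ genericPoints Y) (hfin : (f ⁻¹' {η}).Finite)
    (hiso : ∀ x, f x = η → ∃ O : X.Opens, x ∈ O ∧ ∀ z ∈ O, f z = η → z = x)
    (hsep : ∀ (V₀ : Y.Opens), IsAffineOpen V₀ → η ∈ V₀ → ∀ U₁ U₂ : X.Opens, IsAffineOpen U₁ →
      IsAffineOpen U₂ → U₁ ≤ f ⁻¹ᵁ V₀ → U₂ ≤ f ⁻¹ᵁ V₀ → (∀ z ∈ U₁ ⊓ U₂, f z ≠ η) →
      ∃ W : Y.Opens, η ∈ W ∧ ∀ z ∈ U₁ ⊓ U₂, f z ∉ W) :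
    ∀ (V' : Y.Opens), η ∈ V' →
      ∃ V : Y.Opens, IsAffineOpen V ∧ η ∈ V ∧ V ≤ V' ∧ IsFinite (f ∣_ V) := by
  classical
  intro V' hV'
  obtain ⟨V₀, hV₀, hη₀, hV₀V'⟩ := exists_isAffineOpen_mem_and_subset (x := η) (U := V') hV'
  haveI : Finite ↥(f ⁻¹' {η}) := hfin.to_subtype
  have hpiece : ∀ x : ↥(f ⁻¹' {η}), ∃ U : X.Opens, IsAffineOpen U ∧ x.1 ∈ U ∧ U ≤ f ⁻¹ᵁ V₀ ∧
      ∀ z ∈ U, f z = η → z = x.1 := by
    intro x
    obtain ⟨O, hxO, hO⟩ := hiso x.1 x.2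
    have hx₀ : x.1 ∈ f ⁻¹ᵁ V₀ := by
      show f x.1 ∈ V₀
      rw [show f x.1 = η from x.2]
      exact hη₀
    obtain ⟨U, hU, hxU, hUsub⟩ := exists_isAffineOpen_mem_and_subset (x := x.1)
      (U := O ⊓ f ⁻¹ᵁ V₀) ⟨hxO, hx₀⟩
    exact ⟨U, hU, hxU, fun z hz => (hUsub hz).2, fun z hz => hO z (hUsub hz).1⟩
  choose U hUaff hxU hUV hUf using hpiece
  choose a ha hpcs using fun x => exists_finite_piece f hη hV₀ hη₀ (hUaff x) (hUV x)
    (fun z hz z' hz' h h' => (hUf x z hz h).trans (hUf x z' hz' h').symm)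
  -- the complement of the pieces
  let C : Closeds X := ⟨((⨆ x, U x : X.Opens) : Set X)ᶜ, (⨆ x, U x : X.Opens).isOpen.isClosed_compl⟩
  let I := Scheme.IdealSheafData.vanishingIdeal C
  have hI : Set.range I.subschemeι = (C : Set X) := by
    rw [Scheme.IdealSheafData.range_subschemeι, Scheme.IdealSheafData.coe_support_vanishingIdeal]
  haveI : CompactSpace ↥(I.subschemeι ⁻¹ᵁ (f ⁻¹ᵁ V₀) : Scheme.{u}) := isCompact_iff_compactSpace.mp
    (QuasiCompact.isCompact_preimage (f := I.subschemeι) _ (f ⁻¹ᵁ V₀).2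
      (QuasiCompact.isCompact_preimage (f := f) _ V₀.2 hV₀.isCompact))
  obtain ⟨W₀, hW₀, hW₀'⟩ := exists_avoid f hη
    ((I.subschemeι ⁻¹ᵁ (f ⁻¹ᵁ V₀)).ι ≫ I.subschemeι) hV₀ hη₀
    (fun t => by rw [Scheme.Hom.comp_apply]; exact t.2)
    (fun t ht => by
      rw [Scheme.Hom.comp_apply] at ht
      have h1 : I.subschemeι ((I.subschemeι ⁻¹ᵁ (f ⁻¹ᵁ V₀)).ι t) ∈ (C : Set X) := hI ▸ ⟨_, rfl⟩
      exact h1 (Opens.mem_iSup.mpr ⟨⟨_, ht⟩, hxU _⟩))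
  have hdis : ∀ x y : ↥(f ⁻¹' {η}), ∃ W : Y.Opens, η ∈ W ∧ (x ≠ y → ∀ z ∈ U x ⊓ U y, f z ∉ W) := by
    intro x y
    by_cases hxy : x = y
    · exact ⟨V₀, hη₀, fun h => absurd hxy h⟩
    · obtain ⟨W, hW, hW'⟩ := hsep V₀ hV₀ hη₀ (U x) (U y) (hUaff x) (hUaff y) (hUV x) (hUV y)
        (fun z hz hzη => hxy (Subtype.ext ((hUf x z hz.1 hzη).symm.trans (hUf y z hz.2 hzη))))
      exact ⟨W, hW, fun _ => hW'⟩
  choose W hW hW' using hdis
  haveI := Fintype.ofFinite ↥(f ⁻¹' {η})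
  let T : Set Y := (V₀ : Set Y) ∩ W₀ ∩ (⋂ x, (Y.basicOpen (a x) : Set Y)) ∩ ⋂ x, ⋂ y, (W x y : Set Y)
  have hT : IsOpen T := ((V₀.2.inter W₀.2).inter (isOpen_iInter_of_finite fun x => Opens.isOpen _)).inter
    (isOpen_iInter_of_finite fun x => isOpen_iInter_of_finite fun y => (W x y).2)
  obtain ⟨b, hbT, hηb⟩ := hV₀.exists_basicOpen_le (V := ⟨T, hT⟩)
    ⟨η, ⟨⟨⟨hη₀, hW₀⟩, Set.mem_iInter.mpr ha⟩, Set.mem_iInter₂.mpr hW⟩⟩ hη₀
  let b' := b * ∏ x, a x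
  have hηb' : η ∈ Y.basicOpen b' := by
    rw [Scheme.mem_basicOpen _ _ _ hη₀, map_mul, map_prod]
    exact ((Scheme.mem_basicOpen _ _ _ hη₀).mp hηb).mul
      (IsUnit.prod_iff.mpr fun x _ => (Scheme.mem_basicOpen _ _ _ hη₀).mp (ha x))
  have hb'le : Y.basicOpen b' ≤ Y.basicOpen b := by
    rw [Scheme.basicOpen_mul]; exact inf_le_left
  refine ⟨Y.basicOpen b', hV₀.basicOpen _, hηb', (Y.basicOpen_le _).trans hV₀V', ?_⟩
  let P : ↥(f ⁻¹' {η}) → X.Opens := fun x => U x ⊓ f ⁻¹ᵁ Y.basicOpen b'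
  have hP : ∀ x, IsAffineOpen (P x) ∧ IsFinite (f.resLE (Y.basicOpen b') (P x) inf_le_right) :=
    fun x => hpcs x b' ((Finset.dvd_prod_of_mem a (Finset.mem_univ x)).trans (dvd_mul_left _ _))
  have hcover : f ⁻¹ᵁ Y.basicOpen b' = ⨆ x, P x := by
    refine le_antisymm (fun z hz => ?_) (iSup_le fun x => inf_le_right)
    have hzT := hbT (hb'le hz)
    have hzU : z ∈ (⨆ x, U x : X.Opens) := by
      by_contra hn
      obtain ⟨t, ht⟩ : z ∈ Set.range I.subschemeι := hI ▸ hn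
      have ht' : f (I.subschemeι t) ∈ V₀ := ht ▸ hzT.1.1.1
      refine hW₀' ⟨t, ht'⟩ ?_
      rw [Scheme.Hom.comp_apply]
      show f (I.subschemeι t) ∈ W₀
      rw [ht]; exact hzT.1.1.2
    obtain ⟨x, hx⟩ := Opens.mem_iSup.mp hzU
    exact Opens.mem_iSup.mpr ⟨x, hx, hz⟩
  have hdisj : Pairwise (Function.onFun Disjoint P) := by
    intro x y hxy
    refine disjoint_iff.mpr (le_bot_iff.mp fun z hz => ?_)
    have hzT := hbT (hb'le hz.1.2)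
    exact (hW' x y hxy z ⟨hz.1.1, hz.2.1⟩ (Set.mem_iInter₂.mp hzT.2 x y)).elim
  haveI : IsAffine (f ⁻¹ᵁ Y.basicOpen b' : Scheme.{u}) := by
    show IsAffineOpen (f ⁻¹ᵁ Y.basicOpen b')
    rw [hcover]
    exact IsAffineOpen.iSup_of_disjoint (fun x => (hP x).1) hdisj
  haveI : IsAffine (Y.basicOpen b' : Scheme.{u}) := hV₀.basicOpen _
  haveI : UniversallyClosed (f ∣_ Y.basicOpen b') := by
    refine Groth.Agent.Proj16.universallyClosed_of_finite_cover _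
      (fun x => X.homOfLE (inf_le_right : P x ≤ f ⁻¹ᵁ Y.basicOpen b')) (fun x => ?_) fun z => ?_
    · have := (hP x).2
      have e : X.homOfLE (inf_le_right : P x ≤ f ⁻¹ᵁ Y.basicOpen b') ≫ (f ∣_ Y.basicOpen b') =
          f.resLE (Y.basicOpen b') (P x) inf_le_right := by
        rw [← cancel_mono (Y.basicOpen b').ι, Category.assoc, morphismRestrict_ι, Scheme.homOfLE_ι_assoc,
          Scheme.Hom.resLE_comp_ι]
      rw [e]; infer_instance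
    · have hz : z.1 ∈ (⨆ x, P x : X.Opens) := hcover ▸ z.2
      obtain ⟨x, hx⟩ := Opens.mem_iSup.mp hz
      exact ⟨x, ⟨z.1, hx⟩, Subtype.ext (Scheme.homOfLE_apply _ _)⟩
  haveI : IsIntegralHom (f ∣_ Y.basicOpen b') :=
    IsIntegralHom.iff_universallyClosed_and_isAffineHom.mpr ⟨inferInstance, inferInstance⟩
  exact (IsFinite.iff_isIntegralHom_and_locallyOfFiniteType _).mpr ⟨inferInstance, inferInstance⟩

end Groth.Agent.MorLib.GenFinite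

namespace Groth.Agent.MorLib.GenFinite

open AlgebraicGeometry CategoryTheory Limits TopologicalSpace

variable {X Y : Scheme.{u}}

theorem exists_open_of_finite_fibre (f : X ⟶ Y) [LocallyOfFiniteType f] {η : Y}
    (hfin : (f ⁻¹' {η}).Finite) (x : X) (hx : f x = η) :
    ∃ O : X.Opens, x ∈ O ∧ ∀ z ∈ O, f z = η → z = x := by
  haveI : Finite ↥(f ⁻¹' {η}) := hfin.to_subtype
  haveI : Finite (f.fiber η) := Finite.of_equiv _ (f.fiberHomeo η).symm.toEquiv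
  haveI : DiscreteTopology ↥(f ⁻¹' {η}) := (f.fiberHomeo η).discreteTopology
  obtain ⟨O, hO, hO'⟩ := isOpen_induced_iff.mp (isOpen_discrete ({⟨x, hx⟩} : Set ↥(f ⁻¹' {η})))
  refine ⟨⟨O, hO⟩, ?_, fun z hz hzη => ?_⟩
  · exact (Set.ext_iff.mp hO' ⟨x, hx⟩).mpr rfl
  · exact congrArg Subtype.val ((Set.ext_iff.mp hO' ⟨z, hzη⟩).mp hz)

theorem exists_avoid_inf (f : X ⟶ Y) [QuasiSeparated f] {η : Y} (hη : η ∈ genericPoints Y)
    {V₀ : Y.Opens} (hV₀ : IsAffineOpen V₀) (hη₀ : η ∈ V₀) {U₁ U₂ : X.Opens} (h₁ : IsAffineOpen U₁)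
    (h₂ : IsAffineOpen U₂) (e₁ : U₁ ≤ f ⁻¹ᵁ V₀) (e₂ : U₂ ≤ f ⁻¹ᵁ V₀)
    (h : ∀ z ∈ U₁ ⊓ U₂, f z ≠ η) : ∃ W : Y.Opens, η ∈ W ∧ ∀ z ∈ U₁ ⊓ U₂, f z ∉ W := by
  haveI : CompactSpace ↥(U₁ ⊓ U₂ : X.Opens) := isCompact_iff_compactSpace.mp
    (f.isQuasiSeparated_preimage hV₀.isQuasiSeparated (U₁ : Set X) (U₂ : Set X) e₁ U₁.2 h₁.isCompact
      e₂ U₂.2 h₂.isCompact)
  haveI : CompactSpace ((U₁ ⊓ U₂ : X.Opens) : Scheme.{u}) := ‹_›
  obtain ⟨W, hW, hW'⟩ := exists_avoid f hη (U₁ ⊓ U₂).ι hV₀ hη₀ (fun t => e₁ t.2.1) (fun t => h _ t.2)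
  exact ⟨W, hW, fun z hz => hW' ⟨z, hz⟩⟩

theorem isFinite_iSup {ι : Type*} (f : X ⟶ Y) (V : ι → Y.Opens) (h : ∀ i, IsFinite (f ∣_ V i)) :
    IsFinite (f ∣_ ⨆ i, V i) := by
  refine (IsZariskiLocalAtTarget.iff_of_iSup_eq_top (P := @IsFinite)
    (fun i => (⨆ i, V i).ι ⁻¹ᵁ V i) ?_).mpr fun i => ?_
  · rw [← Scheme.Hom.preimage_iSup, Scheme.Opens.ι_preimage_self]
  · refine ((MorphismProperty.arrow_mk_iso_iff @IsFinite (morphismRestrictRestrict f _ _))).mpr ?_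
    rw [Scheme.Hom.image_preimage_eq_opensRange_inf, Scheme.Opens.opensRange_ι,
      inf_eq_right.mpr (le_iSup V i)]
    exact h i

end Groth.Agent.MorLib.GenFinite
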