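import Groth.Agent.MorLib.LimPro

/-! Constructible subsets in limits of schemes. -/

set_option autoImplicit false
universe u

namespace Groth.Agent.MorLib.LimCons

open AlgebraicGeometry CategoryTheory Limits TopologicalSpace Topology
open Groth.Agent.SpecLib Groth.Agent.EGA41Lib

section gen

variable {X : Scheme.{u}}

theorem ind_of_isOpen {A : Set X} (hA : IsOpen A) : ProCons.IsIndConstructible A :=
  ind_iff.mpr fun V hV => by
    haveI := spectralSpace_affine hV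
    exact co_of_isOpen (hA.preimage continuous_subtype_val)

theorem pro_univ : ProCons.IsProConstructible (Set.univ : Set X) :=
  pro_iff.mpr fun V hV => by
    haveI := spectralSpace_affine hV
    rw [Set.preimage_univ]
    exact cc_of_isClosed isClosed_univ

theorem isCompact_of_pro [CompactSpace X] {A : Set X} (hA : ProCons.IsProConstructible A) :
    IsCompact A := by
  choose V hV hxV using fun x : X =>
    (show ∃ V : X.Opens, IsAffineOpen V ∧ x ∈ V from by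
      obtain ⟨_, ⟨V, hV, rfl⟩, hxV, -⟩ :=
        X.isBasis_affineOpens.exists_subset_of_mem_open (Set.mem_univ x) isOpen_univ
      exact ⟨V, hV, hxV⟩)
  obtain ⟨t, ht⟩ := CompactSpace.elim_nhds_subcover (fun x => (V x : Set _))
    (fun x => (V x).2.mem_nhds (hxV x))
  have e : A = ⋃ x ∈ t, Subtype.val '' (Subtype.val ⁻¹' A : Set (V x : Set X)) := by
    ext y
    simp only [Subtype.image_preimage_coe, Set.mem_iUnion, Set.mem_inter_iff, exists_and_right]
    refine ⟨fun hy => ?_, fun h => h.2⟩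
    obtain ⟨x, hx, hyx⟩ := Set.mem_iUnion₂.mp (ht.ge (Set.mem_univ y))
    exact ⟨⟨x, hx, hyx⟩, hy⟩
  rw [e]
  refine t.isCompact_biUnion fun x _ => ?_
  haveI := spectralSpace_affine (hV x)
  exact (pro_iff.mp hA (V x) (hV x)).isCompact.image continuous_subtype_val

end gen

variable {I : Type u} [SmallCategory I] [IsCofiltered I] {D : I ⥤ Scheme.{u}} {c : Cone D}
  (hc : IsLimit c) [∀ {i j : I} (f : i ⟶ j), IsAffineHom (D.map f)]
include hc

theorem exists_subset_open (i : I) (W : (D.obj i).Opens) (hW : IsCompact (W : Set (D.obj i)))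
    {A B : Set (D.obj i)} (hA : ProCons.IsProConstructible A) (hB : ProCons.IsIndConstructible B)
    (h : c.π.app i ⁻¹' ((W : Set _) ∩ A) ⊆ c.π.app i ⁻¹' B) :
    ∃ (j : I) (φ : j ⟶ i), D.map φ ⁻¹' ((W : Set _) ∩ A) ⊆ D.map φ ⁻¹' B := by
  let T : Over i := Over.mk (𝟙 i)
  haveI : CompactSpace ((opensDiagram D i W).obj T) :=
    isCompact_iff_compactSpace.mp ((D.map T.hom).isCompact_preimage hW)
  haveI : ∀ {a b : Over i} (f : a ⟶ b), IsAffineHom ((opensDiagram D i W).map f) :=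
    fun f => inferInstance
  let ι₁ : (opensDiagram D i W).obj T ⟶ D.obj i := (D.map T.hom ⁻¹ᵁ W).ι ≫ D.map T.hom
  obtain ⟨j, f, hj⟩ := LimPro.exists_subset (isLimitOpensCone D c hc i W) T
    (A := ι₁ ⁻¹' A) (B := ι₁ ⁻¹' B) (ProConsLib.preimage hA _)
    (LimPro.isIndConstructible_preimage hB _) (by
      intro s hs
      have e : (opensCone D c i W).π.app T ≫ ι₁ = (c.π.app i ⁻¹ᵁ W).ι ≫ c.π.app i := by
        show (c.π.app T.left).resLE _ _ _ ≫ _ ≫ _ = _
        erw [Scheme.Hom.resLE_comp_ι_assoc, c.w]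
      change ((opensCone D c i W).π.app T ≫ ι₁) s ∈ A at hs
      show ((opensCone D c i W).π.app T ≫ ι₁) s ∈ B
      rw [e] at hs ⊢
      exact h ⟨s.2, hs⟩)
  refine ⟨j.left, j.hom, fun y ⟨hyW, hyA⟩ => ?_⟩
  have e : (opensDiagram D i W).map f ≫ ι₁ = (D.map j.hom ⁻¹ᵁ W).ι ≫ D.map j.hom := by
    show (D.map f.left).resLE _ _ _ ≫ _ ≫ _ = _
    erw [Scheme.Hom.resLE_comp_ι_assoc, ← D.map_comp, Over.w f]
  let y' : ((opensDiagram D i W).obj j) := ⟨y, hyW⟩
  have h1 : ((opensDiagram D i W).map f ≫ ι₁) y' ∈ A := by rw [e]; exact hyA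
  have h2 : ((opensDiagram D i W).map f ≫ ι₁) y' ∈ B := hj h1
  rw [e] at h2
  exact h2

/-- Openness of a locally constructible set descends to a late stage. -/
theorem exists_isOpen (i : I) [CompactSpace (D.obj i)] {Z : Set (D.obj i)}
    (hp : ProCons.IsProConstructible Z) (hi : ProCons.IsIndConstructible Z)
    (h : IsOpen (c.π.app i ⁻¹' Z : Set c.pt)) :
    ∃ (j : I) (φ : j ⟶ i), IsOpen (D.map φ ⁻¹' Z) := by
  haveI := isAffineHom_π_app D c hc i
  haveI : CompactSpace c.pt := QuasiCompact.compactSpace_of_compactSpace (c.π.app i)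
  obtain ⟨a, A, hA, hA'⟩ := exists_preimage_eq D c hc ⟨_, h⟩
    (isCompact_of_pro (X := c.pt) (ProConsLib.preimage hp (c.π.app i)))
  let k := IsCofiltered.min i a
  let p : k ⟶ i := IsCofiltered.minToLeft i a
  let q : k ⟶ a := IsCofiltered.minToRight i a
  haveI : CompactSpace (D.obj k) := QuasiCompact.compactSpace_of_compactSpace (D.map p)
  have hA'' : ∀ s, c.π.app i s ∈ Z ↔ D.map q (c.π.app k s) ∈ A := fun s => by
    rw [← Scheme.Hom.comp_apply, c.w]
    exact (SetLike.ext_iff.mp hA' s).symm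
  obtain ⟨l, f, hl⟩ := LimPro.exists_subset hc k (A := D.map p ⁻¹' Z) (B := D.map q ⁻¹' A)
    (ProConsLib.preimage hp _) (ind_of_isOpen (A.2.preimage (D.map q).continuous)) (fun s hs => by
      change D.map p (c.π.app k s) ∈ Z at hs
      rw [← Scheme.Hom.comp_apply, c.w] at hs
      exact (hA'' s).mp hs)
  obtain ⟨m, g, hm⟩ := exists_subset_open hc l (D.map f ⁻¹ᵁ D.map q ⁻¹ᵁ A)
    ((D.map f).isCompact_preimage ((D.map q).isCompact_preimage hA)) (A := Set.univ)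
    (B := D.map f ⁻¹' (D.map p ⁻¹' Z))
    pro_univ
    (LimPro.isIndConstructible_preimage (LimPro.isIndConstructible_preimage hi _) _) (fun s hs => by
      have h1 : D.map q (D.map f (c.π.app l s)) ∈ A := hs.1
      show D.map p (D.map f (c.π.app l s)) ∈ Z
      simp only [← Scheme.Hom.comp_apply, Category.assoc, c.w] at h1 ⊢
      have h2 := (hA'' s).mpr
      rw [← Scheme.Hom.comp_apply, c.w] at h2
      exact h2 h1)
  refine ⟨m, g ≫ f ≫ p, ?_⟩
  have e : D.map (g ≫ f ≫ p) ⁻¹' Z = D.map g ⁻¹' (D.map f ⁻¹' (D.map q ⁻¹' A)) := by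
    ext y
    simp only [Functor.map_comp, Set.mem_preimage, Scheme.Hom.comp_apply]
    exact ⟨fun hy => hl hy, fun hy => hm ⟨hy, trivial⟩⟩
  rw [e]
  exact ((A.2.preimage (D.map q).continuous).preimage (D.map f).continuous).preimage (D.map g).continuous

/-- Local closedness of a locally constructible set descends to a late stage. -/
theorem exists_isLocallyClosed (i : I) [CompactSpace (D.obj i)] {Z : Set (D.obj i)}
    (hp : ProCons.IsProConstructible Z) (hi : ProCons.IsIndConstructible Z)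
    (h : IsLocallyClosed (c.π.app i ⁻¹' Z : Set c.pt)) :
    ∃ (j : I) (φ : j ⟶ i), IsLocallyClosed (D.map φ ⁻¹' Z) := by
  haveI := isAffineHom_π_app D c hc i
  haveI : CompactSpace c.pt := QuasiCompact.compactSpace_of_compactSpace (c.π.app i)
  obtain ⟨O, C, hO, hC, hOC⟩ := h
  obtain ⟨W, hWc, hWo, hUW, hWO⟩ := PrespectralSpace.exists_isCompact_and_isOpen_between
    (isCompact_of_pro (X := c.pt) (ProConsLib.preimage hp (c.π.app i))) hO
    (hOC ▸ Set.inter_subset_left)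
  obtain ⟨a, A, hA, hA'⟩ := exists_preimage_eq D c hc ⟨W, hWo⟩ hWc
  let k := IsCofiltered.min i a
  let p : k ⟶ i := IsCofiltered.minToLeft i a
  let q : k ⟶ a := IsCofiltered.minToRight i a
  haveI : CompactSpace (D.obj k) := QuasiCompact.compactSpace_of_compactSpace (D.map p)
  have hA'' : ∀ s, D.map q (c.π.app k s) ∈ A ↔ s ∈ W := fun s => by
    rw [← Scheme.Hom.comp_apply, c.w]
    exact SetLike.ext_iff.mp hA' s
  obtain ⟨l, f, hl⟩ := LimPro.exists_subset hc k (A := D.map p ⁻¹' Z) (B := D.map q ⁻¹' A)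
    (ProConsLib.preimage hp _) (ind_of_isOpen (A.2.preimage (D.map q).continuous)) (fun s hs => by
      change D.map p (c.π.app k s) ∈ Z at hs
      rw [← Scheme.Hom.comp_apply, c.w] at hs
      exact (hA'' s).mpr (hUW hs))
  let B : (D.obj l).Opens := D.map f ⁻¹ᵁ D.map q ⁻¹ᵁ A
  let T : Over l := Over.mk (𝟙 l)
  haveI : CompactSpace ((opensDiagram D l B).obj T) := isCompact_iff_compactSpace.mp
    ((D.map T.hom).isCompact_preimage ((D.map f).isCompact_preimage ((D.map q).isCompact_preimage hA)))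
  haveI : ∀ {a b : Over l} (g : a ⟶ b), IsAffineHom ((opensDiagram D l B).map g) :=
    fun g => inferInstance
  let ι₁ := (D.map T.hom ⁻¹ᵁ B).ι ≫ D.map T.hom ≫ D.map f ≫ D.map p
  have hZ' : IsOpen ((opensCone D c l B).π.app T ⁻¹' (ι₁ ⁻¹' Z)ᶜ : Set (c.π.app l ⁻¹ᵁ B : Scheme.{u})) := by
    have e : (opensCone D c l B).π.app T ≫ ι₁ = (c.π.app l ⁻¹ᵁ B).ι ≫ c.π.app i := by
      show (c.π.app T.left).resLE _ _ _ ≫ ι₁ = _
      simp only [ι₁, Scheme.Hom.resLE_comp_ι_assoc, Category.assoc]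
      erw [c.w_assoc, c.w_assoc, c.w]
    have e' : ((opensCone D c l B).π.app T ⁻¹' (ι₁ ⁻¹' Z)ᶜ : Set (c.π.app l ⁻¹ᵁ B : Scheme.{u})) =
        (c.π.app l ⁻¹ᵁ B).ι ⁻¹' Cᶜ := by
      ext s
      show ¬ ((opensCone D c l B).π.app T ≫ ι₁) s ∈ Z ↔ ¬ (c.π.app l ⁻¹ᵁ B).ι s ∈ C
      rw [e]
      refine not_congr ⟨fun hs => ?_, fun hs => ?_⟩
      · exact (show (c.π.app l ⁻¹ᵁ B).ι s ∈ O ∩ C from hOC ▸ hs).2
      · have h1 : D.map q (D.map f (c.π.app l s.1)) ∈ A := s.2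
        rw [← Scheme.Hom.comp_apply _ (D.map f), c.w] at h1
        have h2 : s.1 ∈ (c.π.app i ⁻¹' Z : Set c.pt) := hOC ▸ ⟨hWO ((hA'' s.1).mp h1), hs⟩
        exact h2
    rw [e']
    exact hC.isOpen_compl.preimage (c.π.app l ⁻¹ᵁ B).ι.continuous
  obtain ⟨m, g, hm⟩ := exists_isOpen (isLimitOpensCone D c hc l B) T (Z := (ι₁ ⁻¹' Z)ᶜ)
    (ind_iff_compl.mp (LimPro.isIndConstructible_preimage hi _))
    (ind_iff_compl.mpr (by rw [compl_compl]; exact ProConsLib.preimage hp _)) hZ'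
  obtain ⟨G, hG, hG'⟩ := isOpen_induced_iff.mp hm
  refine ⟨m.left, m.hom ≫ f ≫ p, (D.map m.hom ⁻¹ᵁ B : Set _), Gᶜ, (D.map m.hom ⁻¹ᵁ B).2,
    hG.isClosed_compl, ?_⟩
  have e : (opensDiagram D l B).map g ≫ ι₁ = (D.map m.hom ⁻¹ᵁ B).ι ≫ D.map (m.hom ≫ f ≫ p) := by
    show (D.map g.left).resLE _ _ _ ≫ ι₁ = _
    simp only [ι₁, Scheme.Hom.resLE_comp_ι_assoc, Category.assoc]
    erw [← D.map_comp_assoc, Over.w g]
    simp
  ext y
  constructor
  · intro hy
    have hyB : y ∈ D.map m.hom ⁻¹ᵁ B := by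
      simp only [Functor.map_comp, Set.mem_preimage, Scheme.Hom.comp_apply] at hy
      exact hl hy
    refine ⟨hyB, fun hyG => ?_⟩
    have h1 : ¬ ((opensDiagram D l B).map g ≫ ι₁) ⟨y, hyB⟩ ∈ Z := (Set.ext_iff.mp hG' ⟨y, hyB⟩).mp hyG
    rw [e] at h1
    exact h1 hy
  · rintro ⟨hyB, hyG⟩
    by_contra hy
    refine hyG ((Set.ext_iff.mp hG' ⟨y, hyB⟩).mpr ?_)
    show ¬ ((opensDiagram D l B).map g ≫ ι₁) ⟨y, hyB⟩ ∈ Z
    rw [e]
    exact hy

omit [IsCofiltered I] [∀ {i j : I} (f : i ⟶ j), IsAffineHom (D.map f)] hc in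
theorem isConstructible_preimage {X Y : Scheme.{u}} (f : X ⟶ Y) [QuasiCompact f] [CompactSpace X]
    [QuasiSeparatedSpace X] [CompactSpace Y] [QuasiSeparatedSpace Y] {Z : Set Y}
    (hZ : IsConstructible Z) : IsConstructible (f ⁻¹' Z) :=
  ProConsLib.isConstructible_preimage f.isSpectralMap hZ

theorem exists_isConstructible_preimage_eq (i₀ : I) [CompactSpace (D.obj i₀)]
    [QuasiSeparatedSpace (D.obj i₀)] {Z : Set c.pt} (hZ : IsConstructible Z) :
    ∃ (i : I) (_ : i ⟶ i₀) (Zi : Set (D.obj i)),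
      IsConstructible Zi ∧ (c.π.app i ⁻¹' Zi : Set c.pt) = Z := by
  haveI := isAffineHom_π_app D c hc i₀
  haveI : CompactSpace c.pt := QuasiCompact.compactSpace_of_compactSpace (c.π.app i₀)
  haveI hq : ∀ (j : I) (φ : j ⟶ i₀), CompactSpace (D.obj j) ∧ QuasiSeparatedSpace (D.obj j) :=
    fun j φ => ⟨QuasiCompact.compactSpace_of_compactSpace (D.map φ),
      quasiSeparatedSpace_of_quasiSeparated (D.map φ)⟩
  have hmv : ∀ {i j : I} (g : j ⟶ i) (_ : i ⟶ i₀) (Zi : Set (D.obj i)), IsConstructible Zi →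
      IsConstructible (D.map g ⁻¹' Zi) := fun {i j} g φ Zi h => by
    obtain ⟨_, _⟩ := hq i φ
    obtain ⟨_, _⟩ := hq j (g ≫ φ)
    exact isConstructible_preimage _ h
  refine IsConstructible.empty_union_induction (p := fun s _ => ∃ (i : I) (_ : i ⟶ i₀) (Zi : Set (D.obj i)),
      IsConstructible Zi ∧ (c.π.app i ⁻¹' Zi : Set c.pt) = s) ?_ ?_ ?_ hZ
  · intro U hU hU'
    obtain ⟨a, A, hA, hA'⟩ := exists_preimage_eq D c hc ⟨U, hU⟩ hU'.isCompact
    obtain ⟨_, _⟩ := hq _ (IsCofiltered.minToRight a i₀)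
    let B := D.map (IsCofiltered.minToLeft a i₀) ⁻¹ᵁ A
    refine ⟨_, IsCofiltered.minToRight a i₀, B,
      ((D.map (IsCofiltered.minToLeft a i₀)).isCompact_preimage hA).isConstructible B.2, ?_⟩
    ext s
    show D.map (IsCofiltered.minToLeft a i₀) (c.π.app _ s) ∈ A ↔ s ∈ U
    rw [← Scheme.Hom.comp_apply, c.w]
    exact SetLike.ext_iff.mp hA' s
  · rintro s _ t _ ⟨i, φ, A, hA, rfl⟩ ⟨j, ψ, B, hB, rfl⟩
    obtain ⟨k, g, g', hk⟩ := IsCofiltered.cospan φ ψ
    refine ⟨k, g ≫ φ, _, (hmv g φ A hA).union (hmv g' ψ B hB), ?_⟩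
    ext x
    simp only [Set.mem_preimage, Set.mem_union, ← Scheme.Hom.comp_apply]
    erw [c.w, c.w]
  · rintro s _ ⟨i, φ, A, hA, rfl⟩
    exact ⟨i, φ, _, hA.compl, rfl⟩

end Groth.Agent.MorLib.LimCons
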