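import Groth.Agent.QCoh.FlatOver
import Groth.Agent.KFlatLib.Scheme.Pullback
import Mathlib.AlgebraicGeometry.Morphisms.Flat

/-! Base change of flatness of a module over the base at a point. -/

set_option backward.isDefEq.respectTransparency false
set_option backward.isDefEq.respectTransparency.types false
set_option linter.style.haveILetI false
set_option autoImplicit false

universe u

open CategoryTheory CategoryTheory.Limits AlgebraicGeometry TopologicalSpace Opposite TensorProduct

namespace Groth.Agent.MorLib.FlatBC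

theorem flat_pushout_tensor {R A R' B' N : Type u} [CommRing R] [CommRing A] [CommRing R'] [CommRing B']
    [Algebra R A] [Algebra R R'] [Algebra A B'] [Algebra R' B'] [Algebra R B'] [IsScalarTower R A B']
    [IsScalarTower R R' B'] [Algebra.IsPushout R R' A B'] [AddCommGroup N] [Module A N] [Module R N]
    [IsScalarTower R A N] [Module.Flat R N] : Module.Flat R' (B' ⊗[A] N) := by
  haveI hpo : Algebra.IsPushout R A R' B' := Algebra.IsPushout.symm ‹_›
  let fA : N →ₗ[R] B' ⊗[A] N := (TensorProduct.mk A B' N 1).restrictScalars R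
  let ψ : R' ⊗[R] N →ₗ[R'] B' ⊗[A] N := LinearMap.liftBaseChange R' fA
  let hb : IsBaseChange A (IsScalarTower.toAlgHom R R' B').toLinearMap := hpo.out
  let e₁ : N ⊗[A] B' ≃ₗ[A] N ⊗[R] R' := hb.tensorEquiv N
  let e : R' ⊗[R] N ≃+ B' ⊗[A] N :=
    ((TensorProduct.comm R R' N).toAddEquiv.trans e₁.symm.toAddEquiv).trans
      (TensorProduct.comm A N B').toAddEquiv
  have he : ∀ z, e z = ψ z := fun z => by
    induction z using TensorProduct.induction_on with
    | zero => simp
    | add a b ha hb => simp [ha, hb]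
    | tmul a n =>
      have h1 : e₁.symm (n ⊗ₜ[R] a) = n ⊗ₜ[A] algebraMap R' B' a := by
        rw [LinearEquiv.symm_apply_eq]
        simp only [e₁, IsBaseChange.tensorEquiv, LinearEquiv.trans_apply]
        erw [LinearEquiv.lTensor_tmul]
        have : hb.equiv.symm (algebraMap R' B' a) = (1 : A) ⊗ₜ[R] a := by
          rw [LinearEquiv.symm_apply_eq, IsBaseChange.equiv_tmul, one_smul]; rfl
        rw [this]
        simp
      have h2 : e (a ⊗ₜ[R] n) = TensorProduct.comm A N B' (e₁.symm (n ⊗ₜ[R] a)) := rfl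
      rw [h2, h1]
      simp [ψ, fA, TensorProduct.smul_tmul', Algebra.smul_def]
  have hbij : Function.Bijective ψ := by
    rw [show (ψ : R' ⊗[R] N → B' ⊗[A] N) = e from funext fun z => (he z).symm]
    exact e.bijective
  exact Module.Flat.of_linearEquiv (LinearEquiv.ofBijective ψ hbij).symm

theorem flat_tensor_of_flat {R' B' L P : Type u} [CommRing R'] [CommRing B'] [CommRing L]
    [Algebra R' B'] [Algebra B' L] [Algebra R' L] [IsScalarTower R' B' L] [Module.Flat B' L]
    [AddCommGroup P] [Module B' P] [Module R' P] [IsScalarTower R' B' P] [Module.Flat R' P] :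
    Module.Flat R' (L ⊗[B'] P) := by
  rw [Module.Flat.iff_lTensor_injectiveₛ]
  intro Q _ _ K
  have h1 := Module.Flat.lTensor_preserves_injective_linearMap (M := P) K.subtype Subtype.val_injective
  have h2 : Function.Injective ((AlgebraTensorModule.lTensor B' P K.subtype).lTensor L) :=
    Module.Flat.lTensor_preserves_injective_linearMap _ h1
  have hcomm : ∀ z, (K.subtype.lTensor (L ⊗[B'] P)) z =
      (AlgebraTensorModule.assoc R' B' B' L P Q).symm
        ((AlgebraTensorModule.lTensor B' P K.subtype).lTensor L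
          (AlgebraTensorModule.assoc R' B' B' L P K z)) := fun z => by
    induction z using TensorProduct.induction_on with
    | zero => simp
    | add a b ha hb => simp only [map_add, ha, hb]
    | tmul w k =>
      induction w using TensorProduct.induction_on with
      | zero => simp
      | add a b ha hb => simp only [TensorProduct.add_tmul, map_add, ha, hb]
      | tmul l p => simp
  intro a b hab
  rw [hcomm, hcomm] at hab
  exact (AlgebraTensorModule.assoc R' B' B' L P K).injective
    (h2 ((AlgebraTensorModule.assoc R' B' B' L P Q).symm.injective hab))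

theorem flat_core {R A R' B' L O N : Type u} [CommRing R] [CommRing A] [CommRing R'] [CommRing B']
    [CommRing L] [CommRing O] [Algebra R A] [Algebra R R'] [Algebra A B'] [Algebra R' B'] [Algebra R B']
    [IsScalarTower R A B'] [IsScalarTower R R' B'] [Algebra.IsPushout R R' A B']
    [Algebra B' L] [Algebra A L] [Algebra R' L] [IsScalarTower R' B' L] [IsScalarTower A B' L]
    [Module.Flat B' L] [Algebra A O] (S : Submonoid A) [IsLocalization S O] [Algebra O L]
    [IsScalarTower A O L]
    [AddCommGroup N] [Module O N] [Module A N] [IsScalarTower A O N] [Module R N] [IsScalarTower R A N]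
    [Module.Flat R N] : Module.Flat R' (L ⊗[O] N) := by
  haveI : Module.Flat R' (B' ⊗[A] N) := flat_pushout_tensor (R := R)
  haveI : Module.Flat R' (L ⊗[B'] (B' ⊗[A] N)) := flat_tensor_of_flat
  haveI : Module.Flat R' (L ⊗[A] N) := Module.Flat.of_linearEquiv
    ((AlgebraTensorModule.cancelBaseChange A B' L L N).restrictScalars R').symm
  haveI := IsLocalization.tensorProduct_compatibleSMul S O L N
  exact Module.Flat.of_linearEquiv ((equivOfCompatibleSMul A O L L N).restrictScalars R')

theorem isFlatOverAt_baseChange {X S X' S' : Scheme.{u}} (f : X ⟶ S) (f' : X' ⟶ S') (g' : X' ⟶ X)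
    (g : S' ⟶ S) (hc : IsPullback g' f' f g) (F : X.Modules) (x' : X')
    (h : FlatMod.IsFlatOverAt f F (g' x')) :
    FlatMod.IsFlatOverAt f' ((Scheme.Modules.pullback g').obj F) x' := by
  obtain ⟨U, hU, hxU, -⟩ := exists_isAffineOpen_mem_and_subset (x := f (g' x')) (U := ⊤) trivial
  obtain ⟨V, hV, hxV, hVU'⟩ := exists_isAffineOpen_mem_and_subset (x := g' x') (U := f ⁻¹ᵁ U) hxU
  have hVU : V ≤ f ⁻¹ᵁ U := hVU'
  have hyU : f' x' ∈ g ⁻¹ᵁ U := by
    show g (f' x') ∈ U
    rw [← Scheme.Hom.comp_apply, ← hc.w]; exact hxU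
  obtain ⟨U', hU', hyU', hU'U'⟩ := exists_isAffineOpen_mem_and_subset (x := f' x') (U := g ⁻¹ᵁ U) hyU
  have hU'U : U' ≤ g ⁻¹ᵁ U := hU'U'
  let W : X'.Opens := g' ⁻¹ᵁ V ⊓ f' ⁻¹ᵁ U'
  have hxW : x' ∈ W := ⟨hxV, hyU'⟩
  have hW : IsAffineOpen W := by
    haveI : IsAffine _ := hU
    haveI : IsAffine _ := hU'
    haveI : IsAffine _ := hV
    exact .of_isIso (Scheme.Hom.isPullback_resLE hc hU'U hVU (UY := W) rfl).isoPullback.hom
  have hpo := (isIso_pushoutSection_iff hc hU'U hVU (UY := W) rfl).mp
    (isIso_pushoutSection_of_isAffineOpen hc hU'U hVU rfl hU hU' hV)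
  letI : Algebra Γ(S, U) Γ(X, V) := (f.appLE U V hVU).hom.toAlgebra
  letI : Algebra Γ(S, U) Γ(S', U') := (g.appLE U U' hU'U).hom.toAlgebra
  letI : Algebra Γ(X, V) Γ(X', W) := (g'.appLE V W inf_le_left).hom.toAlgebra
  letI : Algebra Γ(S', U') Γ(X', W) := (f'.appLE U' W inf_le_right).hom.toAlgebra
  letI : Algebra Γ(S, U) Γ(X', W) := (f.appLE U V hVU ≫ g'.appLE V W inf_le_left).hom.toAlgebra
  haveI : IsScalarTower Γ(S, U) Γ(X, V) Γ(X', W) := .of_algebraMap_eq fun _ => rfl
  haveI : IsScalarTower Γ(S, U) Γ(S', U') Γ(X', W) := .of_algebraMap_eq fun r => congr($(hpo.w).hom r)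
  haveI : Algebra.IsPushout Γ(S, U) Γ(S', U') Γ(X, V) Γ(X', W) :=
    CommRingCat.isPushout_iff_isPushout.mp hpo.flip
  letI : Algebra Γ(X', W) (X'.presheaf.stalk x') := (X'.presheaf.germ W x' hxW).hom.toAlgebra
  letI : Algebra Γ(S', U') (X'.presheaf.stalk x') :=
    (f'.appLE U' W inf_le_right ≫ X'.presheaf.germ W x' hxW).hom.toAlgebra
  letI : Algebra Γ(X, V) (X'.presheaf.stalk x') :=
    (g'.appLE V W inf_le_left ≫ X'.presheaf.germ W x' hxW).hom.toAlgebra
  haveI : IsScalarTower Γ(S', U') Γ(X', W) (X'.presheaf.stalk x') := .of_algebraMap_eq fun _ => rfl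
  haveI : IsScalarTower Γ(X, V) Γ(X', W) (X'.presheaf.stalk x') := .of_algebraMap_eq fun _ => rfl
  haveI : Module.Flat Γ(X', W) (X'.presheaf.stalk x') :=
    haveI := hW.isLocalization_stalk ⟨x', hxW⟩
    IsLocalization.flat (X'.presheaf.stalk x') (hW.primeIdealOf ⟨x', hxW⟩).asIdeal.primeCompl
  letI : Algebra Γ(X, V) (X.presheaf.stalk (g' x')) := (X.presheaf.germ V (g' x') hxV).hom.toAlgebra
  haveI := hV.isLocalization_stalk ⟨g' x', hxV⟩
  letI : Algebra (X.presheaf.stalk (g' x')) (X'.presheaf.stalk x') := (g'.stalkMap x').hom.toAlgebra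
  haveI : IsScalarTower Γ(X, V) (X.presheaf.stalk (g' x')) (X'.presheaf.stalk x') :=
    .of_algebraMap_eq fun a => by
      show X'.presheaf.germ W x' hxW (g'.appLE V W inf_le_left a) =
        g'.stalkMap x' (X.presheaf.germ V (g' x') hxV a)
      rw [Scheme.Hom.germ_stalkMap_apply g' V x' hxV a]
      exact X'.presheaf.germ_res_apply (homOfLE inf_le_left) x' hxW _
  letI : Module Γ(X, V) (F.presheaf.stalk (g' x')) :=
    Module.compHom _ (X.presheaf.germ V (g' x') hxV).hom
  haveI : IsScalarTower Γ(X, V) (X.presheaf.stalk (g' x')) (F.presheaf.stalk (g' x')) :=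
    .of_algebraMap_smul fun _ _ => rfl
  letI : Module Γ(S, U) (F.presheaf.stalk (g' x')) :=
    Module.compHom _ ((f.appLE U V hVU) ≫ X.presheaf.germ V (g' x') hxV).hom
  haveI : IsScalarTower Γ(S, U) Γ(X, V) (F.presheaf.stalk (g' x')) :=
    .of_algebraMap_smul fun _ _ => rfl
  haveI : Module.Flat Γ(S, U) (F.presheaf.stalk (g' x')) :=
    (QCoh.isFlatOverAt_iff f hU hVU hxV).mp h
  have key : Module.Flat Γ(S', U')
      (X'.presheaf.stalk x' ⊗[X.presheaf.stalk (g' x')] F.presheaf.stalk (g' x')) :=
    flat_core (R := Γ(S, U)) (A := Γ(X, V)) (B' := Γ(X', W))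
      (hV.primeIdealOf ⟨g' x', hxV⟩).asIdeal.primeCompl
  rw [QCoh.isFlatOverAt_iff f' hU' (U := W) inf_le_right hxW]
  let e := ((KFlatLib.stalkPullbackIso g' x').app F).toLinearEquiv
  letI : Module Γ(S', U') (((Scheme.Modules.pullback g').obj F).presheaf.stalk x') :=
    Module.compHom _ ((f'.appLE U' W inf_le_right) ≫ X'.presheaf.germ W x' hxW).hom
  haveI : IsScalarTower Γ(S', U') (X'.presheaf.stalk x')
      (((Scheme.Modules.pullback g').obj F).presheaf.stalk x') := .of_algebraMap_smul fun _ _ => rfl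
  let e' : (((Scheme.Modules.pullback g').obj F).presheaf.stalk x') ≃ₗ[Γ(S', U')]
      X'.presheaf.stalk x' ⊗[X.presheaf.stalk (g' x')] F.presheaf.stalk (g' x') :=
    { toFun := e
      invFun := e.symm
      left_inv := e.left_inv
      right_inv := e.right_inv
      map_add' := e.map_add
      map_smul' := fun r m => by
        rw [RingHom.id_apply, ← algebraMap_smul (X'.presheaf.stalk x') r]
        exact e.map_smul _ m }
  exact Module.Flat.of_linearEquiv e'

end Groth.Agent.MorLib.FlatBC
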