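import Mathlib

/-! The base change of a cofiltered limit of schemes is the limit of the base changes. -/

set_option autoImplicit false
universe u

namespace Groth.Agent.MorLib.BC

open AlgebraicGeometry CategoryTheory Limits

variable {I : Type u} [SmallCategory I] (D : I ⥤ Scheme.{u}) {i : I} {Xi : Scheme.{u}}
  (xi : Xi ⟶ D.obj i)

/-- The diagram of base changes. -/
noncomputable def diag : Over i ⥤ Scheme.{u} where
  obj j := pullback xi (D.map j.hom)
  map {j k} f := pullback.map _ _ _ _ (𝟙 Xi) (D.map f.left) (𝟙 _) (by simp)
    (by rw [Category.comp_id, ← D.map_comp, Over.w f])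
  map_id j := by
    apply pullback.hom_ext
    · rw [pullback.lift_fst, Category.id_comp, Category.comp_id]
    · rw [pullback.lift_snd, Category.id_comp, Over.id_left, D.map_id, Category.comp_id]
  map_comp f g := by
    apply pullback.hom_ext
    · simp only [Category.assoc, pullback.lift_fst, pullback.lift_fst_assoc, Category.comp_id]
    · simp only [Category.assoc, pullback.lift_snd, pullback.lift_snd_assoc, Over.comp_left,
        D.map_comp]

/-- The projections to the base. -/
noncomputable def toBase : diag D xi ⟶ Over.forget i ⋙ D where
  app j := pullback.snd xi (D.map j.hom)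
  naturality j k f := pullback.lift_snd _ _ _

/-- The projections to the initial stage. -/
noncomputable def toStart : diag D xi ⟶ (Functor.const (Over i)).obj Xi where
  app j := pullback.fst xi (D.map j.hom)
  naturality j k f := pullback.lift_fst _ _ _

theorem map_fst {j k : Over i} (f : j ⟶ k) :
    (diag D xi).map f ≫ pullback.fst xi (D.map k.hom) = pullback.fst xi (D.map j.hom) :=
  (pullback.lift_fst _ _ _).trans (Category.comp_id _)

theorem map_snd {j k : Over i} (f : j ⟶ k) :
    (diag D xi).map f ≫ pullback.snd xi (D.map k.hom) = pullback.snd xi (D.map j.hom) ≫ D.map f.left :=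
  pullback.lift_snd _ _ _

theorem isPullback_map {j k : Over i} (f : j ⟶ k) :
    IsPullback ((diag D xi).map f) (pullback.snd xi (D.map j.hom)) (pullback.snd xi (D.map k.hom))
      (D.map f.left) := by
  refine IsPullback.of_right ?_ (map_snd D xi f) (IsPullback.of_hasPullback xi (D.map k.hom))
  rw [map_fst, ← D.map_comp, Over.w f]
  exact IsPullback.of_hasPullback xi (D.map j.hom)

variable {c : Cone D} {X : Scheme.{u}} {qX : X ⟶ Xi} {pX : X ⟶ c.pt}
  (hX : IsPullback qX pX xi (c.π.app i))

/-- The map from the base change of the limit to a stage. -/
noncomputable def proj (j : Over i) : X ⟶ pullback xi (D.map j.hom) :=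
  pullback.lift qX (pX ≫ c.π.app j.left) (by rw [Category.assoc, c.w, hX.w])

@[reassoc (attr := simp)]
theorem proj_fst (j : Over i) : proj D xi hX j ≫ pullback.fst xi (D.map j.hom) = qX :=
  pullback.lift_fst _ _ _

@[reassoc (attr := simp)]
theorem proj_snd (j : Over i) :
    proj D xi hX j ≫ pullback.snd xi (D.map j.hom) = pX ≫ c.π.app j.left :=
  pullback.lift_snd _ _ _

/-- The cone of base changes. -/
noncomputable def cone : Cone (diag D xi) where
  pt := X
  π :=
    { app := proj D xi hX
      naturality := fun j k f => by
        refine (Category.id_comp _).trans ?_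
        apply pullback.hom_ext
        · refine (proj_fst D xi hX k).trans ?_
          refine Eq.trans ?_ (Category.assoc _ _ _).symm
          exact (proj_fst D xi hX j).symm.trans (congrArg (proj D xi hX j ≫ ·) (map_fst D xi f).symm)
        · refine (proj_snd D xi hX k).trans ?_
          refine Eq.trans ?_ (Category.assoc _ _ _).symm
          refine Eq.trans ?_ (congrArg (proj D xi hX j ≫ ·) (map_snd D xi f).symm)
          refine Eq.trans ?_ (Category.assoc _ _ _)
          refine Eq.trans ?_ (congrArg (· ≫ D.map f.left) (proj_snd D xi hX j).symm)
          rw [Category.assoc, c.w] }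

theorem isPullback_proj (j : Over i) :
    IsPullback (proj D xi hX j) pX (pullback.snd xi (D.map j.hom)) (c.π.app j.left) := by
  refine IsPullback.of_right ?_ (proj_snd D xi hX j) (IsPullback.of_hasPullback xi (D.map j.hom))
  rw [proj_fst, c.w]
  exact hX

attribute [local instance] CategoryTheory.isConnected_of_hasTerminal in
/-- The base change of the limit is the limit of the base changes. -/
noncomputable def isLimitCone [IsCofiltered I] (hc : IsLimit c) : IsLimit (cone D xi hX) :=
  isLimitOfIsPullbackOfIsConnected (toBase D xi) _ (c.whisker (Over.forget i))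
    { hom := pX, w := fun j => (proj_snd D xi hX j).symm }
    (fun j => isPullback_proj D xi hX j)
    ((Functor.Initial.isLimitWhiskerEquiv (Over.forget i) c).symm hc)

instance isAffineHom_map [∀ {i j} (f : i ⟶ j), IsAffineHom (D.map f)] {j k : Over i} (f : j ⟶ k) :
    IsAffineHom ((diag D xi).map f) :=
  MorphismProperty.of_isPullback (isPullback_map D xi f).flip (inferInstanceAs (IsAffineHom (D.map f.left)))

set_option backward.isDefEq.respectTransparency.types false in
instance isAffineHom_fst [∀ {i j} (f : i ⟶ j), IsAffineHom (D.map f)] (j : Over i) :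
    IsAffineHom (pullback.fst xi (D.map j.hom)) :=
  MorphismProperty.pullback_fst _ _ inferInstance

set_option backward.isDefEq.respectTransparency.types false in
instance compactSpace_obj [∀ {i j} (f : i ⟶ j), IsAffineHom (D.map f)] [CompactSpace Xi] (j : Over i) :
    CompactSpace ((diag D xi).obj j) := by
  show CompactSpace ↥(pullback xi (D.map j.hom))
  exact QuasiCompact.compactSpace_of_compactSpace (pullback.fst xi (D.map j.hom))

set_option backward.isDefEq.respectTransparency.types false in
instance quasiSeparatedSpace_obj [∀ {i j} (f : i ⟶ j), IsAffineHom (D.map f)] [QuasiSeparatedSpace Xi]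
    (j : Over i) : QuasiSeparatedSpace ((diag D xi).obj j) := by
  show QuasiSeparatedSpace ↥(pullback xi (D.map j.hom))
  exact quasiSeparatedSpace_of_quasiSeparated (pullback.fst xi (D.map j.hom))

theorem toStart_app_comp (j : Over i) :
    (toStart D xi).app j ≫ xi = pullback.snd xi (D.map j.hom) ≫ D.map j.hom :=
  pullback.condition

end Groth.Agent.MorLib.BC
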