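import Groth.Agent.MorLib.UnivHomeo
import Mathlib.RingTheory.Ideal.GoingUp
import Mathlib.RingTheory.IntegralClosure.IntegralRestrict
import Mathlib.FieldTheory.PurelyInseparable.Basic
import Mathlib.AlgebraicGeometry.ResidueField

/-! Ring maps inducing universal homeomorphisms. -/

set_option autoImplicit false
universe u

namespace Groth.Agent.MorLib.RUH

open AlgebraicGeometry CategoryTheory

variable {A B : Type u} [CommRing A] [CommRing B]

/-- Radicial, in terms of field-valued points. -/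
def Radicial (φ : A →+* B) : Prop :=
  ∀ (K : Type u) [Field K] (f g : B →+* K), f.comp φ = g.comp φ → f = g

theorem universallyInjective_SpecMap_iff (φ : A →+* B) :
    UniversallyInjective (Spec.map (CommRingCat.ofHom φ)) ↔ Radicial φ := by
  rw [(tfae_universallyInjective _).out 0 1 rfl rfl]
  constructor
  · intro h K _ f g hfg
    have := @h K _ (Spec.map (CommRingCat.ofHom f)) (Spec.map (CommRingCat.ofHom g)) (by
      simp only [← Spec.map_comp, ← CommRingCat.ofHom_comp, hfg])
    exact congr($(Spec.map_injective this).hom)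
  · intro h K _ a b hab
    obtain ⟨f, rfl⟩ := Spec.map_surjective a
    obtain ⟨g, rfl⟩ := Spec.map_surjective b
    simp only [← Spec.map_comp] at hab
    exact congrArg Spec.map (CommRingCat.hom_ext (h K f.hom g.hom congr($(Spec.map_injective hab).hom)))

theorem surjective_SpecMap_iff (φ : A →+* B) :
    AlgebraicGeometry.Surjective (Spec.map (CommRingCat.ofHom φ)) ↔
      Function.Surjective (PrimeSpectrum.comap φ) :=
  ⟨fun h => h.surj, fun h => ⟨h⟩⟩

theorem isUnivHomeo_SpecMap_iff (φ : A →+* B) :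
    FlatMor.IsUnivHomeo (Spec.map (CommRingCat.ofHom φ)) ↔
      φ.IsIntegral ∧ Radicial φ ∧ Function.Surjective (PrimeSpectrum.comap φ) := by
  constructor
  · intro h
    exact ⟨IsIntegralHom.SpecMap_iff.mp (isIntegralHom_of_isUnivHomeo h),
      (universallyInjective_SpecMap_iff φ).mp (universallyInjective_of_isUnivHomeo h),
      (surjective_SpecMap_iff φ).mp (surjective_of_isUnivHomeo h)⟩
  · rintro ⟨h1, h2, h3⟩
    have : IsIntegralHom (Spec.map (CommRingCat.ofHom φ)) := IsIntegralHom.SpecMap_iff.mpr h1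
    have := (universallyInjective_SpecMap_iff φ).mpr h2
    have := (surjective_SpecMap_iff φ).mpr h3
    exact isUnivHomeo_of_universallyClosed _

/-- Injective integral maps with radicial property are universal homeomorphisms. -/
theorem isUnivHomeo_of_injective (φ : A →+* B) (hinj : Function.Injective φ) (hi : φ.IsIntegral)
    (hr : Radicial φ) : FlatMor.IsUnivHomeo (Spec.map (CommRingCat.ofHom φ)) :=
  (isUnivHomeo_SpecMap_iff φ).mpr ⟨hi, hr, hi.comap_surjective hinj⟩

theorem injective_comap_of_radicial {φ : A →+* B} (hr : Radicial φ) :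
    Function.Injective (PrimeSpectrum.comap φ) := fun p q h => by
  have := (universallyInjective_SpecMap_iff φ).mpr hr
  exact (Spec.map (CommRingCat.ofHom φ)).injective h

set_option backward.isDefEq.respectTransparency.types false in
/-- Evaluation `R → κ(x)`. -/
noncomputable def ev {R : CommRingCat.{u}} (x : Spec R) :
    R ⟶ (Spec R).residueField x :=
  CommRingCat.ofHom (algebraMap R x.asIdeal.ResidueField) ≫ (Scheme.Spec.residueFieldIso _ x).inv

set_option backward.isDefEq.respectTransparency.types false in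
theorem SpecMap_ev {R : CommRingCat.{u}} (x : Spec R) :
    Spec.map (ev x) = (Spec R).fromSpecResidueField x := by
  rw [ev, Spec.map_comp]
  exact Scheme.Spec.map_residueFieldIso_inv_eq_fromSpecResidueField _ _

set_option backward.isDefEq.respectTransparency.types false in
theorem ev_eq_zero_iff {R : CommRingCat.{u}} (x : Spec R) (a : R) :
    ev x a = 0 ↔ a ∈ x.asIdeal := by
  rw [← Ideal.algebraMap_residueField_eq_zero (I := x.asIdeal)]
  exact map_eq_zero_iff _ (ConcreteCategory.bijective_of_isIso (Scheme.Spec.residueFieldIso _ x).inv).1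

set_option backward.isDefEq.respectTransparency.types false in
theorem exists_eq_ev_div {R : CommRingCat.{u}} (x : Spec R)
    (z : (Spec R).residueField x) :
    ∃ a s : R, s ∉ x.asIdeal ∧ z = ev x a / ev x s := by
  obtain ⟨z', rfl⟩ := (ConcreteCategory.bijective_of_isIso (Scheme.Spec.residueFieldIso _ x).inv).2 z
  obtain ⟨a, s, hs, rfl⟩ := IsFractionRing.div_surjective (A := R ⧸ x.asIdeal) z'
  obtain ⟨a, rfl⟩ := Ideal.Quotient.mk_surjective a
  obtain ⟨s, rfl⟩ := Ideal.Quotient.mk_surjective s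
  refine ⟨a, s, fun h => nonZeroDivisors.ne_zero hs (Ideal.Quotient.eq_zero_iff_mem.mpr h), ?_⟩
  change (Scheme.Spec.residueFieldIso _ x).inv.hom (_ / _) = _
  rw [map_div₀]
  rfl

variable (φ : A →+* B)

theorem residueFieldMap_ev (q : Spec (CommRingCat.of B)) (a : A) :
    (Spec.map (CommRingCat.ofHom φ)).residueFieldMap q
      (ev ((Spec.map (CommRingCat.ofHom φ)) q) a) = ev q (φ a) := by
  have h : ev ((Spec.map (CommRingCat.ofHom φ)) q) ≫
      (Spec.map (CommRingCat.ofHom φ)).residueFieldMap q = CommRingCat.ofHom φ ≫ ev q := by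
    apply Spec.map_injective
    rw [Spec.map_comp, Spec.map_comp, SpecMap_ev, SpecMap_ev]
    exact Scheme.Hom.SpecMap_residueFieldMap_fromSpecResidueField _ _
  exact congr($h a)

theorem residueFieldMap_surjective_iff (q : Spec (CommRingCat.of B)) :
    Function.Surjective ((Spec.map (CommRingCat.ofHom φ)).residueFieldMap q) ↔
      ∀ b : B, ∃ a s : A, φ s ∉ q.asIdeal ∧ φ s * b - φ a ∈ q.asIdeal := by
  constructor
  · intro h b
    obtain ⟨z, hz⟩ := h (ev q b)
    obtain ⟨a, s, hs, rfl⟩ := exists_eq_ev_div _ z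
    have hs' : φ s ∉ q.asIdeal := hs
    refine ⟨a, s, hs', ?_⟩
    rw [← ev_eq_zero_iff, map_sub, map_mul, ← hz, map_div₀, residueFieldMap_ev, residueFieldMap_ev,
      mul_div_cancel₀ _ (by rwa [ne_eq, ev_eq_zero_iff]), sub_self]
  · intro h z
    have key : ∀ b, ∃ y, (Spec.map (CommRingCat.ofHom φ)).residueFieldMap q y = ev q b := by
      intro b
      obtain ⟨a, s, hs, hb⟩ := h b
      refine ⟨ev _ a / ev _ s, ?_⟩
      rw [map_div₀, residueFieldMap_ev, residueFieldMap_ev,
        div_eq_iff (by rwa [ne_eq, ev_eq_zero_iff]), mul_comm, ← map_mul, eq_comm, ← sub_eq_zero,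
        ← map_sub, ev_eq_zero_iff]
      exact hb
    obtain ⟨b, c, -, rfl⟩ := exists_eq_ev_div q z
    obtain ⟨u, hu⟩ := key b
    obtain ⟨v, hv⟩ := key c
    exact ⟨u / v, by rw [map_div₀, hu, hv]⟩

theorem exists_pow_of_radicial (hr : Radicial φ) (q : Spec (CommRingCat.of B)) (b : B) :
    ∃ e : ℕ, (e = 1 ∨ (e.Prime ∧ (e : B) ∈ q.asIdeal)) ∧
      ∃ (n : ℕ) (a s : A), φ s ∉ q.asIdeal ∧ φ s * b ^ (e ^ n) - φ a ∈ q.asIdeal := by
  have := (universallyInjective_SpecMap_iff φ).mpr hr
  have hp := (((tfae_universallyInjective (Spec.map (CommRingCat.ofHom φ))).out 0 2 rfl rfl).mp this).2 q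
  let g := (Spec.map (CommRingCat.ofHom φ)).residueFieldMap q
  letI := g.hom.toAlgebra
  haveI : IsPurelyInseparable ((Spec (CommRingCat.of A)).residueField (Spec.map (CommRingCat.ofHom φ) q))
      ((Spec (CommRingCat.of B)).residueField q) := hp
  let k := (Spec (CommRingCat.of A)).residueField (Spec.map (CommRingCat.ofHom φ) q)
  obtain ⟨e, he⟩ := ExpChar.exists k
  refine ⟨e, ?_, ?_⟩
  · rcases he with _ | hprime
    · exact Or.inl rfl
    · refine Or.inr ⟨hprime, ?_⟩
      rw [← ev_eq_zero_iff, map_natCast, ← map_natCast g.hom, CharP.cast_eq_zero, map_zero]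
  · obtain ⟨n, y, hy⟩ := IsPurelyInseparable.pow_mem k e (ev q b)
    obtain ⟨a, s, hs, rfl⟩ := exists_eq_ev_div _ y
    have hs' : φ s ∉ q.asIdeal := hs
    refine ⟨n, a, s, hs', ?_⟩
    rw [← ev_eq_zero_iff, map_sub, map_mul, map_pow, ← hy]
    change ev q (φ s) * g (ev _ a / ev _ s) - _ = 0
    rw [map_div₀, residueFieldMap_ev, residueFieldMap_ev,
      mul_div_cancel₀ _ (by rwa [ne_eq, ev_eq_zero_iff]), sub_self]

/-- The basic step: a non-trivial extension contains a non-trivial elementary one. -/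
theorem exists_step [Algebra A B] (hinj : Function.Injective (algebraMap A B))
    [Algebra.IsIntegral A B] (hsp : Function.Injective (PrimeSpectrum.comap (algebraMap A B)))
    (Q : ℕ → Prop) (hQ : ∀ e, Q e → 2 ≤ e)
    (hP : ∀ (q : PrimeSpectrum B) (b : B), ∃ e : ℕ, (e = 1 ∨ (Q e ∧ (e : B) ∈ q.asIdeal)) ∧
      ∃ (n : ℕ) (a s : A), algebraMap A B s ∉ q.asIdeal ∧
        algebraMap A B s * b ^ (e ^ n) - algebraMap A B a ∈ q.asIdeal)
    (b₀ : B) (hb₀ : b₀ ∉ (algebraMap A B).range) :
    ∃ b : B, b ∉ (algebraMap A B).range ∧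
      ((b ^ 2 ∈ (algebraMap A B).range ∧ b ^ 3 ∈ (algebraMap A B).range) ∨
        ∃ e, Q e ∧ (e : B) * b ∈ (algebraMap A B).range ∧ b ^ e ∈ (algebraMap A B).range) := by
  classical
  let ι := algebraMap A B
  let S : Subalgebra A B := Algebra.adjoin A {b₀}
  let J : Ideal A :=
    { carrier := {a | ∀ x ∈ S, ι a * x ∈ ι.range}
      add_mem' := fun {a b} ha hb x hx => by
        rw [map_add, add_mul]; exact add_mem (ha x hx) (hb x hx)
      zero_mem' := fun x _ => by rw [map_zero, zero_mul]; exact zero_mem _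
      smul_mem' := fun c a ha x hx => by
        rw [smul_eq_mul, map_mul, mul_assoc]; exact mul_mem ⟨c, rfl⟩ (ha x hx) }
  have hJ : J ≠ ⊤ := fun h => hb₀ (by
    have := (h ▸ Submodule.mem_top : (1 : A) ∈ J) b₀ (Algebra.self_mem_adjoin_singleton A b₀)
    simpa [ι] using this)
  obtain ⟨p, hp⟩ := Ideal.nonempty_minimalPrimes hJ
  have hpp : p.IsPrime := hp.1.1
  have hJp : J ≤ p := hp.1.2
  obtain ⟨q, hq⟩ := (RingHom.IsIntegral.comap_surjective (f := algebraMap A B)
    (fun x => Algebra.IsIntegral.isIntegral x) hinj) ⟨p, hpp⟩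
  have hqp : ∀ a, ι a ∈ q.asIdeal ↔ a ∈ p := fun a => by
    rw [← show (PrimeSpectrum.comap ι q).asIdeal = p by rw [hq]]
    rfl
  let L : B → Prop := fun x => ∃ t, t ∉ p ∧ ι t * x ∈ ι.range
  have hLadd : ∀ x y, L x → L y → L (x + y) := by
    rintro x y ⟨t, ht, hx⟩ ⟨t', ht', hy⟩
    refine ⟨t * t', hpp.mul_notMem ht ht', ?_⟩
    rw [map_mul, mul_add, mul_assoc, mul_assoc]
    exact add_mem (by rw [mul_left_comm]; exact mul_mem ⟨t', rfl⟩ hx) (mul_mem ⟨t, rfl⟩ hy)
  have hLrange : ∀ x ∈ ι.range, L x := fun x hx =>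
    ⟨1, fun h => hpp.ne_top ((Ideal.eq_top_iff_one p).mpr h), by simpa using hx⟩
  -- an element of `S` outside the local ring
  obtain ⟨x₀, hx₀S, hx₀⟩ : ∃ x ∈ S, ¬ L x := by
    by_contra H
    push Not at H
    obtain ⟨G, hG⟩ := (Algebra.IsIntegral.isIntegral (R := A) b₀).fg_adjoin_singleton
    have hGS : ∀ g ∈ G, g ∈ S := fun g hg => by
      have : g ∈ Subalgebra.toSubmodule S := hG ▸ Submodule.subset_span hg
      exact this
    choose! t ht htr using fun g hg => H g (hGS g hg)
    have hmem : ∏ g ∈ G, t g ∈ J := by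
      intro x hx
      have hx' : x ∈ Submodule.span A (G : Set B) := by rw [hG]; exact hx
      induction hx' using Submodule.span_induction with
      | mem g hg =>
        obtain ⟨d, hd⟩ := Finset.dvd_prod_of_mem t (Finset.mem_coe.mp hg)
        rw [hd, map_mul, mul_comm (ι (t g)), mul_assoc]
        exact mul_mem ⟨d, rfl⟩ (htr g hg)
      | zero => rw [mul_zero]; exact zero_mem _
      | add a b ha hb h1 h2 =>
        rw [mul_add]
        exact add_mem (h1 (by rw [← Subalgebra.mem_toSubmodule, ← hG]; exact ha))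
          (h2 (by rw [← Subalgebra.mem_toSubmodule, ← hG]; exact hb))
      | smul c a ha h1 =>
        rw [Algebra.smul_def, mul_left_comm]
        exact mul_mem ⟨c, rfl⟩ (h1 (by rw [← Subalgebra.mem_toSubmodule, ← hG]; exact ha))
    obtain ⟨g, hg, hgp⟩ := hpp.prod_mem_iff.mp (hJp hmem)
    exact ht g hg hgp
  -- elements of `q` are nilpotent modulo the conductor, locally at `p`
  have hnil : ∀ y ∈ S, y ∈ q.asIdeal → ∃ N, ∀ j, N ≤ j → L (y ^ j) := by
    intro y hyS hyq
    let JS : Ideal S := J.map (algebraMap A S)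
    have hJS : ∀ z ∈ JS, ∀ x ∈ S, (z : B) * x ∈ ι.range := by
      intro z hz
      induction hz using Submodule.span_induction with
      | mem z hz =>
        obtain ⟨a, ha, rfl⟩ := hz
        exact fun x hx => ha x hx
      | zero => intro x _; simp
      | add a b _ _ h1 h2 =>
        intro x hx
        rw [Subalgebra.coe_add, add_mul]
        exact add_mem (h1 x hx) (h2 x hx)
      | smul c a _ h1 =>
        intro x hx
        rw [smul_eq_mul, Subalgebra.coe_mul, mul_comm (c : B), mul_assoc]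
        exact h1 _ (mul_mem c.2 hx)
    let M : Submonoid S := Submonoid.map (algebraMap A S) p.primeCompl ⊔ Submonoid.powers ⟨y, hyS⟩
    obtain ⟨z, hzJ, hzM⟩ : ∃ z ∈ JS, z ∈ M := by
      by_contra H
      push Not at H
      obtain ⟨P, hP, hle, hdis⟩ := JS.exists_le_prime_disjoint M
        (Set.disjoint_left.mpr fun z hz hz' => H z hz hz')
      let iS : S →+* B := algebraMap S B
      have : Algebra.IsIntegral S B := Algebra.IsIntegral.tower_top A
      obtain ⟨q', hq'⟩ := (RingHom.IsIntegral.comap_surjective (f := iS)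
        (fun x => Algebra.IsIntegral.isIntegral x) Subtype.val_injective) ⟨P, hP⟩
      have hcomap : (PrimeSpectrum.comap ι q').asIdeal = P.comap (algebraMap A S) := by
        rw [← show (PrimeSpectrum.comap iS q').asIdeal = P by rw [hq']]
        rfl
      have h2 : P.comap (algebraMap A S) ≤ p := fun a ha => by
        by_contra hap
        exact Set.disjoint_left.mp hdis ha
          (Submonoid.mem_sup_left ⟨a, hap, rfl⟩)
      have h3 : P.comap (algebraMap A S) = p :=
        le_antisymm h2 (hp.2 ⟨Ideal.comap_isPrime _ _, Ideal.map_le_iff_le_comap.mp hle⟩ h2)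
      have : q' = q := hsp (PrimeSpectrum.ext (by rw [hcomap, h3, hq]))
      subst this
      have hyP : (⟨y, hyS⟩ : S) ∈ P := by
        rw [← show (PrimeSpectrum.comap iS q').asIdeal = P by rw [hq']]
        exact hyq
      exact Set.disjoint_left.mp hdis hyP (Submonoid.mem_sup_right ⟨1, pow_one _⟩)
    obtain ⟨_, ⟨t, ht, rfl⟩, _, ⟨N, rfl⟩, rfl⟩ := Submonoid.mem_sup.mp hzM
    refine ⟨N, fun j hj => ⟨t, ht, ?_⟩⟩
    have := hJS _ hzJ (y ^ (j - N)) (pow_mem hyS _)
    rw [Subalgebra.coe_mul, mul_assoc] at this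
    rw [← Nat.add_sub_of_le hj, pow_add]
    exact this
  by_cases hcase : ∃ y ∈ S, y ∈ q.asIdeal ∧ ¬ L y
  · obtain ⟨y, hyS, hyq, hyL⟩ := hcase
    have hex := hnil y hyS hyq
    let k := Nat.find hex
    have hk := Nat.find_spec hex
    have hk2 : 2 ≤ k := by
      by_contra h
      exact hyL (by simpa using hk 1 (by omega))
    have hc : ¬ L (y ^ (k - 1)) := fun h => Nat.find_min hex (show k - 1 < k by omega) fun j hj => by
      rcases hj.eq_or_lt with rfl | hj'
      · exact h
      · exact hk j (show k ≤ j by omega)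
    obtain ⟨t₂, ht₂, h2⟩ := hk ((k - 1) * 2) (show k ≤ _ by omega)
    obtain ⟨t₃, ht₃, h3⟩ := hk ((k - 1) * 3) (show k ≤ _ by omega)
    refine ⟨ι (t₂ * t₃) * y ^ (k - 1), fun h => hc ⟨_, hpp.mul_notMem ht₂ ht₃, h⟩, Or.inl ⟨?_, ?_⟩⟩
    · rw [show (ι (t₂ * t₃) * y ^ (k - 1)) ^ 2 = ι (t₂ * t₃ * t₃) * (ι t₂ * y ^ ((k - 1) * 2)) by
        simp only [map_mul]; ring]
      exact mul_mem ⟨_, rfl⟩ h2
    · rw [show (ι (t₂ * t₃) * y ^ (k - 1)) ^ 3 =
        ι (t₂ * t₂ * t₂ * t₃ * t₃) * (ι t₃ * y ^ ((k - 1) * 3)) by simp only [map_mul]; ring]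
      exact mul_mem ⟨_, rfl⟩ h3
  · push Not at hcase
    have key : ∀ z ∈ S, ∀ (s a : A), ι s ∉ q.asIdeal → ι s * z - ι a ∈ q.asIdeal → L z := by
      intro z hz s a hs h
      have h1 := hcase _ (sub_mem (mul_mem (S.algebraMap_mem s) hz) (S.algebraMap_mem a)) h
      have h2 := hLadd _ _ h1 (hLrange (ι a) ⟨a, rfl⟩)
      rw [sub_add_cancel] at h2
      obtain ⟨t, ht, h3⟩ := h2
      refine ⟨t * s, hpp.mul_notMem ht (fun hh => hs ((hqp s).mpr hh)), ?_⟩
      rwa [map_mul, mul_assoc]
    obtain ⟨e, he, n, a, s, hs, hmem⟩ := hP q x₀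
    rcases he with rfl | ⟨hQe, heq⟩
    · exact absurd (key x₀ hx₀S s a hs (by simpa using hmem)) hx₀
    have he2 := hQ e hQe
    have hex : ∃ m, L (x₀ ^ (e ^ m)) := ⟨n, key _ (pow_mem hx₀S _) s a hs hmem⟩
    obtain ⟨m, hm⟩ : ∃ m, Nat.find hex = m + 1 := by
      refine Nat.exists_eq_succ_of_ne_zero fun h => hx₀ ?_
      simpa [h] using Nat.find_spec hex
    let x := x₀ ^ (e ^ m)
    have hxL : ¬ L x := Nat.find_min hex (by omega)
    obtain ⟨t₁, ht₁, h1⟩ : L (x ^ e) := by
      have := Nat.find_spec hex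
      rwa [hm, pow_succ, pow_mul] at this
    obtain ⟨t₂, ht₂, h2⟩ : L ((e : B) * x) :=
      hcase _ (mul_mem (natCast_mem S e) (pow_mem hx₀S _)) (Ideal.mul_mem_right _ _ heq)
    refine ⟨ι (t₁ * t₂) * x, fun h => hxL ⟨_, hpp.mul_notMem ht₁ ht₂, h⟩, Or.inr ⟨e, hQe, ?_, ?_⟩⟩
    · rw [show (e : B) * (ι (t₁ * t₂) * x) = ι t₁ * (ι t₂ * ((e : B) * x)) by
        rw [map_mul]; ring]
      exact mul_mem ⟨_, rfl⟩ h2
    · obtain ⟨d, rfl⟩ : ∃ d, e = d + 1 := ⟨e - 1, by omega⟩
      rw [show (ι (t₁ * t₂) * x) ^ (d + 1) = ι (t₁ ^ d * t₂ ^ (d + 1)) * (ι t₁ * x ^ (d + 1)) by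
        simp only [map_mul, map_pow]; ring]
      exact mul_mem ⟨_, rfl⟩ h1

section Tower

variable [Algebra A B] (Step : Subalgebra A B → B → Prop)

/-- Lists in which each entry is a step over the algebra generated by the earlier ones. -/
def Good (l : List B) : Prop :=
  ∀ i : Fin l.length, Step (Algebra.adjoin A {b : B | ∃ j : Fin l.length, j < i ∧ b = l.get j}) (l.get i)

variable {Step}

theorem adjoin_le_of_good (C : Subalgebra A B)
    (hmono : ∀ S S' b, S ≤ S' → Step S b → Step S' b) (hC : ∀ b, Step C b → b ∈ C) (l : List B)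
    (hl : Good Step l) : Algebra.adjoin A {b : B | b ∈ l} ≤ C := by
  have key : ∀ (n : ℕ) (i : Fin l.length), i.val = n → l.get i ∈ C := by
    intro n
    induction n using Nat.strong_induction_on with
    | h n ih =>
      intro i hi
      refine hC _ (hmono _ _ _ ?_ (hl i))
      rw [Algebra.adjoin_le_iff]
      rintro _ ⟨j, hj, rfl⟩
      exact ih j (hi ▸ hj) j rfl
  rw [Algebra.adjoin_le_iff]
  intro b hb
  obtain ⟨i, rfl⟩ := List.mem_iff_get.mp hb
  exact key _ i rfl

theorem good_append (hmono : ∀ S S' b, S ≤ S' → Step S b → Step S' b) {l₁ l₂ : List B}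
    (h₁ : Good Step l₁)
    (h₂ : ∀ i : Fin l₂.length, Step (Algebra.adjoin A ({b : B | b ∈ l₁} ∪
      {b : B | ∃ j : Fin l₂.length, j < i ∧ b = l₂.get j})) (l₂.get i)) :
    Good Step (l₁ ++ l₂) := by
  intro i
  by_cases hi : i.val < l₁.length
  · have he : (l₁ ++ l₂).get i = l₁.get ⟨i, hi⟩ := by simp [List.getElem_append_left hi]
    rw [he]
    refine hmono _ _ _ (Algebra.adjoin_mono ?_) (h₁ ⟨i, hi⟩)
    rintro _ ⟨j, hj, rfl⟩
    exact ⟨⟨j, by have := j.2; simp; omega⟩, hj, by simp [List.getElem_append_left j.2]⟩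
  · have hi' : i.val - l₁.length < l₂.length := by
      have := i.2
      simp at this
      omega
    have he : (l₁ ++ l₂).get i = l₂.get ⟨i.val - l₁.length, hi'⟩ := by
      simp [List.getElem_append_right (not_lt.mp hi)]
    rw [he]
    refine hmono _ _ _ (Algebra.adjoin_mono ?_) (h₂ ⟨_, hi'⟩)
    rintro b (hb | ⟨j, hj, rfl⟩)
    · obtain ⟨j, rfl⟩ := List.mem_iff_get.mp hb
      refine ⟨⟨j, by simp; omega⟩, show j.val < i.val by omega, ?_⟩
      simp [List.getElem_append_left j.2]
    · have hj' : j.val < i.val - l₁.length := hj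
      refine ⟨⟨l₁.length + j, by simp⟩, show l₁.length + j.val < i.val by omega, ?_⟩
      simp

theorem good_append' (hmono : ∀ S S' b, S ≤ S' → Step S b → Step S' b) {l₁ l₂ : List B}
    (h₁ : Good Step l₁) (h₂ : Good Step l₂) : Good Step (l₁ ++ l₂) :=
  good_append hmono h₁ fun i =>
    hmono _ _ _ (Algebra.adjoin_mono Set.subset_union_right) (h₂ i)

theorem good_snoc (hmono : ∀ S S' b, S ≤ S' → Step S b → Step S' b) {l : List B}
    (h : Good Step l) {b : B} (hb : Step (Algebra.adjoin A {x : B | x ∈ l}) b) :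
    Good Step (l ++ [b]) :=
  good_append hmono h fun i => by
    have : [b].get i = b := by simp
    rw [this]
    exact hmono _ _ _ (Algebra.adjoin_mono Set.subset_union_left) hb

variable (Step) in
/-- Union of all towers. -/
def towerUnion (hmono : ∀ S S' b, S ≤ S' → Step S b → Step S' b) : Subalgebra A B where
  carrier := {x | ∃ l, Good Step l ∧ x ∈ Algebra.adjoin A {b : B | b ∈ l}}
  mul_mem' := by
    rintro x y ⟨l, hl, hx⟩ ⟨m, hm, hy⟩
    exact ⟨l ++ m, good_append' hmono hl hm, mul_mem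
      (Algebra.adjoin_mono (fun b hb => List.mem_append_left m hb) hx)
      (Algebra.adjoin_mono (fun b hb => List.mem_append_right l hb) hy)⟩
  add_mem' := by
    rintro x y ⟨l, hl, hx⟩ ⟨m, hm, hy⟩
    exact ⟨l ++ m, good_append' hmono hl hm, add_mem
      (Algebra.adjoin_mono (fun b hb => List.mem_append_left m hb) hx)
      (Algebra.adjoin_mono (fun b hb => List.mem_append_right l hb) hy)⟩
  algebraMap_mem' a := ⟨[], fun i => i.elim0, Subalgebra.algebraMap_mem _ a⟩

theorem exists_good_finset (hmono : ∀ S S' b, S ≤ S' → Step S b → Step S' b) (E : Finset B)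
    (hE : ∀ e ∈ E, e ∈ towerUnion Step hmono) :
    ∃ l, (E : Set B) ⊆ Algebra.adjoin A {b : B | b ∈ l} ∧ Good Step l := by
  classical
  induction E using Finset.induction_on with
  | empty => exact ⟨[], by simp, fun i => i.elim0⟩
  | @insert a s _ ih =>
    obtain ⟨l, hl, hlg⟩ := ih fun e he => hE e (Finset.mem_insert_of_mem he)
    obtain ⟨m, hm, ha⟩ := hE a (Finset.mem_insert_self _ _)
    refine ⟨l ++ m, ?_, good_append' hmono hlg hm⟩
    intro x hx
    rcases Finset.mem_insert.mp (Finset.mem_coe.mp hx) with rfl | hx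
    · exact Algebra.adjoin_mono (fun b hb => List.mem_append_right l hb) ha
    · exact Algebra.adjoin_mono (fun b hb => List.mem_append_left m hb) (hl hx)

end Tower

end Groth.Agent.MorLib.RUH
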