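import Groth.Agent.MorLib.WeightFlat
import Groth.Prelude.Def_Hens2
import Mathlib.AlgebraicGeometry.ZariskisMainTheorem

/-! Elementary étale neighbourhoods with a finite part at a quasi-finite point. -/

set_option autoImplicit false
universe u

namespace Groth.Agent.MorLib.EEF

open AlgebraicGeometry CategoryTheory Limits TensorProduct

variable {X Y Z : Scheme.{u}}

theorem bijective_rfm_isOpenImmersion (f : X ⟶ Y) [IsOpenImmersion f] (x : X) :
    Function.Bijective (f.residueFieldMap x) :=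
  ConcreteCategory.bijective_of_isIso (f.residueFieldMap x)

set_option backward.isDefEq.respectTransparency.types false in
theorem bijective_rfm_comp (f : X ⟶ Y) (g : Y ⟶ Z) (x : X) (h1 : Function.Bijective (f.residueFieldMap x))
    (h2 : Function.Bijective (g.residueFieldMap (f x))) :
    Function.Bijective ((f ≫ g).residueFieldMap x) := by
  rw [Scheme.residueFieldMap_comp]
  exact h1.comp h2

set_option backward.isDefEq.respectTransparency.types false in
theorem bijective_rfm_of_comp (f : X ⟶ Y) (g : Y ⟶ Z) (x : X) (h1 : Function.Bijective (f.residueFieldMap x))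
    (h2 : Function.Bijective ((f ≫ g).residueFieldMap x)) :
    Function.Bijective (g.residueFieldMap (f x)) := by
  rw [Scheme.residueFieldMap_comp] at h2
  exact (Function.Bijective.of_comp_iff' h1 _).mp h2

set_option backward.isDefEq.respectTransparency.types false in
theorem bijective_rfm_SpecMap {R S : CommRingCat.{u}} (φ : R ⟶ S) (q : PrimeSpectrum S)
    (h : Function.Bijective (Ideal.ResidueField.map (q.comap φ.hom).asIdeal q.asIdeal φ.hom rfl)) :
    Function.Bijective ((Spec.map φ).residueFieldMap q) := by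
  have e := WT.residueFieldMap_SpecMap φ q
  have e' : (Spec.map φ).residueFieldMap q = (Scheme.Spec.residueFieldIso R (q.comap φ.hom)).hom ≫
      CommRingCat.ofHom (Ideal.ResidueField.map (q.comap φ.hom).asIdeal q.asIdeal φ.hom rfl) ≫
        (Scheme.Spec.residueFieldIso S q).inv := by
    rw [← Category.assoc]
    exact ((Scheme.Spec.residueFieldIso S q).eq_comp_inv).mpr e
  rw [e']
  exact (ConcreteCategory.bijective_of_isIso (Scheme.Spec.residueFieldIso S q).inv).comp
    (h.comp (ConcreteCategory.bijective_of_isIso (Scheme.Spec.residueFieldIso R (q.comap φ.hom)).hom))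

theorem bijective_map_congr {R S : Type u} [CommRing R] [CommRing S] (φ : R →+* S) {p p' : Ideal R}
    [p.IsPrime] [p'.IsPrime] {q : Ideal S} [q.IsPrime] (hp : p = p') (h : p = q.comap φ)
    (hb : Function.Bijective (Ideal.ResidueField.map p q φ h)) :
    Function.Bijective (Ideal.ResidueField.map p' q φ (hp ▸ h)) := by
  subst hp; exact hb

theorem surjective_residueField_map_of_generated {S T : Type u} [CommRing S] [CommRing T]
    (φ : S →+* T) (Q : Ideal T) [Q.IsPrime] (q : Ideal S) [q.IsPrime] (h : q = Q.comap φ)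
    (H : ∀ t : T, algebraMap T Q.ResidueField t ∈ (Ideal.ResidueField.map q Q φ h).range) :
    Function.Surjective (Ideal.ResidueField.map q Q φ h) := by
  intro z
  obtain ⟨a, b, hb, rfl⟩ := IsFractionRing.div_surjective (A := T ⧸ Q) z
  obtain ⟨a, rfl⟩ := Ideal.Quotient.mk_surjective a
  obtain ⟨b, rfl⟩ := Ideal.Quotient.mk_surjective b
  rw [Ideal.algebraMap_quotient_residueField_mk, Ideal.algebraMap_quotient_residueField_mk]
  obtain ⟨α, hα⟩ := H a
  obtain ⟨β, hβ⟩ := H b
  exact ⟨α / β, by rw [map_div₀, hα, hβ]⟩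

set_option maxHeartbeats 1000000 in
set_option backward.isDefEq.respectTransparency.types false in
theorem exists_elem_nbhd (f : X ⟶ Y) [LocallyOfFiniteType f] (x : X) (hx : f.QuasiFiniteAt x) :
    ∃ (U : Scheme.{u}) (g : U ⟶ Y) (u : U), Hens2.IsEtaleNbhd g u (f x) ∧
      ∃ (V : (pullback f g).Opens) (v : ↑(pullback f g)), v ∈ V ∧ IsFinite (V.ι ≫ pullback.snd f g) ∧
        pullback.snd f g v = u ∧ (∀ w : ↑(pullback f g), w ∈ V → pullback.snd f g w = u → w = v) ∧
        pullback.fst f g v = x ∧ Function.Bijective ((pullback.fst f g).residueFieldMap v) := by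
  classical
  obtain ⟨U, hU, hxU, -⟩ :=
    exists_isAffineOpen_mem_and_subset (x := f x) (U := (⊤ : Y.Opens)) trivial
  obtain ⟨V, hV, hxV, hUV'⟩ :=
    exists_isAffineOpen_mem_and_subset (x := x) (U := f ⁻¹ᵁ U) hxU
  have hUV : V ≤ f ⁻¹ᵁ U := hUV'
  have hft : (f.appLE U V hUV).hom.FiniteType := f.finiteType_appLE hU hV hUV
  letI := (f.appLE U V hUV).hom.toAlgebra
  haveI : Algebra.FiniteType Γ(Y, U) Γ(X, V) := hft
  let qx := hV.primeIdealOf ⟨x, hxV⟩
  have hq : Algebra.QuasiFiniteAt Γ(Y, U) qx.asIdeal := hx.quasiFiniteAt hV hU hUV hxV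
  haveI := hq
  obtain ⟨R', _, _, _, P, _, _, e, -, P', _, _, hP'q, heP', hbij, hfin, huniq⟩ :=
    Algebra.exists_etale_isIdempotentElem_forall_liesOver_eq (qx.asIdeal.under Γ(Y, U)) qx.asIdeal
  let φ : Γ(Y, U) ⟶ CommRingCat.of R' := CommRingCat.ofHom (algebraMap Γ(Y, U) R')
  haveI : Etale (Spec.map φ) := HasRingHomProperty.Spec_iff.mpr (RingHom.etale_algebraMap.mpr ‹_›)
  let g : Spec (CommRingCat.of R') ⟶ Y := Spec.map φ ≫ hU.fromSpec
  let inclR : CommRingCat.of Γ(X, V) ⟶ CommRingCat.of (R' ⊗[Γ(Y, U)] Γ(X, V)) :=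
    CommRingCat.ofHom Algebra.TensorProduct.includeRight.toRingHom
  let e₁ : Spec (CommRingCat.of (R' ⊗[Γ(Y, U)] Γ(X, V))) ≅
      pullback (Spec.map (f.appLE U V hUV)) (Spec.map φ) :=
    (pullbackSpecIso _ _ _).symm ≪≫ pullbackSymmetry _ _
  have he₁f : e₁.hom ≫ pullback.fst _ _ = Spec.map inclR := by
    show ((pullbackSpecIso _ _ _).symm ≪≫ pullbackSymmetry _ _).hom ≫ _ = _
    rw [Iso.trans_hom, Category.assoc]
    erw [pullbackSymmetry_hom_comp_fst]
    exact pullbackSpecIso_inv_snd ..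
  have he₁s : e₁.hom ≫ pullback.snd _ _ =
      Spec.map (CommRingCat.ofHom (algebraMap R' (R' ⊗[Γ(Y, U)] Γ(X, V)))) := by
    show ((pullbackSpecIso _ _ _).symm ≪≫ pullbackSymmetry _ _).hom ≫ _ = _
    rw [Iso.trans_hom, Category.assoc]
    erw [pullbackSymmetry_hom_comp_snd]
    exact pullbackSpecIso_inv_fst ..
  let j : Spec (CommRingCat.of (R' ⊗[Γ(Y, U)] Γ(X, V))) ⟶ pullback f g :=
    e₁.hom ≫ pullback.map _ _ _ _ hV.fromSpec (𝟙 _) hU.fromSpec
      (IsAffineOpen.SpecMap_appLE_fromSpec ..) (by simp [g])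
  have hjf : j ≫ pullback.fst f g = Spec.map inclR ≫ hV.fromSpec := by
    simp only [j, Category.assoc]
    erw [pullback.lift_fst]
    rw [← Category.assoc, he₁f]
  have hjs : j ≫ pullback.snd f g =
      Spec.map (CommRingCat.ofHom (algebraMap R' (R' ⊗[Γ(Y, U)] Γ(X, V)))) := by
    simp only [j, Category.assoc]
    erw [pullback.lift_snd, Category.comp_id]
    exact he₁s
  haveI : IsOpenImmersion j := inferInstance
  let loc : Spec (CommRingCat.of (Localization.Away e)) ⟶
      Spec (CommRingCat.of (R' ⊗[Γ(Y, U)] Γ(X, V))) :=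
    Spec.map (CommRingCat.ofHom (algebraMap _ _))
  haveI : IsOpenImmersion loc := .of_isLocalization e
  let u₀ : PrimeSpectrum R' := ⟨P, inferInstance⟩
  let v₀ : PrimeSpectrum (R' ⊗[Γ(Y, U)] Γ(X, V)) := ⟨P', inferInstance⟩
  have hrange : Set.range loc = (PrimeSpectrum.basicOpen e : Set (PrimeSpectrum _)) :=
    PrimeSpectrum.localization_away_comap_range (Localization.Away e) e
  have hp : PrimeSpectrum.comap (algebraMap Γ(Y, U) R') u₀ = qx.comap (algebraMap Γ(Y, U) Γ(X, V)) :=
    PrimeSpectrum.ext (P.over_def (qx.asIdeal.under Γ(Y, U))).symm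
  have hgu : g u₀ = f x := by
    show (Spec.map φ ≫ hU.fromSpec) u₀ = f x
    rw [Scheme.Hom.comp_apply]
    show hU.fromSpec (PrimeSpectrum.comap (algebraMap Γ(Y, U) R') u₀) = f x
    rw [hp]
    show hU.fromSpec ((Spec.map (f.appLE U V hUV)) qx) = f x
    rw [← Scheme.Hom.comp_apply, IsAffineOpen.SpecMap_appLE_fromSpec (f := f) hU hV hUV,
      Scheme.Hom.comp_apply]
    exact congrArg f (hV.fromSpec_primeIdealOf ⟨x, hxV⟩)
  refine ⟨Spec (CommRingCat.of R'), g, u₀, ⟨inferInstance, hgu, ?_⟩, (loc ≫ j).opensRange,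
    j v₀, ?_, ?_, ?_, ?_, ?_, ?_⟩
  · refine bijective_rfm_comp _ _ _ (bijective_rfm_SpecMap φ u₀ ?_) (bijective_rfm_isOpenImmersion _ _)
    exact bijective_map_congr _ (P.over_def (qx.asIdeal.under Γ(Y, U))) (P.over_def _) hbij
  · obtain ⟨a, ha⟩ : v₀ ∈ Set.range loc := by rw [hrange]; exact heP'
    exact ⟨a, by rw [Scheme.Hom.comp_apply, ha]⟩
  · haveI : IsFinite ((loc ≫ j) ≫ pullback.snd f g) := by
      rw [Category.assoc, hjs, ← Spec.map_comp, IsFinite.SpecMap_iff]
      exact RingHom.finite_algebraMap.mpr hfin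
    rw [← Scheme.Hom.isoOpensRange_inv_comp (loc ≫ j), Category.assoc]
    infer_instance
  · rw [← Scheme.Hom.comp_apply, hjs]
    exact PrimeSpectrum.ext (P'.over_def P).symm
  · rintro w ⟨a, rfl⟩ hw
    rw [Scheme.Hom.comp_apply]
    congr 1
    rw [Scheme.Hom.comp_apply, ← Scheme.Hom.comp_apply j, hjs] at hw
    haveI : (loc a).asIdeal.IsPrime := (loc a).isPrime
    haveI : (loc a).asIdeal.LiesOver P := ⟨(congrArg PrimeSpectrum.asIdeal hw).symm⟩
    refine PrimeSpectrum.ext (huniq _ inferInstance inferInstance ?_)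
    exact (hrange.le ⟨a, rfl⟩ : _)
  · rw [← Scheme.Hom.comp_apply, hjf, Scheme.Hom.comp_apply]
    have : Spec.map inclR v₀ = qx := PrimeSpectrum.ext hP'q
    rw [this]
    exact hV.fromSpec_primeIdealOf ⟨x, hxV⟩
  · refine bijective_rfm_of_comp j (pullback.fst f g) v₀ (bijective_rfm_isOpenImmersion j v₀) ?_
    rw [hjf]
    refine bijective_rfm_comp _ _ _ (bijective_rfm_SpecMap inclR v₀ ⟨RingHom.injective _, ?_⟩)
      (bijective_rfm_isOpenImmersion _ _)
    refine surjective_residueField_map_of_generated _ _ _ _ fun t => ?_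
    induction t using TensorProduct.induction_on with
    | zero => rw [map_zero]; exact zero_mem _
    | add a b ha hb => rw [map_add]; exact add_mem ha hb
    | tmul a b =>
      rw [show a ⊗ₜ[Γ(Y, U)] b = (a ⊗ₜ 1) * (1 ⊗ₜ b) by simp, map_mul]
      refine mul_mem ?_ ⟨algebraMap _ _ b, ?_⟩
      · obtain ⟨α, hα⟩ := hbij.2 (algebraMap R' P.ResidueField a)
        let q' := (v₀.comap inclR.hom).asIdeal
        have hq' : qx.asIdeal.under Γ(Y, U) = q'.comap (algebraMap Γ(Y, U) Γ(X, V)) := by
          rw [show q' = qx.asIdeal from hP'q]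
        refine ⟨Ideal.ResidueField.map _ q' (algebraMap Γ(Y, U) Γ(X, V)) hq' α, ?_⟩
        let m1 := Ideal.ResidueField.map P P' (algebraMap R' (R' ⊗[Γ(Y, U)] Γ(X, V))) (P'.over_def P)
        let m2 := Ideal.ResidueField.mapₐ (qx.asIdeal.under Γ(Y, U)) P (Algebra.ofId _ _) (P.over_def _)
        have hkey : (Ideal.ResidueField.map q' P' inclR.hom rfl).comp
            (Ideal.ResidueField.map _ q' (algebraMap Γ(Y, U) Γ(X, V)) hq') =
            m1.comp m2.toRingHom := by
          refine Ideal.ResidueField.ringHom_ext (RingHom.ext fun r => ?_)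
          simp only [m1, m2, inclR, RingHom.comp_apply, AlgHom.toRingHom_eq_coe, AlgHom.coe_toRingHom, AlgHom.commutes]
          rw [IsScalarTower.algebraMap_apply Γ(Y, U) R' P.ResidueField]
          refine ((congrArg _ (Ideal.ResidueField.map_algebraMap _ _ _ hq' r)).trans
            (Ideal.ResidueField.map_algebraMap q' P' _ rfl _)).trans ?_
          refine Eq.trans ?_ (Ideal.ResidueField.map_algebraMap _ _ _ (P'.over_def P) _).symm
          congr 1
          exact ((Algebra.TensorProduct.includeRight : Γ(X, V) →ₐ[Γ(Y, U)] R' ⊗[Γ(Y, U)] Γ(X, V)).commutes r).trans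
            (IsScalarTower.algebraMap_apply Γ(Y, U) R' _ r)
        refine (congr($hkey α)).trans ?_
        show m1 (m2 α) = _
        rw [show m2 α = algebraMap R' P.ResidueField a from hα]
        exact Ideal.ResidueField.map_algebraMap _ _ _ (P'.over_def P) a
      · exact Ideal.ResidueField.map_algebraMap _ _ _ rfl b

end Groth.Agent.MorLib.EEF
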