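import Groth.Prelude.Def_W4stkschemesremainderFib
import Groth.Prelude.Def_Mor2
import Mathlib.AlgebraicGeometry.Morphisms.FlatRank
import Mathlib.AlgebraicGeometry.Morphisms.QuasiFinite
import Mathlib.AlgebraicGeometry.Morphisms.FlatDescent
import Mathlib.AlgebraicGeometry.Morphisms.LocalFlatDescent
import Mathlib.RingTheory.Spectrum.Prime.Noetherian

/-! Degrees of finite schemes over fields; bounds on the degrees of fibres. -/

set_option autoImplicit false
universe u

namespace Groth.Agent.MorLib.BF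

open AlgebraicGeometry CategoryTheory Limits

theorem flat_to_field {K : CommRingCat.{u}} (hK : IsField K) {T : Scheme.{u}} (p : T ⟶ Spec K) :
    Flat p := by
  rw [IsZariskiLocalAtSource.iff_of_openCover (P := @Flat) T.affineCover]
  intro i
  obtain ⟨φ, hφ⟩ := Spec.map_surjective (T.affineCover.f i ≫ p)
  refine (congrArg (fun m => Flat m) hφ).mp ?_
  rw [Flat.SpecMap_iff]
  letI := hK.toField
  letI := φ.hom.toAlgebra
  exact Module.Flat.of_free

theorem finrank_SpecMap_of_isField {K S : CommRingCat.{u}} (hK : IsField K) (φ : K ⟶ S)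
    (hf : φ.hom.Finite) (y : Spec K) :
    (Spec.map φ).finrank y = letI := φ.hom.toAlgebra; Module.finrank K S := by
  letI := hK.toField
  algebraize [φ.hom]
  have h := Scheme.Hom.finrank_SpecMap_algebraMap K S y
  rw [Module.rankAtStalk_eq_finrank_of_free] at h
  exact h

theorem eq_isoSpec_hom_comp {K : CommRingCat.{u}} {T : Scheme.{u}} [IsAffine T] (p : T ⟶ Spec K) :
    p = T.isoSpec.hom ≫ Spec.map ((Scheme.ΓSpecIso K).inv ≫ p.appTop) := by
  rw [Spec.map_comp, Scheme.isoSpec_hom_naturality_assoc, Scheme.isoSpec_Spec_hom]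
  simp [← Spec.map_comp]

theorem finiteOfDegLE_iff {K : CommRingCat.{u}} (hK : IsField K) {T : Scheme.{u}} (p : T ⟶ Spec K)
    (n : ℕ) : BddFib.FiniteOfDegLE K p n ↔ IsFinite p ∧ ∀ y, p.finrank y ≤ n := by
  have := flat_to_field hK p
  have key : ∀ (_ : IsAffine T),
      (IsFinite p ↔ ((Scheme.ΓSpecIso K).inv ≫ p.appTop).hom.Finite) ∧
      (IsFinite p → ∀ y, p.finrank y =
        letI := BddFib.secAlgebra K p; Module.finrank K Γ(T, ⊤)) := fun _ => by
    have hF : IsFinite p ↔ ((Scheme.ΓSpecIso K).inv ≫ p.appTop).hom.Finite := by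
      conv_lhs => rw [eq_isoSpec_hom_comp p]
      rw [MorphismProperty.cancel_left_of_respectsIso @IsFinite, IsFinite.SpecMap_iff]
    refine ⟨hF, fun hp y => ?_⟩
    have h1 := flat_to_field hK (Spec.map ((Scheme.ΓSpecIso K).inv ≫ p.appTop))
    have h2 : IsFinite (Spec.map ((Scheme.ΓSpecIso K).inv ≫ p.appTop)) :=
      by rw [IsFinite.SpecMap_iff]; exact hF.mp hp
    conv_lhs => rw [eq_isoSpec_hom_comp p]
    rw [Scheme.Hom.finrank_comp_left_of_isIso, finrank_SpecMap_of_isField hK _ (hF.mp hp)]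
    rfl
  have : Nonempty (Spec K) := by
    letI := hK.toField
    exact ⟨IsLocalRing.closedPoint K⟩
  constructor
  · rintro ⟨hT, hfin, hrk⟩
    have hp := (key hT).1.mpr hfin
    exact ⟨hp, fun y => ((key hT).2 hp y).le.trans hrk⟩
  · rintro ⟨hp, hrk⟩
    have hT : IsAffine T := isAffine_of_isAffineHom p
    exact ⟨hT, (key hT).1.mp hp, ((key hT).2 hp Classical.ofNonempty).ge.trans (hrk _)⟩

theorem surjective_to_field {K L : CommRingCat.{u}} (hK : IsField K) (hL : IsField L) (ψ : K ⟶ L) :
    Surjective (Spec.map ψ) := by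
  letI := hK.toField
  letI := hL.toField
  refine ⟨fun y => ⟨IsLocalRing.closedPoint L, ?_⟩⟩
  haveI : Subsingleton (PrimeSpectrum K) := inferInstance
  exact Subsingleton.elim (α := PrimeSpectrum K) _ _

/-- Finiteness and degree over a field do not see field extensions. -/
theorem finiteOfDegLE_baseChange_iff {K L : CommRingCat.{u}} (hK : IsField K) (hL : IsField L)
    (ψ : K ⟶ L) {T T' : Scheme.{u}} {p : T ⟶ Spec K} {p' : T' ⟶ Spec L} {q : T' ⟶ T}
    (h : IsPullback q p' p (Spec.map ψ)) (n : ℕ) :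
    BddFib.FiniteOfDegLE K p n ↔ BddFib.FiniteOfDegLE L p' n := by
  rw [finiteOfDegLE_iff hK, finiteOfDegLE_iff hL]
  have := flat_to_field hK p
  have hs := surjective_to_field hK hL ψ
  constructor
  · rintro ⟨hp, hr⟩
    refine ⟨MorphismProperty.of_isPullback h hp, fun y => ?_⟩
    rw [Scheme.Hom.finrank_of_isPullback q p' p _ h]
    exact hr _
  · rintro ⟨hp', hr⟩
    have hq : (@Surjective ⊓ @Flat ⊓ @QuasiCompact : MorphismProperty Scheme) (Spec.map ψ) :=
      ⟨⟨hs, flat_to_field hK _⟩, inferInstance⟩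
    have : LocallyOfFiniteType p :=
      MorphismProperty.of_isPullback_of_descendsAlong (P := @LocallyOfFiniteType) h.flip hq
        inferInstance
    have hqs : Surjective q := MorphismProperty.of_isPullback h.flip hs
    have : CompactSpace T' := QuasiCompact.compactSpace_of_compactSpace p'
    have : CompactSpace T := ⟨by rw [← q.surjective.range_eq]; exact isCompact_range q.continuous⟩
    have hfin : Finite T' := by
      have : Finite (Spec L) := by
        letI := hL.toField
        exact inferInstanceAs (Finite (PrimeSpectrum L))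
      exact Set.finite_univ_iff.mp (Set.preimage_univ (f := p') ▸
        p'.finite_preimage Set.finite_univ)
    have : Finite T := Finite.of_surjective _ q.surjective
    have : IsLocallyArtinian (Spec K) := by
      letI := hK.toField
      exact Scheme.isLocallyArtinianScheme_Spec.mpr inferInstance
    have : LocallyQuasiFinite p := .of_finite_preimage_singleton p fun _ => Set.toFinite _
    have hp : IsFinite p := IsFinite.of_locallyQuasiFinite p
    refine ⟨hp, fun y => ?_⟩
    obtain ⟨y', rfl⟩ := (Spec.map ψ).surjective y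
    rw [← Scheme.Hom.finrank_of_isPullback q p' p _ h]
    exact hr _

variable {X Y : Scheme.{u}}

theorem finiteOfDegLE_pullback_snd_iff (f : X ⟶ Y) {K L : CommRingCat.{u}} (hK : IsField K)
    (hL : IsField L) (ψ : K ⟶ L) (g : Spec K ⟶ Y) (g' : Spec L ⟶ Y) (e : Spec.map ψ ≫ g = g')
    (n : ℕ) :
    BddFib.FiniteOfDegLE K (pullback.snd f g) n ↔ BddFib.FiniteOfDegLE L (pullback.snd f g') n := by
  subst e
  refine finiteOfDegLE_baseChange_iff hK hL ψ
    (q := pullback.map f (Spec.map ψ ≫ g) f g (𝟙 X) (Spec.map ψ) (𝟙 Y) (by simp) (by simp)) ?_ n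
  refine IsPullback.of_right ?_ (pullback.lift_snd _ _ _) (IsPullback.of_hasPullback f g)
  have h1 : pullback.map f (Spec.map ψ ≫ g) f g (𝟙 X) (Spec.map ψ) (𝟙 Y) (by simp) (by simp) ≫
      pullback.fst f g = pullback.fst f (Spec.map ψ ≫ g) :=
    (pullback.lift_fst _ _ _).trans (Category.comp_id _)
  rw [h1]
  exact IsPullback.of_hasPullback f (Spec.map ψ ≫ g)

theorem fibreDegLE_iff (f : X ⟶ Y) (n : ℕ) :
    BddFib.FibreDegLE f n ↔ ∀ (k : Type u) [Field k] (g : Spec (CommRingCat.of k) ⟶ Y),
      BddFib.FiniteOfDegLE (CommRingCat.of k) (pullback.snd f g) n := by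
  refine ⟨fun h k _ g => ?_, fun h y => h (Y.residueField y) (Y.fromSpecResidueField y)⟩
  exact (finiteOfDegLE_pullback_snd_iff f (Field.toIsField _) (Field.toIsField k) _ _ g
    (Scheme.descResidueField_stalkClosedPointTo_fromSpecResidueField k Y g) n).mp (h _)

theorem fibreDegLE_of_isPullback {X' Y' : Scheme.{u}} {f : X ⟶ Y} {g : Y' ⟶ Y} {f' : X' ⟶ Y'}
    {g' : X' ⟶ X} (h : IsPullback g' f' f g) {n : ℕ} (hf : BddFib.FibreDegLE f n) :
    BddFib.FibreDegLE f' n := by
  rw [fibreDegLE_iff] at hf ⊢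
  intro k _ i
  have hk := Field.toIsField k
  refine (finiteOfDegLE_baseChange_iff hk hk (𝟙 _)
    (q := (((IsPullback.of_hasPullback f' i).paste_horiz h).isoPullback).hom) ?_ n).mp (hf k (i ≫ g))
  refine IsPullback.of_horiz_isIso ⟨?_⟩
  simp

theorem fibreDegLE_of_isPullback_of_surjective {X' Y' : Scheme.{u}} {f : X ⟶ Y} {g : Y' ⟶ Y}
    [Surjective g] {f' : X' ⟶ Y'} {g' : X' ⟶ X} (h : IsPullback g' f' f g) {n : ℕ}
    (hf : BddFib.FibreDegLE f' n) : BddFib.FibreDegLE f n := by
  intro y
  obtain ⟨y', rfl⟩ := g.surjective y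
  have hk := Field.toIsField (Y'.residueField y')
  have h1 := hf y'
  refine (finiteOfDegLE_pullback_snd_iff f (Field.toIsField _) hk (g.residueFieldMap y')
    (Y.fromSpecResidueField (g y')) (Y'.fromSpecResidueField y' ≫ g)
    (g.SpecMap_residueFieldMap_fromSpecResidueField y') n).mpr ?_
  refine (finiteOfDegLE_baseChange_iff hk hk (𝟙 _)
    (q := (((IsPullback.of_hasPullback f' (Y'.fromSpecResidueField y')).paste_horiz h).isoPullback).inv)
    ?_ n).mp h1
  refine IsPullback.of_horiz_isIso ⟨?_⟩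
  simp [Scheme.Hom.fiberToSpecResidueField]

theorem natCard_pullback_le {f : X ⟶ Y} {n : ℕ} (hf : BddFib.FibreDegLE f n) (k : Type u) [Field k]
    (g : Spec (CommRingCat.of k) ⟶ Y) :
    Finite ↥(pullback f g) ∧ Nat.card ↥(pullback f g) ≤ n := by
  obtain ⟨hT, hfin, hrk⟩ := (fibreDegLE_iff f n).mp hf k g
  letI : Algebra k Γ(pullback f g, ⊤) := BddFib.secAlgebra (CommRingCat.of k) (pullback.snd f g)
  haveI : Module.Finite k Γ(pullback f g, ⊤) := hfin
  haveI : IsArtinianRing Γ(pullback f g, ⊤) := IsArtinianRing.of_finite k _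
  let e := Scheme.homeoOfIso (pullback f g).isoSpec
  haveI : Finite (Spec Γ(pullback f g, ⊤)) :=
    inferInstanceAs (Finite (PrimeSpectrum Γ(pullback f g, ⊤)))
  haveI : Finite ↥(pullback f g) := Finite.of_equiv _ e.toEquiv.symm
  refine ⟨inferInstance, le_trans (le_of_eq (Nat.card_congr e.toEquiv)) ?_⟩
  refine le_trans ?_ hrk
  have := Fintype.ofFinite (PrimeSpectrum Γ(pullback f g, ⊤))
  show Nat.card (PrimeSpectrum Γ(pullback f g, ⊤)) ≤ Module.finrank k Γ(pullback f g, ⊤)
  rw [IsArtinianRing.finrank_eq_sum_primeSpectrum, Nat.card_eq_fintype_card, Fintype.card_eq_sum_ones]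
  refine Finset.sum_le_sum fun p _ => ?_
  haveI : Module.Finite k (Localization.AtPrime p.asIdeal) :=
    Module.Finite.of_surjective (Algebra.algHom k Γ(pullback f g, ⊤) (Localization.AtPrime p.asIdeal)).toLinearMap
      (IsArtinianRing.localization_surjective p.asIdeal.primeCompl (Localization.AtPrime p.asIdeal))
  exact Module.finrank_pos

theorem fibreDegLE_of_isFinLocFreeOfDeg {f : X ⟶ Y} {d : ℕ} (hf : Mor2.IsFinLocFreeOfDeg d f) :
    BddFib.FibreDegLE f d := by
  have := hf.1.1
  have := hf.1.2.1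
  intro y
  rw [finiteOfDegLE_iff (Field.toIsField _)]
  refine ⟨MorphismProperty.pullback_snd _ _ inferInstance, fun z => ?_⟩
  exact (Scheme.Hom.finrank_pullback_snd f _ z).le.trans (hf.2 _).le

theorem fibreDegLE_one_of_isImmersion (f : X ⟶ Y) [IsImmersion f] : BddFib.FibreDegLE f 1 := by
  rw [fibreDegLE_iff]
  intro k _ g
  have hc : IsClosedImmersion (pullback.snd f g) := by
    haveI : IsImmersion (pullback.snd f g) := inferInstance
    refine IsClosedImmersion.of_isPreimmersion _ ?_
    have : Subsingleton (Spec (CommRingCat.of k)) := inferInstanceAs (Subsingleton (PrimeSpectrum k))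
    exact (Set.finite_univ.subset (Set.subset_univ _)).isClosed
  have hT : IsAffine (pullback f g) := isAffine_of_isAffineHom (pullback.snd f g)
  letI : Algebra k Γ(pullback f g, ⊤) := BddFib.secAlgebra (CommRingCat.of k) (pullback.snd f g)
  have hsurj : Function.Surjective (algebraMap k Γ(pullback f g, ⊤)) :=
    ((pullback.snd f g).app_surjective ⊤ (isAffineOpen_top _)).comp
      (ConcreteCategory.bijective_of_isIso (Scheme.ΓSpecIso (CommRingCat.of k)).inv).2
  exact ⟨hT, Module.Finite.of_surjective (Algebra.linearMap k Γ(pullback f g, ⊤)) hsurj,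
    by
      have h := LinearMap.finrank_range_le (Algebra.linearMap k Γ(pullback f g, ⊤))
      rw [LinearMap.range_eq_top.mpr hsurj, finrank_top, Module.finrank_self] at h
      exact h⟩

end Groth.Agent.MorLib.BF
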