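import Groth.Agent.MorLib.BddFibComp
import Groth.Prelude.Def_MoreMor
import Mathlib.AlgebraicGeometry.ZariskisMainTheorem
import Mathlib.RingTheory.ZariskisMainTheorem

/-! Bounds on numbers of points of the geometric fibres of quasi-finite morphisms. -/

set_option autoImplicit false
universe u

namespace Groth.Agent.MorLib.GP

open AlgebraicGeometry CategoryTheory Limits TensorProduct

variable {X Y : Scheme.{u}}

theorem fibreDegLE_SpecMap {R S : Type u} [CommRing R] [CommRing S] [Algebra R S] (n : ℕ)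
    (v : Fin n → S) (hv : Submodule.span R (Set.range v) = ⊤) :
    BddFib.FibreDegLE (Spec.map (CommRingCat.ofHom (algebraMap R S))) n := by
  rw [Groth.Agent.MorLib.BF.fibreDegLE_iff]
  intro k _ g
  obtain ⟨ψ, rfl⟩ := Spec.map_surjective g
  algebraize [ψ.hom]
  have hψ : ψ = CommRingCat.ofHom (algebraMap R k) := rfl
  rw [hψ]
  have hk := Field.toIsField k
  have hpb := (isPullback_SpecMap_of_isPushout _ _ _ _
    (CommRingCat.isPushout_tensorProduct R k S)).flip
  refine (Groth.Agent.MorLib.BF.finiteOfDegLE_baseChange_iff hk hk (𝟙 _) (q := hpb.isoPullback.hom)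
    (p' := Spec.map (CommRingCat.ofHom (algebraMap k (k ⊗[R] S)))) ?_ n).mpr ?_
  · refine IsPullback.of_horiz_isIso ⟨?_⟩
    rw [Spec.map_id, Category.comp_id]
    exact hpb.isoPullback_hom_snd
  · have hspan : Submodule.span k (Set.range fun i => (1 : k) ⊗ₜ[R] v i) = ⊤ := by
      refine Submodule.eq_top_iff'.mpr fun z => ?_
      induction z with
      | zero => exact zero_mem _
      | add a b ha hb => exact add_mem ha hb
      | tmul a s =>
        obtain ⟨c, rfl⟩ := (Submodule.mem_span_range_iff_exists_fun R).mp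
          (hv.ge (Submodule.mem_top (x := s)))
        simp only [tmul_sum, tmul_smul]
        refine sum_mem fun i _ => ?_
        rw [show c i • a ⊗ₜ[R] v i = (c i • a) • ((1 : k) ⊗ₜ[R] v i) by
          rw [TensorProduct.smul_tmul', TensorProduct.smul_tmul', smul_eq_mul, mul_one]]
        exact Submodule.smul_mem _ _ (Submodule.subset_span ⟨i, rfl⟩)
    classical
    have hfin : Module.Finite k (k ⊗[R] S) := ⟨⟨Finset.univ.image fun i => (1 : k) ⊗ₜ[R] v i, by
      rw [Finset.coe_image, Finset.coe_univ, Set.image_univ, hspan]⟩⟩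
    rw [Groth.Agent.MorLib.BF.finiteOfDegLE_iff hk, IsFinite.SpecMap_iff]
    refine ⟨RingHom.finite_algebraMap.mpr hfin, fun y => ?_⟩
    rw [Groth.Agent.MorLib.BF.finrank_SpecMap_of_isField hk _ (RingHom.finite_algebraMap.mpr hfin),
      CommRingCat.hom_ofHom, show (algebraMap k (k ⊗[R] S)).toAlgebra =
        (inferInstance : Algebra k (k ⊗[R] S)) from Algebra.algebra_ext _ _ fun r => rfl]
    have := finrank_range_le_card (R := k) (fun i => (1 : k) ⊗ₜ[R] v i)
    rw [Set.finrank, hspan, finrank_top, Fintype.card_fin] at this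
    exact this

/-- A bound on the number of points of all base changes of `f` to fields. -/
def CardLE (f : X ⟶ Y) (n : ℕ) : Prop :=
  ∀ (k : Type u) [Field k] (g : Spec (CommRingCat.of k) ⟶ Y), ENat.card ↥(pullback f g) ≤ n

theorem cardLE_of_fibreDegLE {f : X ⟶ Y} {n : ℕ} (h : BddFib.FibreDegLE f n) : CardLE f n := by
  intro k _ g
  obtain ⟨hfin, hc⟩ := Groth.Agent.MorLib.BF.natCard_pullback_le h k g
  rw [ENat.card_eq_coe_natCard]
  exact_mod_cast hc

theorem cardLE_openImmersion_comp {W Z : Scheme.{u}} (j : W ⟶ Z) [IsOpenImmersion j] (q : Z ⟶ Y)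
    {n : ℕ} (h : CardLE q n) : CardLE (j ≫ q) n := by
  intro k _ g
  refine le_trans ?_ (h k g)
  exact ENat.card_le_card_of_injective
    (f := fun a => ((pullbackRightPullbackFstIso q g j).inv ≫ pullback.snd j (pullback.fst q g)) a)
    (Scheme.Hom.isEmbedding _).injective

theorem cardLE_of_cover (f : X ⟶ Y) {ι : Type*} [Finite ι] (U : ι → X.Opens) (hU : ⨆ i, U i = ⊤)
    (n : ι → ℕ) (h : ∀ i, CardLE ((U i).ι ≫ f) (n i)) : CardLE f (∑ᶠ i, n i) := by
  intro k _ g
  haveI := Fintype.ofFinite ι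
  let a : ∀ i, pullback ((U i).ι ≫ f) g ⟶ pullback f g := fun i =>
    pullback.map _ _ _ _ (U i).ι (𝟙 _) (𝟙 _) (by simp) (by simp)
  have ha : Function.Surjective fun z : Σ i, ↥(pullback ((U i).ι ≫ f) g) => a z.1 z.2 := by
    intro x
    obtain ⟨i, hi⟩ := TopologicalSpace.Opens.mem_iSup.mp
      (hU.ge (trivial : pullback.fst f g x ∈ (⊤ : X.Opens)))
    have hx : x ∈ Set.range (a i) := by
      rw [show a i = _ from rfl, AlgebraicGeometry.Scheme.Pullback.range_map]
      simpa using hi
    obtain ⟨y, rfl⟩ := hx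
    exact ⟨⟨i, y⟩, rfl⟩
  haveI : ∀ i, Finite ↥(pullback ((U i).ι ≫ f) g) := fun i =>
    ENat.card_lt_top.mp ((h i k g).trans_lt (ENat.coe_lt_top _))
  haveI : Finite ↥(pullback f g) := Finite.of_surjective _ ha
  rw [ENat.card_eq_coe_natCard, finsum_eq_sum_of_fintype]
  refine Nat.cast_le.mpr ((Nat.card_le_card_of_surjective _ ha).trans ?_)
  rw [Nat.card_sigma]
  exact Finset.sum_le_sum fun i _ => by
    have := h i k g
    rw [ENat.card_eq_coe_natCard] at this
    exact_mod_cast this

/-- Zariski's main theorem: a neighbourhood of every point is open in a finite scheme. -/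
theorem exists_nhd_fibreDegLE (f : X ⟶ Y) [LocallyQuasiFinite f] [LocallyOfFiniteType f] (x : X) :
    ∃ (W : X.Opens) (n : ℕ), x ∈ W ∧ BddFib.FibreDegLE (W.ι ≫ f) n := by
  obtain ⟨_, ⟨V, hV, rfl⟩, hxV, -⟩ := Y.isBasis_affineOpens.exists_subset_of_mem_open
    (Set.mem_univ (f x)) isOpen_univ
  obtain ⟨_, ⟨U, hU, rfl⟩, hxU, hUV : U ≤ f ⁻¹ᵁ V⟩ :=
    X.isBasis_affineOpens.exists_subset_of_mem_open hxV (f ⁻¹ᵁ V).2
  replace hU : IsAffineOpen U := hU
  replace hV : IsAffineOpen V := hV
  have h1 : (f.appLE V U hUV).hom.FiniteType := f.finiteType_appLE hV hU hUV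
  have h2 : (f.appLE V U hUV).hom.QuasiFinite := LocallyQuasiFinite.quasiFinite_appLE hV hU hUV
  letI := (f.appLE V U hUV).hom.toAlgebra
  haveI : Algebra.FiniteType Γ(Y, V) Γ(X, U) := h1
  haveI : Algebra.QuasiFinite Γ(Y, V) Γ(X, U) := h2
  obtain ⟨S', hS', r, hrp, hr⟩ := Algebra.QuasiFiniteAt.exists_fg_and_exists_notMem_and_awayMap_bijective
    (R := Γ(Y, V)) (hU.primeIdealOf ⟨x, hxU⟩).asIdeal
  obtain ⟨n, v, hv⟩ := Submodule.fg_iff_exists_fin_generating_family.mp ((Submodule.fg_top _).mpr hS')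
  refine ⟨X.basicOpen r.1, n, ?_, ?_⟩
  · have : hU.primeIdealOf ⟨x, hxU⟩ ∈ hU.fromSpec ⁻¹ᵁ X.basicOpen r.1 := by
      rw [hU.fromSpec_preimage_basicOpen]; exact hrp
    have h' : hU.fromSpec (hU.primeIdealOf ⟨x, hxU⟩) ∈ X.basicOpen r.1 := this
    rwa [hU.fromSpec_primeIdealOf] at h'
  have hVι : BddFib.FibreDegLE hV.fromSpec 1 := Groth.Agent.MorLib.BF.fibreDegLE_one_of_isImmersion _
  have hfin : BddFib.FibreDegLE (Spec.map (CommRingCat.ofHom (algebraMap Γ(Y, V) S')) ≫ hV.fromSpec)
      (n * 1) := Groth.Agent.MorLib.BF.fibreDegLE_comp _ _ n 1 (fibreDegLE_SpecMap n v hv) hVι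
  rw [mul_one] at hfin
  let e : CommRingCat.of (Localization.Away r) ⟶ CommRingCat.of (Localization.Away r.1) :=
    CommRingCat.ofHom (Localization.awayMap S'.val.toRingHom r)
  haveI : IsIso e := (ConcreteCategory.isIso_iff_bijective e).mpr hr
  let j : Spec (CommRingCat.of (Localization.Away r.1)) ⟶ Spec (CommRingCat.of S') :=
    Spec.map e ≫ Spec.map (CommRingCat.ofHom (algebraMap S' (Localization.Away r)))
  haveI : IsOpenImmersion (Spec.map (CommRingCat.ofHom (algebraMap S' (Localization.Away r)))) :=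
    .of_isLocalization r
  haveI : IsOpenImmersion j := inferInstance
  let c : Spec (CommRingCat.of (Localization.Away r.1)) ⟶ X :=
    Spec.map (CommRingCat.ofHom (algebraMap Γ(X, U) (Localization.Away r.1))) ≫ hU.fromSpec
  haveI : IsOpenImmersion (Spec.map (CommRingCat.ofHom (algebraMap Γ(X, U) (Localization.Away r.1)))) :=
    .of_isLocalization r.1
  have hrange : Set.range (X.basicOpen r.1).ι = Set.range c := by
    rw [Scheme.Opens.range_ι, Scheme.Hom.comp_base, TopCat.coe_comp, Set.range_comp]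
    erw [PrimeSpectrum.localization_away_comap_range (Localization.Away r.1) r.1]
    rw [← hU.fromSpec_image_basicOpen]
    rfl
  have hc : c ≫ f = j ≫ Spec.map (CommRingCat.ofHom (algebraMap Γ(Y, V) S')) ≫ hV.fromSpec := by
    simp only [c, j, e, Category.assoc, ← hV.SpecMap_appLE_fromSpec f hU hUV, ← Spec.map_comp_assoc]
    congr 2
    ext a
    show algebraMap Γ(X, U) (Localization.Away r.1) (algebraMap Γ(Y, V) Γ(X, U) a) =
      Localization.awayMap S'.val.toRingHom r (algebraMap S' (Localization.Away r) (algebraMap Γ(Y, V) S' a))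
    rw [Localization.awayMap, IsLocalization.Away.map, IsLocalization.map_eq]
    rfl
  have heq : (IsOpenImmersion.isoOfRangeEq _ c hrange).hom ≫ j ≫
      Spec.map (CommRingCat.ofHom (algebraMap Γ(Y, V) S')) ≫ hV.fromSpec =
        (X.basicOpen r.1).ι ≫ f := by
    rw [← hc, IsOpenImmersion.isoOfRangeEq_hom_fac_assoc]
  rw [← heq, ← Category.assoc]
  have := Groth.Agent.MorLib.BF.fibreDegLE_comp _ _ 1 n
    (Groth.Agent.MorLib.BF.fibreDegLE_one_of_isImmersion
      ((IsOpenImmersion.isoOfRangeEq _ c hrange).hom ≫ j)) hfin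
  rwa [one_mul] at this

theorem exists_nhd_cardLE (f : X ⟶ Y) [LocallyQuasiFinite f] [LocallyOfFiniteType f] (x : X) :
    ∃ (W : X.Opens) (n : ℕ), x ∈ W ∧ CardLE (W.ι ≫ f) n := by
  obtain ⟨W, n, hx, h⟩ := exists_nhd_fibreDegLE f x
  exact ⟨W, n, hx, cardLE_of_fibreDegLE h⟩

theorem exists_cardLE (f : X ⟶ Y) [LocallyQuasiFinite f] [LocallyOfFiniteType f] [CompactSpace X] :
    ∃ n, CardLE f n := by
  choose W n hx hn using exists_nhd_cardLE f
  obtain ⟨t, ht⟩ := isCompact_univ.elim_finite_subcover (fun x => (W x : Set X)) (fun x => (W x).2)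
    fun x _ => Set.mem_iUnion.mpr ⟨x, hx x⟩
  refine ⟨_, cardLE_of_cover f (fun x : t => W x) (top_le_iff.mp fun x _ => ?_) _ fun i => hn i⟩
  obtain ⟨i, hi, hxi⟩ := Set.mem_iUnion₂.mp (ht (Set.mem_univ x))
  exact TopologicalSpace.Opens.mem_iSup.mpr ⟨⟨i, hi⟩, hxi⟩

theorem discreteTopology_geomFiber (f : X ⟶ Y) [LocallyQuasiFinite f] (y : Y) :
    DiscreteTopology ↥(MoreMor.geomFiber f y) := by
  let k := SeparableClosure (Y.residueField y)
  let p : MoreMor.geomFiber f y ⟶ Spec (CommRingCat.of k) := pullback.snd _ _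
  haveI : LocallyQuasiFinite p := MorphismProperty.pullback_snd _ _
    (MorphismProperty.pullback_snd _ _ inferInstance)
  haveI : Subsingleton ↥(Spec (CommRingCat.of k)) := inferInstanceAs (Subsingleton (PrimeSpectrum k))
  have h := p.isDiscrete_preimage_singleton (IsLocalRing.closedPoint k)
  have hu : p ⁻¹' {IsLocalRing.closedPoint k} = Set.univ :=
    Set.eq_univ_of_forall fun a => Subsingleton.elim _ _
  have h' : _root_.IsDiscrete (Set.univ : Set ↥(MoreMor.geomFiber f y)) := hu ▸ h
  exact isDiscrete_univ_iff.mp h'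

theorem irreducibleComponents_of_discrete (α : Type*) [TopologicalSpace α] [DiscreteTopology α] :
    (irreducibleComponents α).encard = ENat.card α := by
  have : irreducibleComponents α = Set.range fun a : α => ({a} : Set α) := by
    refine Set.ext fun s => ⟨fun hs => ?_, ?_⟩
    · obtain ⟨a, ha⟩ := hs.1.1
      refine ⟨a, (Set.eq_singleton_iff_unique_mem.mpr ⟨ha, fun b hb => ?_⟩).symm⟩
      exact (isPreirreducible_iff_subsingleton.mp hs.1.2) hb ha
    · rintro ⟨a, rfl⟩
      refine ⟨isIrreducible_singleton, fun t ht hat => ?_⟩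
      intro b hb
      exact (isPreirreducible_iff_subsingleton.mp ht.2) hb (hat rfl)
  rw [this, ← Set.image_univ, Set.singleton_injective.encard_image, Set.encard_univ]

theorem card_connectedComponents_of_discrete (α : Type*) [TopologicalSpace α] [DiscreteTopology α] :
    ENat.card (_root_.ConnectedComponents α) = ENat.card α := by
  refine (ENat.card_congr (Equiv.ofBijective _ ⟨fun a b h => ?_, ConnectedComponents.surjective_coe⟩)).symm
  have h' := ConnectedComponents.coe_eq_coe.mp h
  rw [connectedComponent_eq_singleton, connectedComponent_eq_singleton] at h'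
  exact Set.singleton_injective h'

theorem card_geomFiber_le {f : X ⟶ Y} {n : ℕ} (h : CardLE f n) (y : Y) :
    ENat.card ↥(MoreMor.geomFiber f y) ≤ n :=
  (ENat.card_congr (Scheme.homeoOfIso (pullbackLeftPullbackSndIso f (Y.fromSpecResidueField y)
    (Spec.map (CommRingCat.ofHom
      (algebraMap (Y.residueField y) (SeparableClosure (Y.residueField y))))))).toEquiv).trans_le
    (h _ _)

/-- A bound for the degrees from a finite open cover. -/
theorem fibreDegLE_of_cover (f : X ⟶ Y) {ι : Type u} [Fintype ι] (U : ι → X.Opens)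
    (hU : ⨆ i, U i = ⊤) (n : ι → ℕ) (h : ∀ i, BddFib.FibreDegLE ((U i).ι ≫ f) (n i)) :
    BddFib.FibreDegLE f (∑ i, n i) := by
  rw [Groth.Agent.MorLib.BF.fibreDegLE_iff]
  intro k _ g
  have hk := Field.toIsField k
  let T := pullback f g
  let p : T ⟶ Spec (CommRingCat.of k) := pullback.snd f g
  let W : ι → T.Opens := fun i => pullback.fst f g ⁻¹ᵁ U i
  have hW : ∀ i, BddFib.FiniteOfDegLE (CommRingCat.of k) ((W i).ι ≫ p) (n i) := by
    intro i
    have h1 : IsPullback (pullback.fst f g ∣_ U i) (W i).ι (U i).ι (pullback.fst f g) :=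
      isPullback_morphismRestrict _ _
    have hi := (h i)
    rw [Groth.Agent.MorLib.BF.fibreDegLE_iff] at hi
    refine (Groth.Agent.MorLib.BF.finiteOfDegLE_baseChange_iff hk hk (𝟙 _)
      (q := (h1.paste_vert (IsPullback.of_hasPullback f g)).isoPullback.hom) ?_ (n i)).mp (hi k g)
    refine IsPullback.of_horiz_isIso ⟨?_⟩
    simp [p]
  have hcover : ⨆ i, W i = ⊤ := by
    rw [← Scheme.Hom.preimage_iSup, hU, Scheme.Hom.preimage_top]
  have hfd := fun i => Groth.Agent.MorLib.BF.finite_discrete_of_finiteOfDegLE hk (hW i)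
  haveI : Finite T := by
    haveI : ∀ i, Finite (W i : Scheme.{u}) := fun i => (hfd i).1
    refine Finite.of_surjective (fun z : Σ i, (W i : Scheme.{u}) => (W z.1).ι z.2) fun t => ?_
    obtain ⟨i, hi⟩ := TopologicalSpace.Opens.mem_iSup.mp (hcover.ge (Set.mem_univ t))
    exact ⟨⟨i, t, hi⟩, rfl⟩
  haveI : DiscreteTopology T := by
    refine discreteTopology_iff_isOpen_singleton.mpr fun t => ?_
    obtain ⟨i, hi⟩ := TopologicalSpace.Opens.mem_iSup.mp (hcover.ge (Set.mem_univ t))
    haveI := (hfd i).2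
    have := (W i).ι.isOpenEmbedding.isOpenMap _ (isOpen_discrete (α := (W i : Scheme.{u}))
      ({(⟨t, hi⟩ : (W i : Scheme.{u}))} : Set (W i : Scheme.{u})))
    have e : (W i).ι '' ({(⟨t, hi⟩ : (W i : Scheme.{u}))} : Set (W i : Scheme.{u})) = {t} :=
      Set.image_singleton
    exact e ▸ this
  letI : Algebra k Γ(T, ⊤) := BddFib.secAlgebra (CommRingCat.of k) p
  letI : ∀ i, Algebra k Γ(W i, ⊤) := fun i => BddFib.secAlgebra (CommRingCat.of k) ((W i).ι ≫ p)
  haveI : ∀ i, Module.Finite k Γ(W i, ⊤) := fun i => (hW i).2.1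
  let φ : Γ(T, ⊤) →ₗ[k] ∀ i, Γ(W i, ⊤) := LinearMap.pi fun i =>
    { toFun := (W i).ι.appTop
      map_add' := map_add _
      map_smul' := fun r x => by
        simp only [Algebra.smul_def, map_mul, RingHom.id_apply]
        congr 1 }
  have hinj : Function.Injective φ := by
    intro a b hab
    refine TopCat.Sheaf.eq_of_locally_eq' T.sheaf W ⊤ (fun i => homOfLE le_top) hcover.ge a b
      fun i => ?_
    have h3 : (W i).ι.appTop a = (W i).ι.appTop b := congrFun hab i
    have h4 := congrArg (T.presheaf.map (eqToHom (W i).ι_image_top.symm).op) h3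
    rw [Scheme.Opens.ι_appTop] at h4
    have key : T.presheaf.map (homOfLE (le_top : W i ≤ ⊤)).op =
        T.presheaf.map (homOfLE (le_top : (W i).ι ''ᵁ ⊤ ≤ ⊤)).op ≫
          T.presheaf.map (eqToHom (W i).ι_image_top.symm).op := by
      rw [← Functor.map_comp]; rfl
    exact (congr($key a)).trans (h4.trans (congr($key b)).symm)
  exact ⟨inferInstance, Module.Finite.of_injective φ hinj,
    (LinearMap.finrank_le_finrank_of_injective hinj).trans (by
      rw [Module.finrank_pi_fintype]
      exact Finset.sum_le_sum fun i _ => (hW i).2.2)⟩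

theorem univBounded (f : X ⟶ Y) [LocallyQuasiFinite f] [LocallyOfFiniteType f] [CompactSpace X] :
    BddFib.UnivBounded f := by
  choose W n hx hn using exists_nhd_fibreDegLE f
  obtain ⟨t, ht⟩ := isCompact_univ.elim_finite_subcover (fun x => (W x : Set X)) (fun x => (W x).2)
    fun x _ => Set.mem_iUnion.mpr ⟨x, hx x⟩
  refine ⟨_, fibreDegLE_of_cover f (fun x : t => W x) (top_le_iff.mp fun x _ => ?_) _ fun i => hn i⟩
  obtain ⟨i, hi, hxi⟩ := Set.mem_iUnion₂.mp (ht (Set.mem_univ x))
  exact TopologicalSpace.Opens.mem_iSup.mpr ⟨⟨i, hi⟩, hxi⟩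

end Groth.Agent.MorLib.GP
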