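import Mathlib
import Groth.Prelude.Def_Found

/-! Being a G-ring only depends on the local rings. -/

set_option autoImplicit false
universe u

namespace Groth.Agent.MorLib.GRing

open scoped TensorProduct

theorem exists_tensor_lift {R S K T : Type u} [CommRing R] [CommRing S] [CommRing K] [CommRing T]
    [Algebra R S] [Algebra R K] (a : K →+* T) (b : S →+* T)
    (h : ∀ r, a (algebraMap R K r) = b (algebraMap R S r)) :
    ∃ F : K ⊗[R] S →+* T, ∀ k s, F (k ⊗ₜ s) = a k * b s := by
  letI : Algebra R T := (a.comp (algebraMap R K)).toAlgebra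
  let a' : K →ₐ[R] T := { a with commutes' := fun _ => rfl }
  let b' : S →ₐ[R] T := { b with commutes' := fun r => (h r).symm }
  exact ⟨(Algebra.TensorProduct.lift a' b' fun _ _ => Commute.all _ _).toRingHom,
    fun k s => Algebra.TensorProduct.lift_tmul _ _ _ k s⟩

theorem nonempty_tensor_equiv {R R' S S' : Type u} (K : Type u) [CommRing R] [CommRing R'] [CommRing S]
    [CommRing S'] [CommRing K] [Algebra R S] [Algebra R' S'] [Algebra R K] [Algebra R' K]
    (e : R ≃+* R') (f : S ≃+* S') (hK : ∀ r, algebraMap R' K (e r) = algebraMap R K r)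
    (hf : ∀ r, algebraMap R' S' (e r) = f (algebraMap R S r)) :
    Nonempty (K ⊗[R] S ≃+* K ⊗[R'] S') := by
  have hK' : ∀ r, algebraMap R K (e.symm r) = algebraMap R' K r := fun r => by rw [← hK, e.apply_symm_apply]
  have hf' : ∀ r, algebraMap R S (e.symm r) = f.symm (algebraMap R' S' r) := fun r => by
    rw [← f.symm_apply_apply (algebraMap R S _), ← hf, e.apply_symm_apply]
  obtain ⟨F, hF'⟩ := exists_tensor_lift (R := R)
    (Algebra.TensorProduct.includeLeft : K →ₐ[R'] K ⊗[R'] S').toRingHom
    ((Algebra.TensorProduct.includeRight : S' →ₐ[R'] K ⊗[R'] S').toRingHom.comp (f : S →+* S'))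
    (fun r => by
      show (Algebra.TensorProduct.includeLeft : K →ₐ[R'] K ⊗[R'] S') (algebraMap R K r) =
        (Algebra.TensorProduct.includeRight : S' →ₐ[R'] K ⊗[R'] S') (f (algebraMap R S r))
      rw [← hK, ← hf, AlgHom.commutes, AlgHom.commutes])
  obtain ⟨G, hG'⟩ := exists_tensor_lift (R := R')
    (Algebra.TensorProduct.includeLeft : K →ₐ[R] K ⊗[R] S).toRingHom
    ((Algebra.TensorProduct.includeRight : S →ₐ[R] K ⊗[R] S).toRingHom.comp (f.symm : S' →+* S))
    (fun r => by
      show (Algebra.TensorProduct.includeLeft : K →ₐ[R] K ⊗[R] S) (algebraMap R' K r) =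
        (Algebra.TensorProduct.includeRight : S →ₐ[R] K ⊗[R] S) (f.symm (algebraMap R' S' r))
      rw [← hK', ← hf', AlgHom.commutes, AlgHom.commutes])
  have hF : ∀ k s, F (k ⊗ₜ s) = k ⊗ₜ f s := fun k s => by rw [hF']; simp
  have hG : ∀ k s, G (k ⊗ₜ s) = k ⊗ₜ f.symm s := fun k s => by rw [hG']; simp
  refine ⟨RingEquiv.ofRingHom F G ?_ ?_⟩
  · refine RingHom.ext fun x => ?_
    induction x using TensorProduct.induction_on with
    | zero => simp
    | tmul k s => simp [hF, hG]
    | add x y hx hy => rw [map_add, map_add, hx, hy]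
  · refine RingHom.ext fun x => ?_
    induction x using TensorProduct.induction_on with
    | zero => simp
    | tmul k s => simp [hF, hG]
    | add x y hx hy => rw [map_add, map_add, hx, hy]

theorem isRegularHom_of_equiv {R R' S S' : Type u} [CommRing R] [CommRing R'] [CommRing S]
    [CommRing S'] [Algebra R S] [Algebra R' S'] (e : R ≃+* R') (f : S ≃+* S')
    (hf : ∀ r, algebraMap R' S' (e r) = f (algebraMap R S r)) (h : CAlg.IsRegularHom R S) :
    CAlg.IsRegularHom R' S' := by
  refine ⟨?_, fun p' hp' => ?_⟩
  · have h1 : (algebraMap R S).Flat := RingHom.flat_algebraMap_iff.mpr h.1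
    have h2 := ((RingHom.Flat.of_bijective (f := (e.symm : R' →+* R)) e.symm.bijective).comp h1).comp
      (RingHom.Flat.of_bijective (f := (f : S →+* S')) f.bijective)
    have e' : ((f : S →+* S').comp ((algebraMap R S).comp (e.symm : R' →+* R))) = algebraMap R' S' := by
      refine RingHom.ext fun r => ?_
      show f (algebraMap R S (e.symm r)) = _
      rw [← hf, e.apply_symm_apply]
    rw [e'] at h2
    exact RingHom.flat_algebraMap_iff.mp h2
  · let p : Ideal R := p'.comap (e : R →+* R')
    haveI : p.IsPrime := inferInstanceAs (p'.comap (e : R →+* R')).IsPrime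
    obtain ⟨hN, hG⟩ := h.2 p
    let m : p.ResidueField →+* p'.ResidueField := Ideal.ResidueField.map p p' (e : R →+* R') rfl
    have hm : ∀ r, m (algebraMap R p.ResidueField r) = algebraMap R' p'.ResidueField (e r) :=
      Ideal.ResidueField.map_algebraMap p p' (e : R →+* R') rfl
    have hmb : Function.Bijective m := by
      refine ⟨m.injective, fun x => ?_⟩
      obtain ⟨⟨a, b⟩, hab⟩ := IsLocalization.surj (nonZeroDivisors (R' ⧸ p')) x
      obtain ⟨a, rfl⟩ := Ideal.Quotient.mk_surjective a
      obtain ⟨b', hb'⟩ := Ideal.Quotient.mk_surjective b.1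
      refine ⟨algebraMap R p.ResidueField (e.symm a) / algebraMap R p.ResidueField (e.symm b'), ?_⟩
      rw [map_div₀, hm, hm, e.apply_symm_apply, e.apply_symm_apply]
      rw [IsScalarTower.algebraMap_apply R' (R' ⧸ p') p'.ResidueField a,
        IsScalarTower.algebraMap_apply R' (R' ⧸ p') p'.ResidueField b']
      simp only [Ideal.Quotient.algebraMap_eq, hb']
      rw [div_eq_iff (IsLocalization.map_units p'.ResidueField b).ne_zero]
      exact hab.symm
    constructor
    · letI : Algebra R p'.ResidueField := ((algebraMap R' p'.ResidueField).comp (e : R →+* R')).toAlgebra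
      obtain ⟨φ⟩ := nonempty_tensor_equiv p'.ResidueField e f (fun _ => rfl) hf
      let mE : p.ResidueField ≃ₐ[R] p'.ResidueField :=
        AlgEquiv.ofRingEquiv (f := RingEquiv.ofBijective m hmb) hm
      let ψ : p.Fiber S ≃+* p'.ResidueField ⊗[R] S :=
        (Algebra.TensorProduct.congr mE (AlgEquiv.refl (R := R) (A₁ := S))).toRingEquiv
      exact isNoetherianRing_of_ringEquiv _ (ψ.trans φ)
    · intro k' _ _ hfin
      letI : Algebra p.ResidueField k' := ((algebraMap p'.ResidueField k').comp m).toAlgebra
      haveI : Module.Finite p.ResidueField k' :=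
        RingHom.finite_algebraMap.mp ((RingHom.finite_algebraMap.mpr hfin).comp
          (RingHom.Finite.of_surjective m hmb.surjective))
      letI : Algebra R' k' := ((algebraMap p'.ResidueField k').comp (algebraMap R' p'.ResidueField)).toAlgebra
      haveI : IsScalarTower R' p'.ResidueField k' := IsScalarTower.of_algebraMap_eq fun _ => rfl
      letI : Algebra R k' := ((algebraMap p.ResidueField k').comp (algebraMap R p.ResidueField)).toAlgebra
      haveI : IsScalarTower R p.ResidueField k' := IsScalarTower.of_algebraMap_eq fun _ => rfl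
      obtain ⟨φ⟩ := nonempty_tensor_equiv k' e f (fun r => by
        show algebraMap p'.ResidueField k' (algebraMap R' p'.ResidueField (e r)) =
          algebraMap p'.ResidueField k' (m (algebraMap R p.ResidueField r))
        rw [hm]) hf
      haveI := hG k' inferInstance
      exact IsRegularRing.of_ringEquiv
        (((Algebra.TensorProduct.cancelBaseChange R p.ResidueField k' k' S).toRingEquiv.trans φ).trans
          (Algebra.TensorProduct.cancelBaseChange R' p'.ResidueField k' k' S').toRingEquiv.symm)

/-- The local condition for G-rings transfers along isomorphisms of local rings. -/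
theorem localCond_of_equiv {R R' : Type u} [CommRing R] [CommRing R'] [IsLocalRing R] [IsLocalRing R']
    (e : R ≃+* R')
    (h : CAlg.IsRegularHom R (AdicCompletion (IsLocalRing.maximalIdeal R) R)) :
    CAlg.IsRegularHom R' (AdicCompletion (IsLocalRing.maximalIdeal R') R') := by
  let I := IsLocalRing.maximalIdeal R
  let I' := IsLocalRing.maximalIdeal R'
  have hI : I.map (e : R →+* R') = I' := IsLocalRing.map_ringEquiv_maximalIdeal e
  have hI' : I'.map (e.symm : R' →+* R) = I := IsLocalRing.map_ringEquiv_maximalIdeal e.symm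
  have h1 : ∀ n, I ^ n ≤ (I' ^ n).comap (e : R →+* R') := fun n => by
    rw [← Ideal.map_le_iff_le_comap, Ideal.map_pow, hI]
  have h2 : ∀ n, I' ^ n ≤ (I ^ n).comap (e.symm : R' →+* R) := fun n => by
    rw [← Ideal.map_le_iff_le_comap, Ideal.map_pow, hI']
  let F : AdicCompletion I R →+* AdicCompletion I' R' := AdicCompletion.liftRingHom I'
    (fun n => (Ideal.quotientMap (I' ^ n) (e : R →+* R') (h1 n)).comp (AdicCompletion.evalₐ I n).toRingHom)
    (fun {m n} hle => by
      refine RingHom.ext fun x => ?_
      obtain ⟨g, rfl⟩ := AdicCompletion.mk_surjective I R x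
      simp only [RingHom.comp_apply, AlgHom.toRingHom_eq_coe, RingHom.coe_coe, AdicCompletion.evalₐ_mk,
        Ideal.quotientMap_mk]
      show Ideal.Quotient.mk _ (e (g n)) = Ideal.Quotient.mk _ (e (g m))
      rw [Ideal.Quotient.eq, ← map_sub]
      refine h1 m ?_
      simpa using neg_mem (SModEq.sub_mem.1 (g.property hle)))
  let G : AdicCompletion I' R' →+* AdicCompletion I R := AdicCompletion.liftRingHom I
    (fun n => (Ideal.quotientMap (I ^ n) (e.symm : R' →+* R) (h2 n)).comp (AdicCompletion.evalₐ I' n).toRingHom)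
    (fun {m n} hle => by
      refine RingHom.ext fun x => ?_
      obtain ⟨g, rfl⟩ := AdicCompletion.mk_surjective I' R' x
      simp only [RingHom.comp_apply, AlgHom.toRingHom_eq_coe, RingHom.coe_coe, AdicCompletion.evalₐ_mk,
        Ideal.quotientMap_mk]
      show Ideal.Quotient.mk _ (e.symm (g n)) = Ideal.Quotient.mk _ (e.symm (g m))
      rw [Ideal.Quotient.eq, ← map_sub]
      refine h2 m ?_
      simpa using neg_mem (SModEq.sub_mem.1 (g.property hle)))
  have hFn : ∀ x n, AdicCompletion.evalₐ I' n (F x) =
      Ideal.quotientMap (I' ^ n) (e : R →+* R') (h1 n) (AdicCompletion.evalₐ I n x) :=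
    fun x n => AdicCompletion.evalₐ_liftRingHom _ _ _ _ _
  have hGn : ∀ x n, AdicCompletion.evalₐ I n (G x) =
      Ideal.quotientMap (I ^ n) (e.symm : R' →+* R) (h2 n) (AdicCompletion.evalₐ I' n x) :=
    fun x n => AdicCompletion.evalₐ_liftRingHom _ _ _ _ _
  have hFG : ∀ x, F (G x) = x := fun x => AdicCompletion.ext_evalₐ fun n => by
    obtain ⟨g, rfl⟩ := AdicCompletion.mk_surjective I' R' x
    rw [hFn, hGn, AdicCompletion.evalₐ_mk, Ideal.quotientMap_mk, Ideal.quotientMap_mk]
    simp
  have hGF : ∀ x, G (F x) = x := fun x => AdicCompletion.ext_evalₐ fun n => by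
    obtain ⟨g, rfl⟩ := AdicCompletion.mk_surjective I R x
    rw [hGn, hFn, AdicCompletion.evalₐ_mk, Ideal.quotientMap_mk, Ideal.quotientMap_mk]
    simp
  let f : AdicCompletion I R ≃+* AdicCompletion I' R' :=
    RingEquiv.ofRingHom F G (RingHom.ext hFG) (RingHom.ext hGF)
  refine isRegularHom_of_equiv e f (fun r => AdicCompletion.ext_evalₐ fun n => ?_) h
  show _ = AdicCompletion.evalₐ I' n (F (algebraMap R (AdicCompletion I R) r))
  rw [hFn, AlgHom.commutes, AlgHom.commutes]
  rfl

end Groth.Agent.MorLib.GRing
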