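import Groth.Agent.MorLib.Descend

/-! Descent of isomorphisms along limits. -/

set_option autoImplicit false
universe u

namespace Groth.Agent.MorLib.Desc

open AlgebraicGeometry CategoryTheory Limits TopologicalSpace Opposite

theorem core_iso : Core (MorphismProperty.isomorphisms Scheme.{u}) @LocallyOfFinitePresentation := by
  intro I _ _ D c hc hD i hi X₀ f₀ _ _ hQ h
  haveI : LocallyOfFinitePresentation f₀ := hQ
  haveI : ∀ {i j : I} (f : i ⟶ j), IsAffineHom (D.map f) := fun {i j} f => hD i j f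
  haveI hiso : IsIso (pullback.snd f₀ (c.π.app i)) := h
  haveI : QuasiCompact f₀ := inferInstance
  let a : c.pt ⟶ X₀ := inv (pullback.snd f₀ (c.π.app i)) ≫ pullback.fst f₀ (c.π.app i)
  have ha : a ≫ f₀ = c.π.app i := by
    simp only [a, Category.assoc, pullback.condition, IsIso.inv_hom_id_assoc]
  let D' := Over.forget i ⋙ D
  let c' : Cone D' := c.whisker (Over.forget i)
  have hc' : IsLimit c' := (Functor.Initial.isLimitWhiskerEquiv (Over.forget i) c).symm hc
  haveI : ∀ {a b : Over i} (f : a ⟶ b), IsAffineHom (D'.map f) := fun f =>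
    inferInstanceAs (IsAffineHom (D.map f.left))
  haveI : ∀ j : Over i, IsAffine (D'.obj j) := fun j => by
    show IsAffine (D.obj j.left)
    exact isAffine_of_isAffineHom (D.map j.hom)
  let t : D' ⟶ (Functor.const _).obj (D.obj i) :=
    { app := fun j => D.map j.hom
      naturality := fun j k f => by
        show D.map f.left ≫ D.map k.hom = D.map j.hom ≫ 𝟙 _
        rw [Category.comp_id, ← D.map_comp, Over.w f] }
  obtain ⟨k, σ', hσa, hσf⟩ := Scheme.exists_π_app_comp_eq_of_locallyOfFinitePresentation D' t f₀ c' hc'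
    (a : c'.pt ⟶ X₀) (by
      ext j : 2
      show c.π.app j.left ≫ D.map j.hom = a ≫ f₀
      rw [ha, c.w])
  let σ : D.obj k.left ⟶ X₀ := σ'
  change c.π.app k.left ≫ σ = a at hσa
  change σ ≫ f₀ = D.map k.hom at hσf
  have hX := IsPullback.of_hasPullback f₀ (c.π.app i)
  let t' : BC.diag D f₀ ⟶ (Functor.const _).obj (D.obj i) :=
    { app := fun j => pullback.fst f₀ (D.map j.hom) ≫ f₀
      naturality := fun j l f => by
        show (BC.diag D f₀).map f ≫ _ ≫ f₀ = (_ ≫ f₀) ≫ 𝟙 _
        refine Eq.trans ?_ (Category.comp_id _).symm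
        refine (Category.assoc _ _ _).symm.trans ?_
        exact congrArg (· ≫ f₀) (BC.map_fst D f₀ f) }
  haveI : ∀ j, CompactSpace ((BC.diag D f₀).obj j) := fun j => BC.compactSpace_obj D f₀ j
  haveI : ∀ {a b : Over i} (f : a ⟶ b), IsAffineHom ((BC.diag D f₀).map f) := fun f =>
    BC.isAffineHom_map D f₀ f
  obtain ⟨l, g, hg⟩ := Scheme.exists_hom_comp_eq_comp_of_locallyOfFiniteType (BC.diag D f₀) t' f₀
    (BC.cone D f₀ hX) (BC.isLimitCone D f₀ hX hc) (i := k)
    (pullback.fst f₀ (D.map k.hom)) (pullback.snd f₀ (D.map k.hom) ≫ σ) rfl (by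
      show pullback.fst f₀ (D.map k.hom) ≫ f₀ = _
      refine Eq.trans ?_ (Category.assoc _ _ _).symm
      exact pullback.condition.trans (congrArg (pullback.snd f₀ (D.map k.hom) ≫ ·) hσf.symm)) (by
      show BC.proj D f₀ hX k ≫ _ = BC.proj D f₀ hX k ≫ _
      refine (BC.proj_fst D f₀ hX k).trans ?_
      refine Eq.trans ?_ (Category.assoc _ _ _)
      refine Eq.trans ?_ (congrArg (· ≫ σ) (BC.proj_snd D f₀ hX k).symm)
      refine Eq.trans ?_ (Category.assoc _ _ _).symm
      refine Eq.trans ?_ (congrArg (pullback.snd f₀ (c.π.app i) ≫ ·) hσa.symm)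
      exact (IsIso.hom_inv_id_assoc _ _).symm)
  refine ⟨l.left, l.hom, ?_⟩
  let s : D.obj l.left ⟶ pullback f₀ (D.map l.hom) :=
    pullback.lift (D.map g.left ≫ σ) (𝟙 _) (by
      rw [Category.assoc, hσf, Category.id_comp, ← D.map_comp, Over.w g])
  refine ⟨s, ?_, pullback.lift_snd _ _ _⟩
  apply pullback.hom_ext
  · rw [Category.assoc, pullback.lift_fst, Category.id_comp, ← BC.map_fst D f₀ g, hg,
      ← Category.assoc, ← BC.map_snd D f₀ g]
    exact Category.assoc _ _ _
  · rw [Category.assoc, pullback.lift_snd, Category.id_comp, Category.comp_id]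

end Groth.Agent.MorLib.Desc
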