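import Groth.Agent.MorLib.WeightConstr

/-! Level sets of fibre integrals are constructible. -/

set_option autoImplicit false
universe u

namespace Groth.Agent.MorLib.WT

open AlgebraicGeometry CategoryTheory Limits Filter Topology
open Groth.Agent.MorLib.GF (pt pt_comp geomSum)

variable {X Y : Scheme.{u}} {f : X ⟶ Y} [LocallyQuasiFinite f] [LocallyOfFinitePresentation f]
  [QuasiCompact f] [QuasiSeparated f] {w : X → ℤ}

set_option backward.isDefEq.respectTransparency.types false in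
/-- Around each point the fibre integral is constant on a constructible set. -/
theorem exists_constructible_const_fibreIntegral (hw : MoreMor.IsWeighting f w) (y : Y) (U : Y.Opens)
    (hU : IsAffineOpen U) (hy : y ∈ U) :
    ∃ C : Set (U : Scheme.{u}), IsConstructible C ∧ ⟨y, hy⟩ ∈ C ∧
      ∀ c ∈ C, MoreMor.fibreIntegral f w (U.ι c) = MoreMor.fibreIntegral f w y := by
  classical
  haveI : IsAffine (U : Scheme.{u}) := hU
  obtain ⟨Ω, _, _, yb, rfl⟩ := GF.exists_geomPoint y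
  have hfin : ∀ y : Y, (f ⁻¹' {y}).Finite := f.finite_preimage_singleton
  haveI := GF.finite_lifts f yb (hfin _)
  obtain ⟨T, V, k, π, h, vb, W, δ, hc, he, rfl, hp⟩ := exists_decomp f yb id
  let := Fintype.ofFinite (Lifts f (vb ≫ h))
  have h3 : ∀ᶠ v' in 𝓝 (pt vb), h v' ∈ U ∧
      ∀ i, fiOn π (W i) (w ∘ ⇑k) v' = fiOn π (W i) (w ∘ ⇑k) (pt vb) :=
    Filter.Eventually.and (h.continuous.continuousAt.eventually (U.2.mem_nhds (by rwa [← pt_comp])))
      (eventually_all.mpr fun i => eventually_piece_eq hw hc (hp i).1)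
  obtain ⟨_, ⟨(V₀ : Scheme.Opens _), hV₀, rfl⟩, hvV₀, hV₀N⟩ :=
    V.isBasis_affineOpens.mem_nhds_iff.mp h3
  haveI : IsAffine (V₀ : Scheme.{u}) := hV₀
  obtain ⟨vb₀, hvb₀⟩ := exists_lift_to_open V₀ vb hvV₀
  have hk : IsPullback (π ⁻¹ᵁ V₀).ι (π ∣_ V₀) π V₀.ι := (isPullback_morphismRestrict π V₀).flip
  have hc₀ : IsPullback ((π ⁻¹ᵁ V₀).ι ≫ k) (π ∣_ V₀) f (V₀.ι ≫ h) := hk.paste_horiz hc
  haveI : LocallyQuasiFinite (π ∣_ V₀) := MorphismProperty.of_isPullback hc₀ inferInstance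
  haveI : LocallyOfFinitePresentation (π ∣_ V₀) := MorphismProperty.of_isPullback hc₀ inferInstance
  haveI : QuasiCompact (π ∣_ V₀) := MorphismProperty.of_isPullback hc₀ inferInstance
  haveI : QuasiSeparated (π ∣_ V₀) := MorphismProperty.of_isPullback hc₀ inferInstance
  haveI : CompactSpace ↥(π ⁻¹ᵁ V₀ : Scheme.{u}) :=
    QuasiCompact.compactSpace_of_compactSpace (π ∣_ V₀)
  haveI : QuasiSeparatedSpace ↥(π ⁻¹ᵁ V₀ : Scheme.{u}) :=
    quasiSeparatedSpace_of_quasiSeparated (π ∣_ V₀)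
  let W₀ := fun i => (π ⁻¹ᵁ V₀).ι ⁻¹ᵁ W i
  have hp₀ := fun i => (hp i).1.baseChange hk vb₀ hvb₀
  have hcomp : ∀ i, IsCompact (W₀ i : Set ↥(π ⁻¹ᵁ V₀ : Scheme.{u})) := fun i => by
    haveI : IsFinite ((W₀ i).ι ≫ (π ∣_ V₀)) := (hp₀ i).finite
    haveI := QuasiCompact.compactSpace_of_compactSpace ((W₀ i).ι ≫ (π ∣_ V₀))
    exact isCompact_iff_compactSpace.mpr ‹_›
  have hWc : ∀ i, IsConstructible (W₀ i : Set ↥(π ⁻¹ᵁ V₀ : Scheme.{u})) := fun i =>
    ((hcomp i).isRetrocompact (W₀ i).2).isConstructible (W₀ i).2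
  let Bad : Set ↥(π ⁻¹ᵁ V₀ : Scheme.{u}) := (⋃ i, (W₀ i : Set _))ᶜ ∪
    ⋃ i, ⋃ j, if i = j then ∅ else (W₀ i : Set _) ∩ (W₀ j : Set _)
  have hBad : IsConstructible Bad := (IsConstructible.iUnion hWc).compl.union
    (IsConstructible.iUnion fun i => IsConstructible.iUnion fun j => by
      split
      · exact IsConstructible.empty
      · exact (hWc i).inter (hWc j))
  let D : Set (V₀ : Scheme.{u}) := ((π ∣_ V₀) '' Bad)ᶜ
  have hD : IsConstructible D := ((π ∣_ V₀).isConstructible_image hBad).compl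
  let q := IsOpenImmersion.lift U.ι (V₀.ι ≫ h) (by
    rintro _ ⟨a, rfl⟩
    rw [Scheme.Hom.comp_apply, Scheme.Opens.range_ι]
    exact (hV₀N a.2).1)
  have hq : q ≫ U.ι = V₀.ι ≫ h := IsOpenImmersion.lift_fac ..
  haveI : Etale q := by
    haveI : Etale (q ≫ U.ι) := by rw [hq]; infer_instance
    exact Etale.of_comp q U.ι
  haveI : QuasiCompact q := inferInstance
  let L := Lifts f (vb ≫ h)
  let δ₀ := fun i : L => hk.lift (δ i) vb₀ (by rw [(hp i).1.over, hvb₀])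
  have hvD : pt vb₀ ∈ D := by
    rintro ⟨t, ht, htv⟩
    obtain ⟨d, rfl⟩ := exists_lift_pt (π ∣_ V₀) vb₀ t htv
    let i : L := ⟨d.1 ≫ (π ⁻¹ᵁ V₀).ι ≫ k, by
      rw [Category.assoc, Category.assoc, hc.w, reassoc_of% hk.w, reassoc_of% d.2, ← Category.assoc, hvb₀]⟩
    have hd : d.1 = δ₀ i := hc₀.hom_ext
      (by
        rw [show δ₀ i ≫ (π ⁻¹ᵁ V₀).ι ≫ k = δ i ≫ k from hk.lift_fst_assoc .., (hp i).2]
        rfl)
      (d.2.trans (hk.lift_snd ..).symm)
    rcases ht with ht | ht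
    · refine ht (Set.mem_iUnion.mpr ⟨i, ?_⟩)
      rw [hd]; exact (hp₀ i).mem
    · simp only [Set.mem_iUnion] at ht
      obtain ⟨a, b, hab⟩ := ht
      split at hab
      · exact hab
      · next hne =>
        have ea := (hp₀ a).uniq d.1 d.2 hab.1
        have eb := (hp₀ b).uniq d.1 d.2 hab.2
        have e : ∀ c : L, d.1 = δ₀ c → c.1 = d.1 ≫ (π ⁻¹ᵁ V₀).ι ≫ k := fun c hc' => by
          rw [hc', show δ₀ c ≫ (π ⁻¹ᵁ V₀).ι ≫ k = δ c ≫ k from hk.lift_fst_assoc .., (hp c).2]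
          rfl
        exact hne (Subtype.ext ((e a ea).trans (e b eb).symm))
  have hval : ∀ d ∈ D, MoreMor.fibreIntegral f w ((V₀.ι ≫ h) d) =
      ∑ i, fiOn π (W i) (w ∘ ⇑k) (pt vb) := by
    intro d hd
    have hfin' := GF.finite_preimage_baseChange hc₀ d (hfin _)
    obtain ⟨Ω', _, _, db, rfl⟩ := GF.exists_geomPoint d
    haveI := GF.finite_lifts (π ∣_ V₀) db hfin'
    rw [← GF.fibreIntegral_baseChange hc₀ w (pt db) (hfin _),
      GF.fibreIntegral_eq (π ∣_ V₀) _ db hfin', geomSum]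
    have hcov : (Set.univ : Set (Lifts (π ∣_ V₀) db)) = ⋃ i, {δ | pt δ.1 ∈ W₀ i} := by
      ext δ
      simp only [Set.mem_univ, Set.mem_iUnion, Set.mem_setOf_eq, true_iff]
      by_contra hn
      exact hd ⟨pt δ.1, Or.inl (fun hm => hn (Set.mem_iUnion.mp hm)), (pt_comp _ _).symm.trans (congrArg pt δ.2)⟩
    rw [← finsum_mem_univ, hcov, finsum_mem_iUnion, finsum_eq_sum_of_fintype]
    · refine Finset.sum_congr rfl fun i _ => ?_
      haveI : IsFinite ((W₀ i).ι ≫ (π ∣_ V₀)) := (hp₀ i).finite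
      rw [← fiOn_eq_finsum (π ∣_ V₀) (W₀ i) _ db,
        show (w ∘ ⇑((π ⁻¹ᵁ V₀).ι ≫ k)) = (w ∘ ⇑k) ∘ ⇑(π ⁻¹ᵁ V₀).ι from rfl,
        fiOn_baseChange hk (hp i).1.finite]
      exact (hV₀N (pt db).2).2 i
    · intro a b hab
      exact Set.disjoint_left.mpr fun δ ha hb => hd ⟨pt δ.1,
        Or.inr (Set.mem_iUnion.mpr ⟨a, Set.mem_iUnion.mpr ⟨b, by rw [if_neg hab]; exact ⟨ha, hb⟩⟩⟩),
        (pt_comp _ _).symm.trans (congrArg pt δ.2)⟩
    · exact fun i => Set.toFinite _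
  have hbase : (V₀.ι ≫ h) (pt vb₀) = pt (vb ≫ h) := by
    rw [← pt_comp, ← Category.assoc, hvb₀]
  refine ⟨q '' D, q.isConstructible_image hD, ⟨pt vb₀, hvD, ?_⟩, ?_⟩
  · apply U.ι.isOpenEmbedding.injective
    rw [← Scheme.Hom.comp_apply, hq]
    exact hbase
  · rintro _ ⟨d, hd, rfl⟩
    rw [← Scheme.Hom.comp_apply, hq, hval d hd, ← hval _ hvD, hbase]

/-- Level sets of fibre integrals are locally constructible. -/
theorem isLocallyConstructible_fibreIntegral (hw : MoreMor.IsWeighting f w) (n : ℤ) :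
    IsLocallyConstructible {y : Y | MoreMor.fibreIntegral f w y = n} := by
  refine .of_isOpenCover (U := fun U : Y.affineOpens => U.1)
    (TopologicalSpace.IsOpenCover.mk (iSup_affineOpens_eq_top Y)) fun U => ?_
  haveI : IsAffine (U.1 : Scheme.{u}) := U.2
  choose C hC hxC hCw using fun c : (U.1 : Scheme.{u}) =>
    exists_constructible_const_fibreIntegral hw c.1 U.1 U.2 c.2
  obtain ⟨F, hF⟩ := isCompact_univ.elim_finite_subcover
    (fun c : (U.1 : Scheme.{u}) => (WithTopology.ofTopology ⁻¹' C c :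
      Set (WithConstructibleTopology (U.1 : Scheme.{u}))))
    (fun c => WithConstructibleTopology.isOpen_iff.mpr (isClopen_constructibleTopology (hC c)).1)
    fun z _ => Set.mem_iUnion.mpr ⟨WithTopology.ofTopology z, hxC _⟩
  have : (Subtype.val ⁻¹' {y : Y | MoreMor.fibreIntegral f w y = n} : Set (U.1 : Scheme.{u})) =
      ⋃ c ∈ {c | c ∈ F ∧ MoreMor.fibreIntegral f w c.1 = n}, C c := by
    ext a
    simp only [Set.mem_preimage, Set.mem_setOf_eq, Set.mem_iUnion, exists_prop]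
    constructor
    · intro ha
      obtain ⟨c, hc, hac⟩ := Set.mem_iUnion₂.mp (hF (Set.mem_univ (WithTopology.toTopology _ a)))
      exact ⟨c, ⟨hc, (hCw c a hac).symm.trans ha⟩, hac⟩
    · rintro ⟨c, ⟨-, hcn⟩, hac⟩
      exact (hCw c a hac).trans hcn
  exact ((IsConstructible.biUnion (F.finite_toSet.subset fun c hc => hc.1) fun c _ => hC c).isLocallyConstructible
    : IsLocallyConstructible _) |> fun h => this ▸ h

end Groth.Agent.MorLib.WT
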