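import Groth.Agent.MorLib.WeightPositive
import Groth.Agent.MorLib.WeightFlat
import Groth.Agent.MorLib.WeightConstrY
import Groth.Agent.MorLib.BddFib
import Groth.Prelude.Def_Mor2

/-! The degree of the fibres of a flat separated quasi-finite morphism. -/

set_option autoImplicit false
universe u

namespace Groth.Agent.MorLib.WT

open AlgebraicGeometry CategoryTheory Limits Filter Topology
open Groth.Agent.MorLib.GF (pt pt_comp geomSum)

variable {X S : Scheme.{u}} {f : X ⟶ S} [Flat f] [LocallyOfFinitePresentation f] [IsSeparated f]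
  [LocallyQuasiFinite f]

omit [Flat f] [LocallyOfFinitePresentation f] [IsSeparated f] in
theorem quasiCompact_fibre (hfin : ∀ s : S, (f ⁻¹' {s}).Finite) {K : Type u} [Field K]
    (g : Spec (CommRingCat.of K) ⟶ S) : QuasiCompact (pullback.snd f g) := by
  haveI : Subsingleton ↥(Spec (CommRingCat.of K)) := inferInstanceAs (Subsingleton (PrimeSpectrum K))
  have h := GF.finite_preimage_baseChange (IsPullback.of_hasPullback f g) (pt (𝟙 _)) (hfin _)
  haveI : Finite ↥(pullback f g) := by
    rw [← Set.finite_univ_iff]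
    exact h.subset fun a _ => Subsingleton.elim _ _
  exact (quasiCompact_iff_compactSpace _).mpr inferInstance

set_option backward.isDefEq.respectTransparency.types false in
omit [Flat f] in
theorem isFinite_fibre (hfin : ∀ s : S, (f ⁻¹' {s}).Finite) {K : Type u} [Field K]
    (g : Spec (CommRingCat.of K) ⟶ S) : IsFinite (pullback.snd f g) := by
  haveI := quasiCompact_fibre hfin g
  haveI : LocallyQuasiFinite (pullback.snd f g) := MorphismProperty.pullback_snd _ _ inferInstance
  haveI : IsLocallyArtinian (Spec (CommRingCat.of K)) :=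
    Scheme.isLocallyArtinianScheme_Spec.mpr inferInstance
  exact IsFinite.of_locallyQuasiFinite _

set_option backward.isDefEq.respectTransparency.types false in
omit [Flat f] in
/-- The rank of a fibre over a field is the rank of the finite morphism to the field. -/
theorem rank_fibre (hfin : ∀ s : S, (f ⁻¹' {s}).Finite) {K : Type u} [Field K]
    (g : Spec (CommRingCat.of K) ⟶ S) (y : Spec (CommRingCat.of K)) :
    (letI := ((Scheme.ΓSpecIso (CommRingCat.of K)).inv ≫ (pullback.snd f g).appTop).hom.toAlgebra;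
      Module.rank K (Γ(pullback f g, ⊤) : Type u)) = ((pullback.snd f g).finrank y : Cardinal.{u}) := by
  have hK : IsField (CommRingCat.of K) := Field.toIsField K
  haveI := isFinite_fibre hfin g
  haveI : IsAffine (pullback f g) := isAffine_of_isAffineHom (pullback.snd f g)
  let p := pullback.snd f g
  let φ := (Scheme.ΓSpecIso (CommRingCat.of K)).inv ≫ p.appTop
  haveI h1 := BF.flat_to_field hK (Spec.map φ)
  have e := BF.eq_isoSpec_hom_comp p
  have h2' : IsFinite (Spec.map φ) := by
    have : IsFinite ((pullback f g).isoSpec.inv ≫ p) := inferInstance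
    rwa [e, Iso.inv_hom_id_assoc] at this
  have hf : φ.hom.Finite := (IsFinite.SpecMap_iff φ).mp h2'
  letI := φ.hom.toAlgebra
  haveI : Module.Finite K Γ(pullback f g, ⊤) := hf
  haveI := h2'
  have hfr : p.finrank y = (Spec.map φ).finrank y := by
    conv_lhs => rw [e]
    rw [Scheme.Hom.finrank_comp_left_of_isIso]
  show Module.rank K Γ(pullback f g, ⊤) = (p.finrank y : Cardinal.{u})
  rw [hfr, BF.finrank_SpecMap_of_isField hK φ hf y]
  exact (Module.finrank_eq_rank K Γ(pullback f g, ⊤)).symm

set_option backward.isDefEq.respectTransparency.types false in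
/-- Over an algebraically closed field the rank is the fibre integral of the canonical weight. -/
theorem finrank_geomFibre (hfin : ∀ s : S, (f ⁻¹' {s}).Finite) {Ω : Type u} [Field Ω] [IsAlgClosed Ω]
    (yb : Spec (CommRingCat.of Ω) ⟶ S) (y : Spec (CommRingCat.of Ω)) :
    ((pullback.snd f yb).finrank y : ℤ) = MoreMor.fibreIntegral f (wt f) (pt yb) := by
  classical
  haveI := GF.finite_lifts f yb (hfin _)
  obtain ⟨T, V, k, π, h, vb, W, δ, hc, he, rfl, hp⟩ := exists_decomp f yb id
  haveI := locallyQuasiFinite_of_etale h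
  haveI : LocallyQuasiFinite π := MorphismProperty.of_isPullback hc inferInstance
  haveI : IsSeparated π := MorphismProperty.of_isPullback hc inferInstance
  haveI : LocallyOfFinitePresentation π := MorphismProperty.of_isPullback hc inferInstance
  haveI : Flat π := MorphismProperty.of_isPullback hc inferInstance
  let := Fintype.ofFinite (Lifts f (vb ≫ h))
  let W' : T.Opens := ⨆ i, W i
  haveI : UniversallyClosed (W'.ι ≫ π) := by
    refine universallyClosed_of_cover _ (fun i => W'.ι ⁻¹ᵁ W i) (fun t => by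
      obtain ⟨i, hi⟩ := TopologicalSpace.Opens.mem_iSup.mp (show (t.1 : T) ∈ ⨆ i, W i from t.2)
      exact ⟨i, hi⟩) fun i => ?_
    have hle : W i ≤ W' := le_iSup W i
    haveI := (hp i).1.finite
    haveI : IsIso (W'.ι ∣_ W i) := by
      haveI : Surjective (W'.ι ∣_ W i) := ⟨fun t => ⟨⟨⟨t.1, hle t.2⟩, t.2⟩, Subtype.ext (by
        show (W i).ι ((W'.ι ∣_ W i) _) = t.1
        rw [← Scheme.Hom.comp_apply, morphismRestrict_ι]; rfl)⟩⟩
      exact (isIso_iff_isOpenImmersion_and_surjective _).mpr ⟨inferInstance, inferInstance⟩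
    rw [← Category.assoc, ← morphismRestrict_ι, Category.assoc]
    infer_instance
  haveI : IsProper (W'.ι ≫ π) := ⟨⟩
  haveI hWf : IsFinite (W'.ι ≫ π) := IsFinite.of_isProper_of_locallyQuasiFinite _
  have hne : ∀ i j, i ≠ j → δ i ≠ δ j := fun i j hij e =>
    hij (Subtype.ext ((hp i).2.symm.trans ((congrArg (· ≫ k) e).trans (hp j).2)))
  have hcov : ∀ t, π t = pt vb → ∃ i, t ∈ W i := by
    intro t ht
    obtain ⟨d, rfl⟩ := exists_lift_pt π vb t ht
    let i : Lifts f (vb ≫ h) := ⟨d.1 ≫ k, by rw [Category.assoc, hc.w, reassoc_of% d.2]⟩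
    have e : d.1 = δ i := hc.hom_ext ((hp i).2.symm) (d.2.trans (hp i).1.over.symm)
    exact ⟨i, (congrArg (fun z => pt z ∈ W i) e).mpr (hp i).1.mem⟩
  -- the geometric fibre lies in `W'`
  have hP : IsPullback (pullback.fst π vb ≫ k) (pullback.snd π vb) f (vb ≫ h) :=
    (IsPullback.of_hasPullback π vb).paste_horiz hc
  rw [show (pullback.snd f (vb ≫ h)).finrank y = (pullback.snd π vb).finrank y by
    haveI := isFinite_fibre hfin (vb ≫ h)
    haveI : Flat (pullback.snd f (vb ≫ h)) := MorphismProperty.pullback_snd _ _ inferInstance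
    rw [← hP.isoPullback_hom_snd, Scheme.Hom.finrank_comp_left_of_isIso]]
  have hR : Set.range (pullback.fst π vb) ⊆ Set.range W'.ι := by
    rintro _ ⟨a, rfl⟩
    rw [Scheme.Opens.range_ι]
    obtain ⟨i, hi⟩ := hcov (pullback.fst π vb a) (by
      rw [← Scheme.Hom.comp_apply, pullback.condition, Scheme.Hom.comp_apply]
      exact congrArg vb (Subsingleton.elim (α := PrimeSpectrum Ω) _ _))
    exact TopologicalSpace.Opens.mem_iSup.mpr ⟨i, hi⟩
  let l := IsOpenImmersion.lift W'.ι (pullback.fst π vb) hR
  have hl : l ≫ W'.ι = pullback.fst π vb := IsOpenImmersion.lift_fac ..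
  have hsq : IsPullback l (pullback.snd π vb) (W'.ι ≫ π) vb := by
    refine ⟨⟨by rw [← Category.assoc, hl]; exact pullback.condition⟩, ⟨PullbackCone.IsLimit.mk _
      (fun c => pullback.lift (c.fst ≫ W'.ι) c.snd (by rw [Category.assoc]; exact c.condition))
      (fun c => ?_) (fun c => pullback.lift_snd _ _ _) (fun c m h1 h2 => ?_)⟩⟩
    · rw [← cancel_mono W'.ι, Category.assoc, hl, pullback.lift_fst]
    · apply pullback.hom_ext
      · rw [pullback.lift_fst, ← hl, ← Category.assoc, h1]
      · rw [pullback.lift_snd, h2]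
  rw [Scheme.Hom.finrank_of_isPullback l (pullback.snd π vb) (W'.ι ≫ π) vb hsq y,
    show vb y = pt vb from congrArg vb (Subsingleton.elim (α := PrimeSpectrum Ω) _ _),
    ← fibreIntegral_wt_eq_finrank (W'.ι ≫ π) (pt vb),
    show wt (W'.ι ≫ π) = wt π ∘ ⇑W'.ι from funext fun t => wt_comp_left W'.ι π t]
  show fiOn π W' (wt π) (pt vb) = _
  rw [fiOn_eq_sum hWf (fun i => (hp i).1.finite) (wt π)
      (fun t ht => ⟨fun _ => hcov t ht, fun ⟨i, hi⟩ => TopologicalSpace.Opens.mem_iSup.mpr ⟨i, hi⟩⟩)
      (fun i j hij => ((hp i).1.eventually_disjoint (hp j).1 (hne i j hij)).self_of_nhds),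
    GF.fibreIntegral_eq f _ _ (hfin _), geomSum, finsum_eq_sum_of_fintype]
  refine Finset.sum_congr rfl fun i _ => ?_
  rw [(hp i).1.fiOn_eq, wt_baseChange hc]
  exact congrArg (wt f) ((pt_comp (δ i) k).symm.trans (congrArg pt (hp i).2))

set_option backward.isDefEq.respectTransparency.types false in
/-- The rank of a fibre over any field is the fibre integral of the canonical weight. -/
theorem finrank_fibre (hfin : ∀ s : S, (f ⁻¹' {s}).Finite) {K : Type u} [Field K]
    (g : Spec (CommRingCat.of K) ⟶ S) (y : Spec (CommRingCat.of K)) :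
    ((pullback.snd f g).finrank y : ℤ) = MoreMor.fibreIntegral f (wt f) (g y) := by
  let j : Spec (CommRingCat.of (AlgebraicClosure K)) ⟶ Spec (CommRingCat.of K) :=
    Spec.map (CommRingCat.ofHom (algebraMap K (AlgebraicClosure K)))
  have hy : j (IsLocalRing.closedPoint (AlgebraicClosure K)) = y := Subsingleton.elim (α := PrimeSpectrum K) _ _
  haveI := isFinite_fibre hfin g
  haveI : Flat (pullback.snd f g) := MorphismProperty.pullback_snd _ _ inferInstance
  have hbig : IsPullback (pullback.fst (pullback.snd f g) j ≫ pullback.fst f g)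
      (pullback.snd (pullback.snd f g) j) f (j ≫ g) :=
    (IsPullback.of_hasPullback _ _).paste_horiz (IsPullback.of_hasPullback f g)
  haveI := isFinite_fibre hfin (j ≫ g)
  haveI : Flat (pullback.snd f (j ≫ g)) := MorphismProperty.pullback_snd _ _ inferInstance
  have e1 := Scheme.Hom.finrank_pullback_snd (pullback.snd f g) j (IsLocalRing.closedPoint _)
  rw [hy] at e1
  rw [← e1, ← hbig.isoPullback_hom_snd, Scheme.Hom.finrank_comp_left_of_isIso,
    finrank_geomFibre hfin (j ≫ g), pt_comp, show pt j = y from hy]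

variable (f) in
/-- The degree of the fibre over a point. -/
noncomputable def deg (s : S) : ℕ := (MoreMor.fibreIntegral f (wt f) s).toNat

omit [Flat f] [IsSeparated f] in
theorem fibreIntegral_wt_nonneg (hfin : ∀ s : S, (f ⁻¹' {s}).Finite) (s : S) :
    0 ≤ MoreMor.fibreIntegral f (wt f) s := by
  obtain ⟨Ω, _, _, yb, rfl⟩ := GF.exists_geomPoint s
  haveI := GF.finite_lifts f yb (hfin _)
  let := Fintype.ofFinite (Lifts f yb)
  rw [GF.fibreIntegral_eq f _ yb (hfin _), geomSum, finsum_eq_sum_of_fintype]
  exact Finset.sum_nonneg fun δ _ => (wt_pos f _).le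

omit [Flat f] [IsSeparated f] in
theorem deg_cast (hfin : ∀ s : S, (f ⁻¹' {s}).Finite) (s : S) :
    (deg f s : ℤ) = MoreMor.fibreIntegral f (wt f) s :=
  Int.toNat_of_nonneg (fibreIntegral_wt_nonneg hfin s)

theorem finrank_fibre_eq_deg (hfin : ∀ s : S, (f ⁻¹' {s}).Finite) {K : Type u} [Field K]
    (g : Spec (CommRingCat.of K) ⟶ S) (y : Spec (CommRingCat.of K)) :
    (pullback.snd f g).finrank y = deg f (g y) := by
  have := finrank_fibre hfin g y
  rw [← deg_cast hfin] at this
  exact_mod_cast this

theorem isClosed_deg_le (hfin : ∀ s : S, (f ⁻¹' {s}).Finite) (r : ℕ) :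
    IsClosed {s : S | deg f s ≤ r} := by
  have : {s : S | deg f s ≤ r} = MoreMor.fibreIntegral f (wt f) ⁻¹' Set.Iic (r : ℤ) := by
    ext s
    simp [← deg_cast hfin]
  rw [this]
  exact (lowerSemicontinuous_fibreIntegral hfin (isWeighting_wt f) fun x => wt_pos f x).isClosed_preimage _

set_option backward.isDefEq.respectTransparency.types false in
theorem isFinLocFreeOfDeg_iff (hfin : ∀ s : S, (f ⁻¹' {s}).Finite) {T : Scheme.{u}} (g : T ⟶ S)
    (r : ℕ) : Mor2.IsFinLocFreeOfDeg r (pullback.snd f g) ↔ ∀ t : T, deg f (g t) = r := by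
  let f' := pullback.snd f g
  haveI : Flat f' := MorphismProperty.pullback_snd _ _ inferInstance
  haveI : LocallyOfFinitePresentation f' := MorphismProperty.pullback_snd _ _ inferInstance
  haveI : LocallyQuasiFinite f' := MorphismProperty.pullback_snd _ _ inferInstance
  haveI : IsSeparated f' := MorphismProperty.pullback_snd _ _ inferInstance
  have hfin' : ∀ t : T, (f' ⁻¹' {t}).Finite := fun t =>
    GF.finite_preimage_baseChange (IsPullback.of_hasPullback f g) t (hfin _)
  have key : ∀ t : T, deg f' t = deg f (g t) := by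
    intro t
    obtain ⟨Ω, _, _, tb, rfl⟩ := GF.exists_geomPoint t
    let y := IsLocalRing.closedPoint Ω
    have h1 := finrank_fibre_eq_deg hfin' tb y
    have h2 := finrank_fibre_eq_deg hfin (tb ≫ g) y
    rw [Scheme.Hom.comp_apply] at h2
    refine h1.symm.trans (Eq.trans ?_ h2)
    have hc := (IsPullback.of_hasPullback f' tb).paste_horiz (IsPullback.of_hasPullback f g)
    haveI := isFinite_fibre hfin (tb ≫ g)
    haveI : Flat (pullback.snd f (tb ≫ g)) := MorphismProperty.pullback_snd _ _ inferInstance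
    rw [← hc.isoPullback_hom_snd, Scheme.Hom.finrank_comp_left_of_isIso]
  constructor
  · rintro ⟨⟨hf', -, -⟩, hdeg⟩ t
    haveI : IsFinite f' := hf'
    have := fibreIntegral_wt_eq_finrank f' t
    rw [hdeg, ← deg_cast hfin', key] at this
    exact_mod_cast this
  · intro h
    have hall : ∀ t : T, MoreMor.fibreIntegral f' (wt f') t = r := fun t => by
      rw [← deg_cast hfin', key, h]
    obtain ⟨hY, hfinite⟩ := finite_over_max hfin' (isWeighting_wt f') (fun x => wt_pos f' x) r
      (fun t => (hall t).le)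
    haveI : IsFinite f' := by
      have htop : (⟨_, hY⟩ : T.Opens) = ⊤ := TopologicalSpace.Opens.ext (Set.eq_univ_of_forall hall)
      rw [htop] at hfinite
      exact ((MorphismProperty.arrow_mk_iso_iff @IsFinite (Arrow.isoMk (f := Arrow.mk (f' ∣_ ⊤))
        (g := Arrow.mk f') (Scheme.topIso _) (Scheme.topIso _)
        (morphismRestrict_ι f' ⊤).symm)).mp hfinite)
    refine ⟨⟨this, inferInstance, inferInstance⟩, fun t => ?_⟩
    have := fibreIntegral_wt_eq_finrank f' t
    rw [hall] at this
    exact_mod_cast this.symm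

omit [Flat f] in
theorem isCompact_of_isConstructible {Z : Type u} [TopologicalSpace Z] [CompactSpace Z] [QuasiSober Z]
    [PrespectralSpace Z] [QuasiSeparatedSpace Z] {s : Set Z} (hs : IsConstructible s) : IsCompact s := by
  have hcl : IsClosed (WithTopology.ofTopology ⁻¹' s : Set (WithConstructibleTopology Z)) :=
    WithConstructibleTopology.isClosed_iff.mpr (isClopen_constructibleTopology hs).2
  have hc : Continuous (WithTopology.ofTopology : WithConstructibleTopology Z → Z) := by
    rw [continuous_def]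
    intro o ho
    refine WithConstructibleTopology.isOpen_iff.mpr ?_
    obtain ⟨S', hS', hou⟩ :=
      (PrespectralSpace.isTopologicalBasis (X := Z)).open_eq_sUnion ho
    show IsOpen[constructibleTopology Z] o
    rw [hou]
    exact @isOpen_sUnion _ (constructibleTopology Z) _ fun b hb =>
      (hS' hb).2.isOpen_constructibleTopology_of_isOpen (hS' hb).1
  have himg := hcl.isCompact.image hc
  rwa [Set.image_preimage_eq _ (fun z => ⟨WithTopology.toTopology _ z, rfl⟩)] at himg

theorem isRetrocompact_deg_eq [QuasiCompact f] (hfin : ∀ s : S, (f ⁻¹' {s}).Finite) (r : ℕ) :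
    IsRetrocompact {s : S | deg f s = r} := by
  intro U hUc hUo
  have hlc : IsLocallyConstructible {s : S | deg f s = r} := by
    have : {s : S | deg f s = r} = {s : S | MoreMor.fibreIntegral f (wt f) s = (r : ℤ)} := by
      ext s; simp [← deg_cast hfin]
    rw [this]
    exact isLocallyConstructible_fibreIntegral (isWeighting_wt f) r
  obtain ⟨F, hF⟩ := hUc.elim_finite_subcover (fun A : {A : S.affineOpens // (A.1 : Set S) ⊆ U} => (A.1.1 : Set S))
    (fun A => A.1.1.2) fun x hx => by
      obtain ⟨A, hA, hxA, hAU⟩ := exists_isAffineOpen_mem_and_subset (x := x) (U := ⟨U, hUo⟩) hx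
      exact Set.mem_iUnion.mpr ⟨⟨⟨A, hA⟩, hAU⟩, hxA⟩
  have : {s : S | deg f s = r} ∩ U = ⋃ A ∈ F, (A.1.1 : S.Opens).ι '' ((A.1.1 : S.Opens).ι ⁻¹' {s : S | deg f s = r}) := by
    ext s
    simp only [Set.mem_inter_iff, Set.mem_iUnion, Set.image_preimage_eq_inter_range, Scheme.Opens.range_ι]
    constructor
    · rintro ⟨h, hs⟩
      obtain ⟨A, hA, hsA⟩ := Set.mem_iUnion₂.mp (hF hs)
      exact ⟨A, hA, h, hsA⟩
    · rintro ⟨A, -, h, hsA⟩
      exact ⟨h, A.2 hsA⟩
  rw [this]
  refine F.finite_toSet.isCompact_biUnion fun A _ => ?_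
  haveI : IsAffine (A.1.1 : Scheme.{u}) := A.1.2
  exact (isCompact_of_isConstructible
    (hlc.preimage_of_isOpenEmbedding (A.1.1 : S.Opens).ι.isOpenEmbedding).isConstructible).image
    (A.1.1 : S.Opens).ι.continuous

omit [Flat f] [IsSeparated f] [LocallyOfFinitePresentation f] in
/-- The geometric lifts bound the rank. -/
theorem finite_preimage_of_qc [QuasiCompact f] (s : S) : (f ⁻¹' {s}).Finite :=
  f.finite_preimage_singleton s

end Groth.Agent.MorLib.WT
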