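import Mathlib.AlgebraicGeometry.IdealSheaf.Functorial
import Mathlib.AlgebraicGeometry.Morphisms.QuasiSeparated
import Mathlib.RingTheory.Localization.Finiteness

/-! Quasi-coherent ideal sheaves of qcqs schemes are unions of finitely generated ones. -/

set_option autoImplicit false
universe u

namespace Groth.Agent.MorLib.IdealFG

open AlgebraicGeometry CategoryTheory Limits TopologicalSpace Opposite
open Scheme (IdealSheafData)

variable {X Y : Scheme.{u}}

theorem comap_inf (j : X ⟶ Y) [IsOpenImmersion j] (I J : Y.IdealSheafData) :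
    (I ⊓ J).comap j = I.comap j ⊓ J.comap j := by
  refine IdealSheafData.ext (funext fun U => ?_)
  simp only [IdealSheafData.ideal_inf, Pi.inf_apply, IdealSheafData.ideal_comap_of_isOpenImmersion,
    Ideal.comap_inf]

/-- Pushforward of ideal sheaves commutes with restriction to an open subscheme. -/
theorem comap_map {P W V : Scheme.{u}} {a : P ⟶ V} {b : P ⟶ W} {f : V ⟶ Y} {j : W ⟶ Y}
    [IsOpenImmersion j] [QuasiCompact f] (h : IsPullback b a j f) (B : V.IdealSheafData) :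
    (B.comap a).map b = (B.map f).comap j := by
  refine IdealSheafData.ext (funext fun U => ?_)
  have h1 : IsPullback (B.comap a).subschemeι ((B.comapIso a).hom ≫ pullback.snd a B.subschemeι) a
      B.subschemeι := by
    refine (IsPullback.of_hasPullback a B.subschemeι).of_iso (B.comapIso a).symm (Iso.refl _)
      (Iso.refl _) (Iso.refl _) ?_ ?_ ?_ ?_ <;> simp [← IdealSheafData.comapIso_hom_snd]
  have h2 := h1.paste_horiz h
  haveI : QuasiCompact B.subschemeι := inferInstance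
  rw [IdealSheafData.ideal_comap_of_isOpenImmersion]
  exact Scheme.ker_ideal_of_isPullback_of_isOpenImmersion (B.subschemeι ≫ f) _ _ j h2 U

theorem comap_map_self (j : X ⟶ Y) [IsOpenImmersion j] [QuasiCompact j] (B : X.IdealSheafData) :
    (B.map j).comap j = B := by
  rw [← comap_map (a := 𝟙 X) (b := 𝟙 X) (IsPullback.id_horiz j |>.flip |> fun _ => IsKernelPair.id_of_mono j) B,
    IdealSheafData.comap_id, IdealSheafData.map_id]

theorem le_congr {I J : X.IdealSheafData} {U U' : X.affineOpens} (e : U.1 = U'.1)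
    (h : I.ideal U ≤ J.ideal U) : I.ideal U' ≤ J.ideal U' := by
  obtain rfl : U = U' := Subtype.ext e
  exact h

theorem fg_congr {I : X.IdealSheafData} {U U' : X.affineOpens} (e : U.1 = U'.1)
    (h : (I.ideal U).FG) : (I.ideal U').FG := by
  obtain rfl : U = U' := Subtype.ext e
  exact h

theorem le_of_comap_le {W : X.Opens} {I J : X.IdealSheafData} (h : I.comap W.ι ≤ J.comap W.ι)
    {U : X.affineOpens} (hU : U.1 ≤ W) : I.ideal U ≤ J.ideal U := by
  let U₀ : (W : Scheme.{u}).Opens := W.ι ⁻¹ᵁ U.1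
  have hU₀ : W.ι ''ᵁ U₀ = U.1 := by
    rw [Scheme.Hom.image_preimage_eq_opensRange_inf, Scheme.Opens.opensRange_ι]
    exact inf_eq_right.mpr hU
  have hU₀a : IsAffineOpen U₀ := by
    rw [← Scheme.Hom.isAffineOpen_iff_of_isOpenImmersion W.ι, hU₀]; exact U.2
  have h' := h ⟨U₀, hU₀a⟩
  rw [IdealSheafData.ideal_comap_of_isOpenImmersion, IdealSheafData.ideal_comap_of_isOpenImmersion] at h'
  have hsurj : Function.Surjective (W.ι.appIso U₀).inv.hom :=
    (W.ι.appIso U₀).commRingCatIsoToRingEquiv.symm.surjective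
  have h'' := Ideal.map_mono (f := (W.ι.appIso U₀).inv.hom) h'
  rw [Ideal.map_comap_of_surjective _ hsurj, Ideal.map_comap_of_surjective _ hsurj] at h''
  exact le_congr (U := ⟨W.ι ''ᵁ U₀, hU₀a.image_of_isOpenImmersion _⟩) (U' := U) hU₀ h''

theorem eq_of_comap_eq {W : X.Opens} {I J : X.IdealSheafData} (h : I.comap W.ι = J.comap W.ι)
    {U : X.affineOpens} (hU : U.1 ≤ W) : I.ideal U = J.ideal U :=
  (le_of_comap_le h.le hU).antisymm (le_of_comap_le h.ge hU)

theorem comap_le_of_forall {W : X.Opens} {I J : X.IdealSheafData}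
    (h : ∀ U : X.affineOpens, U.1 ≤ W → I.ideal U ≤ J.ideal U) : I.comap W.ι ≤ J.comap W.ι := by
  intro U
  rw [IdealSheafData.ideal_comap_of_isOpenImmersion, IdealSheafData.ideal_comap_of_isOpenImmersion]
  exact Ideal.comap_mono (h _ (Scheme.Opens.ι_image_le _ _))

/-- Finite generation on all affine opens inside `W`. -/
def FGOn (K : X.IdealSheafData) (W : X.Opens) : Prop :=
  ∀ U : X.affineOpens, U.1 ≤ W → (K.ideal U).FG

theorem fg_of_cover (K : X.IdealSheafData) (U : X.affineOpens)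
    (h : ∀ x ∈ U.1, ∃ V : X.affineOpens, x ∈ V.1 ∧ (K.ideal V).FG) : (K.ideal U).FG := by
  let t : Set Γ(X, U.1) := {r | ∃ V : X.affineOpens, X.basicOpen r ≤ V.1 ∧ (K.ideal V).FG}
  have ht : Ideal.span t = ⊤ := by
    rw [← U.2.self_le_iSup_basicOpen_iff]
    intro x hx
    obtain ⟨V, hV, hfg⟩ := h x hx
    obtain ⟨r, s, e, hxr⟩ := exists_basicOpen_le_affine_inter U.2 V.2 x ⟨hx, hV⟩
    exact Opens.mem_iSup.mpr ⟨⟨r, V, e.le.trans (X.basicOpen_le s), hfg⟩, hxr⟩
  refine Ideal.fg_of_localizationSpan t ht ?_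
  rintro ⟨r, V, hrV, hfg⟩
  have := U.2.isLocalization_basicOpen r
  let D : X.affineOpens := ⟨X.basicOpen r, U.2.basicOpen r⟩
  have hfg' : ((K.ideal U).map (algebraMap Γ(X, U.1) Γ(X, X.basicOpen r))).FG := by
    have h1 : (K.ideal D).FG := by
      rw [← K.map_ideal (U := D) hrV]
      exact hfg.map _
    exact (K.map_ideal (U := D) (V := U) (X.basicOpen_le r)) ▸ h1
  let e := IsLocalization.algEquiv (Submonoid.powers r) Γ(X, X.basicOpen r) (Localization.Away r)
  have h2 := hfg'.map (e : Γ(X, X.basicOpen r) →+* Localization.Away r)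
  rw [Ideal.map_map] at h2
  convert h2 using 2
  exact (AlgHom.comp_algebraMap e.toAlgHom).symm

theorem exists_fg_map_eq {R A : Type u} [CommRing R] [CommRing A] (φ : R →+* A) (I : Ideal R)
    (h : (I.map φ).FG) : ∃ b : Ideal R, b.FG ∧ b ≤ I ∧ b.map φ = I.map φ := by
  classical
  obtain ⟨s, hs, he⟩ := (Submodule.fg_span_iff_fg_span_finset_subset (φ '' (I : Set R))).mp h
  choose g hg using fun a : s => hs a.2
  refine ⟨Ideal.span (Set.range g), Submodule.fg_span (Set.finite_range g), ?_, ?_⟩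
  · rw [Ideal.span_le]; rintro _ ⟨a, rfl⟩; exact (hg a).1
  · rw [Ideal.map_span]
    have : φ '' Set.range g = (s : Set A) := by
      ext x
      constructor
      · rintro ⟨_, ⟨a, rfl⟩, rfl⟩; rw [(hg a).2]; exact a.2
      · intro hx; exact ⟨g ⟨x, hx⟩, ⟨_, rfl⟩, (hg ⟨x, hx⟩).2⟩
    rw [this]
    exact he.symm

theorem comap_le_at {W : X.Opens} {I J : X.IdealSheafData} {U : X.affineOpens}
    (h : I.ideal U ≤ J.ideal U) (U₀ : (W : Scheme.{u}).affineOpens) (hU₀ : W.ι ''ᵁ U₀.1 = U.1) :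
    (I.comap W.ι).ideal U₀ ≤ (J.comap W.ι).ideal U₀ := by
  rw [IdealSheafData.ideal_comap_of_isOpenImmersion, IdealSheafData.ideal_comap_of_isOpenImmersion]
  exact Ideal.comap_mono
    (le_congr (U := U) (U' := ⟨W.ι ''ᵁ U₀.1, U₀.2.image_of_isOpenImmersion _⟩) hU₀.symm h)

theorem exists_fg_ge_of_isAffine [IsAffine Y] (J : Y.IdealSheafData) (P : Y.Opens)
    (hPc : IsCompact (P : Set Y)) (hP : FGOn J P) (U : Y.affineOpens) (hU : U.1 = ⊤)
    (a : Ideal Γ(Y, U.1)) (ha : a.FG) (haJ : a ≤ J.ideal U) :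
    ∃ B : Y.IdealSheafData, B ≤ J ∧ (∀ V, (B.ideal V).FG) ∧ B.comap P.ι = J.comap P.ι ∧
      a ≤ B.ideal U := by
  classical
  obtain ⟨U, hUa⟩ := U
  dsimp only at hU
  subst hU
  obtain ⟨t, ht, hPt⟩ := (isCompact_and_isOpen_iff_finite_and_eq_biUnion_basicOpen
    (U := (P : Set Y))).mp ⟨hPc, P.2⟩
  let D : Γ(Y, ⊤) → Y.affineOpens := fun r => ⟨Y.basicOpen r, hUa.basicOpen r⟩
  have htP : ∀ r ∈ t, Y.basicOpen r ≤ P := fun r hr x hx => by
    show x ∈ (P : Set Y)
    rw [hPt]; exact Set.mem_biUnion hr hx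
  have hb : ∀ r : t, ∃ b : Ideal Γ(Y, ⊤), b.FG ∧ b ≤ J.ideal ⟨⊤, hUa⟩ ∧
      b.map (Y.presheaf.map (homOfLE (Y.basicOpen_le r.1)).op).hom = J.ideal (D r.1) := by
    intro r
    have e := J.map_ideal (U := D r.1) (V := ⟨⊤, hUa⟩) (Y.basicOpen_le r.1)
    have h1 := hP (D r.1) (htP r.1 r.2)
    rw [← e] at h1
    obtain ⟨b, hb1, hb2, hb3⟩ := exists_fg_map_eq _ _ h1
    exact ⟨b, hb1, hb2, hb3.trans e⟩
  choose b hb1 hb2 hb3 using hb
  haveI : Fintype t := ht.fintype
  let c : Ideal Γ(Y, ⊤) := a ⊔ Finset.univ.sup b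
  have hc : c.FG := Submodule.FG.sup ha
    (Finset.sup_induction Submodule.fg_bot (fun _ h1 _ h2 => Submodule.FG.sup h1 h2)
      fun r _ => hb1 r)
  have hcJ : c ≤ J.ideal ⟨⊤, hUa⟩ := sup_le haJ (Finset.sup_le fun r _ => hb2 r)
  refine ⟨IdealSheafData.ofIdealTop c, IdealSheafData.le_of_isAffine ?_, ?_, ?_, ?_⟩
  · simpa using hcJ
  · intro V
    rw [IdealSheafData.ofIdealTop_ideal]
    exact hc.map _
  · refine le_antisymm (IdealSheafData.comap_mono P.ι (IdealSheafData.le_of_isAffine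
      (by simpa using hcJ))) ?_
    let E : t → (P : Scheme.{u}).affineOpens := fun r => ⟨P.ι ⁻¹ᵁ Y.basicOpen r.1, by
      show IsAffineOpen _
      rw [← Scheme.Hom.isAffineOpen_iff_of_isOpenImmersion P.ι,
        Scheme.Hom.image_preimage_eq_opensRange_inf, Scheme.Opens.opensRange_ι,
        inf_eq_right.mpr (htP r.1 r.2)]
      exact hUa.basicOpen r.1⟩
    refine IdealSheafData.le_of_iSup_eq_top E ?_ fun r => ?_
    · refine top_le_iff.mp fun x _ => ?_
      have : P.ι x ∈ (P : Set Y) := x.2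
      rw [hPt] at this
      obtain ⟨r, hr, hx⟩ := Set.mem_iUnion₂.mp this
      exact Opens.mem_iSup.mpr ⟨⟨r, hr⟩, hx⟩
    · refine comap_le_at (U := D r.1) ?_ _ ?_
      · rw [← hb3 r, IdealSheafData.ofIdealTop_ideal]
        exact Ideal.map_mono (le_sup_of_le_right (Finset.le_sup (Finset.mem_univ r)))
      · show P.ι ''ᵁ P.ι ⁻¹ᵁ Y.basicOpen r.1 = Y.basicOpen r.1
        rw [Scheme.Hom.image_preimage_eq_opensRange_inf, Scheme.Opens.opensRange_ι,
          inf_eq_right.mpr (htP r.1 r.2)]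
  · rw [IdealSheafData.ofIdealTop_ideal]
    simp [c]

/-- Extension of a finitely generated subideal over one more affine open. -/
theorem step [CompactSpace X] [QuasiSeparatedSpace X] (I K : X.IdealSheafData) (W : X.Opens)
    (hW : IsCompact (W : Set X)) (V : X.affineOpens) (hK : K ≤ I) (hfg : FGOn K W)
    (a : Ideal Γ(X, V.1)) (ha : a.FG)
    (haL : a ≤ (I ⊓ (K.comap W.ι).map W.ι).ideal V) :
    ∃ K' : X.IdealSheafData, K' ≤ I ∧ FGOn K' (W ⊔ V.1) ∧ K'.comap W.ι = K.comap W.ι ∧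
      a ≤ K'.ideal V := by
  haveI : CompactSpace (W : Scheme.{u}) := isCompact_iff_compactSpace.mp hW
  haveI : IsAffine (V.1 : Scheme.{u}) := V.2
  haveI : QuasiCompact W.ι := quasiCompact_of_compactSpace W.ι
  haveI : QuasiCompact V.1.ι := quasiCompact_of_compactSpace V.1.ι
  let L : X.IdealSheafData := I ⊓ (K.comap W.ι).map W.ι
  have hLK : L.comap W.ι = K.comap W.ι := by
    show (I ⊓ (K.comap W.ι).map W.ι).comap W.ι = _
    rw [comap_inf, comap_map_self]
    exact inf_eq_right.mpr (IdealSheafData.comap_mono W.ι hK)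
  let P : (V.1 : Scheme.{u}).Opens := V.1.ι ⁻¹ᵁ W
  have hPc : IsCompact (P : Set (V.1 : Scheme.{u})) :=
    QuasiCompact.isCompact_preimage (f := V.1.ι) _ W.2 hW
  let U₁ : (V.1 : Scheme.{u}).affineOpens := ⟨V.1.ι ⁻¹ᵁ V.1, by
    rw [Scheme.Opens.ι_preimage_self]; exact isAffineOpen_top _⟩
  have hU₁ : U₁.1 = ⊤ := V.1.ι_preimage_self
  have hfgP : FGOn (L.comap V.1.ι) P := by
    intro U hU
    have hUW : V.1.ι ''ᵁ U.1 ≤ W :=
      (V.1.ι.image_mono hU).trans (V.1.ι.image_preimage_le W)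
    rw [IdealSheafData.ideal_comap_of_isOpenImmersion]
    have h1 : (L.ideal ⟨V.1.ι ''ᵁ U.1, U.2.image_of_isOpenImmersion _⟩).FG := by
      rw [eq_of_comap_eq hLK (U := ⟨V.1.ι ''ᵁ U.1, U.2.image_of_isOpenImmersion _⟩) hUW]
      exact hfg _ hUW
    have h2 := h1.map (V.1.ι.appIso U.1).hom.hom
    convert! h2 using 1
    exact Ideal.comap_symm (V.1.ι.appIso U.1).commRingCatIsoToRingEquiv
  let a' : Ideal Γ((V.1 : Scheme.{u}), U₁.1) := a.map (V.1.ι.app V.1).hom
  have ha'L : a' ≤ (L.comap V.1.ι).ideal U₁ := by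
    rw [Ideal.map_le_iff_le_comap,
      ← IdealSheafData.ideal_map (L.comap V.1.ι) V.1.ι V U₁.2]
    exact haL.trans (IdealSheafData.le_map_comap L V.1.ι V)
  obtain ⟨B, hBL, hBfg, hBP, haB⟩ :=
    exists_fg_ge_of_isAffine (L.comap V.1.ι) P hPc hfgP U₁ hU₁ a' (ha.map _) ha'L
  let K' : X.IdealSheafData := L ⊓ B.map V.1.ι
  have hKV : K'.comap V.1.ι = B := by
    show (L ⊓ B.map V.1.ι).comap V.1.ι = B
    rw [comap_inf, comap_map_self]
    exact inf_eq_right.mpr hBL
  have hKW : K'.comap W.ι = K.comap W.ι := by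
    show (L ⊓ B.map V.1.ι).comap W.ι = _
    rw [comap_inf, hLK, ← comap_map (isPullback_morphismRestrict V.1.ι W) B]
    refine inf_eq_left.mpr (IdealSheafData.le_map_iff_comap_le.mpr ?_)
    rw [← IdealSheafData.comap_comp, morphismRestrict_ι, IdealSheafData.comap_comp]
    refine le_trans ?_ hBP.ge
    have h0 := IdealSheafData.comap_mono P.ι (IdealSheafData.comap_mono V.1.ι
      (le_refl L))
    rw [← IdealSheafData.comap_comp, ← morphismRestrict_ι, IdealSheafData.comap_comp, ← hLK,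
      ← IdealSheafData.comap_comp, morphismRestrict_ι, IdealSheafData.comap_comp]
  refine ⟨K', inf_le_left.trans inf_le_left, fun U hU => fg_of_cover K' U fun x hx => ?_, hKW, ?_⟩
  · rcases (Opens.mem_sup.mp (hU hx)) with hxW | hxV
    · obtain ⟨O, hO, hxO, hOW⟩ := exists_isAffineOpen_mem_and_subset (U := W) hxW
      refine ⟨⟨O, hO⟩, hxO, ?_⟩
      rw [eq_of_comap_eq hKW (U := ⟨O, hO⟩) hOW]
      exact hfg _ hOW
    · refine ⟨V, hxV, ?_⟩
      have h1 := hBfg U₁
      rw [← hKV, IdealSheafData.ideal_comap_of_isOpenImmersion] at h1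
      have h2 := h1.map (V.1.ι.appIso U₁.1).inv.hom
      have hsurj : Function.Surjective (V.1.ι.appIso U₁.1).inv.hom :=
        (V.1.ι.appIso U₁.1).commRingCatIsoToRingEquiv.symm.surjective
      rw [Ideal.map_comap_of_surjective _ hsurj] at h2
      exact fg_congr (U := ⟨V.1.ι ''ᵁ U₁.1, U₁.2.image_of_isOpenImmersion _⟩) (U' := V)
        (by show V.1.ι ''ᵁ U₁.1 = V.1
            rw [hU₁, Scheme.Hom.image_top_eq_opensRange, Scheme.Opens.opensRange_ι]) h2
  · show a ≤ L.ideal V ⊓ (B.map V.1.ι).ideal V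
    refine le_inf haL ?_
    rw [IdealSheafData.ideal_map B V.1.ι V U₁.2, ← Ideal.map_le_iff_le_comap]
    exact haB

/-- On a qcqs scheme, a finitely generated piece of an ideal sheaf on an affine open extends to
a finitely generated ideal sheaf contained in it. -/
theorem exists_fg_le [CompactSpace X] [QuasiSeparatedSpace X] (I : X.IdealSheafData)
    (V : X.affineOpens) (a : Ideal Γ(X, V.1)) (ha : a.FG) (haI : a ≤ I.ideal V) :
    ∃ K : X.IdealSheafData, K ≤ I ∧ (∀ U, (K.ideal U).FG) ∧ a ≤ K.ideal V := by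
  classical
  have h0 : ((⊥ : X.IdealSheafData).comap (⊥ : X.Opens).ι).map (⊥ : X.Opens).ι = ⊤ := by
    have : IsEmpty ((⊥ : X.Opens) : Scheme.{u}) := ⟨fun x => x.2⟩
    rw [IdealSheafData.comap_bot, IdealSheafData.map_bot, Scheme.Hom.ker_eq_top_iff_isEmpty]
    infer_instance
  obtain ⟨K₀, hK₀, hfg₀, -, ha₀⟩ := step I ⊥ ⊥ isCompact_empty V bot_le
    (fun U hU => fg_of_cover _ U fun x hx => (hU hx).elim) a ha (by
      rw [h0, inf_top_eq]; exact haI)
  obtain ⟨s, hs, hcov⟩ := isCompact_iff_finite_and_eq_biUnion_affineOpens.mp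
    (show IsCompact ((⊤ : X.Opens) : Set X) from isCompact_univ)
  have key : ∀ t : Finset X.affineOpens, ∃ K : X.IdealSheafData, K ≤ I ∧
      FGOn K (t.sup (fun U => U.1) ⊔ V.1) ∧ a ≤ K.ideal V := by
    intro t
    induction t using Finset.induction_on with
    | empty =>
      refine ⟨K₀, hK₀, ?_, ha₀⟩
      simpa using hfg₀
    | insert U t _ ih =>
      obtain ⟨K, hK, hfg, hKa⟩ := ih
      have hc : IsCompact ((t.sup (fun U => U.1) ⊔ V.1 : X.Opens) : Set X) := by
        rw [Opens.coe_sup, Opens.coe_finset_sup]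
        refine IsCompact.union ?_ V.2.isCompact
        rw [Finset.sup_set_eq_biUnion]
        exact t.isCompact_biUnion fun U _ => U.2.isCompact
      obtain ⟨K', hK', hfg', hKW, -⟩ := step I K _ hc U hK hfg ⊥ Submodule.fg_bot bot_le
      refine ⟨K', hK', ?_, ?_⟩
      · rw [Finset.sup_insert, sup_assoc, sup_comm U.1]
        exact hfg'
      · rw [eq_of_comap_eq hKW (U := V) le_sup_right]
        exact hKa
  obtain ⟨K, hK, hfg, hKa⟩ := key hs.toFinset
  refine ⟨K, hK, fun U => hfg U fun x _ => ?_, hKa⟩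
  have hx : x ∈ (⊤ : X.Opens) := trivial
  rw [hcov] at hx
  obtain ⟨O, hx⟩ := Opens.mem_iSup.mp hx
  obtain ⟨hO, hxO⟩ := Opens.mem_iSup.mp hx
  have hle : O.1 ≤ hs.toFinset.sup (fun U : X.affineOpens => U.1) :=
    Finset.le_sup (f := fun U : X.affineOpens => U.1) (hs.mem_toFinset.mpr hO)
  exact Opens.mem_sup.mpr (.inl (hle hxO))

end Groth.Agent.MorLib.IdealFG
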