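import Groth.Agent.MorLib.DescendCI

/-! Descent of open immersions along limits. -/

set_option autoImplicit false
universe u

namespace Groth.Agent.MorLib.Desc

open AlgebraicGeometry CategoryTheory Limits TopologicalSpace Opposite

theorem ker_le_map_of_isPushout {A B C P : CommRingCat.{u}} {f : A ⟶ B} {g : A ⟶ C}
    {inl : B ⟶ P} {inr : C ⟶ P} (h : IsPushout f g inl inr) (hf : Function.Surjective f) :
    RingHom.ker inr.hom ≤ (RingHom.ker f.hom).map g.hom := by
  let J := (RingHom.ker f.hom).map g.hom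
  let q : A →+* C ⧸ J := (Ideal.Quotient.mk J).comp g.hom
  have hq : RingHom.ker f.hom ≤ RingHom.ker q := fun a ha =>
    Ideal.Quotient.eq_zero_iff_mem.mpr (Ideal.mem_map_of_mem g.hom ha)
  let l1 : B ⟶ CommRingCat.of (C ⧸ J) := CommRingCat.ofHom
    ((RingHom.liftOfSurjective (C := C ⧸ J) f.hom hf) ⟨q, hq⟩)
  let l2 : C ⟶ CommRingCat.of (C ⧸ J) := CommRingCat.ofHom (Ideal.Quotient.mk J)
  have w : f ≫ l1 = g ≫ l2 := by
    ext a
    exact RingHom.liftOfSurjective_comp_apply f.hom hf ⟨q, hq⟩ a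
  intro x hx
  have e : h.desc l1 l2 w (inr x) = l2 x := congr($(h.inr_desc l1 l2 w).hom x)
  rw [show inr x = 0 from hx, map_zero] at e
  exact Ideal.Quotient.eq_zero_iff_mem.mp e.symm

variable {I : Type u} [SmallCategory I] [IsCofiltered I] {D : I ⥤ Scheme.{u}} {c : Cone D}
  (hc : IsLimit c) [∀ {i j : I} (f : i ⟶ j), IsAffineHom (D.map f)] {i : I}

omit [IsCofiltered I] [∀ {i j : I} (f : i ⟶ j), IsAffineHom (D.map f)] in
theorem map_map_apply {j k : Over i} (g : k ⟶ j) (a : Γ(D.obj i, ⊤)) :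
    (D.map g.left).appTop ((D.map j.hom).appTop a) = (D.map k.hom).appTop a := by
  have e : D.map g.left ≫ D.map j.hom = D.map k.hom := by rw [← D.map_comp, Over.w g]
  rw [← e, Scheme.Hom.comp_appTop]
  rfl

omit [IsCofiltered I] [∀ {i j : I} (f : i ⟶ j), IsAffineHom (D.map f)] in
theorem π_map_apply (j : Over i) (a : Γ(D.obj i, ⊤)) :
    (c.π.app j.left).appTop ((D.map j.hom).appTop a) = (c.π.app i).appTop a := by
  rw [← c.w j.hom, Scheme.Hom.comp_appTop]
  rfl

include hc in
/-- Membership in an extended ideal descends to a stage. -/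
theorem exists_mem_map [IsAffine (D.obj i)] (J : Ideal Γ(D.obj i, ⊤)) (a : Γ(D.obj i, ⊤))
    (h : (c.π.app i).appTop a ∈ J.map (c.π.app i).appTop.hom) :
    ∃ j : Over i, (D.map j.hom).appTop a ∈ J.map (D.map j.hom).appTop.hom := by
  classical
  haveI : ∀ j : Over i, IsAffine ((Over.forget i ⋙ D).obj j) := fun j => by
    show IsAffine (D.obj j.left)
    exact isAffine_of_isAffineHom (D.map j.hom)
  have hc' := (Functor.Initial.isLimitWhiskerEquiv (Over.forget i) c).symm hc
  have hmono : ∀ {j k : Over i} (g : k ⟶ j) (x : Γ(D.obj j.left, ⊤)),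
      x ∈ J.map (D.map j.hom).appTop.hom → (D.map g.left).appTop x ∈ J.map (D.map k.hom).appTop.hom := by
    intro j k g x hx
    have := Ideal.mem_map_of_mem (D.map g.left).appTop.hom hx
    rw [Ideal.map_map] at this
    convert this using 2
    exact RingHom.ext fun y => (map_map_apply g y).symm
  have hπmono : ∀ {j k : Over i} (g : k ⟶ j) (x : Γ(D.obj j.left, ⊤)),
      (c.π.app k.left).appTop ((D.map g.left).appTop x) = (c.π.app j.left).appTop x := by
    intro j k g x
    rw [← c.w g.left, Scheme.Hom.comp_appTop]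
    rfl
  suffices H : ∀ y ∈ J.map (c.π.app i).appTop.hom, ∃ (j : Over i) (y' : Γ(D.obj j.left, ⊤)),
      y' ∈ J.map (D.map j.hom).appTop.hom ∧ (c.π.app j.left).appTop y' = y by
    obtain ⟨j, y', hy', hye⟩ := H _ h
    obtain ⟨k, g, hk⟩ := exists_appTop_map_eq_zero_of_isLimit (Over.forget i ⋙ D)
      (c.whisker (Over.forget i)) hc' (i := j) (((D.map j.hom).appTop a - y' : Γ(D.obj j.left, ⊤)))
      (by
        show (c.π.app j.left).appTop.hom _ = 0
        rw [map_sub]
        exact sub_eq_zero.mpr ((π_map_apply j a).trans hye.symm))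
    refine ⟨k, ?_⟩
    have hk' : (D.map g.left).appTop.hom ((D.map j.hom).appTop a - y') = 0 := hk
    rw [map_sub, sub_eq_zero] at hk'
    rw [← map_map_apply g a]
    exact hk' ▸ hmono g y' hy'
  intro y hy
  induction hy using Submodule.span_induction with
  | mem y hy =>
    obtain ⟨x, hx, rfl⟩ := hy
    exact ⟨Over.mk (𝟙 i), (D.map (𝟙 i)).appTop x, Ideal.mem_map_of_mem _ hx,
      π_map_apply (Over.mk (𝟙 i)) x⟩
  | zero => exact ⟨Over.mk (𝟙 i), 0, zero_mem _, map_zero _⟩
  | add y z _ _ hy hz =>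
    obtain ⟨j, y', hy', rfl⟩ := hy
    obtain ⟨k, z', hz', rfl⟩ := hz
    refine ⟨IsCofiltered.min j k, (D.map (IsCofiltered.minToLeft j k).left).appTop y' +
      (D.map (IsCofiltered.minToRight j k).left).appTop z',
      add_mem (hmono _ _ hy') (hmono _ _ hz'), ?_⟩
    rw [map_add, hπmono, hπmono]
  | smul r y _ hy =>
    obtain ⟨j, y', hy', rfl⟩ := hy
    obtain ⟨k, r', hr'⟩ : ∃ (k : Over i) (r' : Γ(D.obj k.left, ⊤)), (c.π.app k.left).appTop r' = r :=
      exists_appTop_π_eq_of_isAffine_of_isLimit (Over.forget i ⋙ D) (c.whisker (Over.forget i)) hc' r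
    refine ⟨IsCofiltered.min j k, (D.map (IsCofiltered.minToRight j k).left).appTop r' *
      (D.map (IsCofiltered.minToLeft j k).left).appTop y', Ideal.mul_mem_left _ _ (hmono _ _ hy'), ?_⟩
    rw [map_mul, hπmono, hπmono, hr', smul_eq_mul]

variable {X₀ : Scheme.{u}} (f₀ : X₀ ⟶ D.obj i)

omit [IsCofiltered I] [∀ {i j : I} (f : i ⟶ j), IsAffineHom (D.map f)] in
theorem ker_base_change {T : Scheme.{u}} [IsAffine T] [IsAffine (D.obj i)] [IsAffine X₀]
    [IsClosedImmersion f₀] (φ : T ⟶ D.obj i) :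
    RingHom.ker (pullback.snd f₀ φ).appTop.hom = (RingHom.ker f₀.appTop.hom).map φ.appTop.hom := by
  refine le_antisymm (ker_le_map_of_isPushout
    (isPushout_appTop_of_isPullback (IsPullback.of_hasPullback f₀ φ))
    (f₀.app_surjective ⊤ (isAffineOpen_top _))) (Ideal.map_le_iff_le_comap.mpr fun x hx => ?_)
  have := congr($(congrArg Scheme.Hom.appTop (pullback.condition (f := f₀) (g := φ))).hom x)
  simp only [Scheme.Hom.comp_appTop, CommRingCat.hom_comp, RingHom.comp_apply] at this
  rw [Ideal.mem_comap, RingHom.mem_ker, ← this, show f₀.appTop.hom x = 0 from hx, map_zero]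

set_option backward.isDefEq.respectTransparency.types false in
include hc in
theorem affineCase_openImmersion [IsAffine (D.obj i)] [IsAffine X₀] [IsClosedImmersion f₀]
    (hfg : (RingHom.ker f₀.appTop.hom).FG)
    (h : IsOpenImmersion (pullback.snd f₀ (c.π.app i))) :
    ∃ (j : I) (φ : j ⟶ i), IsOpenImmersion (pullback.snd f₀ (D.map φ)) := by
  classical
  haveI : IsAffineHom (c.π.app i) := isAffineHom_π_app D c hc i
  haveI : IsAffine (((Functor.const I).obj c.pt).obj i) := isAffine_of_isAffineHom (c.π.app i)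
  have hop : ∀ {T : Scheme.{u}} [IsAffine T] (φ : T ⟶ D.obj i), IsOpenImmersion (pullback.snd f₀ φ) ↔
      ∃ e, IsIdempotentElem e ∧ (RingHom.ker f₀.appTop.hom).map φ.appTop.hom = Ideal.span {e} := by
    intro T _ φ
    haveI : IsClosedImmersion (pullback.snd f₀ φ) := MorphismProperty.pullback_snd _ _ ‹_›
    rw [MorphismProperty.arrow_mk_iso_iff @IsOpenImmersion (arrowIsoSpecΓOfIsAffine (pullback.snd f₀ φ))]
    refine (isOpenImmersion_SpecMap_iff_of_surjective _
      ((pullback.snd f₀ φ).app_surjective ⊤ (isAffineOpen_top _))).trans ?_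
    rw [← ker_base_change f₀ φ]
    exact Iff.rfl
  obtain ⟨e, he, hker⟩ := (hop (c.π.app i)).mp h
  obtain ⟨s, hs⟩ := hfg
  let J := RingHom.ker f₀.appTop.hom
  have hsq : (J * J).map (c.π.app i).appTop.hom = J.map (c.π.app i).appTop.hom := by
    rw [Ideal.map_mul, hker, Ideal.span_singleton_mul_span_singleton, he.eq]
  have hb : ∀ a : Γ(D.obj i, ⊤), ∃ j : Over i, a ∈ s →
      (D.map j.hom).appTop a ∈ (J * J).map (D.map j.hom).appTop.hom := by
    intro a
    by_cases ha : a ∈ s
    · obtain ⟨j, hj⟩ := exists_mem_map hc (J * J) a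
        (hsq ▸ Ideal.mem_map_of_mem _ (show a ∈ RingHom.ker f₀.appTop.hom by rw [← hs]; exact Ideal.subset_span ha))
      exact ⟨j, fun _ => hj⟩
    · exact ⟨Over.mk (𝟙 i), fun h => absurd h ha⟩
  choose jb hjb using hb
  obtain ⟨k, hk⟩ : ∃ k : Over i, ∀ a ∈ s, Nonempty (k ⟶ jb a) := by
    obtain ⟨k, hk⟩ := IsCofiltered.inf_objs_exists (s.image jb)
    exact ⟨k, fun b hb => hk (Finset.mem_image_of_mem jb hb)⟩
  refine ⟨k.left, k.hom, ?_⟩
  haveI : IsAffine (D.obj k.left) := isAffine_of_isAffineHom (D.map k.hom)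
  refine (hop (D.map k.hom)).mpr ?_
  let Jk := J.map (D.map k.hom).appTop.hom
  have hfgk : Jk.FG := Ideal.FG.map ⟨s, hs⟩ _
  refine (Ideal.isIdempotentElem_iff_of_fg _ hfgk).mp (le_antisymm Ideal.mul_le_left ?_)
  rw [← Ideal.map_mul]
  show Jk ≤ _
  rw [show Jk = (Ideal.span (s : Set Γ(D.obj i, ⊤))).map (D.map k.hom).appTop.hom from
    congrArg (Ideal.map (D.map k.hom).appTop.hom) hs.symm, Ideal.map_span, Ideal.span_le]
  rintro _ ⟨a, ha, rfl⟩
  obtain ⟨g⟩ := hk a ha
  have := Ideal.mem_map_of_mem (D.map g.left).appTop.hom (hjb a ha)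
  rw [Ideal.map_map] at this
  show (D.map k.hom).appTop.hom a ∈ (J * J).map (D.map k.hom).appTop.hom
  convert this using 2
  · exact RingHom.ext fun y => (map_map_apply g y).symm
  · exact (map_map_apply g a).symm

/-- A closed immersion which is locally of finite presentation has finitely generated kernel. -/
theorem ker_appTop_fg {X Y : Scheme.{u}} (f : X ⟶ Y) [IsAffine X] [IsAffine Y] [IsClosedImmersion f]
    [LocallyOfFinitePresentation f] : (RingHom.ker f.appTop.hom).FG := by
  have hfp := f.finitePresentation_appTop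
  letI := f.appTop.hom.toAlgebra
  haveI : Algebra.FinitePresentation Γ(Y, ⊤) Γ(X, ⊤) := hfp
  exact Algebra.FinitePresentation.ker_fG_of_surjective (Algebra.ofId Γ(Y, ⊤) Γ(X, ⊤))
    (f.app_surjective ⊤ (isAffineOpen_top _))

/-- Open immersions descend, for closed immersions of finite presentation. -/
theorem core_openImmersion :
    Core @IsOpenImmersion ((@IsClosedImmersion ⊓ @LocallyOfFinitePresentation : MorphismProperty Scheme.{u})) := by
  intro I _ _ D c hc hD i hi X₀ f₀ _ _ hQ h
  haveI : ∀ {i j : I} (f : i ⟶ j), IsAffineHom (D.map f) := fun {i j} f => hD i j f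
  haveI : IsClosedImmersion f₀ := hQ.1
  haveI : LocallyOfFinitePresentation f₀ := hQ.2
  haveI : IsAffine X₀ := isAffine_of_isAffineHom f₀
  exact affineCase_openImmersion hc f₀ (ker_appTop_fg f₀) h

set_option backward.isDefEq.respectTransparency.types false in
/-- Open immersions descend, for immersions of finite presentation. -/
theorem core_openImmersion' :
    Core @IsOpenImmersion ((@IsImmersion ⊓ @LocallyOfFinitePresentation : MorphismProperty Scheme.{u})) := by
  intro I _ _ D c hc hD i hi X₀ f₀ hcs hqs hQ h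
  haveI : ∀ {i j : I} (f : i ⟶ j), IsAffineHom (D.map f) := fun {i j} f => hD i j f
  haveI := hcs
  haveI : IsImmersion f₀ := hQ.1
  haveI : LocallyOfFinitePresentation f₀ := hQ.2
  haveI : QuasiCompact f₀ := quasiCompact_of_compactSpace f₀
  -- a quasi-compact open in which the image is closed
  obtain ⟨t, ht, htU, htc⟩ : ∃ t : Set (D.obj i), IsOpen t ∧ t ⊆ (f₀.coborderRange : Set (D.obj i)) ∧
      IsCompact t ∧ Set.range f₀ ⊆ t := by
    have hK : IsCompact (Set.range f₀) := isCompact_range f₀.continuous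
    have hV : ∀ x : f₀.coborderRange, ∃ V : (D.obj i).affineOpens, x.1 ∈ V.1 ∧ V.1 ≤ f₀.coborderRange := by
      intro x
      obtain ⟨V, hV, hx, hle⟩ :=
        exists_isAffineOpen_mem_and_subset (x := x.1) (U := f₀.coborderRange) x.2
      exact ⟨⟨V, hV⟩, hx, hle⟩
    choose V hxV hVle using hV
    obtain ⟨F, hF⟩ := hK.elim_finite_subcover (fun x => (((V x).1 : (D.obj i).Opens) : Set (D.obj i)))
      (fun x => (V x).1.2) fun y hy => Set.mem_iUnion.mpr ⟨⟨y, subset_coborder hy⟩, hxV _⟩
    exact ⟨⋃ x ∈ F, ((V x).1 : Set (D.obj i)), isOpen_biUnion fun x _ => (V x).1.2,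
      Set.iUnion₂_subset fun x _ => hVle x, F.finite_toSet.isCompact_biUnion fun x _ => (V x).2.isCompact, hF⟩
  let U : (D.obj i).Opens := ⟨t, ht⟩
  haveI : CompactSpace (U : Scheme.{u}) := isCompact_iff_compactSpace.mp htc.1
  let g := pullback.snd f₀ U.ι
  haveI : IsImmersion g := MorphismProperty.pullback_snd _ _ ‹IsImmersion f₀›
  haveI : LocallyOfFinitePresentation g := MorphismProperty.pullback_snd _ _ ‹LocallyOfFinitePresentation f₀›
  haveI : QuasiCompact g := MorphismProperty.pullback_snd _ _ ‹QuasiCompact f₀›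
  haveI : IsClosedImmersion g := by
    refine .of_isPreimmersion _ ?_
    rw [Scheme.Pullback.range_snd]
    exact isClosed_preimage_val_coborder.preimage
      (f := fun u : U => (⟨U.ι u, htU u.2⟩ : coborder (Set.range f₀)))
      (Continuous.subtype_mk U.ι.continuous _)
  haveI : IsOpenImmersion (pullback.fst f₀ U.ι) := MorphismProperty.pullback_fst _ _ inferInstance
  haveI : Surjective (pullback.fst f₀ U.ι) := ⟨fun x => by
    have : x ∈ Set.range (pullback.fst f₀ U.ι) := by
      rw [Scheme.Pullback.range_fst, Scheme.Opens.range_ι]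
      exact htc.2 ⟨x, rfl⟩
    exact this⟩
  haveI : IsIso (pullback.fst f₀ U.ι) :=
    (isIso_iff_isOpenImmersion_and_surjective _).mpr ⟨inferInstance, inferInstance⟩
  have hi' : IsPullback (pullback.fst f₀ U.ι) (g ≫ U.ι) f₀ (𝟙 _) :=
    IsPullback.of_horiz_isIso ⟨by rw [Category.comp_id]; exact pullback.condition⟩
  have hpt := ((IsPullback.of_hasPullback g (pullback.fst U.ι (c.π.app i))).paste_vert
    (IsPullback.of_hasPullback U.ι (c.π.app i))).paste_horiz hi'
  rw [Category.comp_id] at hpt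
  have hop : IsOpenImmersion (pullback.snd g (pullback.fst U.ι (c.π.app i))) := by
    haveI := of_two @IsOpenImmersion (IsPullback.of_hasPullback _ _) hpt h
    exact IsOpenImmersion.of_comp _ (pullback.snd U.ι (c.π.app i))
  obtain ⟨j, φ, Xj, Yj, fj, gj, pY, pX, hY, hX, hfj⟩ := descend₂ D c hc (P := @IsOpenImmersion)
    (Q := (@IsClosedImmersion ⊓ @LocallyOfFinitePresentation : MorphismProperty Scheme.{u}))
    core_openImmersion g U.ι ⟨inferInstance, inferInstance⟩ _ _ _ _ (IsPullback.of_hasPullback _ _)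
    (IsPullback.of_hasPullback _ _) hop
  refine ⟨j, φ, ?_⟩
  have hpj := (hX.paste_vert hY).paste_horiz hi'
  rw [Category.comp_id] at hpj
  haveI : IsOpenImmersion fj := hfj
  haveI : IsOpenImmersion gj := MorphismProperty.of_isPullback hY inferInstance
  exact of_two @IsOpenImmersion hpj (IsPullback.of_hasPullback _ _) inferInstance

end Groth.Agent.MorLib.Desc
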