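import Groth.Agent.MorLib.DescendCI

/-! Descent of separatedness along limits. -/

set_option autoImplicit false
universe u

namespace Groth.Agent.MorLib.Desc

open AlgebraicGeometry CategoryTheory Limits

theorem isPullback_overMap {X W S V : Scheme.{u}} (a : X ⟶ W) (h : W ⟶ S) (φ : V ⟶ S) {h' : X ⟶ S}
    (w : a ≫ h = h') :
    IsPullback (pullback.fst h' φ)
      (pullback.lift (pullback.fst h' φ ≫ a) (pullback.snd h' φ)
        (by rw [Category.assoc, w, pullback.condition]))
      a (pullback.fst h φ) := by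
  refine IsPullback.of_bot ?_ ?_ (IsPullback.of_hasPullback h φ)
  · rw [pullback.lift_snd, w]
    exact IsPullback.of_hasPullback h' φ
  · exact (pullback.lift_fst _ _ _).symm

set_option backward.isDefEq.respectTransparency.types false in
/-- The diagonal of a base change is a base change of the diagonal. -/
theorem diagonal_snd_iff (P : MorphismProperty Scheme.{u}) [P.RespectsIso] {X₀ S V : Scheme.{u}}
    (f₀ : X₀ ⟶ S) (φ : V ⟶ S) :
    P (pullback.diagonal (pullback.snd f₀ φ)) ↔
      P (pullback.snd (pullback.diagonal f₀) (pullback.fst (pullback.snd f₀ f₀ ≫ f₀) φ)) := by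
  change P.diagonal (pullback.snd f₀ φ) ↔ _
  rw [show pullback.snd f₀ φ = (pullbackSymmetry f₀ φ).hom ≫ pullback.fst φ f₀ from
    (pullbackSymmetry_hom_comp_fst f₀ φ).symm, MorphismProperty.cancel_left_of_respectsIso P.diagonal,
    MorphismProperty.diagonal_iff, diagonal_pullback_fst]
  rw [MorphismProperty.cancel_left_of_respectsIso P, MorphismProperty.cancel_right_of_respectsIso P]
  have w : pullback.diagonal f₀ ≫ (pullback.snd f₀ f₀ ≫ f₀) = f₀ := by simp
  have hp := isPullback_overMap (pullback.diagonal f₀) (pullback.snd f₀ f₀ ≫ f₀) φ w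
  exact ⟨fun h => of_two P hp (IsPullback.of_hasPullback _ _) h,
    fun h => of_two P (IsPullback.of_hasPullback _ _) hp h⟩

/-- A base change is separated iff the corresponding base change of the diagonal is a closed
immersion. -/
theorem isSeparated_snd_iff {X₀ S V : Scheme.{u}} (f₀ : X₀ ⟶ S) (φ : V ⟶ S) :
    IsSeparated (pullback.snd f₀ φ) ↔
      IsClosedImmersion (pullback.snd (pullback.diagonal f₀)
        (pullback.fst (pullback.snd f₀ f₀ ≫ f₀) φ)) :=
  (isSeparated_iff _).trans (diagonal_snd_iff @IsClosedImmersion f₀ φ)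

set_option backward.isDefEq.respectTransparency.types false in
theorem core_isSeparated : Core @IsSeparated (⊤ : MorphismProperty Scheme.{u}) := by
  intro I _ _ D c hc hD i hi X₀ f₀ hcs hqs _ h
  haveI : ∀ {i j : I} (f : i ⟶ j), IsAffineHom (D.map f) := fun {i j} f => hD i j f
  haveI := hcs
  haveI := hqs
  haveI : QuasiCompact f₀ := quasiCompact_of_compactSpace f₀
  haveI : QuasiSeparated f₀ := QuasiSeparated.of_quasiSeparatedSpace f₀
  haveI : QuasiCompact (pullback.snd f₀ f₀) := MorphismProperty.pullback_snd _ _ inferInstance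
  haveI : QuasiSeparated (pullback.snd f₀ f₀) := MorphismProperty.pullback_snd _ _ inferInstance
  haveI : CompactSpace ↥(pullback f₀ f₀) :=
    QuasiCompact.compactSpace_of_compactSpace (pullback.snd f₀ f₀)
  haveI : QuasiSeparatedSpace ↥(pullback f₀ f₀) :=
    quasiSeparatedSpace_of_quasiSeparated (pullback.snd f₀ f₀)
  haveI : LocallyOfFiniteType (pullback.diagonal f₀) := inferInstance
  obtain ⟨j, φ, Xj, Yj, fj, gj, pY, pX, hY, hX, hfj⟩ := descend₂ D c hc (P := @IsClosedImmersion)
    (Q := @LocallyOfFiniteType) core_closedImmersion (pullback.diagonal f₀)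
    (pullback.snd f₀ f₀ ≫ f₀) inferInstance _ _ _ _ (IsPullback.of_hasPullback _ _)
    (IsPullback.of_hasPullback _ _) ((isSeparated_snd_iff f₀ (c.π.app i)).mp h)
  refine ⟨j, φ, (isSeparated_snd_iff f₀ (D.map φ)).mpr ?_⟩
  exact of_factor @IsClosedImmersion (of_two @IsClosedImmersion hX (IsPullback.of_hasPullback _ _) hfj)
    (a := hY.isoPullback.inv) hY.isoPullback_inv_fst (IsPullback.of_hasPullback _ _)

end Groth.Agent.MorLib.Desc
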