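import Groth.Agent.MorLib.LimPoints

/-! The topology of limits of schemes. -/

set_option autoImplicit false
universe u

namespace Groth.Agent.MorLib.LimTop

open AlgebraicGeometry CategoryTheory Limits TopologicalSpace

variable {I : Type u} [SmallCategory I] [IsCofiltered I] {D : I ⥤ Scheme.{u}} {c : Cone D}
  (hc : IsLimit c) [∀ {i j : I} (f : i ⟶ j), IsAffineHom (D.map f)]

omit [IsCofiltered I] [∀ {i j : I} (f : i ⟶ j), IsAffineHom (D.map f)] in
theorem π_apply {i j : I} (φ : j ⟶ i) (s : c.pt) : D.map φ (c.π.app j s) = c.π.app i s := by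
  rw [← Scheme.Hom.comp_apply, c.w]

include hc

/-- Opens of the limit are unions of preimages of quasi-compact opens of late stages. -/
theorem exists_basic (i : I) {U : Set c.pt} (hU : IsOpen U) {s : c.pt} (hs : s ∈ U) :
    ∃ (j : I) (_ : j ⟶ i) (V : (D.obj j).Opens), IsCompact (V : Set (D.obj j)) ∧
      c.π.app j s ∈ V ∧ c.π.app j ⁻¹' (V : Set _) ⊆ U := by
  obtain ⟨_, ⟨_, ⟨k, V, hV, rfl⟩, rfl⟩, hsV, hVU⟩ :=
    (isBasis_preimage_isAffineOpen D c hc).exists_subset_of_mem_open hs hU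
  refine ⟨IsCofiltered.min k i, IsCofiltered.minToRight k i,
    D.map (IsCofiltered.minToLeft k i) ⁻¹ᵁ V, (hV.preimage _).isCompact, ?_, fun x hx => hVU ?_⟩
  · show D.map _ (c.π.app _ s) ∈ V
    rw [π_apply]; exact hsV
  · have hx' : D.map (IsCofiltered.minToLeft k i) (c.π.app _ x) ∈ V := hx
    rwa [π_apply] at hx'

theorem isOpenMap_π_iff (i : I) (hs : ∀ (j : I) (_ : j ⟶ i), Surjective (c.π.app j)) :
    IsOpenMap (c.π.app i) ↔ ∀ (j : I) (φ : j ⟶ i), IsOpenMap (D.map φ) := by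
  constructor
  · intro h j φ U hU
    have e : D.map φ '' U = c.π.app i '' (c.π.app j ⁻¹' U) := by
      ext x
      constructor
      · rintro ⟨y, hy, rfl⟩
        obtain ⟨s, rfl⟩ := (hs j φ).surj y
        exact ⟨s, hy, (π_apply φ s).symm⟩
      · rintro ⟨s, hsU, rfl⟩
        exact ⟨_, hsU, π_apply φ s⟩
    rw [e]
    exact h _ (hU.preimage (c.π.app j).continuous)
  · intro h U hU
    refine isOpen_iff_mem_nhds.mpr ?_
    rintro _ ⟨s, hsU, rfl⟩
    obtain ⟨j, φ, V, -, hsV, hVU⟩ := exists_basic hc i hU hsU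
    refine Filter.mem_of_superset ((h j φ _ V.2).mem_nhds ⟨_, hsV, π_apply φ s⟩) ?_
    rintro _ ⟨y, hy, rfl⟩
    obtain ⟨t, rfl⟩ := (hs j φ).surj y
    exact ⟨t, hVU hy, (π_apply φ t).symm⟩

theorem universallyOpen_π_iff (i : I) (hs : ∀ (j : I) (_ : j ⟶ i), Surjective (c.π.app j)) :
    UniversallyOpen (c.π.app i) ↔ ∀ (j : I) (φ : j ⟶ i), UniversallyOpen (D.map φ) := by
  constructor
  · intro h j φ
    refine ⟨fun P' Y' p g q hq => ?_⟩
    let E := BC.diag D g
    have hX := IsPullback.of_hasPullback g (c.π.app i)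
    haveI : ∀ {j k : Over i} (f : j ⟶ k), IsAffineHom ((BC.diag D g).map f) := fun f => BC.isAffineHom_map D g f
    have h' : IsOpenMap (pullback.fst g (c.π.app i)) :=
      UniversallyOpen.universally_isOpenMap (f := c.π.app i) _ _ _ hX
    haveI := hs j φ
    have hsur : Surjective (BC.proj D g hX (Over.mk φ)) :=
      MorphismProperty.of_isPullback (BC.isPullback_proj D g hX (Over.mk φ)).flip (hs j φ)
    have h1 : IsOpenMap (pullback.fst g (D.map φ)) := by
      intro U hU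
      have hproj : BC.proj D g hX (Over.mk φ) ≫ pullback.fst g (D.map φ) = pullback.fst g (c.π.app i) :=
        BC.proj_fst D g hX (Over.mk φ)
      have e : pullback.fst g (D.map φ) '' U =
          pullback.fst g (c.π.app i) '' (BC.proj D g hX (Over.mk φ) ⁻¹' U) := by
        ext x
        constructor
        · rintro ⟨y, hy, rfl⟩
          obtain ⟨s, rfl⟩ := hsur.surj y
          exact ⟨s, hy, congr($(hproj.symm) s)⟩
        · rintro ⟨s, hsU, rfl⟩
          exact ⟨_, hsU, congr($hproj s)⟩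
      rw [e]
      exact h' _ (hU.preimage (BC.proj D g hX (Over.mk φ)).continuous)
    have := h1.comp hq.isoPullback.hom.homeomorph.isOpenMap
    have e2 : hq.isoPullback.hom ≫ pullback.fst g (D.map φ) = q := hq.isoPullback_hom_fst
    rw [← e2]
    exact this
  · intro h
    refine ⟨fun P' Y' p g q hq => ?_⟩
    have hX : IsPullback q p g (c.π.app i) := hq
    haveI : ∀ {j k : Over i} (f : j ⟶ k), IsAffineHom ((BC.diag D g).map f) := fun f => BC.isAffineHom_map D g f
    let T : Over i := Over.mk (𝟙 i)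
    haveI : IsIso (D.map (𝟙 i)) := by rw [D.map_id]; infer_instance
    have hopen : IsOpenMap (BC.proj D g hX T) := by
      refine (isOpenMap_π_iff (BC.isLimitCone D g hX hc) T fun j _ =>
        MorphismProperty.of_isPullback (BC.isPullback_proj D g hX j).flip (hs j.left j.hom)).mpr
        fun j φ => ?_
      have hu : UniversallyOpen (D.map φ.left) := h j.left φ.left
      exact hu.universally_isOpenMap _ _ _ (BC.isPullback_map D g φ)
    have e : BC.proj D g hX T ≫ pullback.fst g (D.map T.hom) = q := BC.proj_fst D g hX T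
    haveI : IsIso (pullback.fst g (D.map T.hom)) :=
      inferInstanceAs (IsIso (pullback.fst g (D.map (𝟙 i))))
    rw [← e]
    exact ((pullback.fst g (D.map T.hom)).homeomorph.isOpenMap).comp hopen

theorem irreducibleSpace_iff (i₀ : I) [CompactSpace (D.obj i₀)]
    (hd : ∀ (i j : I) (φ : i ⟶ j), IsDominant (D.map φ)) :
    IrreducibleSpace c.pt ↔ ∃ (i : I) (_ : i ⟶ i₀), ∀ (j : I) (_ : j ⟶ i), IrreducibleSpace (D.obj j) := by
  have hπ : ∀ i, IsDominant (c.π.app i) := fun i =>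
    (LimPts.isDominant_π_iff hc).mpr fun j φ => hd j i φ
  constructor
  · intro h
    refine ⟨i₀, 𝟙 _, fun j _ => ?_⟩
    haveI : Nonempty (D.obj j) := h.toNonempty.map (c.π.app j)
    haveI : PreirreducibleSpace (D.obj j) := ⟨by
      rw [← (hπ j).denseRange.closure_range]
      have h' : IsPreirreducible (c.π.app j '' Set.univ) :=
        IsPreirreducible.image (X := c.pt) PreirreducibleSpace.isPreirreducible_univ _
          (c.π.app j).continuous.continuousOn
      rw [Set.image_univ] at h'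
      exact h'.closure⟩
    exact ⟨inferInstance⟩
  · rintro ⟨i, φ, hi⟩
    have hne : Nonempty c.pt := by
      haveI : Nonempty (D.obj i) := (hi i (𝟙 i)).toNonempty
      obtain ⟨x⟩ := ‹Nonempty (D.obj i)›
      obtain ⟨_, -, s, rfl⟩ := mem_closure_iff.mp ((hπ i).denseRange x) Set.univ isOpen_univ trivial
      exact ⟨s⟩
    haveI : PreirreducibleSpace c.pt := ⟨fun U W hU hW ⟨a, _, haU⟩ ⟨b, _, hbW⟩ => by
      obtain ⟨j, f, V, -, haV, hVU⟩ := exists_basic hc i hU haU
      obtain ⟨k, g, V', -, hbV', hVW⟩ := exists_basic hc j hW hbW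
      haveI := hi k (g ≫ f)
      have h1 : ((D.map g ⁻¹ᵁ V : (D.obj k).Opens) : Set (D.obj k)).Nonempty :=
        ⟨c.π.app k a, show D.map g _ ∈ V by rw [π_apply]; exact haV⟩
      obtain ⟨x, hx⟩ := nonempty_preirreducible_inter (D.map g ⁻¹ᵁ V).2 V'.2 h1 ⟨_, hbV'⟩
      obtain ⟨_, hy, t, rfl⟩ := mem_closure_iff.mp ((hπ k).denseRange x) _
        ((D.map g ⁻¹ᵁ V).2.inter V'.2) hx
      refine ⟨t, trivial, hVU ?_, hVW hy.2⟩
      have h2 : D.map g (c.π.app k t) ∈ V := hy.1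
      rw [π_apply] at h2
      exact h2⟩
    exact ⟨hne⟩

theorem eventually_not_preconnected (i₀ : I) [CompactSpace (D.obj i₀)]
    (hdisj : ∀ (k : I) (_ : k ⟶ i₀) (A B : (D.obj k).Opens), IsCompact (A : Set (D.obj k)) →
      IsCompact (B : Set (D.obj k)) → c.π.app k ⁻¹ᵁ (A ⊓ B) = ⊥ →
      ∃ (l : I) (f : l ⟶ k), D.map f ⁻¹ᵁ (A ⊓ B) = ⊥)
    (h : ¬ PreconnectedSpace c.pt) :
    ∃ (i : I) (_ : i ⟶ i₀), ∀ (j : I) (_ : j ⟶ i), ¬ PreconnectedSpace (D.obj j) := by
  haveI : CompactSpace c.pt := by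
    haveI := isAffineHom_π_app D c hc i₀
    exact QuasiCompact.compactSpace_of_compactSpace (c.π.app i₀)
  obtain ⟨s, hs, hse, hsu⟩ : ∃ s : Set c.pt, IsClopen s ∧ s.Nonempty ∧ sᶜ.Nonempty := by
    by_contra hcon
    push_neg at hcon
    refine h ?_
    rw [preconnectedSpace_iff_clopen]
    intro s hs
    rcases s.eq_empty_or_nonempty with he | hne
    · exact Or.inl he
    · exact Or.inr (Set.compl_empty_iff.mp (hcon s hs hne))
  obtain ⟨a, A, hAc, hA⟩ := exists_preimage_eq D c hc ⟨s, hs.2⟩ hs.1.isCompact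
  obtain ⟨b, B, hBc, hB⟩ := exists_preimage_eq D c hc ⟨sᶜ, hs.1.isOpen_compl⟩ hs.2.isClosed_compl.isCompact
  let m := IsCofiltered.min (IsCofiltered.min a b) i₀
  let fa : m ⟶ a := IsCofiltered.minToLeft _ _ ≫ IsCofiltered.minToLeft a b
  let fb : m ⟶ b := IsCofiltered.minToLeft _ _ ≫ IsCofiltered.minToRight a b
  let A' := D.map fa ⁻¹ᵁ A
  let B' := D.map fb ⁻¹ᵁ B
  haveI : QuasiCompact (D.map fa) := inferInstance
  haveI : QuasiCompact (D.map fb) := inferInstance
  have hA'c : IsCompact (A' : Set (D.obj m)) := (D.map fa).isCompact_preimage hAc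
  have hB'c : IsCompact (B' : Set (D.obj m)) := (D.map fb).isCompact_preimage hBc
  have hA' : c.π.app m ⁻¹ᵁ A' = ⟨s, hs.2⟩ := by
    show c.π.app m ⁻¹ᵁ D.map fa ⁻¹ᵁ A = _
    rw [← Scheme.Hom.comp_preimage, c.w]; exact hA
  have hB' : c.π.app m ⁻¹ᵁ B' = ⟨sᶜ, hs.1.isOpen_compl⟩ := by
    show c.π.app m ⁻¹ᵁ D.map fb ⁻¹ᵁ B = _
    rw [← Scheme.Hom.comp_preimage, c.w]; exact hB
  obtain ⟨l, f, hl⟩ := hdisj m (IsCofiltered.minToRight _ _) A' B' hA'c hB'c (by
    refine le_antisymm (fun x hx => ?_) bot_le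
    have h1 : x ∈ c.π.app m ⁻¹ᵁ A' := hx.1
    have h2 : x ∈ c.π.app m ⁻¹ᵁ B' := hx.2
    rw [hA'] at h1; rw [hB'] at h2
    exact (h2 h1).elim)
  haveI := isAffineHom_π_app D c hc m
  haveI : CompactSpace (D.obj l) :=
    QuasiCompact.compactSpace_of_compactSpace (D.map (f ≫ IsCofiltered.minToRight _ i₀))
  have hAB : c.π.app l ⁻¹ᵁ (⊤ : (D.obj l).Opens) ≤ c.π.app l ⁻¹ᵁ (D.map f ⁻¹ᵁ (A' ⊔ B')) := by
    intro x _
    show D.map f (c.π.app l x) ∈ A' ⊔ B'
    rw [π_apply]
    by_cases hx : x ∈ s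
    · exact Or.inl ((SetLike.ext_iff.mp hA' x).mpr hx)
    · exact Or.inr ((SetLike.ext_iff.mp hB' x).mpr hx)
  obtain ⟨i, g, hg⟩ := exists_map_preimage_le_map_preimage D c hc isCompact_univ hAB
  refine ⟨i, g ≫ f ≫ IsCofiltered.minToRight _ _, fun j φ hj => ?_⟩
  let p := φ ≫ g ≫ f
  have hU : ∀ x : D.obj j, D.map p x ∈ A' ∨ D.map p x ∈ B' := by
    intro x
    have := hg (show D.map φ x ∈ D.map g ⁻¹ᵁ (⊤ : (D.obj l).Opens) from trivial)
    change D.map f (D.map g (D.map φ x)) ∈ A' ⊔ B' at this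
    simpa [p, Functor.map_comp, Scheme.Hom.comp_apply] using this
  have hd : ∀ x : D.obj j, ¬ (D.map p x ∈ A' ∧ D.map p x ∈ B') := by
    intro x hx
    have : D.map (φ ≫ g) x ∈ D.map f ⁻¹ᵁ (A' ⊓ B') := by
      show D.map f (D.map (φ ≫ g) x) ∈ A' ⊓ B'
      simpa [p, Functor.map_comp, Scheme.Hom.comp_apply] using hx
    rw [hl] at this
    exact this
  have hne : ∀ (C : (D.obj m).Opens) (t : c.pt), t ∈ c.π.app m ⁻¹ᵁ C → (D.map p ⁻¹' (C : Set _)).Nonempty := by
    intro C t ht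
    exact ⟨c.π.app j t, show D.map p _ ∈ C by rw [π_apply]; exact ht⟩
  obtain ⟨t, ht⟩ := hse
  obtain ⟨t', ht'⟩ := hsu
  let u : Set (D.obj j) := D.map p ⁻¹' (A' : Set _)
  let v : Set (D.obj j) := D.map p ⁻¹' (B' : Set _)
  obtain ⟨x, hx1, hx2⟩ := hj.isPreconnected_univ u v
    (A'.2.preimage (D.map p).continuous) (B'.2.preimage (D.map p).continuous)
    (fun x _ => hU x) (by rw [Set.univ_inter]; exact hne A' t (by rw [hA']; exact ht))
    (by rw [Set.univ_inter]; exact hne B' t' (by rw [hB']; exact ht'))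
  exact hd x hx2

theorem connectedSpace_iff (i₀ : I) [CompactSpace (D.obj i₀)]
    (hd : ∀ (i j : I) (φ : i ⟶ j), IsDominant (D.map φ)) :
    ConnectedSpace c.pt ↔ ∃ (i : I) (_ : i ⟶ i₀), ∀ (j : I) (_ : j ⟶ i), ConnectedSpace (D.obj j) := by
  have hπ : ∀ i, IsDominant (c.π.app i) := fun i =>
    (LimPts.isDominant_π_iff hc).mpr fun j φ => hd j i φ
  constructor
  · intro h
    refine ⟨i₀, 𝟙 _, fun j _ => ?_⟩
    haveI : Nonempty (D.obj j) := h.toNonempty.map (c.π.app j)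
    haveI : PreconnectedSpace (D.obj j) := ⟨by
      rw [← (hπ j).denseRange.closure_range]
      exact (isPreconnected_range (α := c.pt) (c.π.app j).continuous).closure⟩
    exact ⟨inferInstance⟩
  · rintro ⟨i, φ, hi⟩
    have hne : Nonempty c.pt := by
      obtain ⟨x⟩ := (hi i (𝟙 i)).toNonempty
      obtain ⟨_, -, s, rfl⟩ := mem_closure_iff.mp ((hπ i).denseRange x) Set.univ isOpen_univ trivial
      exact ⟨s⟩
    haveI : CompactSpace (D.obj i) := QuasiCompact.compactSpace_of_compactSpace (D.map φ)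
    haveI : PreconnectedSpace c.pt := by
      by_contra hp
      obtain ⟨k, g, hk⟩ := eventually_not_preconnected hc i (fun k _ A B _ _ hAB => ⟨k, 𝟙 k, by
        refine le_antisymm (fun x hx => ?_) bot_le
        obtain ⟨_, hy, t, rfl⟩ := mem_closure_iff.mp ((hπ k).denseRange _) _ (A ⊓ B).2 hx
        have : t ∈ c.π.app k ⁻¹ᵁ (A ⊓ B) := hy
        rw [hAB] at this
        exact this.elim⟩) hp
      exact hk k (𝟙 k) (hi k g).toPreconnectedSpace
    exact ⟨hne⟩

end Groth.Agent.MorLib.LimTop
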