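import Groth.Prelude.Def_MoreMor
import Mathlib.AlgebraicGeometry.ZariskisMainTheorem
import Mathlib.Topology.Spectral.Prespectral

/-! Quasi-affineness is local for basic opens; ind-quasi-affine morphisms. -/

set_option autoImplicit false
universe u

namespace Groth.Agent.MorLib.IQA

open AlgebraicGeometry CategoryTheory Limits

variable {X Y Z : Scheme.{u}}

theorem qa_of_iso (e : X ≅ Y) [Y.IsQuasiAffine] : X.IsQuasiAffine :=
  haveI : CompactSpace X := (Scheme.homeoOfIso e).symm.compactSpace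
  .of_isImmersion e.hom

theorem qa_of_le {U W : X.Opens} (h : U ≤ W) [(W : Scheme.{u}).IsQuasiAffine]
    (hU : IsCompact (U : Set X)) : (U : Scheme.{u}).IsQuasiAffine :=
  haveI : CompactSpace (U : Scheme.{u}) := isCompact_iff_compactSpace.mp hU
  .of_isImmersion (X.homOfLE h)

theorem qa_of_locallyQuasiFinite (f : X ⟶ Y) [IsAffine Y] [CompactSpace X] [IsSeparated f]
    [LocallyQuasiFinite f] [LocallyOfFiniteType f] : X.IsQuasiAffine := by
  haveI : IsAffine f.normalization := isAffine_of_isAffineHom f.fromNormalization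
  exact .of_isImmersion f.toNormalization

/-- Quasi-affineness can be checked on a cover by quasi-affine basic opens. -/
theorem qa_of_basicOpen_cover (X : Scheme.{u}) [CompactSpace X]
    (H : ∀ x : X, ∃ s : Γ(X, ⊤), x ∈ X.basicOpen s ∧
      (X.basicOpen s : Scheme.{u}).IsQuasiAffine) : X.IsQuasiAffine := by
  choose s hxs hs using H
  haveI : QuasiSeparatedSpace X := .of_isOpenCover (U := (X.basicOpen <| s ·))
    (eq_top_iff.mpr fun _ _ ↦ TopologicalSpace.Opens.mem_iSup.mpr ⟨_, hxs _⟩)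
    (fun _ ↦ isRetrocompact_basicOpen _)
    (fun x ↦ haveI := hs x
      haveI : (X.basicOpen (s x) : Scheme.{u}).IsSeparated := inferInstance
      isQuasiSeparated_iff_quasiSeparatedSpace _ (X.basicOpen (s x)).isOpen |>.mpr
      (inferInstanceAs (QuasiSeparatedSpace (X.basicOpen (s x) : Scheme.{u}))))
  refine .of_forall_exists_mem_basicOpen _ fun x => ?_
  let W := X.basicOpen (s x)
  haveI : (W : Scheme.{u}).IsQuasiAffine := hs x
  obtain ⟨_, ⟨_, ⟨σ, hσ, rfl⟩, rfl⟩, hxσ, -⟩ :=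
    (Scheme.IsQuasiAffine.isBasis_basicOpen (W : Scheme.{u})).exists_subset_of_mem_open
      (Set.mem_univ (⟨x, hxs x⟩ : (W : Scheme.{u}))) isOpen_univ
  have himg : W.ι ''ᵁ (W : Scheme.{u}).basicOpen σ = X.basicOpen ((W.ι.appIso ⊤).inv σ) :=
    Scheme.image_basicOpen W.ι σ
  have haff := hσ.image_of_isOpenImmersion W.ι
  have hxmem : x ∈ W.ι ''ᵁ (W : Scheme.{u}).basicOpen σ := ⟨_, hxσ, rfl⟩
  rw [himg] at haff hxmem
  generalize (W.ι.appIso ⊤).inv σ = σ' at haff hxmem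
  set σ'' : Γ(X, W) := X.presheaf.map (eqToHom W.ι_image_top.symm).op σ'
  have hσ'' : X.basicOpen σ'' = X.basicOpen σ' := X.basicOpen_res_eq σ' _
  haveI := isLocalization_basicOpen_of_qcqs (X := X) (U := ⊤) isCompact_univ isQuasiSeparated_univ (s x)
  obtain ⟨⟨a, ⟨_, n, rfl⟩⟩, ha⟩ := IsLocalization.surj (Submonoid.powers (s x)) σ''
  refine ⟨a * s x, ?_⟩
  suffices X.basicOpen (a * s x) = X.basicOpen σ' by rw [this]; exact ⟨haff, hxmem⟩
  clear_value σ''
  rw [← hσ'', Scheme.basicOpen_mul]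
  have ha' : X.basicOpen (σ'' * algebraMap Γ(X, ⊤) Γ(X, W) (s x ^ n)) =
      X.basicOpen (X.presheaf.map (homOfLE (le_top : W ≤ ⊤)).op a) := congrArg X.basicOpen ha
  rw [Scheme.basicOpen_mul, X.basicOpen_res,
    X.basicOpen_of_isUnit (IsLocalization.map_units (M := Submonoid.powers (s x)) Γ(X, W) ⟨_, n, rfl⟩),
    inf_eq_left.mpr (X.basicOpen_le σ''), inf_comm] at ha'
  exact ha'.symm

/-- A compact open of `X` is quasi-affine if it lies over `Y'` and is quasi-affine over enough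
basic opens of `Y'`. -/
theorem qa_step (f : X ⟶ Y) {U : X.Opens} (hU : IsCompact (U : Set X)) (Y' : Y.Opens)
    (h : U ≤ f ⁻¹ᵁ Y') (H : ∀ y : (Y' : Scheme.{u}), ∃ r : Γ(Y', ⊤), y ∈ (Y' : Scheme.{u}).basicOpen r ∧
      ∀ U'' : X.Opens, IsCompact (U'' : Set X) →
        U'' ≤ f ⁻¹ᵁ (Y'.ι ''ᵁ (Y' : Scheme.{u}).basicOpen r) → (U'' : Scheme.{u}).IsQuasiAffine) :
    (U : Scheme.{u}).IsQuasiAffine := by
  haveI : CompactSpace (U : Scheme.{u}) := isCompact_iff_compactSpace.mp hU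
  let g := f.resLE Y' U h
  refine qa_of_basicOpen_cover _ fun x => ?_
  obtain ⟨r, hr, hP⟩ := H (g x)
  refine ⟨g.appTop r, ?_, ?_⟩
  · rw [← Scheme.preimage_basicOpen_top]; exact hr
  · haveI := hP (U.ι ''ᵁ (U : Scheme.{u}).basicOpen (g.appTop r))
      ((isCompact_basicOpen _ isCompact_univ _).image U.ι.continuous) (by
        rw [← Scheme.preimage_basicOpen_top]
        rintro _ ⟨u, hu, rfl⟩
        refine ⟨g u, hu, ?_⟩
        exact congrArg (fun m : (U : Scheme.{u}) ⟶ Y => m u) (f.resLE_comp_ι h))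
    exact qa_of_iso (U.ι.isoImage ((U : Scheme.{u}).basicOpen (g.appTop r)))

/-- Every compact open over `V` is quasi-affine. -/
def QAOver (f : X ⟶ Y) (V : Y.Opens) : Prop :=
  ∀ U : X.Opens, IsCompact (U : Set X) → U ≤ f ⁻¹ᵁ V → (U : Scheme.{u}).IsQuasiAffine

theorem indQA_iff (f : X ⟶ Y) :
    MoreMor.IsIndQuasiAffineHom f ↔ ∀ V : Y.Opens, IsAffineOpen V → QAOver f V := by
  refine ⟨fun h V hV U hU hUV => ?_, fun h V hV U hU => ?_⟩
  · haveI : CompactSpace (U : Scheme.{u}) := isCompact_iff_compactSpace.mp hU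
    haveI := h V hV (X.homOfLE hUV).opensRange (isCompact_range (X.homOfLE hUV).continuous)
    exact qa_of_iso (X.homOfLE hUV).isoOpensRange
  · haveI := h V hV ((f ⁻¹ᵁ V).ι ''ᵁ U) (hU.image (f ⁻¹ᵁ V).ι.continuous)
      ((f ⁻¹ᵁ V).ι_image_le U)
    exact qa_of_iso ((f ⁻¹ᵁ V).ι.isoImage U)

theorem indQA_of_cover (f : X ⟶ Y) (H : ∀ y : Y, ∃ V : Y.Opens, y ∈ V ∧ QAOver f V) :
    MoreMor.IsIndQuasiAffineHom f := by
  rw [indQA_iff]
  intro W hW U hU hUW
  haveI : IsAffine (W : Scheme.{u}) := hW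
  refine qa_step f hU W hUW fun y => ?_
  obtain ⟨V, hyV, hV⟩ := H (W.ι y)
  obtain ⟨_, ⟨r, rfl⟩, hr, hrV⟩ := TopologicalSpace.Opens.isBasis_iff_nbhd.mp
    (isBasis_basicOpen (W : Scheme.{u})) (show y ∈ W.ι ⁻¹ᵁ V from hyV)
  refine ⟨r, hr, fun U'' hU'' hle => hV U'' hU'' (hle.trans ?_)⟩
  exact f.preimage_mono (Set.image_subset_iff.mpr hrV)

theorem exists_compact_between {U : Y.Opens} {K : Set Y} (hK : IsCompact K) (hKU : K ⊆ U) :
    ∃ V : Y.Opens, IsCompact (V : Set Y) ∧ K ⊆ V ∧ V ≤ U := by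
  obtain ⟨L, hL, hLo, hKL, hLU⟩ := PrespectralSpace.exists_isCompact_and_isOpen_between hK U.2 hKU
  exact ⟨⟨L, hLo⟩, hL, hKL, hLU⟩

theorem indQA_comp (f : X ⟶ Y) (g : Y ⟶ Z) (hf : MoreMor.IsIndQuasiAffineHom f)
    (hg : MoreMor.IsIndQuasiAffineHom g) : MoreMor.IsIndQuasiAffineHom (f ≫ g) := by
  rw [indQA_iff] at hf hg ⊢
  intro W hW U hU hUW
  obtain ⟨Y', hY'c, hUY', hY'W⟩ := exists_compact_between (U := g ⁻¹ᵁ W) (hU.image f.continuous)
    (Set.image_subset_iff.mpr hUW)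
  haveI := hg W hW Y' hY'c hY'W
  refine qa_step f hU Y' (fun x hx => hUY' ⟨x, hx, rfl⟩) fun y => ?_
  obtain ⟨_, ⟨_, ⟨r, hr, rfl⟩, rfl⟩, hyr, -⟩ :=
    (Scheme.IsQuasiAffine.isBasis_basicOpen (Y' : Scheme.{u})).exists_subset_of_mem_open
      (Set.mem_univ y) isOpen_univ
  exact ⟨r, hyr, hf _ (hr.image_of_isOpenImmersion Y'.ι)⟩

theorem indQA_of_comp (f : X ⟶ Y) (g : Y ⟶ Z) (h : MoreMor.IsIndQuasiAffineHom (f ≫ g)) :
    MoreMor.IsIndQuasiAffineHom f := by
  refine indQA_of_cover f fun y => ?_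
  obtain ⟨_, ⟨W, hW, rfl⟩, hyW, -⟩ :=
    Z.isBasis_affineOpens.exists_subset_of_mem_open (Set.mem_univ (g y)) isOpen_univ
  exact ⟨g ⁻¹ᵁ W, hyW, fun U hU hle => (indQA_iff _).mp h W hW U hU hle⟩

theorem indQA_baseChange {X' S' S : Scheme.{u}} {f : X ⟶ S} {f' : X' ⟶ S'} {g' : X' ⟶ X}
    {g : S' ⟶ S} (hc : IsPullback g' f' f g) (hf : MoreMor.IsIndQuasiAffineHom f) :
    MoreMor.IsIndQuasiAffineHom f' := by
  refine indQA_of_cover f' fun y => ?_
  obtain ⟨_, ⟨V, hV, rfl⟩, hyV, -⟩ :=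
    S.isBasis_affineOpens.exists_subset_of_mem_open (Set.mem_univ (g y)) isOpen_univ
  replace hV : IsAffineOpen V := hV
  obtain ⟨_, ⟨V', hV', rfl⟩, hyV', hV'le⟩ :=
    S'.isBasis_affineOpens.exists_subset_of_mem_open hyV (g ⁻¹ᵁ V).2
  refine ⟨V', hyV', fun U' hU' hle => ?_⟩
  obtain ⟨U, hUc, hU'U, hUle⟩ := exists_compact_between (U := f ⁻¹ᵁ V) (hU'.image g'.continuous) (by
    rintro _ ⟨x, hx, rfl⟩
    show f (g' x) ∈ V
    rw [← Scheme.Hom.comp_apply, hc.w, Scheme.Hom.comp_apply]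
    exact hV'le (hle hx))
  haveI := (indQA_iff f).mp hf V hV U hUc hUle
  haveI : IsAffine (V : Scheme.{u}) := hV
  haveI : IsAffine (V' : Scheme.{u}) := hV'
  haveI : CompactSpace (U' : Scheme.{u}) := isCompact_iff_compactSpace.mp hU'
  let a := f.resLE V U hUle
  let b := g.resLE V V' hV'le
  haveI : IsAffineHom b := inferInstance
  haveI : IsAffineHom (pullback.fst a b) := MorphismProperty.pullback_fst _ _ inferInstance
  haveI : (pullback a b).IsQuasiAffine := Scheme.IsQuasiAffine.of_isAffineHom (pullback.fst a b)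
  let φ : (U' : Scheme.{u}) ⟶ pullback a b :=
    pullback.lift (g'.resLE U U' (fun x hx => hU'U ⟨x, hx, rfl⟩)) (f'.resLE V' U' hle) (by
      simp only [a, b, ← cancel_mono (Scheme.Opens.ι V), Category.assoc, Scheme.Hom.resLE_comp_ι,
        Scheme.Hom.resLE_comp_ι_assoc, hc.w])
  let ψ : pullback a b ⟶ X' := hc.lift (pullback.fst a b ≫ U.ι) (pullback.snd a b ≫ Scheme.Opens.ι V') (by
    simp only [Category.assoc, ← Scheme.Hom.resLE_comp_ι f hUle, ← Scheme.Hom.resLE_comp_ι g hV'le]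
    rw [← Category.assoc, pullback.condition, Category.assoc])
  haveI : IsImmersion (φ ≫ ψ) := by
    have : φ ≫ ψ = U'.ι := hc.hom_ext
      (by rw [Category.assoc, hc.lift_fst, pullback.lift_fst_assoc, Scheme.Hom.resLE_comp_ι])
      (by rw [Category.assoc, hc.lift_snd, pullback.lift_snd_assoc, Scheme.Hom.resLE_comp_ι])
    rw [this]; infer_instance
  haveI : IsImmersion φ := IsImmersion.of_comp φ ψ
  exact .of_isImmersion φ

theorem indQA_of_isImmersion (f : X ⟶ Y) [IsImmersion f] : MoreMor.IsIndQuasiAffineHom f := by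
  rw [indQA_iff]
  intro V hV U hU hle
  haveI : IsAffine (V : Scheme.{u}) := hV
  haveI : CompactSpace (U : Scheme.{u}) := isCompact_iff_compactSpace.mp hU
  haveI : IsImmersion (f.resLE V U hle) := by delta Scheme.Hom.resLE; infer_instance
  exact .of_isImmersion (f.resLE V U hle)

theorem indQA_of_isQuasiAffineHom (f : X ⟶ Y) (h : MoreMor.IsQuasiAffineHom f) :
    MoreMor.IsIndQuasiAffineHom f := by
  rw [indQA_iff]
  intro V hV U hU hle
  haveI := h.2 V hV
  exact qa_of_le hle hU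

theorem indQA_of_locallyQuasiFinite (f : X ⟶ Y) [IsSeparated f] [LocallyQuasiFinite f]
    [LocallyOfFiniteType f] : MoreMor.IsIndQuasiAffineHom f := by
  rw [indQA_iff]
  intro V hV U hU hle
  haveI : IsAffine (V : Scheme.{u}) := hV
  haveI : CompactSpace (U : Scheme.{u}) := isCompact_iff_compactSpace.mp hU
  haveI : IsSeparated (f.resLE V U hle) := by delta Scheme.Hom.resLE; infer_instance
  haveI : LocallyQuasiFinite (f.resLE V U hle) := by delta Scheme.Hom.resLE; infer_instance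
  haveI : LocallyOfFiniteType (f.resLE V U hle) := by delta Scheme.Hom.resLE; infer_instance
  exact qa_of_locallyQuasiFinite (f.resLE V U hle)

theorem indQA_iff_qcqs (f : X ⟶ Y) :
    MoreMor.IsIndQuasiAffineHom f ↔ ∀ (V : Y.Opens), IsCompact (V : Set Y) → IsQuasiSeparated (V : Set Y) →
      ∀ (U : X.Opens) (hUV : U ≤ f ⁻¹ᵁ V), IsCompact (U : Set X) →
        MoreMor.IsQuasiAffineHom (f.resLE V U hUV) := by
  refine ⟨fun h V hV hVq U hUV hU => ?_, fun h => ?_⟩
  · haveI : CompactSpace (U : Scheme.{u}) := isCompact_iff_compactSpace.mp hU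
    haveI : QuasiSeparatedSpace (V : Scheme.{u}) :=
      (isQuasiSeparated_iff_quasiSeparatedSpace _ V.isOpen).mp hVq
    haveI : QuasiCompact (f.resLE V U hUV) := quasiCompact_of_compactSpace _
    refine ⟨inferInstance, fun W hW => ?_⟩
    haveI := (indQA_iff f).mp h _ (hW.image_of_isOpenImmersion (Scheme.Opens.ι V)) (U.ι ''ᵁ (f.resLE V U hUV ⁻¹ᵁ W))
      (((f.resLE V U hUV).isSpectralMap.isCompact_preimage_of_isOpen W.isOpen hW.isCompact).image
        U.ι.continuous) (by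
        rintro _ ⟨u, hu, rfl⟩
        refine ⟨f.resLE V U hUV u, hu, ?_⟩
        exact congrArg (fun m : (U : Scheme.{u}) ⟶ Y => m u) (f.resLE_comp_ι hUV))
    exact qa_of_iso (U.ι.isoImage _)
  · rw [indQA_iff]
    intro V hV U hU hle
    obtain ⟨-, hq⟩ := h V hV.isCompact hV.isQuasiSeparated U hle hU
    haveI : IsAffine (V : Scheme.{u}) := hV
    haveI : ((⊤ : (U : Scheme.{u}).Opens) : Scheme.{u}).IsQuasiAffine := hq ⊤ (isAffineOpen_top _)
    exact qa_of_iso ((U : Scheme.{u}).topIso.symm)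

end Groth.Agent.MorLib.IQA
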