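import Groth.Agent.MorLib.IdealFG
import Groth.Agent.ModPairLib.Basic
import Mathlib.AlgebraicGeometry.AffineTransitionLimit
import Mathlib.AlgebraicGeometry.Morphisms.FinitePresentation

/-! Finitely generated ideal sheaves: closed subschemes of finite presentation, descent. -/

set_option autoImplicit false
universe u

namespace Groth.Agent.MorLib.IdealFG

open AlgebraicGeometry CategoryTheory Limits TopologicalSpace Opposite
open Scheme (IdealSheafData)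

variable {X Y : Scheme.{u}}

/-- All affine ideals are finitely generated. -/
def IsFG (K : X.IdealSheafData) : Prop := ∀ U : X.affineOpens, (K.ideal U).FG

theorem isFG_bot : IsFG (⊥ : X.IdealSheafData) := fun _ => Submodule.fg_bot

theorem isFG_sup {K L : X.IdealSheafData} (hK : IsFG K) (hL : IsFG L) : IsFG (K ⊔ L) :=
  fun U => Submodule.FG.sup (hK U) (hL U)

/-- The finitely generated ideal sheaves contained in `I`. -/
abbrev Sub (I : X.IdealSheafData) : Type u := {K : X.IdealSheafData // K ≤ I ∧ IsFG K}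


instance (I : X.IdealSheafData) : Nonempty (Sub I) := ⟨⟨⊥, bot_le, isFG_bot⟩⟩

instance (I : X.IdealSheafData) : IsDirectedOrder (Sub I) :=
  ⟨fun K L => ⟨⟨K.1 ⊔ L.1, sup_le K.2.1 L.2.1, isFG_sup K.2.2 L.2.2⟩,
    (le_sup_left : K.1 ≤ K.1 ⊔ L.1), (le_sup_right : L.1 ≤ K.1 ⊔ L.1)⟩⟩

theorem exists_sub_mem [CompactSpace X] [QuasiSeparatedSpace X] (I : X.IdealSheafData)
    (U : X.affineOpens) {x : Γ(X, U.1)} (hx : x ∈ I.ideal U) :
    ∃ K : Sub I, x ∈ K.1.ideal U := by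
  obtain ⟨K, hK, hfg, hxK⟩ := exists_fg_le I U (Ideal.span {x}) (Submodule.fg_span_singleton x)
    ((Ideal.span_singleton_le_iff_mem _).mpr hx)
  exact ⟨⟨K, hK, hfg⟩, hxK (Ideal.mem_span_singleton_self x)⟩

theorem le_of_forall_sub [CompactSpace X] [QuasiSeparatedSpace X] {I J : X.IdealSheafData}
    (h : ∀ K : Sub I, K.1 ≤ J) : I ≤ J := by
  intro U x hx
  obtain ⟨K, hK⟩ := exists_sub_mem I U hx
  exact h K U hK

theorem finitePresentation_res {U V : X.Opens} (hU : IsAffineOpen U) (hV : IsAffineOpen V)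
    (h : V ≤ U) : (X.presheaf.map (homOfLE h).op).hom.FinitePresentation := by
  have := (𝟙 X : X ⟶ X).finitePresentation_appLE hU hV (h.trans (by simp))
  rw [Scheme.Hom.appLE, Scheme.Hom.id_app] at this
  convert! this using 2

theorem lfp_subschemeι {K : X.IdealSheafData} (hK : IsFG K) :
    LocallyOfFinitePresentation K.subschemeι := by
  refine ⟨fun {U} hU {V} hV e => ?_⟩
  rw [Scheme.Hom.appLE, CommRingCat.hom_comp]
  refine RingHom.FinitePresentation.comp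
    (finitePresentation_res (hU.preimage K.subschemeι) hV e) ?_
  exact RingHom.FinitePresentation.of_surjective _ (K.subschemeι.app_surjective U hU) (by
    rw [K.ker_subschemeι_app ⟨U, hU⟩]; exact hK _)

theorem isFG_comap {K : Y.IdealSheafData} (hK : IsFG K) (f : X ⟶ Y) : IsFG (K.comap f) := by
  intro V
  refine fg_of_cover _ V fun x hx => ?_
  obtain ⟨U, hU, hxU, -⟩ := exists_isAffineOpen_mem_and_subset (x := f x) (U := ⊤) trivial
  obtain ⟨W, hW, hxW, hWU⟩ := exists_isAffineOpen_mem_and_subset (x := x) (U := f ⁻¹ᵁ U) hxU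
  refine ⟨⟨W, hW⟩, hxW, ?_⟩
  rw [ModPairLib.ideal_comap K f ⟨U, hU⟩ ⟨W, hW⟩ hWU]
  exact (hK _).map _

theorem map_appLE_map {Z : Scheme.{u}} (f : X ⟶ Y) (g : Y ⟶ Z) (k : X ⟶ Z) (hk : f ≫ g = k)
    {U : Z.Opens} {V : Y.Opens} {W : X.Opens} (h1 : V ≤ g ⁻¹ᵁ U) (e : W ≤ f ⁻¹ᵁ V)
    (e' : W ≤ k ⁻¹ᵁ U) (a : Ideal Γ(Z, U)) :
    (a.map (g.appLE U V h1).hom).map (f.appLE V W e).hom = a.map (k.appLE U W e').hom := by
  subst hk
  rw [Ideal.map_map, ← CommRingCat.hom_comp, Scheme.Hom.appLE_comp_appLE]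

theorem appLE_appLE_apply {Z : Scheme.{u}} (f : X ⟶ Y) (g : Y ⟶ Z) (k : X ⟶ Z) (hk : f ≫ g = k)
    {U : Z.Opens} {V : Y.Opens} {W : X.Opens} (h1 : V ≤ g ⁻¹ᵁ U) (e : W ≤ f ⁻¹ᵁ V)
    (e' : W ≤ k ⁻¹ᵁ U) (t : Γ(Z, U)) :
    (f.appLE V W e).hom ((g.appLE U V h1).hom t) = (k.appLE U W e').hom t := by
  subst hk
  rw [← RingHom.comp_apply, ← CommRingCat.hom_comp, Scheme.Hom.appLE_comp_appLE]

theorem map_appLE_eq_map_app (f : X ⟶ Y) [IsAffineHom f] {U : Y.affineOpens} {V : X.affineOpens}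
    (e : V.1 ≤ f ⁻¹ᵁ U.1) (hV : f ⁻¹ᵁ U.1 = V.1) {L : X.IdealSheafData} {a : Ideal Γ(Y, U.1)}
    (h : a.map (f.appLE U.1 V.1 e).hom ≤ L.ideal V) :
    a ≤ (L.map f).ideal U := by
  obtain ⟨V, hVa⟩ := V
  dsimp only at hV
  subst hV
  rw [IdealSheafData.ideal_map_of_isAffineHom, ← Ideal.map_le_iff_le_comap]
  rwa [Scheme.Hom.appLE_eq_app] at h

section Limit

variable {I : Type u} [SmallCategory I] [IsCofiltered I] {D : I ⥤ Scheme.{u}} {c : Cone D}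

theorem exists_appLE_π_eq (hc : IsLimit c) [∀ {i j} (f : i ⟶ j), IsAffineHom (D.map f)] {i : I}
    {U : (D.obj i).Opens} (hU : IsAffineOpen U) (s : Γ(c.pt, c.π.app i ⁻¹ᵁ U)) :
    ∃ (j : I) (f : j ⟶ i) (t : Γ(D.obj j, D.map f ⁻¹ᵁ U))
      (e : c.π.app i ⁻¹ᵁ U ≤ c.π.app j ⁻¹ᵁ (D.map f ⁻¹ᵁ U)),
      (c.π.app j).appLE (D.map f ⁻¹ᵁ U) (c.π.app i ⁻¹ᵁ U) e t = s := by
  have (j : Over i) : IsAffine ((opensDiagram D i U).obj j) := hU.preimage (D.map _)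
  obtain ⟨j, t, hj⟩ := exists_appTop_π_eq_of_isAffine_of_isLimit _ _
    (isLimitOpensCone D c hc i U) ((c.π.app i ⁻¹ᵁ U).topIso.inv s)
  have e : c.π.app i ⁻¹ᵁ U ≤ c.π.app j.left ⁻¹ᵁ (D.map j.hom ⁻¹ᵁ U) := by
    rw [← Scheme.Hom.comp_preimage, c.w]
  let t' : Γ(((D.map j.hom ⁻¹ᵁ U) : Scheme.{u}), ⊤) := t
  have hj' : ((c.π.app j.left).resLE (D.map j.hom ⁻¹ᵁ U) (c.π.app i ⁻¹ᵁ U) e).appTop t' =
      (c.π.app i ⁻¹ᵁ U).topIso.inv s := hj
  refine ⟨j.left, j.hom, (D.map j.hom ⁻¹ᵁ U).topIso.hom t', e, ?_⟩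
  have h1 : ((c.π.app j.left).resLE (D.map j.hom ⁻¹ᵁ U) (c.π.app i ⁻¹ᵁ U) e).appTop ≫
      (c.π.app i ⁻¹ᵁ U).topIso.hom = (D.map j.hom ⁻¹ᵁ U).topIso.hom ≫
        (c.π.app j.left).appLE (D.map j.hom ⁻¹ᵁ U) (c.π.app i ⁻¹ᵁ U) e := by
    exact (arrowResLEAppIso (c.π.app j.left) _ _ e).hom.w.symm
  have h2 := congrArg (fun φ => φ.hom t') h1
  simp only [CommRingCat.hom_comp, RingHom.comp_apply] at h2
  rw [← h2, hj', Iso.inv_hom_id_apply]

theorem exists_finset_appLE_π_eq (hc : IsLimit c) [∀ {i j} (f : i ⟶ j), IsAffineHom (D.map f)]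
    {i : I} {U : (D.obj i).Opens} (hU : IsAffineOpen U)
    (J : Ideal Γ(c.pt, c.π.app i ⁻¹ᵁ U)) (hJ : J.FG) :
    ∃ (j : I) (f : j ⟶ i) (e : c.π.app i ⁻¹ᵁ U ≤ c.π.app j ⁻¹ᵁ (D.map f ⁻¹ᵁ U))
      (a : Ideal Γ(D.obj j, D.map f ⁻¹ᵁ U)), a.FG ∧
        a.map ((c.π.app j).appLE (D.map f ⁻¹ᵁ U) (c.π.app i ⁻¹ᵁ U) e).hom = J := by
  classical
  obtain ⟨s, rfl⟩ := hJ
  induction s using Finset.induction_on with
  | empty =>
    refine ⟨i, 𝟙 i, by simp, ⊥, Submodule.fg_bot, ?_⟩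
    simp
  | insert x s _ ih =>
    obtain ⟨j, f, e, a, ha, hae⟩ := ih
    obtain ⟨k, g, t, e', ht⟩ := exists_appLE_π_eq hc hU x
    obtain ⟨l, p, q, -⟩ := IsCofilteredOrEmpty.cone_objs j k
    obtain ⟨m, r, hr⟩ := IsCofilteredOrEmpty.cone_maps (p ≫ f) (q ≫ g)
    have h1 : D.map (r ≫ p ≫ f) ⁻¹ᵁ U ≤ D.map (r ≫ p) ⁻¹ᵁ (D.map f ⁻¹ᵁ U) := by
      rw [← Scheme.Hom.comp_preimage, ← D.map_comp, Category.assoc]
    have h2 : D.map (r ≫ p ≫ f) ⁻¹ᵁ U ≤ D.map (r ≫ q) ⁻¹ᵁ (D.map g ⁻¹ᵁ U) := by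
      rw [← Scheme.Hom.comp_preimage, ← D.map_comp, Category.assoc, hr]
    have e0 : c.π.app i ⁻¹ᵁ U ≤ c.π.app m ⁻¹ᵁ (D.map (r ≫ p ≫ f) ⁻¹ᵁ U) := by
      rw [← Scheme.Hom.comp_preimage, c.w]
    refine ⟨m, r ≫ p ≫ f, e0, a.map ((D.map (r ≫ p)).appLE _ _ h1).hom ⊔
      Ideal.span {((D.map (r ≫ q)).appLE _ _ h2).hom t},
      Submodule.FG.sup (ha.map _) (Submodule.fg_span_singleton _), ?_⟩
    rw [Finset.coe_insert]
    refine (Ideal.map_sup _ _ _).trans ?_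
    refine (congrArg₂ (· ⊔ ·) (map_appLE_map (c.π.app m) (D.map (r ≫ p)) (c.π.app j) (c.w (r ≫ p)) h1 e0 e a) ?_).trans
      ((congrArg (· ⊔ Ideal.span {x}) hae).trans ?_)
    · refine (Ideal.map_span _ _).trans ?_
      rw [Set.image_singleton]
      exact congrArg (fun y => Ideal.span {y})
        ((appLE_appLE_apply (c.π.app m) (D.map (r ≫ q)) (c.π.app k) (c.w (r ≫ q)) h2 e0 e' t).trans ht)
    · exact (sup_comm _ _).trans (Ideal.span_insert x _).symm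

/-- A finitely generated ideal sheaf on a limit comes from a finitely generated one at some stage. -/
theorem exists_comap_eq (hc : IsLimit c) [∀ {i j} (f : i ⟶ j), IsAffineHom (D.map f)]
    [∀ i, CompactSpace (D.obj i)] [∀ i, QuasiSeparatedSpace (D.obj i)] (i₀ : I)
    (J : c.pt.IdealSheafData) (hJ : IsFG J) :
    ∃ (i : I) (_ : i ⟶ i₀) (K : (D.obj i).IdealSheafData), IsFG K ∧ K.comap (c.π.app i) = J := by
  classical
  haveI : ∀ i, IsAffineHom (c.π.app i) := fun i => isAffineHom_π_app D c hc i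
  obtain ⟨s, hs, hcov⟩ := isCompact_iff_finite_and_eq_biUnion_affineOpens.mp
    (show IsCompact ((⊤ : (D.obj i₀).Opens) : Set (D.obj i₀)) from isCompact_univ)
  let V : (U : (D.obj i₀).affineOpens) → c.pt.affineOpens :=
    fun U => ⟨c.π.app i₀ ⁻¹ᵁ U.1, U.2.preimage _⟩
  have key : ∀ t : Finset (D.obj i₀).affineOpens, ∃ (i : I) (_ : i ⟶ i₀)
      (K : (D.obj i).IdealSheafData), IsFG K ∧ K.comap (c.π.app i) ≤ J ∧
        ∀ U ∈ t, J.ideal (V U) ≤ (K.comap (c.π.app i)).ideal (V U) := by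
    intro t
    induction t using Finset.induction_on with
    | empty => exact ⟨i₀, 𝟙 i₀, ⊥, isFG_bot, by simp, by simp⟩
    | insert U t _ ih =>
      obtain ⟨i, u, K, hK, hKJ, hKt⟩ := ih
      obtain ⟨j, f, e, a, ha, hae⟩ := exists_finset_appLE_π_eq hc U.2 _ (hJ (V U))
      obtain ⟨l, p, q, -⟩ := IsCofilteredOrEmpty.cone_objs i j
      obtain ⟨m, r, hr⟩ := IsCofilteredOrEmpty.cone_maps (p ≫ u) (q ≫ f)
      have h1 : D.map (r ≫ q ≫ f) ⁻¹ᵁ U.1 ≤ D.map (r ≫ q) ⁻¹ᵁ (D.map f ⁻¹ᵁ U.1) := by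
        rw [← Scheme.Hom.comp_preimage, ← D.map_comp, Category.assoc]
      have e0 : c.π.app i₀ ⁻¹ᵁ U.1 ≤ c.π.app m ⁻¹ᵁ (D.map (r ≫ q ≫ f) ⁻¹ᵁ U.1) := by
        rw [← Scheme.Hom.comp_preimage, c.w]
      let W : (D.obj m).affineOpens := ⟨D.map (r ≫ q ≫ f) ⁻¹ᵁ U.1, U.2.preimage _⟩
      have hVW : c.π.app m ⁻¹ᵁ W.1 = (V U).1 := by
        show c.π.app m ⁻¹ᵁ (D.map (r ≫ q ≫ f) ⁻¹ᵁ U.1) = _
        rw [← Scheme.Hom.comp_preimage, c.w]
      let a' : Ideal Γ(D.obj m, W.1) := a.map ((D.map (r ≫ q)).appLE _ _ h1).hom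
      have hae' : a'.map ((c.π.app m).appLE W.1 (V U).1 e0).hom = J.ideal (V U) :=
        (map_appLE_map (c.π.app m) (D.map (r ≫ q)) (c.π.app j) (c.w (r ≫ q)) h1 e0 e a).trans hae
      have haJ : a' ≤ (J.map (c.π.app m)).ideal W :=
        map_appLE_eq_map_app (c.π.app m) (U := W) (V := V U) e0 hVW hae'.le
      obtain ⟨L, hLJ, hL, haL⟩ := exists_fg_le (J.map (c.π.app m)) W a' (ha.map _) haJ
      have hKm : (K.comap (D.map (r ≫ p))).comap (c.π.app m) = K.comap (c.π.app i) := by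
        rw [← IdealSheafData.comap_comp, c.w]
      obtain ⟨K', hK'1, hK'2, hK'3⟩ : ∃ K' : (D.obj m).IdealSheafData,
          K' ≤ K.comap (D.map (r ≫ p)) ∧ IsFG K' ∧
            K.comap (c.π.app i) ≤ K'.comap (c.π.app m) :=
        ⟨_, le_rfl, isFG_comap hK _, hKm.ge⟩
      refine ⟨m, r ≫ q ≫ f ≫ 𝟙 i₀, K' ⊔ L, isFG_sup hK'2 hL, ?_, ?_⟩
      · rw [IdealSheafData.comap_sup]
        refine sup_le ((IdealSheafData.comap_mono _ hK'1).trans (hKm.le.trans hKJ)) ?_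
        exact IdealSheafData.le_map_iff_comap_le.mp hLJ
      · intro U' hU'
        rw [IdealSheafData.comap_sup]
        rcases Finset.mem_insert.mp hU' with rfl | hU'
        · refine le_trans ?_ (le_sup_right : (L.comap (c.π.app m)).ideal (V U') ≤ _)
          exact hae'.ge.trans ((Ideal.map_mono haL).trans
            (ModPairLib.ideal_comap L (c.π.app m) W (V U') e0).ge)
        · exact (hKt U' hU').trans (le_trans (hK'3 (V U')) le_sup_left)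
  obtain ⟨i, u, K, hK, hKJ, hKt⟩ := key hs.toFinset
  refine ⟨i, u, K, hK, hKJ.antisymm (IdealSheafData.le_of_iSup_eq_top
    (fun U : hs.toFinset => V U.1) (top_le_iff.mp fun x _ => ?_) fun U => hKt U.1 U.2)⟩
  have hx : c.π.app i₀ x ∈ (⊤ : (D.obj i₀).Opens) := trivial
  rw [hcov] at hx
  obtain ⟨O, hx⟩ := Opens.mem_iSup.mp hx
  obtain ⟨hO, hxO⟩ := Opens.mem_iSup.mp hx
  exact Opens.mem_iSup.mpr ⟨⟨O, hs.mem_toFinset.mpr hO⟩, hxO⟩

end Limit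

end Groth.Agent.MorLib.IdealFG
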