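import Groth.Agent.MorLib.IdealFG2
import Mathlib.CategoryTheory.Comma.Over.Basic

/-! A closed subscheme of a qcqs scheme is the limit of finitely presented closed subschemes. -/

set_option autoImplicit false
universe u

namespace Groth.Agent.MorLib.IdealFG

open AlgebraicGeometry CategoryTheory Limits TopologicalSpace Opposite
open Scheme (IdealSheafData)

variable {Y S : Scheme.{u}} (g : Y ⟶ S) (I : Y.IdealSheafData)

/-- The diagram of finitely presented closed subschemes containing the one cut out by `I`. -/
noncomputable def subDiagram : (Sub I)ᵒᵖ ⥤ Over S where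
  obj K := Over.mk (K.unop.1.subschemeι ≫ g)
  map {K L} h := Over.homMk (IdealSheafData.inclusion (show L.unop.1 ≤ K.unop.1 from h.unop.le))
    (by simp)
  map_id K := by ext : 1; simp [IdealSheafData.inclusion_id]
  map_comp h h' := by ext : 1; simp [IdealSheafData.inclusion_comp]

/-- The cone given by the closed subscheme of `I`. -/
noncomputable def subCone : Cone (subDiagram g I) where
  pt := Over.mk (I.subschemeι ≫ g)
  π :=
  { app := fun K => Over.homMk (IdealSheafData.inclusion K.unop.2.1) (by simp [subDiagram])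
    naturality := fun K L h => by
      ext : 1
      simp [subDiagram, IdealSheafData.inclusion_comp] }

theorem exists_lift [CompactSpace Y] [QuasiSeparatedSpace Y] {T : Scheme.{u}}
    (x : ∀ K : Sub I, T ⟶ K.1.subscheme)
    (hx : ∀ (K L : Sub I) (h : L.1 ≤ K.1), x K ≫ IdealSheafData.inclusion h = x L) :
    ∃ m : T ⟶ I.subscheme, ∀ K : Sub I, m ≫ IdealSheafData.inclusion K.2.1 = x K := by
  let b : Sub I := ⟨⊥, bot_le, isFG_bot⟩
  have key : ∀ K : Sub I, x K ≫ K.1.subschemeι = x b ≫ b.1.subschemeι := fun K => by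
    rw [← hx K b bot_le, Category.assoc, IdealSheafData.inclusion_subschemeι]
  have hle : I ≤ (x b ≫ b.1.subschemeι).ker := le_of_forall_sub fun K => by
    rw [← key K]
    exact le_trans (le_of_eq K.1.ker_subschemeι.symm) (Scheme.Hom.le_ker_comp _ _)
  refine ⟨IsClosedImmersion.lift I.subschemeι (x b ≫ b.1.subschemeι)
    (I.ker_subschemeι.le.trans hle), fun K => ?_⟩
  rw [← cancel_mono K.1.subschemeι, Category.assoc, IdealSheafData.inclusion_subschemeι,
    IsClosedImmersion.lift_fac, key K]

theorem hom_ext_sub {T : Scheme.{u}} {m m' : T ⟶ I.subscheme}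
    (h : ∀ K : Sub I, m ≫ IdealSheafData.inclusion K.2.1 = m' ≫ IdealSheafData.inclusion K.2.1) :
    m = m' := by
  let b : Sub I := ⟨⊥, bot_le, isFG_bot⟩
  rw [← cancel_mono I.subschemeι, ← IdealSheafData.inclusion_subschemeι b.2.1,
    ← Category.assoc, ← Category.assoc, h b]

/-- The closed subscheme of `I` is the limit of the finitely presented ones containing it. -/
noncomputable def isLimitSubCone [CompactSpace Y] [QuasiSeparatedSpace Y] :
    IsLimit (subCone g I) := by
  let x (s : Cone (subDiagram g I)) : ∀ K : Sub I, s.pt.left ⟶ K.1.subscheme :=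
    fun K => (s.π.app (op K)).left
  have hx : ∀ (s : Cone (subDiagram g I)) (K L : Sub I) (h : L.1 ≤ K.1),
      x s K ≫ IdealSheafData.inclusion h = x s L := fun s K L h =>
    congrArg CommaMorphism.left (s.w (j := op K) (j' := op L) (homOfLE (show L ≤ K from h)).op)
  refine IsLimit.mk (fun s => Over.homMk (exists_lift I (x s) (hx s)).choose ?_) ?_ ?_
  · let b : Sub I := ⟨⊥, bot_le, isFG_bot⟩
    have h1 := (exists_lift I (x s) (hx s)).choose_spec b
    have h2 : x s b ≫ b.1.subschemeι ≫ g = s.pt.hom := Over.w (s.π.app (op b))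
    show _ ≫ I.subschemeι ≫ g = _
    rw [← h2, ← h1, Category.assoc, IdealSheafData.inclusion_subschemeι_assoc]
  · exact fun s K => Over.OverMorphism.ext ((exists_lift I (x s) (hx s)).choose_spec K.unop)
  · intro s m hm
    refine Over.OverMorphism.ext (hom_ext_sub I fun K => ?_)
    exact (congrArg CommaMorphism.left (hm (op K))).trans
      ((exists_lift I (x s) (hx s)).choose_spec K).symm

theorem isClosedImmersion_map {K L : (Sub I)ᵒᵖ} (h : K ⟶ L) :
    IsClosedImmersion ((subDiagram g I).map h).left := by
  have : IsClosedImmersion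
      (IdealSheafData.inclusion (show L.unop.1 ≤ K.unop.1 from h.unop.le) ≫ L.unop.1.subschemeι) := by
    rw [IdealSheafData.inclusion_subschemeι]; infer_instance
  exact IsClosedImmersion.of_comp
    (IdealSheafData.inclusion (show L.unop.1 ≤ K.unop.1 from h.unop.le)) L.unop.1.subschemeι

theorem exists_lfp_closedImmersion [CompactSpace Y] [QuasiSeparatedSpace Y] {X : Scheme.{u}}
    (i : X ⟶ Y) [IsClosedImmersion i] (V : Y.affineOpens) (a : Ideal Γ(Y, V.1)) (ha : a.FG)
    (hai : a ≤ i.ker.ideal V) :
    ∃ (K : Sub i.ker), a ≤ K.1.ideal V := by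
  obtain ⟨K, hK, hfg, haK⟩ := exists_fg_le i.ker V a ha hai
  exact ⟨⟨K, hK, hfg⟩, haK⟩

end Groth.Agent.MorLib.IdealFG
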