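import Mathlib.AlgebraicGeometry.PullbackCarrier
import Mathlib.AlgebraicGeometry.Morphisms.FiniteType
import Mathlib.RingTheory.Adjoin.FG

/-! Reflecting specialisations can be tested on base changes locally of finite type. -/

set_option autoImplicit false
universe u

namespace Groth.Agent.MorLib.SpecLFT

open AlgebraicGeometry CategoryTheory Limits TensorProduct

variable {X Y : Scheme.{u}}

theorem exists_fg_mem_range {R B A : Type u} [CommRing R] [CommRing B] [CommRing A] [Algebra R B] [Algebra R A]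
    (s : B ⊗[R] A) : ∃ C : Subalgebra R A, C.FG ∧
      ∃ c, Algebra.TensorProduct.map (AlgHom.id R B) C.val c = s := by
  induction s using TensorProduct.induction_on with
  | zero => exact ⟨⊥, Subalgebra.fg_bot, 0, map_zero _⟩
  | tmul b a =>
    exact ⟨Algebra.adjoin R {a}, ⟨{a}, by simp⟩, b ⊗ₜ ⟨a, Algebra.subset_adjoin rfl⟩, by simp⟩
  | add x y hx hy =>
    obtain ⟨C₁, h₁, c₁, hc₁⟩ := hx
    obtain ⟨C₂, h₂, c₂, hc₂⟩ := hy
    refine ⟨C₁ ⊔ C₂, h₁.sup h₂,
      Algebra.TensorProduct.map (AlgHom.id R B) (Subalgebra.inclusion le_sup_left) c₁ +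
        Algebra.TensorProduct.map (AlgHom.id R B) (Subalgebra.inclusion le_sup_right) c₂, ?_⟩
    rw [map_add, ← AlgHom.comp_apply, ← AlgHom.comp_apply, ← Algebra.TensorProduct.map_comp,
      ← Algebra.TensorProduct.map_comp, AlgHom.id_comp]
    exact congr_arg₂ (· + ·) hc₁ hc₂

section chart

variable (f : Y ⟶ X) {R B : Type u} [CommRing R] [CommRing B] [Algebra R B] (j : Spec (.of R) ⟶ X)
  (w : Spec (.of B) ⟶ Y) (hw : Spec.map (CommRingCat.ofHom (algebraMap R B)) ≫ j = w ≫ f)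
  (A : Type u) [CommRing A] [Algebra R A]

noncomputable def chart : Spec (.of (B ⊗[R] A)) ⟶
    pullback f (Spec.map (CommRingCat.ofHom (algebraMap R A)) ≫ j) :=
  (pullbackSpecIso R B A).inv ≫ pullback.map _ _ _ _ w (𝟙 _) j hw (by rw [Category.id_comp])

theorem chart_fst : chart f j w hw A ≫ pullback.fst _ _ =
    Spec.map (CommRingCat.ofHom Algebra.TensorProduct.includeLeftRingHom) ≫ w := by
  rw [chart, Category.assoc, pullback.lift_fst, pullbackSpecIso_inv_fst_assoc]

theorem chart_snd : chart f j w hw A ≫ pullback.snd _ _ =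
    Spec.map (CommRingCat.ofHom (Algebra.TensorProduct.includeRight (R := R) (A := B) (B := A)).toRingHom) := by
  rw [chart, Category.assoc, pullback.lift_snd, Category.comp_id, pullbackSpecIso_inv_snd]
  rfl

theorem range_chart [Mono j] : Set.range (chart f j w hw A) =
    pullback.fst f (Spec.map (CommRingCat.ofHom (algebraMap R A)) ≫ j) ⁻¹' Set.range w := by
  rw [chart, Scheme.Hom.comp_base, TopCat.coe_comp,
    (pullbackSpecIso R B A).inv.surjective.range_comp, Scheme.Pullback.range_map]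
  simp

theorem chart_natural {A' : Type u} [CommRing A'] [Algebra R A'] (α : A' →ₐ[R] A)
    (e : Spec.map (CommRingCat.ofHom (algebraMap R A)) ≫ j ≫ 𝟙 X =
      Spec.map (CommRingCat.ofHom α.toRingHom) ≫ Spec.map (CommRingCat.ofHom (algebraMap R A')) ≫ j) :
    chart f j w hw A ≫ pullback.map _ _ _ _ (𝟙 Y) (Spec.map (CommRingCat.ofHom α.toRingHom)) (𝟙 X)
        (by simp) (by rw [Category.assoc]; exact e) =
      Spec.map (CommRingCat.ofHom (Algebra.TensorProduct.map (AlgHom.id R B) α).toRingHom) ≫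
        chart f j w hw A' := by
  apply pullback.hom_ext
  · rw [Category.assoc, pullback.lift_fst, Category.comp_id, chart_fst, Category.assoc, chart_fst,
      ← Spec.map_comp_assoc]
    congr 2
    ext b
    simp
  · rw [Category.assoc, pullback.lift_snd, Category.assoc, chart_snd, ← Category.assoc, chart_snd,
      ← Spec.map_comp, ← Spec.map_comp]
    congr 1

theorem isOpenImmersion_chart [IsOpenImmersion j] [IsOpenImmersion w] :
    IsOpenImmersion (chart f j w hw A) := by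
  rw [chart]
  infer_instance

end chart

theorem specializes_of_lft_affine (f : Y ⟶ X)
    (H : ∀ (X' : Scheme.{u}) (g : X' ⟶ X) [LocallyOfFiniteType g] (y₀ y₁ : ↥(pullback f g)),
      pullback.snd f g y₁ ⤳ pullback.snd f g y₀ → y₁ ⤳ y₀)
    {R A : Type u} [CommRing R] [CommRing A] [Algebra R A] (j : Spec (.of R) ⟶ X) [IsOpenImmersion j]
    (y₀ y₁ : ↥(pullback f (Spec.map (CommRingCat.ofHom (algebraMap R A)) ≫ j)))
    (hsp : pullback.snd f (Spec.map (CommRingCat.ofHom (algebraMap R A)) ≫ j) y₁ ⤳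
      pullback.snd f (Spec.map (CommRingCat.ofHom (algebraMap R A)) ≫ j) y₀) : y₁ ⤳ y₀ := by
  let s := Spec.map (CommRingCat.ofHom (algebraMap R A))
  let π := pullback.map f (s ≫ j) f j (𝟙 Y) s (𝟙 X) (by simp) (by simp)
  have hπ : π y₁ ⤳ π y₀ := by
    refine H _ j _ _ ?_
    rw [← Scheme.Hom.comp_apply, ← Scheme.Hom.comp_apply, pullback.lift_snd, Scheme.Hom.comp_apply,
      Scheme.Hom.comp_apply]
    exact hsp.map s.continuous
  have hfst : pullback.fst f (s ≫ j) y₁ ⤳ pullback.fst f (s ≫ j) y₀ := by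
    have h1 := hπ.map (pullback.fst f j).continuous
    rwa [← Scheme.Hom.comp_apply, ← Scheme.Hom.comp_apply, pullback.lift_fst, Category.comp_id] at h1
  obtain ⟨W, hW, hyW, hWsub⟩ := exists_isAffineOpen_mem_and_subset (x := pullback.fst f (s ≫ j) y₀)
    (U := f ⁻¹ᵁ j.opensRange) (by
      show f _ ∈ j.opensRange
      rw [← Scheme.Hom.comp_apply, pullback.condition, ← Category.assoc, Scheme.Hom.comp_apply]
      exact ⟨_, rfl⟩)
  have hyW₁ := hfst.mem_open W.2 hyW
  let ψ : CommRingCat.of R ⟶ Γ(Y, W) := Spec.preimage (IsOpenImmersion.lift j (hW.fromSpec ≫ f) (by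
    rintro _ ⟨p, rfl⟩
    have : hW.fromSpec p ∈ W := by show _ ∈ (W : Set Y); rw [← hW.range_fromSpec]; exact ⟨p, rfl⟩
    exact hWsub this))
  letI : Algebra R Γ(Y, W) := ψ.hom.toAlgebra
  have hw : Spec.map (CommRingCat.ofHom (algebraMap R Γ(Y, W))) ≫ j = hW.fromSpec ≫ f := by
    show Spec.map ψ ≫ j = _
    rw [Spec.map_preimage, IsOpenImmersion.lift_fac]
  have hr : ∀ y, pullback.fst f (s ≫ j) y ∈ W → y ∈ Set.range (chart f j hW.fromSpec hw A) := fun y hy => by
    rw [range_chart]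
    show _ ∈ Set.range hW.fromSpec
    rw [hW.range_fromSpec]
    exact hy
  obtain ⟨q₀, rfl⟩ := hr y₀ hyW
  obtain ⟨q₁, rfl⟩ := hr y₁ hyW₁
  refine Specializes.map ?_ (chart f j hW.fromSpec hw A).continuous
  refine (PrimeSpectrum.le_iff_specializes q₁ q₀).mp fun t ht => ?_
  obtain ⟨C, hC, c, rfl⟩ := exists_fg_mem_range (R := R) (B := Γ(Y, W)) (A := A) t
  haveI : Algebra.FiniteType R C := C.fg_iff_finiteType.mp hC
  haveI : LocallyOfFiniteType (Spec.map (CommRingCat.ofHom (algebraMap R C))) :=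
    (HasRingHomProperty.Spec_iff (P := @LocallyOfFiniteType)).mpr (RingHom.finiteType_algebraMap.mpr ‹_›)
  have e : s ≫ j ≫ 𝟙 X =
      Spec.map (CommRingCat.ofHom C.val.toRingHom) ≫ Spec.map (CommRingCat.ofHom (algebraMap R C)) ≫ j := by
    rw [Category.comp_id, ← Spec.map_comp_assoc]
    congr 2
  have hnat := chart_natural f j hW.fromSpec hw A C.val e
  let π' := pullback.map f (s ≫ j) f (Spec.map (CommRingCat.ofHom (algebraMap R C)) ≫ j) (𝟙 Y)
    (Spec.map (CommRingCat.ofHom C.val.toRingHom)) (𝟙 X) (by simp) (by rw [Category.assoc]; exact e)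
  have h1 : π' (chart f j hW.fromSpec hw A q₁) ⤳ π' (chart f j hW.fromSpec hw A q₀) := by
    refine H _ _ _ _ ?_
    rw [← Scheme.Hom.comp_apply π', ← Scheme.Hom.comp_apply π', pullback.lift_snd, Scheme.Hom.comp_apply,
      Scheme.Hom.comp_apply]
    exact hsp.map (Spec.map (CommRingCat.ofHom C.val.toRingHom)).continuous
  rw [← Scheme.Hom.comp_apply, ← Scheme.Hom.comp_apply, hnat, Scheme.Hom.comp_apply, Scheme.Hom.comp_apply] at h1
  haveI := isOpenImmersion_chart f j hW.fromSpec hw C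
  have h2 := (chart f j hW.fromSpec hw C).isOpenEmbedding.toIsEmbedding.isInducing.specializes_iff.mp h1
  exact ((PrimeSpectrum.le_iff_specializes _ _).mpr h2) ht

theorem specializes_of_lft (f : Y ⟶ X)
    (H : ∀ (X' : Scheme.{u}) (g : X' ⟶ X) [LocallyOfFiniteType g] (y₀ y₁ : ↥(pullback f g)),
      pullback.snd f g y₁ ⤳ pullback.snd f g y₀ → y₁ ⤳ y₀)
    {X' : Scheme.{u}} (g : X' ⟶ X) (y₀ y₁ : ↥(pullback f g))
    (hsp : pullback.snd f g y₁ ⤳ pullback.snd f g y₀) : y₁ ⤳ y₀ := by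
  obtain ⟨V, hV, hxV, -⟩ := exists_isAffineOpen_mem_and_subset (x := g (pullback.snd f g y₀)) (U := ⊤) trivial
  obtain ⟨U, hU, hxU, e⟩ := exists_isAffineOpen_mem_and_subset (x := pullback.snd f g y₀) (U := g ⁻¹ᵁ V) hxV
  letI : Algebra Γ(X, V) Γ(X', U) := (g.appLE V U e).hom.toAlgebra
  have hfac : (Spec.map (CommRingCat.ofHom (algebraMap Γ(X, V) Γ(X', U))) ≫ hV.fromSpec) ≫ 𝟙 X =
      hU.fromSpec ≫ g := by
    rw [Category.comp_id]
    exact hV.SpecMap_appLE_fromSpec g hU e
  let m := pullback.map f (Spec.map (CommRingCat.ofHom (algebraMap Γ(X, V) Γ(X', U))) ≫ hV.fromSpec) f g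
    (𝟙 Y) hU.fromSpec (𝟙 X) (by simp) hfac
  have hr : ∀ y, pullback.snd f g y ∈ U → y ∈ Set.range m := fun y hy => by
    rw [Scheme.Pullback.range_map]
    refine ⟨by simp, ?_⟩
    show _ ∈ Set.range hU.fromSpec
    rw [hU.range_fromSpec]
    exact hy
  obtain ⟨z₀, rfl⟩ := hr y₀ hxU
  obtain ⟨z₁, rfl⟩ := hr y₁ (hsp.mem_open U.2 hxU)
  refine Specializes.map (specializes_of_lft_affine f H hV.fromSpec z₀ z₁ ?_) m.continuous
  rw [← Scheme.Hom.comp_apply m, ← Scheme.Hom.comp_apply m, pullback.lift_snd, Scheme.Hom.comp_apply,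
    Scheme.Hom.comp_apply] at hsp
  exact hU.fromSpec.isOpenEmbedding.toIsEmbedding.isInducing.specializes_iff.mp hsp

end Groth.Agent.MorLib.SpecLFT
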