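import Groth.Agent.MorLib.BaseChangeLim

/-! Points of limits of schemes. -/

set_option autoImplicit false
universe u

namespace Groth.Agent.MorLib.LimPts

open AlgebraicGeometry CategoryTheory Limits TopologicalSpace

variable {I : Type u} [SmallCategory I] [IsCofiltered I] {D : I ⥤ Scheme.{u}} {c : Cone D}
  (hc : IsLimit c) [∀ {i j : I} (f : i ⟶ j), IsAffineHom (D.map f)] {i : I}
include hc

theorem mem_range_π (x : D.obj i) (h : ∀ (j : I) (φ : j ⟶ i), x ∈ Set.range (D.map φ)) :
    x ∈ Set.range (c.π.app i) := by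
  let a := (D.obj i).fromSpecResidueField x
  have hX := IsPullback.of_hasPullback a (c.π.app i)
  haveI : ∀ j, Nonempty ((BC.diag D a).obj j) := fun j => by
    obtain ⟨y, hy⟩ := h j.left j.hom
    let p : Spec ((D.obj i).residueField x) := IsLocalRing.closedPoint _
    obtain ⟨z, -, -⟩ := Scheme.Pullback.exists_preimage_pullback (f := a) (g := D.map j.hom) p y
      ((Scheme.fromSpecResidueField_apply x p).trans hy.symm)
    exact ⟨z⟩
  haveI : ∀ {j k : Over i} (f : j ⟶ k), IsAffineHom ((BC.diag D a).map f) := fun f => BC.isAffineHom_map D a f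
  obtain ⟨z⟩ := Scheme.nonempty_of_isLimit (BC.diag D a) (BC.cone D a hX) (BC.isLimitCone D a hX hc)
  let z' : ↥(pullback a (c.π.app i)) := z
  refine ⟨pullback.snd a (c.π.app i) z', ?_⟩
  show (pullback.snd a (c.π.app i) ≫ c.π.app i) z' = x
  rw [← pullback.condition, Scheme.Hom.comp_apply]
  exact Scheme.fromSpecResidueField_apply x _

theorem range_π : Set.range (c.π.app i) = ⋂ (j : I) (φ : j ⟶ i), Set.range (D.map φ) := by
  refine Set.Subset.antisymm ?_ fun x hx => mem_range_π hc x fun j φ => ?_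
  · rintro _ ⟨s, rfl⟩
    refine Set.mem_iInter₂.mpr fun j φ => ⟨c.π.app j s, ?_⟩
    rw [← Scheme.Hom.comp_apply, c.w]
  · exact Set.mem_iInter₂.mp hx j φ

theorem surjective_π_iff : Surjective (c.π.app i) ↔ ∀ (j : I) (φ : j ⟶ i), Surjective (D.map φ) := by
  refine ⟨fun h j φ => ⟨fun x => ?_⟩, fun h => ⟨fun x => mem_range_π hc x fun j φ => (h j φ).surj x⟩⟩
  obtain ⟨s, hs⟩ := h.surj x
  exact ⟨c.π.app j s, by rw [← Scheme.Hom.comp_apply, c.w]; exact hs⟩

theorem isDominant_π_iff : IsDominant (c.π.app i) ↔ ∀ (j : I) (φ : j ⟶ i), IsDominant (D.map φ) := by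
  refine ⟨fun h j φ => ⟨h.denseRange.mono ?_⟩, fun h => ⟨fun x => ?_⟩⟩
  · rintro _ ⟨s, rfl⟩
    exact ⟨c.π.app j s, by rw [← Scheme.Hom.comp_apply, c.w]⟩
  rw [mem_closure_iff]
  intro o ho hxo
  obtain ⟨V, hV, hxV, hVo⟩ := exists_isAffineOpen_mem_and_subset (x := x) (U := ⟨o, ho⟩) hxo
  haveI : ∀ j, CompactSpace ((opensDiagram D i V).obj j) := fun j =>
    isCompact_iff_compactSpace.mp ((hV.preimage (D.map j.hom)).isCompact)
  haveI : ∀ j, Nonempty ((opensDiagram D i V).obj j) := fun j => by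
    obtain ⟨_, hy, y, rfl⟩ := mem_closure_iff.mp ((h j.left j.hom).denseRange x) V V.2 hxV
    exact ⟨⟨y, hy⟩⟩
  obtain ⟨s⟩ := Scheme.nonempty_of_isLimit (opensDiagram D i V) (opensCone D c i V)
    (isLimitOpensCone D c hc i V)
  exact ⟨c.π.app i s.1, hVo s.2, s.1, rfl⟩

set_option backward.isDefEq.respectTransparency.types false in
theorem not_isReduced (h : ¬ IsReduced c.pt) :
    ∃ (i : I), ∀ (j : I) (_ : j ⟶ i), ¬ IsReduced (D.obj j) := by
  classical
  obtain ⟨i⟩ := IsCofiltered.nonempty (C := I)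
  by_contra hcon
  push_neg at hcon
  refine h ?_
  haveI := isAffineHom_π_app D c hc i
  have hstalk : ∀ s : c.pt, _root_.IsReduced (c.pt.presheaf.stalk s) := by
    intro s
    obtain ⟨V, hV, hsV, -⟩ := exists_isAffineOpen_mem_and_subset (x := c.π.app i s) (U := ⊤) trivial
    haveI : IsAffine (c.π.app i ⁻¹ᵁ V : Scheme.{u}) := hV.preimage (c.π.app i)
    haveI : ∀ j, IsAffine ((opensDiagram D i V).obj j) := fun j => hV.preimage (D.map j.hom)
    haveI : IsAffine (opensCone D c i V).pt := ‹IsAffine (c.π.app i ⁻¹ᵁ V : Scheme.{u})›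
    haveI : _root_.IsReduced Γ((opensCone D c i V).pt, ⊤) := by
      refine ⟨fun a ⟨n, hn⟩ => ?_⟩
      obtain ⟨j, b, hb⟩ := exists_appTop_π_eq_of_isAffine_of_isLimit (opensDiagram D i V)
        (opensCone D c i V) (isLimitOpensCone D c hc i V) a
      obtain ⟨k, g, hk⟩ := exists_appTop_map_eq_zero_of_isLimit (opensDiagram D i V)
        (opensCone D c i V) (isLimitOpensCone D c hc i V) (i := j) (b ^ n)
        (by rw [map_pow, hb, hn])
      obtain ⟨l, g', hl⟩ := hcon k.left
      haveI := hl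
      let m : Over i := Over.mk (g' ≫ k.hom)
      let g'' : m ⟶ k := Over.homMk g' rfl
      haveI : IsReduced (D.obj m.left) := hl
      haveI : IsReduced ((opensDiagram D i V).obj m) :=
        inferInstanceAs (IsReduced (D.map m.hom ⁻¹ᵁ V : Scheme.{u}))
      have hz : ((opensDiagram D i V).map (g'' ≫ g)).appTop b = 0 := by
        refine IsReduced.eq_zero _ ⟨n, ?_⟩
        rw [← map_pow, Functor.map_comp, Scheme.Hom.comp_appTop]
        show ((opensDiagram D i V).map g'').appTop (((opensDiagram D i V).map g).appTop (b ^ n)) = 0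
        rw [hk, map_zero]
      rw [← hb, ← (opensCone D c i V).w (g'' ≫ g), Scheme.Hom.comp_appTop]
      show ((opensCone D c i V).π.app m).appTop (((opensDiagram D i V).map (g'' ≫ g)).appTop b) = 0
      rw [hz, map_zero]
    haveI : IsReduced (c.π.app i ⁻¹ᵁ V : Scheme.{u}) := by
      haveI : _root_.IsReduced Γ((c.π.app i ⁻¹ᵁ V : Scheme.{u}), ⊤) :=
        ‹_root_.IsReduced Γ((opensCone D c i V).pt, ⊤)›
      exact isReduced_of_isAffine_isReduced _
    exact isReduced_of_injective _ (asIso ((c.π.app i ⁻¹ᵁ V).ι.stalkMap ⟨s, hsV⟩)).commRingCatIsoToRingEquiv.injective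
  exact isReduced_of_isReduced_stalk c.pt

end Groth.Agent.MorLib.LimPts
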