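import Groth.Agent.MorLib.LimSpace
import Groth.Agent.MorLib.LimPoints

/-! Maximal points of cofiltered limits with affine transition maps. -/

set_option autoImplicit false
universe u

namespace Groth.Agent.MorLib.LimMax

open AlgebraicGeometry CategoryTheory Limits TopologicalSpace Topology

/-- A point with no proper generization. -/
abbrev IsMax {X : Scheme.{u}} (s : X) : Prop := ∀ z : X, z ⤳ s → z = s

theorem exists_isMax_specializes {X : Scheme.{u}} (x : X) : ∃ g : X, IsMax g ∧ g ⤳ x := by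
  have hC : IsIrreducible (irreducibleComponent x) := isIrreducible_irreducibleComponent
  obtain ⟨g, hg⟩ := QuasiSober.sober hC isClosed_irreducibleComponent
  refine ⟨g, fun z hz => ?_, hg.specializes mem_irreducibleComponent⟩
  have h1 : irreducibleComponent x ⊆ closure {z} := by
    rw [← hg.def]; exact closure_minimal (Set.singleton_subset_iff.mpr hz.mem_closure) isClosed_closure
  have h2 : closure {z} = irreducibleComponent x :=
    ((irreducibleComponent_mem_irreducibleComponents x).2 (isIrreducible_singleton.closure) h1).antisymm h1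
  exact (show IsGenericPoint z (irreducibleComponent x) from h2).eq hg

theorem dense_of_isMax {X : Scheme.{u}} {V : Set X} (h : ∀ s : X, IsMax s → s ∈ V) : Dense V := by
  intro x
  obtain ⟨g, hg, hgx⟩ := exists_isMax_specializes x
  exact closure_mono (Set.singleton_subset_iff.mpr (h g hg)) hgx.mem_closure

theorem isMax_mem_of_dense {X : Scheme.{u}} (hfin : {s : X | IsMax s}.Finite) {V : X.Opens}
    (hV : Dense (V : Set X)) {m : X} (hm : IsMax m) : m ∈ V := by
  let N : Set X := (⋃ g ∈ {s : X | IsMax s} \ {m}, closure {g})ᶜ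
  have hN : IsOpen N :=
    (hfin.sdiff.isClosed_biUnion fun g _ => isClosed_closure).isOpen_compl
  have hmN : m ∈ N := by
    simp only [N, Set.mem_compl_iff, Set.mem_iUnion, not_exists]
    intro g hg hcl
    exact hg.2 (hm g (specializes_iff_mem_closure.mpr hcl))
  obtain ⟨y, hyN, hyV⟩ := hV.inter_open_nonempty N hN ⟨m, hmN⟩
  obtain ⟨g, hg, hgy⟩ := exists_isMax_specializes y
  by_cases e : g = m
  · exact e ▸ hgy.mem_open V.2 hyV
  · have hg' : g ∈ {s : X | IsMax s} \ {m} := ⟨hg, e⟩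
    exact absurd (Set.mem_biUnion (t := fun g => closure {g}) hg' hgy.mem_closure) hyN

variable {I : Type u} [SmallCategory I] [IsCofiltered I] {D : I ⥤ Scheme.{u}} {c : Cone D}
  (hc : IsLimit c) [∀ {i j : I} (f : i ⟶ j), IsAffineHom (D.map f)]
include hc

theorem specializes_iff (s t : c.pt) : t ⤳ s ↔ ∀ j, c.π.app j t ⤳ c.π.app j s := by
  refine ⟨fun h j => h.map (c.π.app j).continuous, fun h => ?_⟩
  refine specializes_iff_forall_open.mpr fun U hU hs => ?_
  obtain ⟨i⟩ := IsCofiltered.nonempty (C := I)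
  obtain ⟨j, _, V, -, hsV, hVU⟩ := LimTop.exists_basic hc i hU hs
  exact hVU ((h j).mem_open V.2 hsV)

/-- A compatible choice of points in finite nonempty sets gives a point of the limit. -/
theorem exists_point_mem (M : ∀ j, Set (D.obj j)) (hfin : ∀ j, (M j).Finite)
    (hne : ∀ j, (M j).Nonempty) (hmap : ∀ {a b : I} (f : a ⟶ b) (x : D.obj a), x ∈ M a → D.map f x ∈ M b) :
    ∃ t : c.pt, ∀ j, c.π.app j t ∈ M j := by
  let F : I ⥤ Type u :=
    { obj := fun j => M j
      map := fun {a b} f => ↾fun x => ⟨D.map f x.1, hmap f x.1 x.2⟩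
      map_id := fun a => by ext x; simp
      map_comp := fun f g => by ext x; simp }
  haveI : ∀ j, Finite (F.obj j) := fun j => (hfin j).to_subtype
  haveI : ∀ j, Nonempty (F.obj j) := fun j => (hne j).to_subtype
  obtain ⟨σ, hσ⟩ := nonempty_sections_of_finite_cofiltered_system F
  obtain ⟨t, ht⟩ := LimSpace.exists_point hc (fun j => (σ j).1) (fun f => congrArg Subtype.val (hσ f))
  exact ⟨t, fun j => by rw [ht]; exact (σ j).2⟩

theorem isMax_iff (hfin : ∀ i : I, {s : ↥(D.obj i) | IsMax s}.Finite)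
    (hsys : ∀ (i j : I) (g : i ⟶ j) (s : ↥(D.obj i)), IsMax s → IsMax (D.map g s)) (s : c.pt) :
    IsMax s ↔ ∀ i, IsMax (c.π.app i s) := by
  refine ⟨fun hs i => ?_, fun h z hz => LimSpace.point_ext hc fun j => h j _ (hz.map (c.π.app j).continuous)⟩
  obtain ⟨t, ht⟩ := exists_point_mem hc (fun j => {z : D.obj j | IsMax z ∧ z ⤳ c.π.app j s})
    (fun j => (hfin j).subset fun z hz => hz.1) (fun j => exists_isMax_specializes _)
    (fun {a b} f x hx => ⟨hsys a b f x hx.1, by
      rw [← LimTop.π_apply f s]; exact hx.2.map (D.map f).continuous⟩)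
  have hts : t = s := hs t ((specializes_iff hc s t).mpr fun j => (ht j).2)
  exact hts ▸ (ht i).1

theorem dense_of_dense_stage (hfin : ∀ i : I, {s : ↥(D.obj i) | IsMax s}.Finite)
    (hsys : ∀ (i j : I) (g : i ⟶ j) (s : ↥(D.obj i)), IsMax s → IsMax (D.map g s))
    (i₀ : I) (V₀ : (D.obj i₀).Opens) (hV : Dense (V₀ : Set (D.obj i₀))) :
    (∀ (i : I) (g : i ⟶ i₀), Dense (((D.map g) ⁻¹ᵁ V₀ : (D.obj i).Opens) : Set ↥(D.obj i))) ∧
      Dense (((c.π.app i₀) ⁻¹ᵁ V₀ : c.pt.Opens) : Set ↥c.pt) :=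
  ⟨fun i g => dense_of_isMax fun s hs => isMax_mem_of_dense (hfin i₀) hV (hsys i i₀ g s hs),
    dense_of_isMax fun s hs => isMax_mem_of_dense (hfin i₀) hV ((isMax_iff hc hfin hsys s).mp hs i₀)⟩

theorem exists_dense_stage (hfin : ∀ i : I, {s : ↥(D.obj i) | IsMax s}.Finite)
    (hsys : ∀ (i j : I) (g : i ⟶ j) (s : ↥(D.obj i)), IsMax s → IsMax (D.map g s))
    (i₀ : I) (V₀ : (D.obj i₀).Opens)
    (hV : Dense (((c.π.app i₀) ⁻¹ᵁ V₀ : c.pt.Opens) : Set ↥c.pt))
    (hfin' : {s : ↥c.pt | IsMax s}.Finite) :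
    ∃ (i : I) (g : i ⟶ i₀), Dense (((D.map g) ⁻¹ᵁ V₀ : (D.obj i).Opens) : Set ↥(D.obj i)) := by
  by_contra hcon
  push Not at hcon
  haveI : ∀ {a b : Over i₀} (f : a ⟶ b), IsAffineHom ((Over.forget i₀ ⋙ D).map f) := fun f =>
    inferInstanceAs (IsAffineHom (D.map f.left))
  have hc' : IsLimit (c.whisker (Over.forget i₀)) :=
    (Functor.Initial.isLimitWhiskerEquiv (Over.forget i₀) c).symm hc
  obtain ⟨t, ht⟩ := exists_point_mem hc'
    (fun j => {z : D.obj j.left | IsMax z ∧ D.map j.hom z ∉ V₀})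
    (fun j => (hfin j.left).subset fun z hz => hz.1)
    (fun j => by
      by_contra he
      refine hcon j.left j.hom (dense_of_isMax fun z hz => ?_)
      by_contra hz'
      exact he ⟨z, hz, hz'⟩)
    (fun {a b} f x hx => ⟨hsys a.left b.left f.left x hx.1, by
      have e : D.map f.left ≫ D.map b.hom = D.map a.hom := by rw [← D.map_comp, Over.w f]
      show (D.map f.left ≫ D.map b.hom) (x : D.obj a.left) ∉ V₀
      rw [e]; exact hx.2⟩)
  have hmax : IsMax (X := c.pt) t := (isMax_iff hc' (fun j => hfin j.left)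
    (fun a b g s hs => hsys a.left b.left g.left s hs) t).mpr fun j => (ht j).1
  have h1 : t ∈ c.π.app i₀ ⁻¹ᵁ V₀ := isMax_mem_of_dense hfin' hV hmax
  refine (ht (Over.mk (𝟙 i₀))).2 ?_
  show D.map (𝟙 i₀) (c.π.app i₀ t) ∈ V₀
  rw [LimTop.π_apply]
  exact h1

end Groth.Agent.MorLib.LimMax
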