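import Mathlib

/-! A limit of schemes that is separated over the base is eventually separated over the base. -/

set_option autoImplicit false
universe u

namespace Groth.Agent.MorLib.EvSep

open AlgebraicGeometry CategoryTheory Limits TopologicalSpace Topology

variable {I : Type u} [SmallCategory I] [IsCofiltered I] {S : Scheme.{u}} {D : I ⥤ Scheme.{u}}
  (t : ∀ i, D.obj i ⟶ S) (ht : ∀ {i j : I} (f : i ⟶ j), D.map f ≫ t j = t i)

/-- The transition maps of the self products. -/
noncomputable def pmap {i j : I} (f : i ⟶ j) : pullback (t i) (t i) ⟶ pullback (t j) (t j) :=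
  pullback.lift (pullback.fst _ _ ≫ D.map f) (pullback.snd _ _ ≫ D.map f)
    (by rw [Category.assoc, ht, pullback.condition, Category.assoc, ht])

omit [IsCofiltered I] in
@[reassoc]
theorem pmap_fst {i j : I} (f : i ⟶ j) :
    pmap t ht f ≫ pullback.fst (t j) (t j) = pullback.fst _ _ ≫ D.map f :=
  pullback.lift_fst _ _ _

omit [IsCofiltered I] in
@[reassoc]
theorem pmap_snd {i j : I} (f : i ⟶ j) :
    pmap t ht f ≫ pullback.snd (t j) (t j) = pullback.snd _ _ ≫ D.map f :=
  pullback.lift_snd _ _ _

omit [IsCofiltered I] in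
theorem pmap_id (i : I) : pmap t ht (𝟙 i) = 𝟙 _ := by
  apply pullback.hom_ext <;> simp [pmap_fst, pmap_snd]

omit [IsCofiltered I] in
theorem pmap_comp {i j k : I} (f : i ⟶ j) (g : j ⟶ k) :
    pmap t ht (f ≫ g) = pmap t ht f ≫ pmap t ht g := by
  apply pullback.hom_ext <;> simp [pmap_fst, pmap_snd, pmap_fst_assoc, pmap_snd_assoc]

/-- The diagram of self products. -/
noncomputable def sq : I ⥤ Scheme.{u} where
  obj i := pullback (t i) (t i)
  map f := pmap t ht f
  map_id i := pmap_id t ht i
  map_comp f g := pmap_comp t ht f g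

omit [IsCofiltered I] in
theorem diag_pmap {i j : I} (f : i ⟶ j) :
    pullback.diagonal (t i) ≫ pmap t ht f = D.map f ≫ pullback.diagonal (t j) := by
  apply pullback.hom_ext <;> simp [pmap_fst, pmap_snd]

omit [IsCofiltered I] in
theorem diag_pmap_apply {i j : I} (f : i ⟶ j) (x : D.obj i) :
    pmap t ht f (pullback.diagonal (t i) x) = pullback.diagonal (t j) (D.map f x) := by
  rw [← Scheme.Hom.comp_apply, diag_pmap, Scheme.Hom.comp_apply]

set_option backward.isDefEq.respectTransparency.types false in
omit [IsCofiltered I] in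
theorem isAffineHom_pmap [∀ {i j : I} (f : i ⟶ j), IsAffineHom (D.map f)] {i j : I} (f : i ⟶ j) :
    IsAffineHom (pmap t ht f) := by
  have e : pmap t ht f = pullback.map _ _ _ _ (D.map f) (D.map f) (𝟙 S)
      (by rw [ht]; exact Category.comp_id _) (by rw [ht]; exact Category.comp_id _) := by
    apply pullback.hom_ext
    · rw [pmap_fst]; exact (pullback.lift_fst _ _ _).symm
    · rw [pmap_snd]; exact (pullback.lift_snd _ _ _).symm
  rw [e]
  exact MorphismProperty.pullback_map (inferInstanceAs (IsAffineHom (D.map f)))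
    (inferInstanceAs (IsAffineHom (D.map f))) (ht f).symm (ht f).symm

variable {c : Cone D} (τ : c.pt ⟶ S) (hτ : ∀ i, c.π.app i ≫ t i = τ)

/-- The legs of the cone of self products. -/
noncomputable def proj (i : I) : pullback τ τ ⟶ pullback (t i) (t i) :=
  pullback.lift (pullback.fst _ _ ≫ c.π.app i) (pullback.snd _ _ ≫ c.π.app i)
    (by rw [Category.assoc, hτ, pullback.condition, Category.assoc, hτ])

omit [IsCofiltered I] in
@[reassoc]
theorem proj_fst (i : I) : proj t τ hτ i ≫ pullback.fst (t i) (t i) = pullback.fst _ _ ≫ c.π.app i :=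
  pullback.lift_fst _ _ _

omit [IsCofiltered I] in
@[reassoc]
theorem proj_snd (i : I) : proj t τ hτ i ≫ pullback.snd (t i) (t i) = pullback.snd _ _ ≫ c.π.app i :=
  pullback.lift_snd _ _ _

omit [IsCofiltered I] in
theorem proj_pmap {i j : I} (f : i ⟶ j) : proj t τ hτ i ≫ pmap t ht f = proj t τ hτ j := by
  apply pullback.hom_ext <;>
    simp [pmap_fst, pmap_snd, proj_fst, proj_snd, proj_fst_assoc, proj_snd_assoc]

omit [IsCofiltered I] in
theorem diag_proj (i : I) :
    pullback.diagonal τ ≫ proj t τ hτ i = c.π.app i ≫ pullback.diagonal (t i) := by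
  apply pullback.hom_ext <;> simp [proj_fst, proj_snd]

/-- The cone of self products. -/
noncomputable def sqCone : Cone (sq t ht) where
  pt := pullback τ τ
  π :=
    { app := fun i => proj t τ hτ i
      naturality := fun i j f => (Category.id_comp _).trans (proj_pmap t ht τ hτ f).symm }

/-- Self products commute with the limit. -/
noncomputable def isLimitSqCone (hc : IsLimit c) : IsLimit (sqCone t ht τ hτ) := by
  let e : ∀ (s : Cone (sq t ht)) (i : I), s.pt ⟶ pullback (t i) (t i) := fun s i => s.π.app i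
  have he : ∀ (s : Cone (sq t ht)) {i j : I} (f : i ⟶ j), e s i ≫ pmap t ht f = e s j :=
    fun s i j f => s.w f
  let L1 : Cone (sq t ht) → Cone D := fun s =>
    { pt := s.pt
      π :=
        { app := fun i => e s i ≫ pullback.fst (t i) (t i)
          naturality := fun i j f => (Category.id_comp _).trans
            (by rw [← he s f, Category.assoc, pmap_fst, Category.assoc]) } }
  let L2 : Cone (sq t ht) → Cone D := fun s =>
    { pt := s.pt
      π :=
        { app := fun i => e s i ≫ pullback.snd (t i) (t i)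
          naturality := fun i j f => (Category.id_comp _).trans
            (by rw [← he s f, Category.assoc, pmap_snd, Category.assoc]) } }
  have h1 : ∀ s i, hc.lift (L1 s) ≫ c.π.app i = e s i ≫ pullback.fst (t i) (t i) := fun s i => hc.fac _ i
  have h2 : ∀ s i, hc.lift (L2 s) ≫ c.π.app i = e s i ≫ pullback.snd (t i) (t i) := fun s i => hc.fac _ i
  let i₀ : I := IsCofiltered.nonempty.some
  let L : ∀ s : Cone (sq t ht), s.pt ⟶ pullback τ τ := fun s =>
    pullback.lift (hc.lift (L1 s)) (hc.lift (L2 s)) (by
      rw [← hτ i₀, reassoc_of% (h1 s i₀), reassoc_of% (h2 s i₀), pullback.condition])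
  have hL : ∀ s i, L s ≫ proj t τ hτ i = e s i := fun s i => by
    apply pullback.hom_ext
    · rw [Category.assoc, proj_fst, pullback.lift_fst_assoc, h1]
    · rw [Category.assoc, proj_snd, pullback.lift_snd_assoc, h2]
  have huniq : ∀ (s : Cone (sq t ht)) (m : s.pt ⟶ pullback τ τ),
      (∀ i, m ≫ proj t τ hτ i = e s i) → m = L s := fun s m hm => by
    apply pullback.hom_ext
    · rw [pullback.lift_fst]
      refine hc.hom_ext fun i => ?_
      rw [h1, Category.assoc, ← hm i, Category.assoc, proj_fst]
    · rw [pullback.lift_snd]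
      refine hc.hom_ext fun i => ?_
      rw [h2, Category.assoc, ← hm i, Category.assoc, proj_snd]
  exact ⟨L, hL, huniq⟩

include ht

set_option backward.isDefEq.respectTransparency.types false in
omit [IsCofiltered I] in
/-- The preimage of the diagonal is contained in the relative diagonal object. -/
theorem exists_immersion {i i₀ : I} (f : i ⟶ i₀) :
    ∃ κ : pullback (D.map f) (D.map f) ⟶ pullback (t i) (t i), IsImmersion κ ∧
      pullback.diagonal (D.map f) ≫ κ = pullback.diagonal (t i) ∧
      pmap t ht f ⁻¹' Set.range (pullback.diagonal (t i₀)) ⊆ Set.range κ := by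
  let κ : pullback (D.map f) (D.map f) ⟶ pullback (t i) (t i) :=
    pullback.lift (pullback.fst _ _) (pullback.snd _ _)
      (by rw [← ht f, pullback.condition_assoc])
  have k1 : κ ≫ pullback.fst (t i) (t i) = pullback.fst _ _ := pullback.lift_fst _ _ _
  have k2 : κ ≫ pullback.snd (t i) (t i) = pullback.snd _ _ := pullback.lift_snd _ _ _
  have hsq : IsPullback κ (pullback.fst (D.map f) (D.map f) ≫ D.map f) (pmap t ht f)
      (pullback.diagonal (t i₀)) := by
    refine ⟨⟨?_⟩, ⟨PullbackCone.IsLimit.mk _ (fun s => pullback.lift (s.fst ≫ pullback.fst _ _)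
      (s.fst ≫ pullback.snd _ _) ?_) (fun s => ?_) (fun s => ?_) (fun s m h1 h2 => ?_)⟩⟩
    · apply pullback.hom_ext <;> simp only [Category.assoc, pmap_fst, pmap_snd, pullback.diagonal_fst, pullback.diagonal_snd, Category.comp_id, reassoc_of% k1, reassoc_of% k2, pullback.condition]
    · have e1 := congr($(s.condition) ≫ pullback.fst _ _)
      have e2 := congr($(s.condition) ≫ pullback.snd _ _)
      simp only [Category.assoc, pmap_fst, pullback.diagonal_fst, Category.comp_id] at e1
      simp only [Category.assoc, pmap_snd, pullback.diagonal_snd, Category.comp_id] at e2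
      rw [Category.assoc, Category.assoc, e1, e2]
    · apply pullback.hom_ext <;> simp only [Category.assoc, k1, k2, pullback.lift_fst, pullback.lift_snd]
    · have e1 := congr($(s.condition) ≫ pullback.fst _ _)
      simp only [Category.assoc, pmap_fst, pullback.diagonal_fst, Category.comp_id] at e1
      rw [pullback.lift_fst_assoc, Category.assoc]
      exact e1
    · apply pullback.hom_ext
      · rw [pullback.lift_fst, ← h1, Category.assoc, k1]
      · rw [pullback.lift_snd, ← h1, Category.assoc, k2]
  refine ⟨κ, MorphismProperty.of_isPullback hsq.flip inferInstance, ?_, ?_⟩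
  · apply pullback.hom_ext <;> simp only [Category.assoc, k1, k2, pullback.diagonal_fst, pullback.diagonal_snd]
  · rintro z ⟨y, hy⟩
    obtain ⟨w, hw, -⟩ := Scheme.Pullback.exists_preimage_pullback z y hy.symm
    refine ⟨hsq.isoPullback.inv w, ?_⟩
    rw [← Scheme.Hom.comp_apply, IsPullback.isoPullback_inv_fst]
    exact hw

omit [IsCofiltered I] in
/-- If the boundary of the diagonal is empty at a stage, then the stage is separated. -/
theorem isSeparated_of_boundary [∀ {i j : I} (f : i ⟶ j), IsAffineHom (D.map f)] {i i₀ : I}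
    (f : i ⟶ i₀)
    (h : closure (Set.range (pullback.diagonal (t i))) ∩
      pmap t ht f ⁻¹' (coborder (Set.range (pullback.diagonal (t i₀))))ᶜ = ∅) :
    IsSeparated (t i) := by
  refine (isSeparated_iff _).mpr (.of_isPreimmersion _ ?_)
  obtain ⟨κ, hκ, hκd, hpre⟩ := exists_immersion t ht f
  have hrange : Set.range (pullback.diagonal (t i)) = κ '' Set.range (pullback.diagonal (D.map f)) := by
    rw [← hκd, Scheme.Hom.comp_base, TopCat.coe_comp, Set.range_comp]
  rw [← closure_subset_iff_isClosed]
  intro z hz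
  have hzB : pmap t ht f z ∈ Set.range (pullback.diagonal (t i₀)) := by
    have hcl : pmap t ht f z ∈ closure (Set.range (pullback.diagonal (t i₀))) := by
      refine map_mem_closure (pmap t ht f).continuous hz ?_
      rintro _ ⟨x, rfl⟩
      exact ⟨_, (diag_pmap_apply t ht f x).symm⟩
    by_contra hzB
    refine (Set.eq_empty_iff_forall_notMem.mp h) z ⟨hz, ?_⟩
    simp only [Set.mem_preimage, Set.mem_compl_iff, coborder, not_not, Set.mem_sdiff]
    exact ⟨hcl, hzB⟩
  obtain ⟨y, rfl⟩ := hpre hzB
  haveI : IsSeparated (D.map f) := inferInstance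
  have hclosed : IsClosed (Set.range (pullback.diagonal (D.map f))) :=
    (pullback.diagonal (D.map f)).isClosedEmbedding.isClosed_range
  rw [hrange] at hz ⊢
  refine Set.mem_image_of_mem κ ?_
  rw [← hclosed.closure_eq, κ.isEmbedding.isInducing.closure_eq_preimage_closure_image]
  exact hz

include hτ

set_option backward.isDefEq.respectTransparency.types false in
theorem eventually_isSeparated (hc : IsLimit c) [QuasiSeparatedSpace S]
    [∀ {i j : I} (f : i ⟶ j), IsAffineHom (D.map f)]
    [∀ i, CompactSpace (D.obj i)] [∀ i, QuasiSeparatedSpace (D.obj i)] [IsSeparated τ] :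
    ∃ i₁ : I, ∀ (i : I) (_ : i ⟶ i₁), IsSeparated (t i) := by
  classical
  obtain ⟨i₀⟩ := IsCofiltered.nonempty (C := I)
  haveI : ∀ i, QuasiCompact (t i) := fun i => quasiCompact_of_compactSpace (t i)
  haveI : ∀ i, QuasiSeparated (t i) := fun i => QuasiSeparated.of_quasiSeparatedSpace (t i)
  haveI : ∀ i, CompactSpace ((sq t ht).obj i) := fun i => by
    show CompactSpace ↥(pullback (t i) (t i))
    haveI : QuasiCompact (pullback.fst (t i) (t i)) := MorphismProperty.pullback_fst _ _ inferInstance
    exact QuasiCompact.compactSpace_of_compactSpace (pullback.fst (t i) (t i))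
  haveI : ∀ {i j : I} (f : i ⟶ j), IsAffineHom ((sq t ht).map f) := fun f => isAffineHom_pmap t ht f
  by_cases hex : ∃ (i : I) (f : i ⟶ i₀), closure (Set.range (pullback.diagonal (t i))) ∩
      pmap t ht f ⁻¹' (coborder (Set.range (pullback.diagonal (t i₀))))ᶜ = ∅
  · obtain ⟨i, f, hZ⟩ := hex
    refine ⟨i, fun j g => ?_⟩
    haveI := isSeparated_of_boundary t ht f hZ
    rw [← ht g]
    infer_instance
  exfalso
  have hlc : IsOpen (coborder (Set.range (pullback.diagonal (t i₀)))) :=
    (pullback.diagonal (t i₀)).isLocallyClosed_range.isOpen_coborder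
  obtain ⟨z, hz⟩ := exists_mem_of_isClosed_of_nonempty' (sq t ht) (sqCone t ht τ hτ)
    (isLimitSqCone t ht τ hτ hc)
    (fun i f => closure (Set.range (pullback.diagonal (t i))) ∩
      pmap t ht f ⁻¹' (coborder (Set.range (pullback.diagonal (t i₀))))ᶜ)
    (fun i f => isClosed_closure.inter (hlc.isClosed_compl.preimage (pmap t ht f).continuous))
    (fun i f => Set.nonempty_iff_ne_empty.mpr fun h => hex ⟨i, f, h⟩)
    (fun i f => (isClosed_closure.inter (hlc.isClosed_compl.preimage (pmap t ht f).continuous)).isCompact)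
    (fun i i' g f x hx => by
      refine ⟨map_mem_closure (pmap t ht g).continuous hx.1 ?_, ?_⟩
      · rintro _ ⟨w, rfl⟩
        exact ⟨_, (diag_pmap_apply t ht g w).symm⟩
      · have h2 := hx.2
        rw [pmap_comp] at h2
        exact h2)
  let z' : ↥(pullback τ τ) := z
  have hz' : ∀ (i : I) (f : i ⟶ i₀), proj t τ hτ i z' ∈ closure (Set.range (pullback.diagonal (t i))) ∩
      pmap t ht f ⁻¹' (coborder (Set.range (pullback.diagonal (t i₀))))ᶜ := fun i f => hz i f
  have hdp : ∀ (i : I) (x : c.pt),
      proj t τ hτ i (pullback.diagonal τ x) = pullback.diagonal (t i) (c.π.app i x) := fun i x => by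
    rw [← Scheme.Hom.comp_apply, diag_proj]
    rfl
  have hznot : z' ∉ Set.range (pullback.diagonal τ) := by
    rintro ⟨x, hx⟩
    have h1 := (hz' i₀ (𝟙 i₀)).2
    rw [Set.mem_preimage, ← hx, hdp, pmap_id] at h1
    exact h1 (subset_coborder ⟨c.π.app i₀ x, rfl⟩)
  obtain ⟨N, hNa, hzN, hN⟩ := exists_isAffineOpen_mem_and_subset (x := z')
    (U := ⟨(Set.range (pullback.diagonal τ))ᶜ,
      (pullback.diagonal τ).isClosedEmbedding.isClosed_range.isOpen_compl⟩) hznot
  obtain ⟨k, N', hN'c, hN'⟩ : ∃ (k : I) (V : (pullback (t k) (t k)).Opens),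
      IsCompact (V : Set ↥(pullback (t k) (t k))) ∧ proj t τ hτ k ⁻¹ᵁ V = N :=
    exists_preimage_eq (sq t ht) (sqCone t ht τ hτ) (isLimitSqCone t ht τ hτ hc) N hNa.isCompact
  let A : (D.obj k).Opens := pullback.diagonal (t k) ⁻¹ᵁ N'
  have hA : IsCompact (X := D.obj k) ↑A := (pullback.diagonal (t k)).isCompact_preimage hN'c
  obtain ⟨l, a, hl⟩ := exists_map_preimage_eq_map_preimage D c hc hA (V := ⊥) isCompact_empty (by
    refine le_antisymm (fun x hx => ?_) bot_le
    have h' : pullback.diagonal τ x ∈ proj t τ hτ k ⁻¹ᵁ N' := by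
      show proj t τ hτ k (pullback.diagonal τ x) ∈ N'
      rw [hdp]
      exact hx
    rw [hN'] at h'
    exact (hN h' ⟨x, rfl⟩).elim)
  let p := IsCofiltered.minToLeft l i₀
  let q := IsCofiltered.minToRight l i₀
  have h1 := (hz' (IsCofiltered.min l i₀) q).1
  have h2 : proj t τ hτ (IsCofiltered.min l i₀) z' ∈ pmap t ht (p ≫ a) ⁻¹ᵁ N' := by
    show pmap t ht (p ≫ a) _ ∈ N'
    rw [← Scheme.Hom.comp_apply, proj_pmap]
    rw [← hN'] at hzN
    exact hzN
  obtain ⟨_, hy1, w, rfl⟩ := mem_closure_iff.mp h1 _ (pmap t ht (p ≫ a) ⁻¹ᵁ N').2 h2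
  have hw : D.map p w ∈ D.map a ⁻¹ᵁ A := by
    show pullback.diagonal (t k) (D.map a (D.map p w)) ∈ N'
    have e : D.map a (D.map p w) = D.map (p ≫ a) w := by rw [D.map_comp]; rfl
    rw [e, ← diag_pmap_apply t ht]
    exact hy1
  rw [hl] at hw
  exact hw

end Groth.Agent.MorLib.EvSep
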