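import Groth.Agent.MorLib.UltraExistence
import Groth.Agent.MorLib.DescendSep
import Mathlib.AlgebraicGeometry.ValuativeCriterion
import Mathlib.AlgebraicGeometry.AffineTransitionLimit
import Mathlib.CategoryTheory.Filtered.Final

/-! Universally closed and proper morphisms of finite type descend along limits. -/

set_option autoImplicit false
set_option linter.style.haveILetI false
set_option backward.isDefEq.respectTransparency false
set_option backward.isDefEq.respectTransparency.types false
universe u

open CategoryTheory CategoryTheory.Limits AlgebraicGeometry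

namespace Groth.Agent.MorLib.Ultra

theorem existence_of_universallyClosed {X Y : Scheme.{u}} (f : X ⟶ Y) [UniversallyClosed f] :
    ValuativeCriterion.Existence f := by
  have h : UniversallyClosed f := inferInstance
  rw [UniversallyClosed.eq_valuativeCriterion] at h
  exact h.1

/-- The affine diagram below an index. -/
theorem isAffine_over {I : Type u} [SmallCategory I] (D : I ⥤ Scheme.{u})
    [∀ {i j : I} (f : i ⟶ j), IsAffineHom (D.map f)] (i : I) [IsAffine (D.obj i)] (k : Over i) :
    IsAffine ((Over.forget i ⋙ D).obj k) :=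
  haveI : IsAffineHom (D.map k.hom) := ‹∀ {i j : I} (f : i ⟶ j), IsAffineHom (D.map f)› k.hom
  isAffine_of_isAffineHom (D.map k.hom)

variable {I : Type u} [SmallCategory I] [IsCofiltered I] {D : I ⥤ Scheme.{u}} {c : Cone D}
  (hc : IsLimit c) [∀ {i j : I} (f : i ⟶ j), IsAffineHom (D.map f)] {i : I} [IsAffine (D.obj i)]

include hc in
/-- A quasi-compact morphism of finite type which is universally closed at the limit is so at a stage. -/
theorem exists_universallyClosed_snd {X₀ : Scheme.{u}} [CompactSpace X₀] (f₀ : X₀ ⟶ D.obj i)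
    [LocallyOfFiniteType f₀] [UniversallyClosed (pullback.snd f₀ (c.π.app i))] :
    ∃ (j : I) (φ : j ⟶ i), UniversallyClosed (pullback.snd f₀ (D.map φ)) := by
  haveI : ∀ k : Over i, IsAffine ((Over.forget i ⋙ D).obj k) := isAffine_over D i
  haveI : QuasiCompact f₀ := quasiCompact_of_compactSpace f₀
  obtain ⟨j, φ, hj⟩ := exists_existence_stage (I := Over i) (D := Over.forget i ⋙ D)
    (c := c.whisker (Over.forget i)) ((Functor.Initial.isLimitWhiskerEquiv (Over.forget i) c).symm hc)
    (i := Over.mk (𝟙 i)) f₀ ∅ (fun k hk => absurd hk (Set.notMem_empty k))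
    (by
      intro R K _ _ _ _ _ _ a b hab _
      have w : a ≫ f₀ = (gen R K ≫ b) ≫ c.π.app i := hab.trans (Category.assoc _ _ _).symm
      have sq : CommSq (pullback.lift a (gen R K ≫ b) w) (gen R K) (pullback.snd f₀ (c.π.app i)) b :=
        ⟨pullback.lift_snd _ _ _⟩
      obtain ⟨l, hl₁, hl₂⟩ := (existence_of_universallyClosed (pullback.snd f₀ (c.π.app i))
        { R := R, K := K, i₁ := _, i₂ := b, commSq := sq }).exists_lift
      dsimp only at hl₁ hl₂
      refine ⟨l ≫ pullback.fst f₀ (c.π.app i), ?_, ?_⟩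
      · rw [← Category.assoc, hl₁, pullback.lift_fst]
      · show (l ≫ pullback.fst f₀ (c.π.app i)) ≫ f₀ = b ≫ c.π.app i
        rw [Category.assoc, pullback.condition, ← Category.assoc, hl₂])
  have hw : φ.left = j.hom := by simpa using Over.w φ
  refine ⟨j.left, j.hom, UniversallyClosed.of_valuativeCriterion _ fun S => ?_⟩
  have hsq := S.commSq.w
  obtain ⟨l, hl₁, hl₂⟩ := hj S.R S.K (S.i₁ ≫ pullback.fst f₀ (D.map j.hom)) S.i₂ (by
    show (S.i₁ ≫ pullback.fst f₀ (D.map j.hom)) ≫ f₀ = gen S.R S.K ≫ S.i₂ ≫ D.map φ.left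
    rw [hw, Category.assoc, pullback.condition, ← Category.assoc, hsq, Category.assoc])
    (fun k hk => absurd hk (Set.notMem_empty k))
  change l ≫ f₀ = S.i₂ ≫ D.map φ.left at hl₂
  rw [hw] at hl₂
  refine ⟨⟨{ l := pullback.lift l S.i₂ hl₂, fac_left := ?_, fac_right := pullback.lift_snd _ _ _ }⟩⟩
  apply pullback.hom_ext
  · rw [Category.assoc, pullback.lift_fst]; exact hl₁
  · rw [Category.assoc, pullback.lift_snd]; exact hsq.symm

include hc in
/-- A scheme universally closed over the limit and of finite type over a stage is universally closed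
over a smaller stage. -/
theorem exists_universallyClosed_comp {Y : Scheme.{u}} [CompactSpace Y] (h : Y ⟶ c.pt)
    [UniversallyClosed h] [LocallyOfFiniteType (h ≫ c.π.app i)] :
    ∃ (j : I) (_ : j ⟶ i), UniversallyClosed (h ≫ c.π.app j) := by
  haveI : ∀ k : Over i, IsAffine ((Over.forget i ⋙ D).obj k) := isAffine_over D i
  obtain ⟨j, φ, hj⟩ := exists_existence_stage (I := Over i) (D := Over.forget i ⋙ D)
    (c := c.whisker (Over.forget i)) ((Functor.Initial.isLimitWhiskerEquiv (Over.forget i) c).symm hc)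
    (i := Over.mk (𝟙 i)) (h ≫ c.π.app i) Set.univ (fun k _ => h ≫ c.π.app k.left)
    (by
      intro R K _ _ _ _ _ _ a b hab hk
      have sq : CommSq a (gen R K) h b :=
        ⟨((Functor.Initial.isLimitWhiskerEquiv (Over.forget i) c).symm hc).hom_ext fun k => by
          show (a ≫ h) ≫ c.π.app k.left = (gen R K ≫ b) ≫ c.π.app k.left
          rw [Category.assoc, Category.assoc]
          exact hk k trivial⟩
      obtain ⟨l, hl₁, hl₂⟩ := (existence_of_universallyClosed h
        { R := R, K := K, i₁ := a, i₂ := b, commSq := sq }).exists_lift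
      dsimp only at hl₁ hl₂
      exact ⟨l, hl₁, by
        show l ≫ h ≫ c.π.app i = b ≫ c.π.app i
        rw [← Category.assoc, hl₂]⟩)
  have hw : φ.left = j.hom := by simpa using Over.w φ
  refine ⟨j.left, j.hom, ?_⟩
  haveI : IsAffine (D.obj j.left) := isAffine_of_isAffineHom (D.map j.hom)
  haveI : QuasiCompact (h ≫ c.π.app j.left) := quasiCompact_of_compactSpace _
  refine UniversallyClosed.of_valuativeCriterion _ fun S => ?_
  have hsq := S.commSq.w
  obtain ⟨l, hl₁, -⟩ := hj S.R S.K S.i₁ S.i₂ (by
    show S.i₁ ≫ h ≫ c.π.app i = gen S.R S.K ≫ S.i₂ ≫ D.map φ.left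
    rw [hw, ← c.w j.hom, reassoc_of% hsq])
    (fun k _ ρ => by
      show S.i₁ ≫ h ≫ c.π.app k.left = gen S.R S.K ≫ S.i₂ ≫ D.map ρ.left
      rw [← c.w ρ.left, reassoc_of% hsq])
  refine ⟨⟨{ l := l, fac_left := hl₁, fac_right := ?_ }⟩⟩
  refine pre_injective (RingHom.ext fun x => IsFractionRing.injective S.R S.K ?_)
  have h1 : gen S.R S.K ≫ l ≫ h ≫ c.π.app j.left = gen S.R S.K ≫ S.i₂ := by
    rw [← Category.assoc, hl₁]; exact hsq
  have h2 := congrArg pre h1
  rw [pre_specMap, pre_specMap] at h2
  exact RingHom.congr_fun h2 x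

/-- Universal closedness descends for morphisms of finite type. -/
theorem core_universallyClosed :
    Desc.Core @UniversallyClosed (@LocallyOfFiniteType : MorphismProperty Scheme.{u}) := by
  intro I _ _ D c hc hD i hi X₀ f₀ hcs hqs hQ h
  haveI : ∀ {i j : I} (f : i ⟶ j), IsAffineHom (D.map f) := fun {i j} f => hD i j f
  haveI := hcs; haveI := hi
  haveI : LocallyOfFiniteType f₀ := hQ
  haveI : UniversallyClosed (pullback.snd f₀ (c.π.app i)) := h
  exact exists_universallyClosed_snd hc f₀

/-- Properness descends for morphisms of finite type. -/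
theorem core_isProper :
    Desc.Core @IsProper (@LocallyOfFiniteType : MorphismProperty Scheme.{u}) := by
  intro I _ _ D c hc hD i hi X₀ f₀ hcs hqs hQ h
  haveI : LocallyOfFiniteType f₀ := hQ
  haveI : IsProper (pullback.snd f₀ (c.π.app i)) := h
  obtain ⟨j₁, φ₁, h₁⟩ := core_universallyClosed I D c hc hD i hi f₀ hcs hqs hQ inferInstance
  obtain ⟨j₂, φ₂, h₂⟩ := Desc.core_isSeparated I D c hc hD i hi f₀ hcs hqs trivial inferInstance
  obtain ⟨j, a, b, hab⟩ := IsCofiltered.cospan φ₁ φ₂
  haveI : UniversallyClosed (pullback.snd f₀ (D.map (a ≫ φ₁))) :=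
    Desc.of_factor @UniversallyClosed h₁ (a := D.map a) (by rw [← D.map_comp])
      (IsPullback.of_hasPullback _ _)
  haveI : IsSeparated (pullback.snd f₀ (D.map (a ≫ φ₁))) :=
    Desc.of_factor @IsSeparated h₂ (a := D.map b) (by rw [← D.map_comp, hab])
      (IsPullback.of_hasPullback _ _)
  exact ⟨j, a ≫ φ₁, ⟨⟩⟩

end Groth.Agent.MorLib.Ultra
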