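import Groth.Agent.MorLib.LimTop

/-! Cofiltered limits of schemes with affine transition maps exist. -/

set_option autoImplicit false
universe u

namespace Groth.Agent.MorLib.LimExists

open AlgebraicGeometry CategoryTheory Limits TopologicalSpace Scheme AffineZariskiSite

theorem hasLimit_of_isAffine {J : Type u} [SmallCategory J] (F : J ⥤ Scheme.{u})
    [∀ j, IsAffine (F.obj j)] : HasLimit F := by
  let e : (F ⋙ Scheme.Γ.rightOp) ⋙ Scheme.Spec ≅ F :=
    (NatIso.ofComponents (fun j => (F.obj j).isoSpec)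
      (fun f => (Scheme.isoSpec_hom_naturality _).symm)).symm
  exact hasLimit_of_iso e

variable {I : Type u} [SmallCategory I] (D : I ⥤ Scheme.{u})
  [∀ {i j : I} (f : i ⟶ j), IsAffineHom (D.map f)] (i₀ : I)

local notation "S₀" => D.obj i₀

variable {D i₀}

instance (U : (D.obj i₀).AffineZariskiSite) : HasLimit (opensDiagram D i₀ U.toOpens) := by
  haveI : ∀ j, IsAffine ((opensDiagram D i₀ U.toOpens).obj j) := fun j => U.2.preimage (D.map j.hom)
  exact hasLimit_of_isAffine _

/-- The piece of the limit over an affine open of the base stage. -/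
noncomputable abbrev piece (U : (D.obj i₀).AffineZariskiSite) : Scheme.{u} :=
  limit (opensDiagram D i₀ U.toOpens)

/-- Projection of a piece. -/
noncomputable def pr (U : (D.obj i₀).AffineZariskiSite) (j : Over i₀) : piece U ⟶ D.obj j.left :=
  limit.π (opensDiagram D i₀ U.toOpens) j ≫ (opensDiagramι D i₀ U.toOpens).app j

theorem ι_app (U : (D.obj i₀).AffineZariskiSite) (j : Over i₀) :
    Set.range ((opensDiagramι D i₀ U.toOpens).app j) = (D.map j.hom ⁻¹ᵁ U.toOpens : Set (D.obj j.left)) :=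
  Scheme.Opens.range_ι _

instance (U : (D.obj i₀).AffineZariskiSite) (j : Over i₀) :
    IsOpenImmersion ((opensDiagramι D i₀ U.toOpens).app j) :=
  inferInstanceAs (IsOpenImmersion (D.map j.hom ⁻¹ᵁ U.toOpens).ι)

theorem pr_w (U : (D.obj i₀).AffineZariskiSite) {j k : Over i₀} (f : j ⟶ k) :
    pr U j ≫ D.map f.left = pr U k := by
  unfold pr
  rw [← limit.w (opensDiagram D i₀ U.toOpens) f]
  refine (Category.assoc _ _ _).trans (Eq.trans ?_ (Category.assoc _ _ _).symm)
  congr 1
  exact ((opensDiagramι D i₀ U.toOpens).naturality f).symm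

theorem piece_hom_ext {U : (D.obj i₀).AffineZariskiSite} {T : Scheme.{u}} {a b : T ⟶ piece U}
    (h : ∀ j, a ≫ pr U j = b ≫ pr U j) : a = b :=
  limit.hom_ext fun j => (cancel_mono ((opensDiagramι D i₀ U.toOpens).app j)).mp
    ((Category.assoc _ _ _).trans ((h j).trans (Category.assoc _ _ _).symm))

theorem pr_range (U : (D.obj i₀).AffineZariskiSite) (j : Over i₀) (x : piece U) :
    D.map j.hom (pr U j x) ∈ U.toOpens :=
  (limit.π (opensDiagram D i₀ U.toOpens) j x).2

/-- Maps into a piece. -/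
noncomputable def pieceLift (U : (D.obj i₀).AffineZariskiSite) {T : Scheme.{u}}
    (g : ∀ j : Over i₀, T ⟶ D.obj j.left) (hg : ∀ {j k : Over i₀} (f : j ⟶ k), g j ≫ D.map f.left = g k)
    (hU : ∀ (j : Over i₀) (x : T), D.map j.hom (g j x) ∈ U.toOpens) : T ⟶ piece U :=
  limit.lift (opensDiagram D i₀ U.toOpens)
    { pt := T
      π :=
        { app := fun j => IsOpenImmersion.lift ((opensDiagramι D i₀ U.toOpens).app j) (g j)
            (by rw [ι_app]; rintro _ ⟨x, rfl⟩; exact hU j x)
          naturality := fun j k f => by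
            refine (Category.id_comp _).trans ?_
            rw [← cancel_mono ((opensDiagramι D i₀ U.toOpens).app k), IsOpenImmersion.lift_fac,
              Category.assoc, (opensDiagramι D i₀ U.toOpens).naturality f,
              IsOpenImmersion.lift_fac_assoc]
            exact (hg f).symm } }

theorem pieceLift_pr (U : (D.obj i₀).AffineZariskiSite) {T : Scheme.{u}}
    (g : ∀ j : Over i₀, T ⟶ D.obj j.left) (hg : ∀ {j k : Over i₀} (f : j ⟶ k), g j ≫ D.map f.left = g k)
    (hU : ∀ (j : Over i₀) (x : T), D.map j.hom (g j x) ∈ U.toOpens) (j : Over i₀) :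
    pieceLift U g hg hU ≫ pr U j = g j := by
  unfold pieceLift pr
  refine (Category.assoc _ _ _).symm.trans ?_
  refine (congrArg (· ≫ (opensDiagramι D i₀ U.toOpens).app j) (limit.lift_π _ _)).trans ?_
  exact IsOpenImmersion.lift_fac _ _ _

/-- The transition maps between pieces. -/
noncomputable def pieceMap {U V : (D.obj i₀).AffineZariskiSite} (h : U ⟶ V) : piece U ⟶ piece V :=
  pieceLift V (pr U) (pr_w U) fun j x => toOpens_mono h.le (pr_range U j x)

theorem pieceMap_pr {U V : (D.obj i₀).AffineZariskiSite} (h : U ⟶ V) (j : Over i₀) :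
    pieceMap h ≫ pr V j = pr U j :=
  pieceLift_pr _ _ _ _ j

/-- The map of a piece to its open. -/
noncomputable def pieceTo (U : (D.obj i₀).AffineZariskiSite) : piece U ⟶ (U.toOpens : Scheme.{u}) :=
  IsOpenImmersion.lift U.toOpens.ι (pr U (Over.mk (𝟙 i₀)) ≫ D.map (𝟙 i₀))
    (by rw [Scheme.Opens.range_ι]; rintro _ ⟨x, rfl⟩; exact pr_range U (Over.mk (𝟙 i₀)) x)

theorem pieceTo_ι (U : (D.obj i₀).AffineZariskiSite) :
    pieceTo U ≫ U.toOpens.ι = pr U (Over.mk (𝟙 i₀)) ≫ D.map (𝟙 i₀) :=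
  IsOpenImmersion.lift_fac _ _ _

variable (D i₀)

/-- The functor of pieces. -/
noncomputable def pieces : (D.obj i₀).AffineZariskiSite ⥤ Scheme.{u} where
  obj := piece
  map := pieceMap
  map_id U := piece_hom_ext fun j => (pieceMap_pr _ j).trans (Category.id_comp _).symm
  map_comp f g := piece_hom_ext fun j => by
    rw [Category.assoc, pieceMap_pr, pieceMap_pr, pieceMap_pr]

theorem pieceMap_pieceTo {U V : (D.obj i₀).AffineZariskiSite} (h : U ⟶ V) :
    pieceMap h ≫ pieceTo V = pieceTo U ≫ (D.obj i₀).homOfLE (toOpens_mono h.le) := by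
  rw [← cancel_mono V.toOpens.ι, Category.assoc, Category.assoc, Scheme.homOfLE_ι, pieceTo_ι,
    pieceTo_ι, ← Category.assoc, pieceMap_pr]

theorem pr_hom (U : (D.obj i₀).AffineZariskiSite) (j : Over i₀) :
    pr U j ≫ D.map j.hom = pr U (Over.mk (𝟙 i₀)) :=
  pr_w U (Over.homMk j.hom : j ⟶ Over.mk (𝟙 i₀))

theorem isPullback_pieceMap {U V : (D.obj i₀).AffineZariskiSite} (h : U ⟶ V) :
    IsPullback (pieceMap h) (pieceTo U) (pieceTo V) ((D.obj i₀).homOfLE (toOpens_mono h.le)) := by
  refine IsPullback.mk ⟨pieceMap_pieceTo D i₀ h⟩ ⟨PullbackCone.IsLimit.mk _ (fun s =>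
      pieceLift U (fun j => s.fst ≫ pr V j)
        (fun {j k} f => (Category.assoc _ _ _).trans (congrArg (s.fst ≫ ·) (pr_w V f)))
        (fun j x => ?_))
    (fun s => ?_) (fun s => ?_) (fun s m h1 h2 => ?_)⟩
  · have e : (s.fst ≫ pr V j) ≫ D.map j.hom = s.snd ≫ U.toOpens.ι := by
      rw [Category.assoc, pr_hom, ← (D.obj i₀).homOfLE_ι (toOpens_mono h.le), ← s.condition_assoc,
        pieceTo_ι]
      erw [D.map_id, Category.comp_id]
    show ((s.fst ≫ pr V j) ≫ D.map j.hom) x ∈ U.toOpens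
    rw [e]
    exact (s.snd x).2
  · exact piece_hom_ext fun j => by rw [Category.assoc, pieceMap_pr, pieceLift_pr]
  · suffices key : ∀ (l : s.pt ⟶ piece U),
        l ≫ pr U (Over.mk (𝟙 i₀)) = s.fst ≫ pr V (Over.mk (𝟙 i₀)) → l ≫ pieceTo U = s.snd from
      key _ (pieceLift_pr U _ _ _ _)
    intro l hl
    rw [← cancel_mono U.toOpens.ι, Category.assoc, pieceTo_ι, ← Category.assoc, hl, Category.assoc,
      ← pieceTo_ι, ← (D.obj i₀).homOfLE_ι (toOpens_mono h.le)]
    exact s.condition_assoc _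
  · refine piece_hom_ext fun j => ?_
    rw [pieceLift_pr, ← h1, Category.assoc, pieceMap_pr]

/-- The gluing datum. -/
noncomputable def glue : (directedCover (D.obj i₀)).RelativeGluingData where
  functor := pieces D i₀
  natTrans :=
    { app := fun U => pieceTo U
      naturality := fun _ _ h => pieceMap_pieceTo D i₀ h }
  equifibered {U V} h := isPullback_pieceMap D i₀ h

instance : ((glue D i₀).functor ⋙ Scheme.forget).IsLocallyDirected :=
  Scheme.Cover.RelativeGluingData.instIsLocallyDirectedI₀CompFunctorForgetOfIsThin ..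

/-- The projections of the glued scheme. -/
noncomputable def proj (j : Over i₀) : (glue D i₀).glued ⟶ D.obj j.left :=
  colimit.desc _ { pt := D.obj j.left
                   ι := { app := fun U => pr U j
                          naturality := fun U V h => (pieceMap_pr h j).trans (Category.comp_id _).symm } }

theorem ι_proj (U : (D.obj i₀).AffineZariskiSite) (j : Over i₀) :
    colimit.ι (glue D i₀).functor U ≫ proj D i₀ j = pr U j :=
  colimit.ι_desc _ _

/-- The cone. -/
noncomputable def cone : Cone (Over.forget i₀ ⋙ D) where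
  pt := (glue D i₀).glued
  π :=
    { app := proj D i₀
      naturality := fun j k f => by
        refine (Category.id_comp _).trans (colimit.hom_ext fun U => ?_)
        show colimit.ι (glue D i₀).functor U ≫ proj D i₀ k =
          colimit.ι (glue D i₀).functor U ≫ proj D i₀ j ≫ D.map f.left
        refine (ι_proj D i₀ U k).trans ?_
        refine ((congrArg (· ≫ D.map f.left) (ι_proj D i₀ U j)).trans (pr_w U f)).symm.trans ?_
        exact Category.assoc _ _ _ }

theorem toBase_eq : (glue D i₀).toBase = proj D i₀ (Over.mk (𝟙 i₀)) ≫ D.map (𝟙 i₀) :=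
  colimit.hom_ext fun U => by
    rw [← Category.assoc, ι_proj]
    exact ((glue D i₀).ι_toBase U).trans (pieceTo_ι U)

theorem preimage_toBase (U : (D.obj i₀).AffineZariskiSite) :
    (glue D i₀).toBase ⁻¹' (U.toOpens : Set (D.obj i₀)) =
      Set.range (colimit.ι (glue D i₀).functor U) := by
  rw [← (glue D i₀).preimage_toBase_eq_range_ι U]
  show _ = _ ⁻¹' Set.range U.toOpens.ι
  rw [Scheme.Opens.range_ι]

theorem exists_mem (y : D.obj i₀) : ∃ U : (D.obj i₀).AffineZariskiSite, y ∈ U.toOpens := by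
  obtain ⟨_, ⟨V, hV, rfl⟩, hyV, -⟩ :=
    (D.obj i₀).isBasis_affineOpens.exists_subset_of_mem_open (Set.mem_univ y) isOpen_univ
  exact ⟨⟨V, hV⟩, hyV⟩

theorem cone_hom_ext {T : Scheme.{u}} {a b : T ⟶ (glue D i₀).glued}
    (h : ∀ j, a ≫ proj D i₀ j = b ≫ proj D i₀ j) : a = b := by
  let t := a ≫ (glue D i₀).toBase
  have ht : b ≫ (glue D i₀).toBase = t := by
    simp only [t, toBase_eq, ← Category.assoc, h]
  refine Scheme.Cover.hom_ext (T.openCoverOfIsOpenCover
    (fun U : (D.obj i₀).AffineZariskiSite => t ⁻¹ᵁ U.toOpens)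
    (top_le_iff.mp fun x _ => Opens.mem_iSup.mpr (exists_mem D i₀ (t x)))) _ _ fun U => ?_
  let W : Scheme.{u} := (t ⁻¹ᵁ (U : (D.obj i₀).AffineZariskiSite).toOpens : Scheme.{u})
  let w : W ⟶ T := (t ⁻¹ᵁ (U : (D.obj i₀).AffineZariskiSite).toOpens).ι
  have hl : ∀ d : T ⟶ (glue D i₀).glued, d ≫ (glue D i₀).toBase = t →
      Set.range (w ≫ d) ⊆ Set.range (colimit.ι (glue D i₀).functor U) := by
    rintro d hd _ ⟨x, rfl⟩
    rw [← preimage_toBase D i₀ U]
    show (d ≫ (glue D i₀).toBase) x.1 ∈ (U : (D.obj i₀).AffineZariskiSite).toOpens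
    rw [hd]
    exact x.2
  haveI : IsOpenImmersion (colimit.ι (glue D i₀).functor U) := (glue D i₀).cover.map_prop U
  show w ≫ a = w ≫ b
  rw [← IsOpenImmersion.lift_fac _ _ (hl a rfl), ← IsOpenImmersion.lift_fac _ _ (hl b ht)]
  congr 1
  refine piece_hom_ext fun j => ?_
  rw [← ι_proj]
  erw [IsOpenImmersion.lift_fac_assoc, IsOpenImmersion.lift_fac_assoc]
  rw [Category.assoc, Category.assoc, h]

/-- The glued cone is a limit cone. -/
theorem nonempty_isLimit : Nonempty (IsLimit (cone D i₀)) := by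
  have key : ∀ s : Cone (Over.forget i₀ ⋙ D), ∃ l : s.pt ⟶ (glue D i₀).glued,
      ∀ j, l ≫ proj D i₀ j = s.π.app j := by
    intro s
    let T : Over i₀ := Over.mk (𝟙 i₀)
    let t : s.pt ⟶ D.obj i₀ := s.π.app T ≫ D.map (𝟙 i₀)
    let 𝒱 := s.pt.openCoverOfIsOpenCover
      (fun U : (D.obj i₀).AffineZariskiSite => t ⁻¹ᵁ U.toOpens)
      (top_le_iff.mp fun x _ => Opens.mem_iSup.mpr (exists_mem D i₀ (t x)))
    let g : ∀ (U : (D.obj i₀).AffineZariskiSite) (j : Over i₀),
        (t ⁻¹ᵁ U.toOpens : Scheme.{u}) ⟶ D.obj j.left := fun U j => (t ⁻¹ᵁ U.toOpens).ι ≫ s.π.app j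
    have hw : ∀ (U : (D.obj i₀).AffineZariskiSite) {j k : Over i₀} (f : j ⟶ k),
        g U j ≫ D.map f.left = g U k := fun U {j k} f => by
      rw [Category.assoc]
      exact congrArg ((t ⁻¹ᵁ U.toOpens).ι ≫ ·) (s.w f)
    have hin : ∀ (U : (D.obj i₀).AffineZariskiSite) (j : Over i₀) (x : (t ⁻¹ᵁ U.toOpens : Scheme.{u})),
        D.map j.hom (g U j x) ∈ U.toOpens := fun U j x => by
      show (g U j ≫ D.map j.hom) x ∈ U.toOpens
      have e : g U j ≫ D.map j.hom = (t ⁻¹ᵁ U.toOpens).ι ≫ t := by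
        show g U j ≫ D.map j.hom = (t ⁻¹ᵁ U.toOpens).ι ≫ s.π.app T ≫ D.map (𝟙 i₀)
        refine (hw U (Over.homMk j.hom : j ⟶ T)).trans ?_
        erw [D.map_id, Category.comp_id]
      rw [e]
      exact x.2
    let gl : ∀ U, 𝒱.X U ⟶ (glue D i₀).glued := fun U =>
      pieceLift U (g U) (hw U) (hin U) ≫ colimit.ι (glue D i₀).functor U
    have hgl : ∀ U j, gl U ≫ proj D i₀ j = 𝒱.f U ≫ s.π.app j := fun U j => by
      show (pieceLift U (g U) (hw U) (hin U) ≫ colimit.ι (glue D i₀).functor U) ≫ proj D i₀ j = _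
      refine (Category.assoc _ _ _).trans ?_
      exact (congrArg (pieceLift U (g U) (hw U) (hin U) ≫ ·) (ι_proj D i₀ U j)).trans (pieceLift_pr U _ _ _ j)
    refine ⟨𝒱.glueMorphisms gl fun U V => cone_hom_ext D i₀ fun j => ?_, fun j => ?_⟩
    · exact ((Category.assoc _ _ _).trans (congrArg (pullback.fst (𝒱.f U) (𝒱.f V) ≫ ·) (hgl U j))).trans
        ((pullback.condition_assoc _).trans
          ((Category.assoc _ _ _).trans (congrArg (pullback.snd (𝒱.f U) (𝒱.f V) ≫ ·) (hgl V j))).symm)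
    · exact Scheme.Cover.hom_ext 𝒱 _ _ fun U => by
        rw [Scheme.Cover.ι_glueMorphisms_assoc]
        exact hgl U j
  choose l hl using key
  exact ⟨{ lift := l
           fac := hl
           uniq := fun s m hm => cone_hom_ext D i₀ fun j => (hm j).trans (hl s j).symm }⟩

theorem hasLimit [IsCofiltered I] : HasLimit D := by
  obtain ⟨i⟩ := IsCofiltered.nonempty (C := I)
  obtain ⟨h⟩ := nonempty_isLimit D i
  haveI : HasLimit (Over.forget i ⋙ D) := ⟨⟨⟨_, h⟩⟩⟩
  exact Functor.Initial.hasLimit_of_comp (Over.forget i)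

end Groth.Agent.MorLib.LimExists
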