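import Mathlib.AlgebraicGeometry.SpreadingOut
import Mathlib.AlgebraicGeometry.Morphisms.FinitePresentation
import Mathlib.AlgebraicGeometry.Birational.RationalMap

/-! Spreading out morphisms from stalks into schemes locally of finite presentation. -/

set_option autoImplicit false
universe u

namespace Groth.Agent.MorLib.SFP

open AlgebraicGeometry CategoryTheory TopologicalSpace Opposite

variable {X Y S : Scheme.{u}}

theorem exists_lift {A R : CommRingCat.{u}} {x : X} {U : X.Opens} (hxU : x ∈ U)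
    (φ : A ⟶ X.presheaf.stalk x) (φRA : R ⟶ A) (φRX : R ⟶ Γ(X, U))
    (hφRA : φRA.hom.FinitePresentation) (e : φRA ≫ φ = φRX ≫ X.presheaf.germ U x hxU) :
    ∃ (V : X.Opens) (hxV : x ∈ V) (φ' : A ⟶ Γ(X, V)) (i : V ≤ U), IsAffineOpen V ∧
      φ = φ' ≫ X.presheaf.germ V x hxV ∧ φRX ≫ X.presheaf.map i.hom.op = φRA ≫ φ' := by
  classical
  letI := φRA.hom.toAlgebra
  obtain ⟨n, f, hf, s, hs⟩ := (show Algebra.FinitePresentation R A from hφRA).out
  choose W hxW g hg using fun j : Fin n => X.presheaf.exists_germ_eq (φ (f (MvPolynomial.X j)))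
  let H : X.Opens := Finset.univ.inf W ⊓ U
  have hxH : x ∈ H := by
    refine ⟨?_, hxU⟩
    rw [Opens.coe_finset_inf]
    simpa using fun j => hxW j
  let ψ : MvPolynomial (Fin n) R →+* Γ(X, H) :=
    MvPolynomial.eval₂Hom ((X.presheaf.map (homOfLE (inf_le_right : H ≤ U)).op).hom.comp φRX.hom)
      fun j => X.presheaf.map (homOfLE (inf_le_left.trans (Finset.inf_le (Finset.mem_univ j)) : H ≤ W j)).op (g j)
  have hψ : (X.presheaf.germ H x hxH).hom.comp ψ = φ.hom.comp f.toRingHom := by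
    refine MvPolynomial.ringHom_ext (fun r => ?_) fun j => ?_
    · show X.presheaf.germ H x hxH (ψ (MvPolynomial.C r)) = φ (f (MvPolynomial.C r))
      rw [MvPolynomial.eval₂Hom_C, show f (MvPolynomial.C r) = φRA r from f.commutes r]
      exact (X.presheaf.germ_res_apply _ _ _ _).trans (congr($e r)).symm
    · show X.presheaf.germ H x hxH (ψ (MvPolynomial.X j)) = φ (f (MvPolynomial.X j))
      rw [MvPolynomial.eval₂Hom_X']
      exact (X.presheaf.germ_res_apply _ _ _ _).trans (hg j)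
  have hzero : ∀ r : s, ∃ (W' : X.Opens) (_ : x ∈ W') (i : W' ⟶ H),
      X.presheaf.map i.op (ψ r.1) = 0 := fun r => by
    have h0 : X.presheaf.germ H x hxH (ψ r.1) = X.presheaf.germ H x hxH 0 := by
      have hr : f r.1 = 0 := RingHom.mem_ker.mp (hs.le (Ideal.subset_span r.2))
      rw [map_zero]
      refine (RingHom.congr_fun hψ r.1).trans ?_
      show φ (f r.1) = 0
      rw [hr, map_zero]
    obtain ⟨W', hW', i, j, h⟩ := X.presheaf.germ_eq x hxH hxH _ _ h0
    exact ⟨W', hW', i, h.trans (map_zero _)⟩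
  choose W' hxW' iW' hW'0 using hzero
  have hx' : x ∈ Finset.univ.inf W' ⊓ H := by
    refine ⟨?_, hxH⟩
    rw [Opens.coe_finset_inf]
    simpa using fun r hr => hxW' ⟨r, hr⟩
  obtain ⟨_, ⟨V, hV, rfl⟩, hxV, hVle⟩ :=
    X.isBasis_affineOpens.exists_subset_of_mem_open hx' (Finset.univ.inf W' ⊓ H).2
  replace hVle : V ≤ Finset.univ.inf W' ⊓ H := hVle
  have hVH : V ≤ H := hVle.trans inf_le_right
  let ψ' : MvPolynomial (Fin n) R →+* Γ(X, V) := (X.presheaf.map (homOfLE hVH).op).hom.comp ψ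
  have hker : RingHom.ker f.toRingHom ≤ RingHom.ker ψ' := by
    rw [← hs, Ideal.span_le]
    intro r hr
    have hVW : V ≤ W' ⟨r, hr⟩ := hVle.trans (inf_le_left.trans (Finset.inf_le (Finset.mem_univ _)))
    show X.presheaf.map (homOfLE hVH).op (ψ r) = 0
    rw [show homOfLE hVH = homOfLE hVW ≫ iW' ⟨r, hr⟩ from rfl, op_comp, Functor.map_comp,
      CommRingCat.comp_apply, hW'0 ⟨r, hr⟩, map_zero]
  let φ' : A →+* Γ(X, V) := f.toRingHom.liftOfSurjective hf ⟨ψ', hker⟩
  have hcomp : φ'.comp f.toRingHom = ψ' := f.toRingHom.liftOfRightInverse_comp _ _ _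
  refine ⟨V, hxV, CommRingCat.ofHom φ', hVH.trans inf_le_right, hV, ?_, ?_⟩
  · ext a
    obtain ⟨q, rfl⟩ := hf a
    show φ (f q) = X.presheaf.germ V x hxV (φ' (f.toRingHom q))
    rw [show φ' (f.toRingHom q) = ψ' q from RingHom.congr_fun hcomp q]
    exact ((X.presheaf.germ_res_apply _ _ _ _).trans (RingHom.congr_fun hψ q)).symm
  · ext r
    show X.presheaf.map (homOfLE (hVH.trans inf_le_right)).op (φRX r) = φ' (φRA r)
    rw [← show f.toRingHom (MvPolynomial.C r) = φRA r from f.commutes r,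
      show φ' (f.toRingHom (MvPolynomial.C r)) = ψ' (MvPolynomial.C r) from
        RingHom.congr_fun hcomp _]
    show _ = X.presheaf.map (homOfLE hVH).op (ψ (MvPolynomial.C r))
    rw [MvPolynomial.eval₂Hom_C, RingHom.comp_apply]
    show _ = (φRX ≫ X.presheaf.map (homOfLE (inf_le_right : H ≤ U)).op ≫
      X.presheaf.map (homOfLE hVH).op) r
    rw [← Functor.map_comp]
    rfl

theorem spread_out (sX : X ⟶ S) (sY : Y ⟶ S) [LocallyOfFinitePresentation sY] {x : X}
    (φ : Spec (X.presheaf.stalk x) ⟶ Y) (h : φ ≫ sY = X.fromSpecStalk x ≫ sX) :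
    ∃ (U : X.Opens) (hxU : x ∈ U) (f : U.toScheme ⟶ Y),
      φ = U.fromSpecStalkOfMem x hxU ≫ f ∧ f ≫ sY = U.ι ≫ sX := by
  set y := φ (IsLocalRing.closedPoint (X.presheaf.stalk x))
  set ψ := Scheme.stalkClosedPointTo φ
  have e : sY y = sX x := by
    rw [← Scheme.Hom.comp_apply, h, Scheme.Hom.comp_apply, Scheme.fromSpecStalk_closedPoint]
  have hst : sY.stalkMap y ≫ ψ =
      S.presheaf.stalkSpecializes (Inseparable.of_eq e.symm).specializes ≫ sX.stalkMap x := by
    apply Spec.map_injective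
    rw [← cancel_mono (S.fromSpecStalk _)]
    simpa only [Spec.map_comp, Category.assoc, Scheme.SpecMap_stalkMap_fromSpecStalk,
      Scheme.Spec_stalkClosedPointTo_fromSpecStalk_assoc,
      Scheme.SpecMap_stalkSpecializes_fromSpecStalk, ψ, y] using h
  obtain ⟨_, ⟨U, hU, rfl⟩, hxU, -⟩ :=
    S.isBasis_affineOpens.exists_subset_of_mem_open (Set.mem_univ (sX x)) isOpen_univ
  have hyU : sY y ∈ U := e ▸ hxU
  obtain ⟨_, ⟨V : Y.Opens, hV, rfl⟩, hyV, iVU⟩ :=
    Y.isBasis_affineOpens.exists_subset_of_mem_open hyU (sY ⁻¹ᵁ U).2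
  have hsq : sY.appLE U V iVU ≫ Y.presheaf.germ V y hyV ≫ ψ =
      sX.app U ≫ X.presheaf.germ (sX ⁻¹ᵁ U) x hxU := by
    rw [Scheme.Hom.appLE, Category.assoc, Y.presheaf.germ_res_assoc,
      ← Scheme.Hom.germ_stalkMap_assoc, hst]
    simp
  obtain ⟨W, hxW, φ', i, hW, h₁, h₂⟩ :=
    exists_lift (R := Γ(S, U)) (A := Γ(Y, V)) (U := sX ⁻¹ᵁ U) (x := x) hxU
      (Y.presheaf.germ _ y hyV ≫ ψ) (sY.appLE U V iVU) (sX.app U)
      (sY.finitePresentation_appLE hU hV iVU) hsq
  refine ⟨W, hxW, W.toSpecΓ ≫ Spec.map φ' ≫ hV.fromSpec, ?_, ?_⟩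
  · rw [W.fromSpecStalkOfMem_toSpecΓ_assoc x hxW, ← Spec.map_comp_assoc, ← h₁,
      Spec.map_comp, Category.assoc, ← IsAffineOpen.fromSpecStalk,
      IsAffineOpen.fromSpecStalk_eq_fromSpecStalk]
    exact (Scheme.Spec_stalkClosedPointTo_fromSpecStalk φ).symm
  · simp only [Category.assoc]
    rw [← IsAffineOpen.SpecMap_appLE_fromSpec sY hU hV iVU, ← Spec.map_comp_assoc, ← h₂,
      ← Scheme.Hom.appLE, ← hW.isoSpec_hom, IsAffineOpen.SpecMap_appLE_fromSpec sX hU hW i,
      ← Iso.eq_inv_comp, IsAffineOpen.isoSpec_inv_ι_assoc]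

end Groth.Agent.MorLib.SFP
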