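import Mathlib.AlgebraicGeometry.Morphisms.UniversallyOpen
import Mathlib.Topology.KrullDimension
import Mathlib.RingTheory.Localization.AtPrime.Basic

/-! Open maps of schemes lift generalizations; consequence for dimensions. -/

set_option autoImplicit false
universe u

namespace Groth.Agent.MorLib

open AlgebraicGeometry CategoryTheory

theorem generalizingMap_comap_of_isOpenMap {A B : Type u} [CommRing A] [CommRing B] (φ : A →+* B)
    (h : IsOpenMap (PrimeSpectrum.comap φ)) : GeneralizingMap (PrimeSpectrum.comap φ) := by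
  intro q p hp
  let ψ : A →+* Localization.AtPrime q.asIdeal := (algebraMap B _).comp φ
  have hc : (p.asIdeal.map ψ).comap ψ = p.asIdeal := by
    refine le_antisymm (fun a ha => ?_) Ideal.le_comap_map
    by_contra hap
    rw [Ideal.mem_comap, ← Ideal.map_map, RingHom.comp_apply] at ha
    obtain ⟨⟨⟨c, hc⟩, ⟨b, hb⟩⟩, e⟩ :=
      (IsLocalization.mem_map_algebraMap_iff q.asIdeal.primeCompl _).mp ha
    rw [← map_mul, IsLocalization.eq_iff_exists q.asIdeal.primeCompl] at e
    obtain ⟨⟨d, hd⟩, hd'⟩ := e
    have hmem : φ a * (b * d) ∈ p.asIdeal.map φ := by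
      have : d * (φ a * b) = d * c := hd'
      rw [← mul_assoc, mul_comm, this]
      exact Ideal.mul_mem_left _ _ hc
    have hopen := h _ (PrimeSpectrum.isOpen_basicOpen (a := b * d))
    obtain ⟨q', hq', e'⟩ := hp.mem_open hopen ⟨q, (q.asIdeal.primeCompl.mul_mem hb hd), rfl⟩
    have hle : p.asIdeal.map φ ≤ q'.asIdeal := by
      rw [← e', PrimeSpectrum.comap_asIdeal]
      exact Ideal.map_comap_le
    refine (q'.2.mem_or_mem (hle hmem)).elim (fun hh => hap ?_) hq'
    rw [← e']
    exact hh
  obtain ⟨r, hr, hr'⟩ := (Ideal.comap_map_eq_self_iff_of_isPrime p.asIdeal).mp hc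
  refine ⟨⟨r.comap (algebraMap B _), inferInstance⟩, ?_, PrimeSpectrum.ext ?_⟩
  · show _ ⤳ q
    rw [← PrimeSpectrum.le_iff_specializes]
    intro x hx
    by_contra hxq
    exact hr.ne_top (Ideal.eq_top_of_isUnit_mem _ (Ideal.mem_comap.mp hx)
      (IsLocalization.map_units _ (⟨x, hxq⟩ : q.asIdeal.primeCompl)))
  · exact hr'

theorem generalizingMap_of_isOpenMap {X Y : Scheme.{u}} (f : X ⟶ Y) (hf : IsOpenMap f) :
    GeneralizingMap f := by
  change topologically GeneralizingMap f
  wlog hY : ∃ R, Y = Spec R
  · rw [IsZariskiLocalAtTarget.iff_of_openCover (P := topologically GeneralizingMap) Y.affineCover]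
    intro i
    exact this _ (IsZariskiLocalAtTarget.of_isPullback (P := topologically IsOpenMap)
      (iY := Y.affineCover.f i) (IsPullback.of_hasPullback ..) hf) ⟨_, rfl⟩
  obtain ⟨R, rfl⟩ := hY
  wlog hX : ∃ S, X = Spec S generalizing X
  · rw [IsZariskiLocalAtSource.iff_of_openCover (P := topologically GeneralizingMap) X.affineCover]
    intro i
    exact this _ (IsZariskiLocalAtSource.comp (P := topologically IsOpenMap) hf _) ⟨_, rfl⟩
  obtain ⟨S, rfl⟩ := hX
  obtain ⟨φ, rfl⟩ := Spec.map_surjective f
  exact generalizingMap_comap_of_isOpenMap φ.hom hf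

open TopologicalSpace in
/-- Generalizing maps with open range do not lower the dimension. -/
theorem topologicalKrullDim_range_le_of_isOpen {X Y : Type u} [TopologicalSpace X]
    [TopologicalSpace Y] [QuasiSober Y] (f : X → Y) (hc : Continuous f) (hg : GeneralizingMap f)
    (ho : IsOpen (Set.range f)) : topologicalKrullDim (Set.range f) ≤ topologicalKrullDim X := by
  refine iSup_le fun p => ?_
  -- generic points
  have hgen : ∀ i, ∃ x : X, IsGenericPoint (⟨f x, x, rfl⟩ : Set.range f) (p i : Set (Set.range f)) := by
    intro i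
    have hirr : IsIrreducible (closure (Subtype.val '' (p i : Set (Set.range f)))) :=
      ((p i).2.image _ continuous_subtype_val.continuousOn).closure
    obtain ⟨y, hy⟩ := QuasiSober.sober hirr isClosed_closure
    obtain ⟨⟨z, hz⟩, hz'⟩ := (p i).2.nonempty
    obtain ⟨x, hx⟩ : y ∈ Set.range f :=
      (hy.specializes (subset_closure ⟨⟨z, hz⟩, hz', rfl⟩)).mem_open ho hz
    refine ⟨x, ?_⟩
    rw [isGenericPoint_def, Topology.IsInducing.subtypeVal.closure_eq_preimage_closure_image,
      Set.image_singleton]
    show Subtype.val ⁻¹' closure {f x} = _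
    rw [hx, hy.def, ← Topology.IsInducing.subtypeVal.closure_eq_preimage_closure_image,
      (p i).isClosed.closure_eq]
  choose g hg' using hgen
  have hps : ∀ i : Fin p.length, p i.castSucc < p i.succ := p.step
  have hstep : ∀ i : Fin p.length, f (g i.succ) ⤳ f (g i.castSucc) := fun i =>
    ((hg' i.succ).specializes (SetLike.coe_subset_coe.mpr (hps i).le (hg' i.castSucc).mem)).map continuous_subtype_val
  have hne : ∀ i : Fin p.length, f (g i.succ) ≠ f (g i.castSucc) := fun i e => by
    refine (hps i).ne (SetLike.coe_injective ?_)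
    exact ((hg' i.castSucc).def.symm.trans
      (congrArg (fun t => closure {t}) (Subtype.ext e.symm))).trans (hg' i.succ).def
  have hlift : ∀ n : ℕ, ∀ hn : n < p.length + 1, ∃ F : ℕ → X,
      (∀ j, ∀ hj : j ≤ n, f (F j) = f (g ⟨j, by omega⟩)) ∧ ∀ j, j < n → F (j + 1) ⤳ F j := by
    intro n
    induction n with
    | zero =>
      exact fun hn => ⟨fun _ => g 0, fun j hj => by
        obtain rfl : j = 0 := by omega
        rfl, fun j hj => by omega⟩
    | succ n ih =>
      intro hn
      obtain ⟨F, hF1, hF2⟩ := ih (by omega)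
      have hs : f (g ⟨n + 1, hn⟩) ⤳ f (F n) := by
        rw [hF1 n le_rfl]
        exact hstep ⟨n, by omega⟩
      obtain ⟨x, hx1, hx2⟩ := hg hs
      refine ⟨fun j => if j ≤ n then F j else x, fun j hj => ?_, fun j hj => ?_⟩
      · by_cases h : j ≤ n
        · simp [h, hF1 j h]
        · obtain rfl : j = n + 1 := by omega
          simp [hx2]
      · by_cases h : j + 1 ≤ n
        · simp [h, show j ≤ n by omega, hF2 j (by omega)]
        · obtain rfl : j = n := by omega
          simp [hx1]
  obtain ⟨F, hF1, hF2⟩ := hlift p.length (by omega)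
  let q : LTSeries (IrreducibleCloseds X) :=
    { length := p.length
      toFun := fun i => ⟨closure {F i}, isIrreducible_singleton.closure, isClosed_closure⟩
      step := fun i => by
        show (⟨closure {F (i : ℕ)}, _, _⟩ : IrreducibleCloseds X) < ⟨closure {F ((i : ℕ) + 1)}, _, _⟩
        refine lt_of_le_of_ne ?_ fun e => ?_
        · exact fun z hz => specializes_iff_closure_subset.mp (hF2 i i.2) hz
        · have e' : closure {F (i : ℕ)} = closure {F ((i : ℕ) + 1)} := congr(($e : Set X))
          have h1 : F (i : ℕ) ⤳ F ((i : ℕ) + 1) :=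
            specializes_iff_mem_closure.mpr (e' ▸ subset_closure rfl)
          have h2 : f (g i.castSucc) ⤳ f (g i.succ) := by
            have := h1.map hc
            rwa [hF1 i (by omega), hF1 (i + 1) (by omega)] at this
          refine (hps i).not_ge fun z hz => ?_
          have hz' := (hg' i.succ).specializes hz
          exact ((Topology.IsInducing.subtypeVal.specializes_iff.mp h2).trans hz').mem_closed
            (p i.castSucc).isClosed (hg' i.castSucc).mem }
  exact le_iSup_of_le q le_rfl

end Groth.Agent.MorLib
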