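import Groth.Agent.MorLib.WeightLocal

/-! Étale neighbourhoods splitting off quasi-finite points. -/

set_option autoImplicit false
universe u

namespace Groth.Agent.MorLib.WT

open AlgebraicGeometry CategoryTheory Limits Filter Topology
open Groth.Agent.MorLib.GF (pt pt_comp geomSum)

variable {X S T V : Scheme.{u}} {Ω : Type u} [Field Ω] [IsAlgClosed Ω]

set_option backward.isDefEq.respectTransparency.types false in
theorem quasiFiniteAt_of_mem (π : T ⟶ V) [LocallyOfFiniteType π] (W : T.Opens)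
    [LocallyQuasiFinite (W.ι ≫ π)] {t : T} (ht : t ∈ W) : π.QuasiFiniteAt t := by
  have h := Scheme.Hom.quasiFiniteLocus_eq_top (f := W.ι ≫ π)
  rw [Scheme.Hom.quasiFiniteLocus_comp] at h
  exact h.ge (show (⟨t, ht⟩ : (W : Scheme.{u})) ∈ (⊤ : (W : Scheme.{u}).Opens) from trivial)

theorem IsPiece.eq_of_over' {π : T ⟶ V} [LocallyOfFiniteType π]
    {vb : Spec (CommRingCat.of Ω) ⟶ V} {W : T.Opens} {δ : Spec (CommRingCat.of Ω) ⟶ T}
    (hp : IsPiece π vb W δ) {t : T} (ht : t ∈ W) (htv : π t = pt vb) : t = pt δ := by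
  haveI := hp.finite
  obtain ⟨δ', h1, rfl⟩ := GF.exists_lift' π vb t htv (quasiFiniteAt_of_mem π W ht)
  rw [hp.uniq δ' h1 ht]

theorem IsPiece.isPurelyInseparable {π : T ⟶ V} [LocallyOfFiniteType π]
    {vb : Spec (CommRingCat.of Ω) ⟶ V} {W : T.Opens} {δ : Spec (CommRingCat.of Ω) ⟶ T}
    (hp : IsPiece π vb W δ) :
    letI := (π.residueFieldMap (pt δ)).hom.toAlgebra
    IsPurelyInseparable (V.residueField (π (pt δ))) (T.residueField (pt δ)) := by
  haveI := hp.finite
  have hq := quasiFiniteAt_of_mem π W hp.mem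
  letI := (π.residueFieldMap (pt δ)).hom.toAlgebra
  haveI : Module.Finite (V.residueField (π (pt δ))) (T.residueField (pt δ)) :=
    GF.finite_residueFieldMap' π _ hq
  obtain ⟨hf, hc⟩ := GF.lifts_at' π vb (pt δ) ((pt_comp δ π).symm.trans (congrArg pt hp.over)) hq
  rw [isPurelyInseparable_iff_finSepDegree_eq_one, ← hc]
  exact Nat.card_eq_one_iff_unique.mpr ⟨⟨fun a b => Subtype.ext
    ((hp.uniq a.1 a.2.1 (by rw [a.2.2]; exact hp.mem)).trans (hp.uniq b.1 b.2.1 (by rw [b.2.2]; exact hp.mem)).symm)⟩,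
    ⟨⟨δ, hp.over, rfl⟩⟩⟩

theorem IsPiece.eventually_disjoint' {π : T ⟶ V} [LocallyOfFiniteType π] [IsSeparated π]
    {vb : Spec (CommRingCat.of Ω) ⟶ V} {W W' : T.Opens} {δ δ' : Spec (CommRingCat.of Ω) ⟶ T}
    (hp : IsPiece π vb W δ) (hp' : IsPiece π vb W' δ') (hne : δ ≠ δ') :
    ∀ᶠ v' in 𝓝 (pt vb), ∀ t ∈ W, π t = v' → t ∉ W' := by
  refine eventually_forall_not hp.finite (isClosed_of_isFinite hp'.finite) fun t ht ht' htv => hne ?_
  haveI := hp.finite
  obtain ⟨δ'', h1, rfl⟩ := GF.exists_lift' π vb t htv (quasiFiniteAt_of_mem π W ht)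
  exact (hp.uniq δ'' h1 ht).symm.trans (hp'.uniq δ'' h1 ht')

set_option backward.isDefEq.respectTransparency.types false in
/-- Splitting off quasi-finite points over an étale neighbourhood. -/
theorem exists_split (f : X ⟶ S) [LocallyOfFiniteType f] [IsSeparated f] (s : S)
    {ι : Type} [Finite ι] (x : ι → ↑X) (hinj : Function.Injective x) (hs : ∀ i, f (x i) = s)
    (hx : ∀ i, f.QuasiFiniteAt (x i)) :
    ∃ (U : Scheme.{u}) (g : U ⟶ S) (u : U), Etale g ∧ g u = s ∧
      ∃ (J : ι → Type) (_ : ∀ i, Finite (J i)) (V : ∀ i, J i → (pullback f g).Opens)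
        (v : ∀ i, J i → ↑(pullback f g)),
        (∀ i j, IsClopen ((V i j : Set ↑(pullback f g)))) ∧
        (∀ i j i' j', ((V i j : Set ↑(pullback f g)) ∩ (V i' j')).Nonempty → i = i' ∧ HEq j j') ∧
        (∀ i j, v i j ∈ V i j ∧ IsFinite ((V i j).ι ≫ pullback.snd f g) ∧ pullback.snd f g (v i j) = u ∧
          (∀ w : ↑(pullback f g), w ∈ V i j → pullback.snd f g w = u → w = v i j) ∧
          (letI := ((pullback.snd f g).residueFieldMap (v i j)).hom.toAlgebra
           IsPurelyInseparable ↑(U.residueField (pullback.snd f g (v i j))) ↑((pullback f g).residueField (v i j))) ∧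
          pullback.fst f g (v i j) = x i) ∧
        (∀ (w : ↑(pullback f g)) (i : ι), pullback.snd f g w = u → pullback.fst f g w = x i → ∃ j, w ∈ V i j) := by
  classical
  obtain ⟨Ω, _, _, sb, rfl⟩ := GF.exists_geomPoint s
  let L := fun i => {δ : Spec (CommRingCat.of Ω) ⟶ X // δ ≫ f = sb ∧ pt δ = x i}
  haveI : ∀ i, Finite (L i) := fun i => (GF.lifts_at' f sb (x i) (hs i) (hx i)).1
  let J := fun i => Fin (Nat.card (L i))
  let e := fun i => (Finite.equivFin (L i)).symm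
  let Idx : Type u := ULift.{u} (Σ i, J i)
  let γ : Idx → Lifts f sb := fun a => ⟨(e a.down.1 a.down.2).1, (e a.down.1 a.down.2).2.1⟩
  have hγx : ∀ a : Idx, pt (γ a).1 = x a.down.1 := fun a => (e a.down.1 a.down.2).2.2
  have hγinj : Function.Injective γ := by
    rintro ⟨⟨i, j⟩⟩ ⟨⟨i', j'⟩⟩ h
    have h' : (e i j).1 = (e i' j').1 := congrArg Subtype.val h
    obtain rfl : i = i' := hinj ((e i j).2.2.symm.trans ((congrArg pt h').trans (e i' j').2.2))
    rw [(e i).injective (Subtype.ext h')]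
  obtain ⟨T, V₁, k, π, h, vb, W, δ, hc, he, rfl, hp⟩ := exists_decomp' f sb γ fun a => by
    rw [hγx]; exact hx _
  haveI : IsSeparated π := MorphismProperty.of_isPullback hc inferInstance
  haveI : LocallyOfFiniteType π := MorphismProperty.of_isPullback hc inferInstance
  have hne : ∀ a b, a ≠ b → δ a ≠ δ b := fun a b hab hd =>
    hab (hγinj (Subtype.ext ((hp a).2.symm.trans ((congrArg (· ≫ k) hd).trans (hp b).2))))
  have h2 : ∀ᶠ v' in 𝓝 (pt vb), ∀ a b, a ≠ b → ∀ t ∈ W a, π t = v' → t ∉ W b := by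
    simp only [eventually_all]
    exact fun a b hab => (hp a).1.eventually_disjoint' (hp b).1 (hne a b hab)
  obtain ⟨N, hN, hNo, hvN⟩ := mem_nhds_iff.mp h2
  let N' : Scheme.Opens _ := ⟨N, hNo⟩
  obtain ⟨u₀, hu₀⟩ := exists_lift_to_open N' vb hvN
  let g : (N' : Scheme.{u}) ⟶ S := N'.ι ≫ h
  let π' := pullback.snd f g
  let k' := pullback.fst f g
  let m : pullback f g ⟶ T := hc.lift k' (π' ≫ N'.ι) (by rw [pullback.condition, Category.assoc])
  have hm : IsPullback m π' π N'.ι :=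
    IsPullback.of_right (by rw [IsPullback.lift_fst]; exact IsPullback.of_hasPullback f g)
      (hc.lift_snd ..) hc
  have hp' := fun a => (hp a).1.baseChange hm u₀ hu₀
  let d := fun a => hm.lift (δ a) u₀ (by rw [(hp a).1.over, hu₀])
  have hsu : pt u₀ = u₀ (IsLocalRing.closedPoint Ω) := rfl
  have hkd : ∀ a, d a ≫ k' = (γ a).1 := fun a => by
    rw [show k' = m ≫ k from (hc.lift_fst ..).symm, ← Category.assoc,
      show d a ≫ m = δ a from hm.lift_fst .., (hp a).2]
  refine ⟨N', g, pt u₀, inferInstance, ?_, J, fun i => inferInstance,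
    fun i j => m ⁻¹ᵁ W ⟨⟨i, j⟩⟩, fun i j => pt (d ⟨⟨i, j⟩⟩), ?_, ?_, ?_, ?_⟩
  · rw [← pt_comp, ← Category.assoc, hu₀]
  · exact fun i j => ⟨isClosed_of_isFinite (hp' _).finite, (m ⁻¹ᵁ W _).2⟩
  · intro i j i' j' ⟨t, ht, ht'⟩
    by_contra hne'
    refine hN (π' t).2 ⟨⟨i, j⟩⟩ ⟨⟨i', j'⟩⟩ (fun hab => hne' ?_) (m t) ht ?_ ht'
    · obtain ⟨rfl, h2⟩ := Sigma.mk.inj_iff.mp (congrArg ULift.down hab)
      exact ⟨rfl, h2⟩
    · rw [← Scheme.Hom.comp_apply, hc.lift_snd]
      exact Scheme.Hom.comp_apply ..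
  · intro i j
    have h1 := hp' ⟨⟨i, j⟩⟩
    refine ⟨h1.mem, h1.finite, (pt_comp _ _).symm.trans (congrArg pt h1.over), fun w hw hwu => ?_,
      h1.isPurelyInseparable, ?_⟩
    · exact h1.eq_of_over' hw hwu
    · rw [← pt_comp, hkd]
      exact hγx _
  · intro w i hwu hwx
    let X₀ := f.quasiFiniteLocus
    haveI : LocallyQuasiFinite (X₀.ι ≫ f) := by
      rw [← Scheme.Hom.quasiFiniteLocus_eq_top_iff, Scheme.Hom.quasiFiniteLocus_comp]
      exact Scheme.Opens.ι_preimage_self X₀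
    haveI : LocallyQuasiFinite ((k' ⁻¹ᵁ X₀).ι ≫ π') :=
      MorphismProperty.of_isPullback
        ((isPullback_morphismRestrict k' X₀).paste_vert (IsPullback.of_hasPullback f g)) inferInstance
    have hw : w ∈ k' ⁻¹ᵁ X₀ := by
      show k' w ∈ X₀
      rw [hwx]; exact hx i
    obtain ⟨dw, hdw, rfl⟩ := GF.exists_lift' π' u₀ w hwu (quasiFiniteAt_of_mem π' _ hw)
    let l : L i := ⟨dw ≫ k', by
      rw [Category.assoc, pullback.condition, reassoc_of% hdw, ← Category.assoc, hu₀], by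
      rw [pt_comp]; exact hwx⟩
    refine ⟨(e i).symm l, ?_⟩
    have hd : dw = d ⟨⟨i, (e i).symm l⟩⟩ := (IsPullback.of_hasPullback f g).hom_ext
      ((congrArg Subtype.val ((e i).apply_symm_apply l)).symm.trans (hkd ⟨⟨i, (e i).symm l⟩⟩).symm)
      (hdw.trans (hm.lift_snd ..).symm)
    rw [hd]
    exact (hp' _).mem

end Groth.Agent.MorLib.WT
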