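import Mathlib.AlgebraicGeometry.Morphisms.Integral
import Mathlib.AlgebraicGeometry.Morphisms.UniversallyInjective
import Mathlib.AlgebraicGeometry.Morphisms.UniversallyOpen
import Mathlib.AlgebraicGeometry.Morphisms.Affine
import Mathlib.AlgebraicGeometry.Morphisms.Proper
import Mathlib.AlgebraicGeometry.Morphisms.Immersion
import Groth.Prelude.Def_Flat

/-! Universal homeomorphisms. -/

universe u

namespace Groth.Agent.MorLib

open AlgebraicGeometry CategoryTheory Limits MorphismProperty

variable {X Y Z : Scheme.{u}}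

theorem isHomeomorph_of_isUnivHomeo {f : X ⟶ Y} (hf : FlatMor.IsUnivHomeo f) :
    IsHomeomorph f := hf _ _ _ IsPullback.of_id_snd

theorem universallyClosed_of_isUnivHomeo {f : X ⟶ Y} (hf : FlatMor.IsUnivHomeo f) :
    UniversallyClosed f := ⟨fun _ _ _ _ _ h => (hf _ _ _ h).isClosedMap⟩

theorem universallyInjective_of_isUnivHomeo {f : X ⟶ Y} (hf : FlatMor.IsUnivHomeo f) :
    UniversallyInjective f := ⟨fun _ _ _ _ _ h => (hf _ _ _ h).injective⟩

theorem universallyOpen_of_isUnivHomeo {f : X ⟶ Y} (hf : FlatMor.IsUnivHomeo f) :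
    UniversallyOpen f := ⟨fun _ _ _ _ _ h => (hf _ _ _ h).isOpenMap⟩

theorem surjective_of_isUnivHomeo {f : X ⟶ Y} (hf : FlatMor.IsUnivHomeo f) : Surjective f :=
  ⟨(isHomeomorph_of_isUnivHomeo hf).surjective⟩

theorem isSeparated_of_universallyInjective (f : X ⟶ Y) [UniversallyInjective f] :
    IsSeparated f := by
  have hs : Surjective (pullback.diagonal f) := (UniversallyInjective.iff_diagonal f).mp ‹_›
  exact ⟨IsClosedImmersion.of_isPreimmersion _
    (by rw [hs.surj.range_eq]; exact isClosed_univ)⟩

theorem isAffineHom_of_isUnivHomeo {f : X ⟶ Y} (hf : FlatMor.IsUnivHomeo f) : IsAffineHom f := by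
  have h := isHomeomorph_of_isUnivHomeo hf
  exact isAffineHom_of_isInducing f h.isInducing (by rw [h.surjective.range_eq]; exact isClosed_univ)

theorem isIntegralHom_of_isUnivHomeo {f : X ⟶ Y} (hf : FlatMor.IsUnivHomeo f) :
    IsIntegralHom f :=
  IsIntegralHom.iff_universallyClosed_and_isAffineHom.mpr
    ⟨universallyClosed_of_isUnivHomeo hf, isAffineHom_of_isUnivHomeo hf⟩

theorem isUnivHomeo_of_universallyClosed (f : X ⟶ Y) [UniversallyClosed f]
    [UniversallyInjective f] [Surjective f] : FlatMor.IsUnivHomeo f := by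
  intro X' Y' i₁ i₂ f' h
  have : UniversallyClosed f' :=
    MorphismProperty.of_isPullback (P := @UniversallyClosed) h.flip ‹_›
  have : UniversallyInjective f' :=
    MorphismProperty.of_isPullback (P := @UniversallyInjective) h.flip ‹_›
  have : Surjective f' := MorphismProperty.of_isPullback (P := @Surjective) h.flip ‹_›
  exact isHomeomorph_iff_continuous_isClosedMap_bijective.mpr
    ⟨f'.continuous, f'.isClosedMap, f'.injective, f'.surjective⟩

theorem isUnivHomeo_iff {f : X ⟶ Y} :
    FlatMor.IsUnivHomeo f ↔ UniversallyClosed f ∧ UniversallyInjective f ∧ Surjective f :=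
  ⟨fun h => ⟨universallyClosed_of_isUnivHomeo h, universallyInjective_of_isUnivHomeo h,
    surjective_of_isUnivHomeo h⟩, fun ⟨_, _, _⟩ => isUnivHomeo_of_universallyClosed f⟩

theorem universallyInjective_of_comp (f : X ⟶ Y) (g : Y ⟶ Z)
    (h : UniversallyInjective (f ≫ g)) : UniversallyInjective f := by
  refine ((tfae_universallyInjective f).out 0 1 rfl rfl).mpr fun K _ a b e => ?_
  exact ((tfae_universallyInjective (f ≫ g)).out 0 1 rfl rfl).mp h K
    (by simpa using congr($e ≫ g))

theorem universallyInjective_of_comp_surjective (f : X ⟶ Y) (g : Y ⟶ Z) [Surjective f]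
    (h : UniversallyInjective (f ≫ g)) : UniversallyInjective g := by
  constructor
  intro Y' Z' i₁ i₂ g' hg a b hab
  have hX := (IsPullback.of_hasPullback f i₁).flip.paste_horiz hg
  have hinj : Function.Injective (pullback.snd f i₁ ≫ g') :=
    h.1 _ _ _ hX
  obtain ⟨a', rfl⟩ := (pullback.snd f i₁).surjective a
  obtain ⟨b', rfl⟩ := (pullback.snd f i₁).surjective b
  rw [hinj hab]

theorem universallyClosed_of_comp_of_universallyInjective (f : X ⟶ Y) (g : Y ⟶ Z)
    [UniversallyClosed (f ≫ g)] [UniversallyInjective g] : UniversallyClosed f :=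
  have := isSeparated_of_universallyInjective g
  MorphismProperty.of_postcomp (W := @UniversallyClosed) (W' := @IsSeparated) f g ‹_› ‹_›

theorem isUnivHomeo_two_out_of_three_left (f : X ⟶ Y) (g : Y ⟶ Z)
    (hfg : FlatMor.IsUnivHomeo (f ≫ g)) (hg : FlatMor.IsUnivHomeo g) :
    FlatMor.IsUnivHomeo f := by
  have := universallyClosed_of_isUnivHomeo hfg
  have := universallyInjective_of_isUnivHomeo hg
  have := universallyClosed_of_comp_of_universallyInjective f g
  have := universallyInjective_of_comp f g (universallyInjective_of_isUnivHomeo hfg)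
  have : Surjective f := ⟨fun y => by
    obtain ⟨x, hx⟩ := (isHomeomorph_of_isUnivHomeo hfg).surjective (g y)
    exact ⟨x, (isHomeomorph_of_isUnivHomeo hg).injective hx⟩⟩
  exact isUnivHomeo_of_universallyClosed f

theorem isUnivHomeo_two_out_of_three_right (f : X ⟶ Y) (g : Y ⟶ Z)
    (hfg : FlatMor.IsUnivHomeo (f ≫ g)) (hf : FlatMor.IsUnivHomeo f) :
    FlatMor.IsUnivHomeo g := by
  have := universallyClosed_of_isUnivHomeo hfg
  have := surjective_of_isUnivHomeo hf
  have := surjective_of_isUnivHomeo hfg
  have : UniversallyClosed g := UniversallyClosed.of_comp_surjective f g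
  have := universallyInjective_of_comp_surjective f g (universallyInjective_of_isUnivHomeo hfg)
  have : Surjective g := Surjective.of_comp f g
  exact isUnivHomeo_of_universallyClosed g

end Groth.Agent.MorLib
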