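import Groth.Agent.MorLib.LimPro
import Groth.Agent.MorLib.LimTop

/-! The underlying space of a limit of schemes is the limit of the underlying spaces. -/

set_option autoImplicit false
universe u

namespace Groth.Agent.MorLib.LimSpace

open AlgebraicGeometry CategoryTheory Limits TopologicalSpace Topology
open Groth.Agent.SpecLib Groth.Agent.EGA41Lib

theorem pro_singleton {X : Scheme.{u}} (x : X) : ProCons.IsProConstructible ({x} : Set X) :=
  pro_iff.mpr fun V hV => by
    haveI := spectralSpace_affine hV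
    have hss : (Subtype.val ⁻¹' {x} : Set (V : Set X)).Subsingleton := fun a ha b hb =>
      Subtype.ext (ha.trans hb.symm)
    rcases hss.eq_empty_or_singleton with h | ⟨y, h⟩
    · rw [h]; exact cc_of_isClosed isClosed_empty
    · rw [h]; exact cc_singleton y

variable {I : Type u} [SmallCategory I] [IsCofiltered I] {D : I ⥤ Scheme.{u}} {c : Cone D}
  (hc : IsLimit c) [∀ {i j : I} (f : i ⟶ j), IsAffineHom (D.map f)]
include hc

theorem exists_point (x : ∀ j, D.obj j) (hx : ∀ {i j : I} (f : i ⟶ j), D.map f (x i) = x j) :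
    ∃ s : c.pt, ∀ j, c.π.app j s = x j := by
  obtain ⟨i⟩ := IsCofiltered.nonempty (C := I)
  obtain ⟨_, ⟨V, hV, rfl⟩, hxV, -⟩ :=
    (D.obj i).isBasis_affineOpens.exists_subset_of_mem_open (Set.mem_univ (x i)) isOpen_univ
  let T : Over i := Over.mk (𝟙 i)
  haveI : CompactSpace ((opensDiagram D i V).obj T) :=
    isCompact_iff_compactSpace.mp ((D.map T.hom).isCompact_preimage hV.isCompact)
  haveI : ∀ {a b : Over i} (f : a ⟶ b), IsAffineHom ((opensDiagram D i V).map f) :=
    fun f => inferInstance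
  let x' : ∀ j : Over i, (opensDiagram D i V).obj j := fun j =>
    ⟨x j.left, show D.map j.hom (x j.left) ∈ V by rw [hx]; exact hxV⟩
  obtain ⟨s, hs⟩ := LimPro.exists_mem (isLimitOpensCone D c hc i V) T (fun j => {x' j})
    (fun j _ => pro_singleton _) (fun a b f y hy => by
      rw [Set.mem_singleton_iff] at hy
      subst hy
      show (opensDiagram D i V).map f (x' a) = x' b
      have e : (opensDiagram D i V).map f ≫ (D.map b.hom ⁻¹ᵁ V).ι =
          (D.map a.hom ⁻¹ᵁ V).ι ≫ D.map f.left := Scheme.Hom.resLE_comp_ι _ _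
      refine (D.map b.hom ⁻¹ᵁ V).ι.injective ?_
      show ((opensDiagram D i V).map f ≫ (D.map b.hom ⁻¹ᵁ V).ι) (x' a) = x b.left
      rw [e]
      exact hx f.left) (fun j _ => ⟨_, rfl⟩)
  refine ⟨s.1, fun j => ?_⟩
  let k : Over i := Over.mk (IsCofiltered.minToLeft i j)
  have e : (opensCone D c i V).π.app k ≫ (D.map k.hom ⁻¹ᵁ V).ι =
      (c.π.app i ⁻¹ᵁ V).ι ≫ c.π.app k.left := Scheme.Hom.resLE_comp_ι _ _
  have h1 : (D.map k.hom ⁻¹ᵁ V).ι ((opensCone D c i V).π.app k s) = x k.left :=
    congrArg Subtype.val (hs k)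
  have h2 : ((opensCone D c i V).π.app k ≫ (D.map k.hom ⁻¹ᵁ V).ι) s = x k.left := h1
  rw [e] at h2
  have h3 : c.π.app (IsCofiltered.min i j) s.1 = x (IsCofiltered.min i j) := h2
  rw [← hx (IsCofiltered.minToRight i j), ← h3, LimTop.π_apply]

theorem point_ext {s s' : c.pt} (h : ∀ j, c.π.app j s = c.π.app j s') : s = s' := by
  refine Inseparable.eq (inseparable_iff_forall_isOpen.mpr fun U hU => ?_)
  obtain ⟨i⟩ := IsCofiltered.nonempty (C := I)
  constructor <;> intro hs
  · obtain ⟨j, _, V, -, hsV, hVU⟩ := LimTop.exists_basic hc i hU hs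
    exact hVU (show c.π.app j s' ∈ V by rw [← h]; exact hsV)
  · obtain ⟨j, _, V, -, hsV, hVU⟩ := LimTop.exists_basic hc i hU hs
    exact hVU (show c.π.app j s ∈ V by rw [h]; exact hsV)

theorem nonempty_isLimit_forgetToTop : Nonempty (IsLimit (Scheme.forgetToTop.mapCone c)) := by
  have key : ∀ (s : Cone (D ⋙ Scheme.forgetToTop)) (a : s.pt),
      ∃ p : c.pt, ∀ j, c.π.app j p = s.π.app j a := fun s a =>
    exists_point hc (fun j => s.π.app j a) (fun f => congr($(s.w f) a))
  choose l hl using key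
  have hcont : ∀ s : Cone (D ⋙ Scheme.forgetToTop), Continuous (l s) := fun s => by
    refine ⟨fun U hU => isOpen_iff_forall_mem_open.mpr fun a ha => ?_⟩
    obtain ⟨i⟩ := IsCofiltered.nonempty (C := I)
    obtain ⟨j, _, V, -, hsV, hVU⟩ := LimTop.exists_basic hc i hU ha
    refine ⟨(s.π.app j) ⁻¹' (V : Set (D.obj j)), fun b hb => hVU ?_,
      V.2.preimage (s.π.app j).hom.continuous, ?_⟩
    · show c.π.app j (l s b) ∈ V
      rw [hl]; exact hb
    · show s.π.app j a ∈ (V : Set (D.obj j))
      rw [← hl]; exact hsV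
  exact ⟨{ lift := fun s => TopCat.ofHom ⟨l s, hcont s⟩
           fac := fun s j => by ext a; exact hl s a j
           uniq := fun s m hm => by
             ext a
             refine point_ext hc fun j => ?_
             exact (congr($(hm j) a)).trans (hl s a j).symm }⟩

end Groth.Agent.MorLib.LimSpace
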