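import Groth.Agent.EGA41Lib.ConsX
import Groth.Agent.MorLib.LimPoints

/-! Pro-constructible subsets in limits of schemes. -/

set_option autoImplicit false
universe u

namespace Groth.Agent.MorLib.LimPro

open AlgebraicGeometry CategoryTheory Limits TopologicalSpace Topology
open Groth.Agent.SpecLib Groth.Agent.EGA41Lib

variable {I : Type u} [SmallCategory I] [IsCofiltered I] {D : I ⥤ Scheme.{u}} {c : Cone D}
  (hc : IsLimit c) [∀ {i j : I} (f : i ⟶ j), IsAffineHom (D.map f)]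
include hc

theorem exists_mem_affine [∀ j, IsAffine (D.obj j)] (T : ∀ j, Set (D.obj j)) (hT : ∀ j, CC (T j))
    (hm : ∀ (i j : I) (φ : i ⟶ j), T i ⊆ D.map φ ⁻¹' T j) (hne : ∀ j, (T j).Nonempty) :
    ∃ s : c.pt, ∀ j, c.π.app j s ∈ T j := by
  haveI : ∀ j, SpectralSpace (D.obj j) := fun j => {}
  obtain ⟨i⟩ := IsCofiltered.nonempty (C := I)
  haveI := isAffineHom_π_app D c hc i
  haveI : IsAffine c.pt := isAffine_of_isAffineHom (c.π.app i)
  haveI : SpectralSpace c.pt := {}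
  have hx : ∀ j, ∃ s : c.pt, c.π.app j s ∈ T j := fun j => by
    let f : Over j → Set (D.obj j) := fun k => D.map k.hom '' T k.left
    have hd : Directed (· ⊇ ·) f := fun k l => by
      refine ⟨IsCofiltered.min k l, ?_, ?_⟩
      · rintro _ ⟨y, hy, rfl⟩
        refine ⟨D.map (IsCofiltered.minToLeft k l).left y, hm _ _ _ hy, ?_⟩
        rw [← Scheme.Hom.comp_apply, ← D.map_comp, Over.w]
      · rintro _ ⟨y, hy, rfl⟩
        refine ⟨D.map (IsCofiltered.minToRight k l).left y, hm _ _ _ hy, ?_⟩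
        rw [← Scheme.Hom.comp_apply, ← D.map_comp, Over.w]
    haveI : Nonempty (Over j) := ⟨Over.mk (𝟙 j)⟩
    obtain ⟨x, hx⟩ := CC.nonempty_iInter f hd (fun k => (hne k.left).image _)
      (fun k => CC.image (D.map k.hom).isSpectralMap (hT k.left))
    rw [Set.mem_iInter] at hx
    have hxT : x ∈ T j := by
      obtain ⟨y, hy, rfl⟩ := hx (Over.mk (𝟙 j))
      exact hm _ _ (𝟙 j) hy
    obtain ⟨s, rfl⟩ : x ∈ Set.range (c.π.app j) := LimPts.mem_range_π hc x fun k φ => by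
      obtain ⟨y, -, hy⟩ := hx (Over.mk φ)
      exact ⟨y, hy⟩
    exact ⟨s, hxT⟩
  haveI : Nonempty I := IsCofiltered.nonempty
  haveI : ∀ j, QuasiCompact (c.π.app j) := fun j => by
    haveI := isAffineHom_π_app D c hc j; infer_instance
  let P : I → Set c.pt := fun j => c.π.app j ⁻¹' T j
  have hd : Directed (· ⊇ ·) P := fun k l => by
    refine ⟨IsCofiltered.min k l, ?_, ?_⟩
    · intro s hs
      have := hm _ _ (IsCofiltered.minToLeft k l) hs
      rwa [Set.mem_preimage, ← Scheme.Hom.comp_apply, c.w] at this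
    · intro s hs
      have := hm _ _ (IsCofiltered.minToRight k l) hs
      rwa [Set.mem_preimage, ← Scheme.Hom.comp_apply, c.w] at this
  obtain ⟨s, hs⟩ := CC.nonempty_iInter P hd hx (fun j => CC.preimage (c.π.app j).isSpectralMap (hT j))
  rw [Set.mem_iInter] at hs
  exact ⟨s, hs⟩

/-- A compatible system of nonempty pro-constructible subsets over a quasi-compact stage has a
point in the limit. -/
theorem exists_mem (i₀ : I) [CompactSpace (D.obj i₀)] (T : ∀ j, Set (D.obj j))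
    (hT : ∀ j (_ : j ⟶ i₀), ProCons.IsProConstructible (T j))
    (hm : ∀ (i j : I) (φ : i ⟶ j), T i ⊆ D.map φ ⁻¹' T j)
    (hne : ∀ (j : I) (_ : j ⟶ i₀), (T j).Nonempty) :
    ∃ s : c.pt, ∀ j, c.π.app j s ∈ T j := by
  classical
  choose V hV hxV using fun x : D.obj i₀ =>
    (show ∃ V : (D.obj i₀).Opens, IsAffineOpen V ∧ x ∈ V from by
      obtain ⟨_, ⟨V, hV, rfl⟩, hxV, -⟩ :=
        (D.obj i₀).isBasis_affineOpens.exists_subset_of_mem_open (Set.mem_univ x) isOpen_univ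
      exact ⟨V, hV, hxV⟩)
  obtain ⟨t, ht⟩ := CompactSpace.elim_nhds_subcover (fun x => (V x : Set _))
    (fun x => (V x).2.mem_nhds (hxV x))
  by_cases h : ∃ x : D.obj i₀, ∀ j : Over i₀, ∃ y ∈ T j.left, D.map j.hom y ∈ V x
  · obtain ⟨x, hx⟩ := h
    haveI : ∀ j, IsAffine ((opensDiagram D i₀ (V x)).obj j) := fun j => (hV x).preimage (D.map j.hom)
    let T' : ∀ j : Over i₀, Set ((opensDiagram D i₀ (V x)).obj j) :=
      fun j => (D.map j.hom ⁻¹ᵁ V x).ι ⁻¹' T j.left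
    have hT' : ∀ j, CC (T' j) := fun j => pro_iff.mp (hT j.left j.hom) _ ((hV x).preimage (D.map j.hom))
    have hm' : ∀ (a b : Over i₀) (φ : a ⟶ b), T' a ⊆ (opensDiagram D i₀ (V x)).map φ ⁻¹' T' b := by
      intro a b φ y hy
      have := hm _ _ φ.left hy
      rw [Set.mem_preimage, ← Scheme.Hom.comp_apply] at this
      show ((opensDiagram D i₀ (V x)).map φ ≫ (D.map b.hom ⁻¹ᵁ V x).ι) y ∈ T b.left
      have e : (opensDiagram D i₀ (V x)).map φ ≫ (D.map b.hom ⁻¹ᵁ V x).ι =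
          (D.map a.hom ⁻¹ᵁ V x).ι ≫ D.map φ.left := Scheme.Hom.resLE_comp_ι _ _
      rw [e]; exact this
    have hne' : ∀ j, (T' j).Nonempty := fun j => by
      obtain ⟨y, hy, hyV⟩ := hx j
      exact ⟨⟨y, hyV⟩, hy⟩
    haveI : ∀ {a b : Over i₀} (f : a ⟶ b), IsAffineHom ((opensDiagram D i₀ (V x)).map f) :=
      fun f => inferInstance
    obtain ⟨s, hs⟩ := exists_mem_affine (isLimitOpensCone D c hc i₀ (V x)) T' hT' hm' hne'
    refine ⟨s.1, fun j => ?_⟩
    let k : Over i₀ := Over.mk (IsCofiltered.minToLeft i₀ j)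
    have h1 : ((opensCone D c i₀ (V x)).π.app k ≫ (D.map k.hom ⁻¹ᵁ V x).ι) s ∈ T k.left := hs k
    have e : (opensCone D c i₀ (V x)).π.app k ≫ (D.map k.hom ⁻¹ᵁ V x).ι =
        (c.π.app i₀ ⁻¹ᵁ V x).ι ≫ c.π.app k.left := Scheme.Hom.resLE_comp_ι _ _
    rw [e] at h1
    have h3 : c.π.app k.left s.1 ∈ T k.left := h1
    have h2 : D.map (IsCofiltered.minToRight i₀ j) (c.π.app k.left s.1) ∈ T j :=
      hm _ _ (IsCofiltered.minToRight i₀ j) h3
    rwa [← Scheme.Hom.comp_apply, c.w] at h2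
  · push Not at h
    choose a ha using h
    obtain ⟨m, hm'⟩ := IsCofiltered.inf_objs_exists (insert (Over.mk (𝟙 i₀)) (t.image a))
    obtain ⟨y, hy⟩ := hne m.left m.hom
    obtain ⟨x, hx, hyx⟩ := Set.mem_iUnion₂.mp (ht.ge (Set.mem_univ (D.map m.hom y)))
    obtain ⟨φ⟩ := hm' (Finset.mem_insert_of_mem (Finset.mem_image_of_mem a hx))
    refine (ha x _ (hm _ _ φ.left hy) ?_).elim
    rw [← Scheme.Hom.comp_apply, ← D.map_comp, Over.w φ]
    exact hyx

omit [IsCofiltered I] [∀ {i j : I} (f : i ⟶ j), IsAffineHom (D.map f)] hc in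
theorem isProConstructible_inter {X : Scheme.{u}} {A B : Set X} (hA : ProCons.IsProConstructible A)
    (hB : ProCons.IsProConstructible B) : ProCons.IsProConstructible (A ∩ B) :=
  pro_iff.mpr fun V hV => (pro_iff.mp hA V hV).inter (pro_iff.mp hB V hV)

/-- An inclusion between systems in the limit holds at a late stage. -/
theorem subset_iff (i₀ : I) [CompactSpace (D.obj i₀)] (E F : ∀ j, Set (D.obj j))
    (hE : ∀ j (_ : j ⟶ i₀), ProCons.IsProConstructible (E j))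
    (hF : ∀ j (_ : j ⟶ i₀), ProCons.IsIndConstructible (F j))
    (hEm : ∀ (i j : I) (φ : i ⟶ j), E i ⊆ D.map φ ⁻¹' E j)
    (hFm : ∀ (i j : I) (φ : i ⟶ j), D.map φ ⁻¹' F j ⊆ F i) :
    (⋂ i, c.π.app i ⁻¹' E i : Set c.pt) ⊆ (⋃ i, c.π.app i ⁻¹' F i : Set c.pt) ↔
      ∃ (i : I) (_ : i ⟶ i₀), ∀ (j : I) (_ : j ⟶ i), E j ⊆ F j := by
  constructor
  · intro h
    by_contra hn
    push Not at hn
    have hne : ∀ (j : I) (_ : j ⟶ i₀), (E j ∩ (F j)ᶜ).Nonempty := by
      intro j φ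
      obtain ⟨k, g, hk⟩ := hn j φ
      obtain ⟨y, hy, hyF⟩ := Set.not_subset.mp hk
      exact ⟨D.map g y, hEm _ _ g hy, fun hF' => hyF (hFm _ _ g hF')⟩
    obtain ⟨s, hs⟩ := exists_mem hc i₀ (fun j => E j ∩ (F j)ᶜ)
      (fun j φ => isProConstructible_inter (hE j φ) (ind_iff_compl.mp (hF j φ)))
      (fun i j φ y hy => ⟨hEm _ _ φ hy.1, fun hF' => hy.2 (hFm _ _ φ hF')⟩) hne
    obtain ⟨k, hk⟩ := Set.mem_iUnion.mp (h (Set.mem_iInter.mpr fun j => (hs j).1))
    exact (hs k).2 hk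
  · rintro ⟨i, φ, hi⟩ s hs
    exact Set.mem_iUnion.mpr ⟨i, hi i (𝟙 i) (Set.mem_iInter.mp hs i)⟩

omit [IsCofiltered I] [∀ {i j : I} (f : i ⟶ j), IsAffineHom (D.map f)] hc in
theorem isIndConstructible_preimage {X Y : Scheme.{u}} {A : Set Y} (hA : ProCons.IsIndConstructible A)
    (f : X ⟶ Y) : ProCons.IsIndConstructible (f ⁻¹' A) := by
  rw [ind_iff_compl, ← Set.preimage_compl]
  exact ProConsLib.preimage (ind_iff_compl.mp hA) f

/-- Single stage version. -/
theorem exists_subset (i : I) [CompactSpace (D.obj i)] {A B : Set (D.obj i)}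
    (hA : ProCons.IsProConstructible A) (hB : ProCons.IsIndConstructible B)
    (h : c.π.app i ⁻¹' A ⊆ c.π.app i ⁻¹' B) :
    ∃ (j : I) (φ : j ⟶ i), D.map φ ⁻¹' A ⊆ D.map φ ⁻¹' B := by
  let D' := Over.forget i ⋙ D
  haveI : ∀ {a b : Over i} (f : a ⟶ b), IsAffineHom (D'.map f) := fun f => inferInstanceAs (IsAffineHom (D.map f.left))
  have hc' : IsLimit (c.whisker (Over.forget i)) := (Functor.Initial.isLimitWhiskerEquiv (Over.forget i) c).symm hc
  haveI : CompactSpace (D'.obj (Over.mk (𝟙 i))) := ‹CompactSpace (D.obj i)›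
  obtain ⟨j, -, hj⟩ := (subset_iff hc' (Over.mk (𝟙 i)) (fun j => D.map j.hom ⁻¹' A)
    (fun j => D.map j.hom ⁻¹' B) (fun j _ => ProConsLib.preimage hA _)
    (fun j _ => isIndConstructible_preimage hB _)
    (fun a b f y hy => by
      show D.map b.hom (D.map f.left y) ∈ A
      rw [← Scheme.Hom.comp_apply, ← D.map_comp, Over.w f]; exact hy)
    (fun a b f y hy => by
      show D.map a.hom y ∈ B
      rw [← Over.w f, D.map_comp, Scheme.Hom.comp_apply]; exact hy)).mp (by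
    intro s hs
    refine Set.mem_iUnion.mpr ⟨Over.mk (𝟙 i), ?_⟩
    have h1 := Set.mem_iInter.mp hs (Over.mk (𝟙 i))
    show D.map (𝟙 i) (c.π.app i s) ∈ B
    change D.map (𝟙 i) (c.π.app i s) ∈ A at h1
    rw [← Scheme.Hom.comp_apply, c.w] at h1 ⊢
    exact h h1)
  exact ⟨j.left, j.hom, hj j (𝟙 j)⟩

end Groth.Agent.MorLib.LimPro
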