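import Mathlib.AlgebraicGeometry.Modules.Tilde
import Groth.Agent.QCoh.Sections
import Mathlib.Algebra.Module.Projective
import Mathlib.LinearAlgebra.Finsupp.LinearCombination

/-! Sections of `tilde` of a projective module over affine opens are projective. -/

set_option autoImplicit false
universe u

namespace Groth.Agent.MorLib.TP

open AlgebraicGeometry CategoryTheory TopologicalSpace Opposite

variable {A : CommRingCat.{u}}

/-- `M → Γ(M~, U)`. -/
noncomputable def sec (M : ModuleCat.{u} A) (U : (Spec A).Opens) (m : M) : Γ(tilde M, U) :=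
  (tilde.toOpen M U).hom m

theorem sec_map {M N : ModuleCat.{u} A} (φ : M ⟶ N) (U : (Spec A).Opens) (m : M) :
    (tilde.map φ).app U (sec M U m) = sec N U (φ m) := by
  have := congrArg (fun ψ : M ⟶ _ => ψ m) (tilde.toOpen_map_app φ U)
  exact this

theorem sec_res (M : ModuleCat.{u} A) {U V : (Spec A).Opens} (i : V ⟶ U) (m : M) :
    (tilde M).presheaf.map i.op (sec M U m) = sec M V m := by
  have := congrArg (fun ψ : M ⟶ _ => ψ m) (tilde.toOpen_res M U V i)
  exact this

variable (A) (ι : Type u)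

noncomputable abbrev free : ModuleCat.{u} A := ModuleCat.of A (ι →₀ A)

/-- The `j`-th coefficient of a section of the free sheaf. -/
noncomputable def coeff (U : (Spec A).Opens) (j : ι) :
    Γ(tilde (free A ι), U) →ₗ[Γ(Spec A, U)] Γ(tilde (ModuleCat.of A A), U) where
  toFun := (tilde.map (ModuleCat.ofHom (Finsupp.lapply j) : free A ι ⟶ ModuleCat.of A A)).app U
  map_add' := map_add _
  map_smul' r x := Scheme.Modules.Hom.app_smul _ r x

variable {A ι}

theorem coeff_sec (U : (Spec A).Opens) (j : ι) (v : ι →₀ A) :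
    coeff A ι U j (sec (free A ι) U v) = sec (ModuleCat.of A A) U (v j) :=
  sec_map (ModuleCat.ofHom (Finsupp.lapply j) : free A ι ⟶ ModuleCat.of A A) U v

theorem coeff_res {U V : (Spec A).Opens} (i : V ⟶ U) (j : ι) (x : Γ(tilde (free A ι), U)) :
    coeff A ι V j ((tilde (free A ι)).presheaf.map i.op x) =
      (tilde (ModuleCat.of A A)).presheaf.map i.op (coeff A ι U j x) := by
  have := congrArg (fun ψ => ψ x)
    ((tilde.map (ModuleCat.ofHom (Finsupp.lapply j) : free A ι ⟶ ModuleCat.of A A)).mapPresheaf.naturality i.op)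
  exact this

theorem coeff_smul_spec (U : (Spec A).Opens) (j : ι) (a : A) (x : Γ(tilde (free A ι), U)) :
    coeff A ι U j (a • x) = a • coeff A ι U j x := by
  rw [Scheme.Modules.smul_Spec_def, Scheme.Modules.smul_Spec_def, map_smul]

instance isLocalized (M : ModuleCat.{u} A) (f : A) :
    IsLocalizedModule.Away f (tilde.toOpen M (PrimeSpectrum.basicOpen f)).hom := inferInstance

theorem exists_pow_smul (M : ModuleCat.{u} A) (f : A)
    (x : Γ(tilde M, PrimeSpectrum.basicOpen f)) :
    ∃ (n : ℕ) (m : M), f ^ n • x = sec M _ m := by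
  obtain ⟨⟨m, ⟨_, n, rfl⟩⟩, h⟩ :=
    IsLocalizedModule.surj (Submonoid.powers f) (tilde.toOpen M (PrimeSpectrum.basicOpen f)).hom x
  exact ⟨n, m, h⟩

theorem sec_eq_zero_iff (M : ModuleCat.{u} A) (f : A) (m : M) :
    sec M (PrimeSpectrum.basicOpen f) m = 0 ↔ ∃ c : Submonoid.powers f, c • m = 0 :=
  IsLocalizedModule.eq_zero_iff (Submonoid.powers f) (tilde.toOpen M (PrimeSpectrum.basicOpen f)).hom

theorem sec_zero (M : ModuleCat.{u} A) (U : (Spec A).Opens) : sec M U (0 : M) = 0 :=
  map_zero (tilde.toOpen M U).hom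

theorem finite_support_basicOpen (f : A) (x : Γ(tilde (free A ι), PrimeSpectrum.basicOpen f)) :
    {j | coeff A ι _ j x ≠ 0}.Finite ∧ ((∀ j, coeff A ι _ j x = 0) → x = 0) := by
  classical
  obtain ⟨n, m, h⟩ := exists_pow_smul _ f x
  have key : ∀ j, f ^ n • coeff A ι _ j x = sec (ModuleCat.of A A) _ (m j) := fun j => by
    rw [← coeff_smul_spec, h, coeff_sec]
  have hinj : ∀ (M : ModuleCat.{u} A), IsSMulRegular Γ(tilde M, PrimeSpectrum.basicOpen f) (f ^ n) :=
    fun M => (Scheme.Modules.isSMulRegular_of_le_basicOpen (M := tilde M) le_rfl).pow n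
  refine ⟨(m.support.finite_toSet).subset fun j hj => ?_, fun h0 => ?_⟩
  · by_contra hm
    have h1 := key j
    rw [Finsupp.notMem_support_iff.mp (fun hh => hm hh)] at h1
    exact hj (hinj (ModuleCat.of A A) (h1.trans ((sec_zero _ _).trans (smul_zero _).symm)))
  · have hz : ∀ j, ∃ c : Submonoid.powers f, c • m j = (0 : A) := fun j =>
      (sec_eq_zero_iff (ModuleCat.of A A) f (m j)).mp ((key j).symm.trans (by rw [h0, smul_zero]))
    choose c hc using hz
    have hcm : (∏ j ∈ m.support, c j) • m = 0 := by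
      ext j
      by_cases hj : j ∈ m.support
      · have hd : c j ∣ ∏ j ∈ m.support, c j := Finset.dvd_prod_of_mem _ hj
        obtain ⟨d, hd⟩ := hd
        rw [Finsupp.smul_apply, hd, mul_comm, mul_smul, hc, smul_zero, Finsupp.zero_apply]
      · rw [Finsupp.smul_apply, Finsupp.notMem_support_iff.mp hj, smul_zero, Finsupp.zero_apply]
    have : sec (free A ι) (PrimeSpectrum.basicOpen f) m = 0 :=
      (sec_eq_zero_iff (free A ι) f m).mpr ⟨_, hcm⟩
    rw [this] at h
    exact hinj _ (h.trans (smul_zero _).symm)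

/-- The generator of the structure sheaf seen as `tilde A`. -/
theorem bijective_smul_sec_one (U : (Spec A).Opens) :
    Function.Bijective fun r : Γ(Spec A, U) => r • sec (ModuleCat.of A A) U (1 : A) := by
  have : sec (ModuleCat.of A A) U (1 : A) = (1 : Γ(Spec A, U)) := by
    refine Subtype.ext (funext fun x => ?_)
    exact Localization.mk_one
  rw [this]
  refine ⟨fun a b hab => ?_, fun x => ⟨x, ?_⟩⟩
  · exact (mul_one a).symm.trans (hab.trans (mul_one b))
  · exact mul_one (M := Γ(Spec A, U)) x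

theorem free_sections (U : (Spec A).Opens) (hU : IsCompact (U : Set (Spec A))) (ι : Type u) :
    Module.Free Γ(Spec A, U) Γ(tilde (free A ι), U) := by
  classical
  let e : ι → Γ(tilde (free A ι), U) := fun j => sec (free A ι) U (Finsupp.single j (1 : A))
  let Φ : (ι →₀ Γ(Spec A, U)) →ₗ[Γ(Spec A, U)] Γ(tilde (free A ι), U) :=
    Finsupp.linearCombination _ e
  have hΦ : ∀ (v : ι →₀ Γ(Spec A, U)) (j : ι),
      coeff A ι U j (Φ v) = v j • sec (ModuleCat.of A A) U (1 : A) := by
    intro v j
    induction v using Finsupp.induction_linear with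
    | zero => simp
    | add a b ha hb => rw [map_add, map_add, ha, hb, Finsupp.add_apply, add_smul]
    | single i r =>
      rw [Finsupp.linearCombination_single, map_smul, coeff_sec]
      by_cases hij : i = j
      · subst hij; simp
      · rw [Finsupp.single_eq_of_ne (Ne.symm hij), Finsupp.single_eq_of_ne (Ne.symm hij),
          zero_smul, sec_zero,
          smul_zero]
  obtain ⟨s, hs⟩ := (PrimeSpectrum.isBasis_basic_opens (R := A)).isCompact_open_iff_eq_finite_iUnion
    _ (PrimeSpectrum.isCompact_basicOpen) (U : Set (Spec A)) |>.mp ⟨hU, U.2⟩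
  obtain ⟨hsf, hs⟩ := hs
  haveI := hsf.to_subtype
  have hle : ∀ f : s, PrimeSpectrum.basicOpen f.1 ≤ U := fun f x hx => by
    show x ∈ (U : Set (Spec A))
    rw [hs]; exact Set.mem_biUnion f.2 hx
  have hzero : ∀ x : Γ(tilde (free A ι), U), (∀ j, coeff A ι U j x = 0) → x = 0 := by
    intro x hx
    refine Groth.Agent.QCoh.eq_zero_of_locally U x fun p hp => ?_
    have hp' : p ∈ (U : Set (Spec A)) := hp
    rw [hs] at hp'
    obtain ⟨f, hf, hpf⟩ := Set.mem_iUnion₂.mp hp'
    refine ⟨PrimeSpectrum.basicOpen f, homOfLE (hle ⟨f, hf⟩), hpf, ?_⟩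
    refine (finite_support_basicOpen f _).2 fun j => ?_
    exact (coeff_res (homOfLE (hle ⟨f, hf⟩)) j x).trans (by rw [hx j]; exact map_zero _)
  have hfin : ∀ x : Γ(tilde (free A ι), U), {j | coeff A ι U j x ≠ 0}.Finite := by
    intro x
    refine (Set.finite_iUnion fun f : s => (finite_support_basicOpen f.1
      ((tilde (free A ι)).presheaf.map (homOfLE (hle f)).op x)).1).subset fun j hj => ?_
    by_contra hcon
    simp only [Set.mem_iUnion, Set.mem_setOf_eq, not_exists, not_not] at hcon
    refine hj (Groth.Agent.QCoh.eq_zero_of_locally U _ fun p hp => ?_)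
    have hp' : p ∈ (U : Set (Spec A)) := hp
    rw [hs] at hp'
    obtain ⟨f, hf, hpf⟩ := Set.mem_iUnion₂.mp hp'
    refine ⟨PrimeSpectrum.basicOpen f, homOfLE (hle ⟨f, hf⟩), hpf, ?_⟩
    exact (coeff_res _ j x).symm.trans (hcon ⟨f, hf⟩)
  refine Module.Free.of_equiv (LinearEquiv.ofBijective Φ ⟨?_, fun x => ?_⟩)
  · intro v w hvw
    refine Finsupp.ext fun j => (bijective_smul_sec_one U).1 ?_
    show v j • _ = w j • _
    rw [← hΦ, ← hΦ, hvw]
  · choose c hc using fun j => (bijective_smul_sec_one U).2 (coeff A ι U j x)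
    have hcf : (Function.support c).Finite := (hfin x).subset fun j hj => fun h0 => hj
      ((bijective_smul_sec_one U).1 ((hc j).trans (h0.trans (zero_smul _ _).symm)))
    refine ⟨Finsupp.ofSupportFinite c hcf, sub_eq_zero.mp (hzero _ fun j => ?_)⟩
    rw [map_sub, hΦ, sub_eq_zero]
    exact hc j

theorem projective_sections (M : ModuleCat.{u} A) [Module.Projective A M] (U : (Spec A).Opens)
    (hU : IsCompact (U : Set (Spec A))) :
    Module.Projective Γ(Spec A, U) Γ(tilde M, U) := by
  obtain ⟨s, hs⟩ := ‹Module.Projective A M›.out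
  let i : M ⟶ free A M := ModuleCat.ofHom s
  let p : free A M ⟶ M := ModuleCat.ofHom (Finsupp.linearCombination A id)
  have hip : i ≫ p = 𝟙 M := by ext m; exact hs m
  let il : Γ(tilde M, U) →ₗ[Γ(Spec A, U)] Γ(tilde (free A M), U) :=
    { toFun := (tilde.map i).app U, map_add' := map_add _,
      map_smul' := fun r x => Scheme.Modules.Hom.app_smul _ r x }
  let pl : Γ(tilde (free A M), U) →ₗ[Γ(Spec A, U)] Γ(tilde M, U) :=
    { toFun := (tilde.map p).app U, map_add' := map_add _,
      map_smul' := fun r x => Scheme.Modules.Hom.app_smul _ r x }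
  haveI := free_sections U hU M
  refine Module.Projective.of_split il pl ?_
  ext x
  have : (tilde.map i ≫ tilde.map p).app U x = x := by rw [← tilde.map_comp, hip, tilde.map_id]; rfl
  exact this

theorem spec_smul_top (M : ModuleCat.{u} A) (r : Γ(Spec A, ⊤)) (x : Γ(tilde M, ⊤)) :
    (Scheme.ΓSpecIso A).hom r • x = r • x := by
  rw [Scheme.Modules.smul_Spec_def]
  congr 1
  rw [Subsingleton.elim (TopologicalSpace.Opens.leTop ⊤) (𝟙 (⊤ : (Spec A).Opens)), op_id,
    CategoryTheory.Functor.map_id]
  simp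

theorem projective_of_sections_top (M : ModuleCat.{u} A)
    (h : Module.Projective Γ(Spec A, ⊤) Γ(tilde M, ⊤)) : Module.Projective A M := by
  haveI := h
  let e : Γ(Spec A, ⊤) ≃+* A := (Scheme.ΓSpecIso A).commRingCatIsoToRingEquiv
  haveI := RingHomInvPair.of_ringEquiv e
  haveI := RingHomInvPair.of_ringEquiv e.symm
  let φ : M ≃ₗ[A] ((modulesSpecToSheaf.obj (tilde M)).presheaf.obj (.op ⊤)) :=
    (tilde.isoTop M).toLinearEquiv
  let ψ : Γ(tilde M, ⊤) ≃ₛₗ[(e : Γ(Spec A, ⊤) →+* A)] M :=
    { toFun := φ.symm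
      invFun := φ
      left_inv := φ.apply_symm_apply
      right_inv := φ.symm_apply_apply
      map_add' := φ.symm.map_add
      map_smul' := fun r x => by
        show φ.symm (r • x) = e r • φ.symm x
        rw [← φ.symm.map_smul]
        exact congrArg φ.symm (spec_smul_top M r x).symm }
  exact Module.Projective.of_equiv ψ

end Groth.Agent.MorLib.TP
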