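import Groth.Agent.MorLib.ElemEtaleFinite

/-! Elementary étale neighbourhoods for finitely many quasi-finite points. -/

set_option autoImplicit false
universe u

namespace Groth.Agent.MorLib.EEF

open AlgebraicGeometry CategoryTheory Limits

variable {X Y Z₁ Z₂ B P : Scheme.{u}}

set_option backward.isDefEq.respectTransparency.types false in
/-- A point over a pair of points, one of which has trivial residue extension, is unique. -/
theorem exists_unique_point {p : P ⟶ Z₁} {q : P ⟶ Z₂} {a : Z₁ ⟶ B} {b : Z₂ ⟶ B}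
    (hc : IsPullback p q a b) (z₁ : Z₁) (z₂ : Z₂) (hz : a z₁ = b z₂)
    (hb : Function.Bijective (b.residueFieldMap z₂)) :
    ∃ z : P, p z = z₁ ∧ q z = z₂ ∧ Function.Bijective (p.residueFieldMap z) ∧
      ∀ w, p w = z₁ → q w = z₂ → w = z := by
  haveI : IsIso (b.residueFieldMap z₂) := (ConcreteCategory.isIso_iff_bijective _).mpr hb
  let φ : Z₂.residueField z₂ ⟶ Z₁.residueField z₁ :=
    inv (b.residueFieldMap z₂) ≫ (B.residueFieldCongr hz.symm).hom ≫ a.residueFieldMap z₁
  have hφ : (Spec.map φ ≫ Z₂.fromSpecResidueField z₂) ≫ b = Z₁.fromSpecResidueField z₁ ≫ a := by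
    rw [Category.assoc, ← Scheme.Hom.SpecMap_residueFieldMap_fromSpecResidueField,
      ← Spec.map_comp_assoc, IsIso.hom_inv_id_assoc, Spec.map_comp, Category.assoc,
      Scheme.residueFieldCongr_fromSpecResidueField,
      Scheme.Hom.SpecMap_residueFieldMap_fromSpecResidueField]
  let σ := hc.lift (Z₁.fromSpecResidueField z₁) (Spec.map φ ≫ Z₂.fromSpecResidueField z₂) hφ.symm
  let z := σ (IsLocalRing.closedPoint (Z₁.residueField z₁))
  have hσp : σ ≫ p = Z₁.fromSpecResidueField z₁ := hc.lift_fst ..
  have hσq : σ ≫ q = Spec.map φ ≫ Z₂.fromSpecResidueField z₂ := hc.lift_snd ..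
  have hz1 : p z = z₁ := by
    show p (σ _) = z₁
    rw [← Scheme.Hom.comp_apply, hσp, Scheme.fromSpecResidueField_apply]
  have hz2 : q z = z₂ := by
    show q (σ _) = z₂
    rw [← Scheme.Hom.comp_apply, hσq, Scheme.Hom.comp_apply, Scheme.fromSpecResidueField_apply]
  have key : ∀ w (h1 : p w = z₁), q w = z₂ → P.fromSpecResidueField w =
      Spec.map ((Z₁.residueFieldCongr h1.symm).hom ≫ p.residueFieldMap w) ≫ σ := by
    intro w h1 h2
    refine hc.hom_ext ?_ ?_
    · rw [Category.assoc, hσp, Spec.map_comp, Category.assoc,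
        Scheme.residueFieldCongr_fromSpecResidueField,
        Scheme.Hom.SpecMap_residueFieldMap_fromSpecResidueField]
    · rw [Category.assoc, hσq, ← Spec.map_comp_assoc,
        ← Scheme.Hom.SpecMap_residueFieldMap_fromSpecResidueField,
        ← Z₂.residueFieldCongr_fromSpecResidueField h2.symm, ← Spec.map_comp_assoc]
      congr 2
      refine (cancel_epi (b.residueFieldMap z₂)).mp ?_
      rw [← cancel_epi (B.residueFieldCongr (congrArg b h2)).hom]
      · rw [← Spec.map_inj, ← cancel_mono (B.fromSpecResidueField (b (q w)))]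
        simp only [φ, Spec.map_comp, Category.assoc, Scheme.residueFieldCongr_fromSpecResidueField,
          Scheme.residueFieldCongr_fromSpecResidueField_assoc,
          Scheme.Hom.SpecMap_residueFieldMap_fromSpecResidueField,
          Scheme.Hom.SpecMap_residueFieldMap_fromSpecResidueField_assoc]
        have e := hφ
        simp only [φ, Spec.map_comp, Category.assoc] at e
        rw [e, ← hc.w, Scheme.residueFieldCongr_fromSpecResidueField_assoc,
          Scheme.Hom.SpecMap_residueFieldMap_fromSpecResidueField_assoc]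
  have huniq : ∀ w, p w = z₁ → q w = z₂ → w = z := by
    intro w h1 h2
    have := congr($(key w h1 h2) (IsLocalRing.closedPoint (P.residueField w)))
    rw [Scheme.fromSpecResidueField_apply, Scheme.Hom.comp_apply] at this
    rw [this]
    exact congrArg σ (Subsingleton.elim (α := PrimeSpectrum (Z₁.residueField z₁)) _ _)
  refine ⟨z, hz1, hz2, ⟨RingHom.injective _, ?_⟩, huniq⟩
  let σ' : Spec (CommRingCat.of (Z₁.residueField z₁)) ⟶ P := σ
  let ψ : P.residueField z ⟶ CommRingCat.of (Z₁.residueField z₁) :=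
    P.descResidueField (Scheme.stalkClosedPointTo σ')
  have hψ : Spec.map ψ ≫ P.fromSpecResidueField z = σ :=
    Scheme.descResidueField_stalkClosedPointTo_fromSpecResidueField _ _ σ'
  have h : Spec.map (𝟙 _) ≫ P.fromSpecResidueField z =
      Spec.map (ψ ≫ (Z₁.residueFieldCongr hz1.symm).hom ≫ p.residueFieldMap z) ≫
        P.fromSpecResidueField z := by
    refine ((congrArg (· ≫ _) (Spec.map_id _)).trans (Category.id_comp _)).trans ((key z hz1 hz2).trans ?_)
    rw [Spec.map_comp ψ, Category.assoc]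
    exact (congrArg (Spec.map ((Z₁.residueFieldCongr hz1.symm).hom ≫ p.residueFieldMap z) ≫ ·) hψ).symm
  rw [cancel_mono, Spec.map_inj] at h
  intro y
  exact ⟨(Z₁.residueFieldCongr hz1.symm).hom (ψ y), congr($h.symm y)⟩

set_option backward.isDefEq.respectTransparency.types false in
/-- A common elementary étale neighbourhood for finitely many quasi-finite points. -/
theorem exists_elem_nbhd_multi (f : X ⟶ Y) [LocallyOfFiniteType f] (s : Y) {ι : Type} [Finite ι]
    (x : ι → ↑X) (hs : ∀ i, f (x i) = s) (hx : ∀ i, f.QuasiFiniteAt (x i)) :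
    ∃ (U : Scheme.{u}) (g : U ⟶ Y) (u : U), Hens2.IsEtaleNbhd g u s ∧
      ∃ (V : ι → (pullback f g).Opens) (v : ι → ↑(pullback f g)), ∀ i, v i ∈ V i ∧ IsFinite ((V i).ι ≫ pullback.snd f g) ∧
        pullback.snd f g (v i) = u ∧ (∀ w : ↑(pullback f g), w ∈ V i → pullback.snd f g w = u → w = v i) ∧
        pullback.fst f g (v i) = x i ∧ Function.Bijective ((pullback.fst f g).residueFieldMap (v i)) := by
  revert x
  refine Finite.induction_empty_option (P := fun ι : Type => ∀ (x : ι → ↑X), (∀ i, f (x i) = s) →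
    (∀ i, f.QuasiFiniteAt (x i)) → ∃ (U : Scheme.{u}) (g : U ⟶ Y) (u : U), Hens2.IsEtaleNbhd g u s ∧
      ∃ (V : ι → (pullback f g).Opens) (v : ι → ↑(pullback f g)), ∀ i, v i ∈ V i ∧ IsFinite ((V i).ι ≫ pullback.snd f g) ∧
        pullback.snd f g (v i) = u ∧ (∀ w : ↑(pullback f g), w ∈ V i → pullback.snd f g w = u → w = v i) ∧
        pullback.fst f g (v i) = x i ∧ Function.Bijective ((pullback.fst f g).residueFieldMap (v i))) ?_ ?_ ?_ ι
  · intro α β e H x hs hx
    obtain ⟨U, g, u, hu, V, v, h⟩ := H (x ∘ e) (fun i => hs _) fun i => hx _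
    refine ⟨U, g, u, hu, V ∘ e.symm, v ∘ e.symm, fun i => ?_⟩
    simpa using h (e.symm i)
  · intro x _ _
    exact ⟨Y, 𝟙 Y, s, ⟨inferInstance, rfl, bijective_rfm_isOpenImmersion _ _⟩,
      fun i => i.elim, fun i => i.elim, fun i => i.elim⟩
  · intro α _ H x hs hx
    obtain ⟨U₁, g₁, u₁, hu₁, V₁, v₁, h₁⟩ := H (x ∘ some) (fun i => hs _) fun i => hx _
    obtain ⟨U₂, g₂, u₂, hu₂, V₂, v₂, h₂⟩ := exists_elem_nbhd f (x none) (hx none)
    have := hu₁.etale
    have := hu₂.etale
    let a := pullback.fst g₁ g₂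
    let b := pullback.snd g₁ g₂
    obtain ⟨u, hua, hub, hbij, -⟩ := exists_unique_point (IsPullback.of_hasPullback g₁ g₂) u₁ u₂
      (hu₁.base_eq.trans ((hs none).symm.trans hu₂.base_eq.symm)) hu₂.residue_bijective
    have hab : Function.Bijective (b.residueFieldMap u) := by
      have h' : Function.Bijective (g₂.residueFieldMap (b u)) := by
        rw [show b u = u₂ from hub]; exact hu₂.residue_bijective
      have h : Function.Bijective ((a ≫ g₁).residueFieldMap u) :=
        bijective_rfm_comp _ _ _ hbij (by rw [hua]; exact hu₁.residue_bijective)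
      rw [pullback.condition, Scheme.residueFieldMap_comp] at h
      exact (Function.Bijective.of_comp_iff _ h').mp h
    let g := a ≫ g₁
    have hg : Function.Bijective (g.residueFieldMap u) :=
      bijective_rfm_comp _ _ _ hbij (by rw [hua]; exact hu₁.residue_bijective)
    have hgeq : g = b ≫ g₂ := pullback.condition
    let m₁ := pullback.lift (f := f) (g := g₁) (pullback.fst f g) (pullback.snd f g ≫ a)
      (by rw [pullback.condition, Category.assoc])
    let m₂ := pullback.lift (f := f) (g := g₂) (pullback.fst f g) (pullback.snd f g ≫ b)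
      (by rw [pullback.condition, Category.assoc, hgeq])
    have hm₁ : IsPullback m₁ (pullback.snd f g) (pullback.snd f g₁) a :=
      IsPullback.of_right (h₁₂ := pullback.fst f g₁)
        (by rw [pullback.lift_fst]; exact IsPullback.of_hasPullback f g)
        (pullback.lift_snd ..) (IsPullback.of_hasPullback f g₁)
    have hsq : IsPullback (pullback.fst f g) (pullback.snd f g) f (b ≫ g₂) :=
      IsPullback.of_iso (IsPullback.of_hasPullback f g) (Iso.refl _) (Iso.refl _) (Iso.refl _)
        (Iso.refl _) (by simp) (by simp) (by simp) (by simp [hgeq])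
    have hm₂ : IsPullback m₂ (pullback.snd f g) (pullback.snd f g₂) b :=
      IsPullback.of_right (h₁₂ := pullback.fst f g₂) (by rw [pullback.lift_fst]; exact hsq)
        (pullback.lift_snd ..) (IsPullback.of_hasPullback f g₂)
    have key : ∀ {Ui : Scheme.{u}} (gi : Ui ⟶ Y) (c : pullback g₁ g₂ ⟶ Ui) (m : pullback f g ⟶ pullback f gi)
        (hm : IsPullback m (pullback.snd f g) (pullback.snd f gi) c) (hmf : m ≫ pullback.fst f gi = pullback.fst f g)
        (hc : Function.Bijective (c.residueFieldMap u))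
        (W : (pullback f gi).Opens) (w₀ : ↑(pullback f gi)) (y : X), w₀ ∈ W →
        IsFinite (W.ι ≫ pullback.snd f gi) → pullback.snd f gi w₀ = c u →
        (∀ w, w ∈ W → pullback.snd f gi w = c u → w = w₀) → pullback.fst f gi w₀ = y →
        Function.Bijective ((pullback.fst f gi).residueFieldMap w₀) →
        ∃ (W' : (pullback f g).Opens) (w' : ↑(pullback f g)), w' ∈ W' ∧
          IsFinite (W'.ι ≫ pullback.snd f g) ∧ pullback.snd f g w' = u ∧
          (∀ w, w ∈ W' → pullback.snd f g w = u → w = w') ∧ pullback.fst f g w' = y ∧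
          Function.Bijective ((pullback.fst f g).residueFieldMap w') := by
      intro Ui gi c m hm hmf hc W w₀ y hw hfin hsnd huniq hy hb
      obtain ⟨w', hw1, hw2, hwb, hwu⟩ := exists_unique_point hm w₀ u hsnd hc
      refine ⟨m ⁻¹ᵁ W, w', ?_, MorphismProperty.of_isPullback
        ((isPullback_morphismRestrict m W).paste_vert hm) hfin, hw2, fun t ht htu => hwu t ?_ htu, ?_, ?_⟩
      · show m w' ∈ W
        rw [hw1]; exact hw
      · refine huniq _ ht ?_
        rw [← Scheme.Hom.comp_apply, hm.w, Scheme.Hom.comp_apply, htu]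
      · rw [← hmf, Scheme.Hom.comp_apply, hw1, hy]
      · have e : Function.Bijective ((m ≫ pullback.fst f gi).residueFieldMap w') :=
          bijective_rfm_comp _ _ _ hwb (by rw [hw1]; exact hb)
        rw [hmf] at e
        exact e
    have k₂ := key g₂ b m₂ hm₂ (pullback.lift_fst ..) hab V₂ v₂ (x none) h₂.1 h₂.2.1
      (h₂.2.2.1.trans hub.symm) (fun w hw e => h₂.2.2.2.1 w hw (e.trans hub)) h₂.2.2.2.2.1 h₂.2.2.2.2.2
    have k₁ := fun i => key g₁ a m₁ hm₁ (pullback.lift_fst ..) hbij (V₁ i) (v₁ i) (x (some i))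
      (h₁ i).1 (h₁ i).2.1 ((h₁ i).2.2.1.trans hua.symm)
      (fun w hw e => (h₁ i).2.2.2.1 w hw (e.trans hua)) (h₁ i).2.2.2.2.1 (h₁ i).2.2.2.2.2
    have k : ∀ o, _ := fun o => Option.rec (motive := fun o => ∃ (W' : (pullback f g).Opens) (w' : ↑(pullback f g)),
        w' ∈ W' ∧ IsFinite (W'.ι ≫ pullback.snd f g) ∧ pullback.snd f g w' = u ∧
          (∀ w, w ∈ W' → pullback.snd f g w = u → w = w') ∧ pullback.fst f g w' = x o ∧
          Function.Bijective ((pullback.fst f g).residueFieldMap w')) k₂ k₁ o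
    choose V v hV using k
    refine ⟨_, g, u, ⟨inferInstance, ?_, hg⟩, V, v, hV⟩
    rw [← hu₁.base_eq, ← hua]
    exact Scheme.Hom.comp_apply ..

end Groth.Agent.MorLib.EEF
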