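import Mathlib

/-! Universal flattening over an Artinian ring. -/

set_option autoImplicit false
universe u

namespace Groth.Agent.MorLib.ArtinFlat

open scoped TensorProduct

theorem mem_smul_ker_of_flat {R : Type u} [CommRing R] {F P : Type u} [AddCommGroup F] [Module R F]
    [AddCommGroup P] [Module R P] [Module.Flat R P] (G : F →ₗ[R] P) (hG : Function.Surjective G)
    (I : Ideal R) (x : F) (hx : x ∈ LinearMap.ker G) (hxI : x ∈ I • (⊤ : Submodule R F)) :
    x ∈ I • LinearMap.ker G := by
  have hinj := LinearMap.lTensor_injective_of_exact_of_flat G hG (LinearMap.ker G).subtype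
    (LinearMap.ker G).subtype_injective (LinearMap.exact_subtype_ker_map G) (R ⧸ I)
  have hzero : ((1 : R ⧸ I) ⊗ₜ[R] x) = 0 := by
    refine Submodule.smul_induction_on hxI (fun r hr y _ => ?_) (fun a b ha hb => ?_)
    · rw [TensorProduct.tmul_smul, TensorProduct.smul_tmul']
      have : (r • (1 : R ⧸ I)) = 0 := by
        rw [Algebra.smul_def, mul_one, Ideal.Quotient.algebraMap_eq, Ideal.Quotient.eq_zero_iff_mem]
        exact hr
      rw [this, TensorProduct.zero_tmul]
    · rw [TensorProduct.tmul_add, ha, hb, add_zero]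
  have h0 : ((1 : R ⧸ I) ⊗ₜ[R] (⟨x, hx⟩ : LinearMap.ker G)) = 0 := hinj (by simpa using hzero)
  have h1 := congrArg (TensorProduct.quotTensorEquivQuotSMul (LinearMap.ker G) I) h0
  rw [map_zero, show (1 : R ⧸ I) = Ideal.Quotient.mk I 1 from rfl,
    TensorProduct.quotTensorEquivQuotSMul_mk_tmul, one_smul, Submodule.Quotient.mk_eq_zero] at h1
  have h2 := Submodule.mem_map_of_mem (f := (LinearMap.ker G).subtype) h1
  rwa [Submodule.map_smul'', Submodule.map_subtype_top] at h2

theorem eq_top_of_sup_smul_top {R M : Type u} [CommRing R] [AddCommGroup M] [Module R M] (J : Ideal R)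
    (hJ : IsNilpotent J) (S : Submodule R M) (h : S ⊔ J • ⊤ = ⊤) : S = ⊤ := by
  obtain ⟨n, hn⟩ := hJ
  have : ∀ m : ℕ, S ⊔ J ^ m • ⊤ = ⊤ := by
    intro m
    induction m with
    | zero => simp
    | succ m ih =>
      refine eq_top_iff.mpr ?_
      calc (⊤ : Submodule R M) = S ⊔ J • ⊤ := h.symm
        _ = S ⊔ J • (S ⊔ J ^ m • ⊤) := by rw [ih]
        _ ≤ S ⊔ J ^ (m + 1) • ⊤ := by
          rw [Submodule.smul_sup, pow_succ', Submodule.mul_smul]
          exact sup_le le_sup_left (sup_le (Submodule.smul_le_right.trans le_sup_left) le_sup_right)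
  have h' := this n
  rw [hn, Submodule.zero_eq_bot, Submodule.bot_smul, sup_bot_eq] at h'
  exact h'

theorem eq_bot_of_le_smul {R M : Type u} [CommRing R] [AddCommGroup M] [Module R M] (J : Ideal R)
    (hJ : IsNilpotent J) (S : Submodule R M) (h : S ≤ J • S) : S = ⊥ := by
  obtain ⟨n, hn⟩ := hJ
  have : ∀ m : ℕ, S ≤ J ^ m • S := by
    intro m
    induction m with
    | zero => simp
    | succ m ih =>
      rw [pow_succ', Submodule.mul_smul]
      exact h.trans (Submodule.smul_mono le_rfl ih)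
  have h' := this n
  rwa [hn, Submodule.zero_eq_bot, Submodule.bot_smul, le_bot_iff] at h'

/-- A surjection with semisimple source has a linear section. -/
theorem exists_section {A M P : Type u} [CommRing A] [AddCommGroup M] [Module A M] [AddCommGroup P]
    [Module A P] [IsSemisimpleModule A M] (f : M →ₗ[A] P) (hf : Function.Surjective f) :
    ∃ s : P →ₗ[A] M, ∀ y, f (s y) = y := by
  obtain ⟨C, hC⟩ := exists_isCompl (LinearMap.ker f)
  let E : C ≃ₗ[A] P := LinearEquiv.ofBijective (f ∘ₗ C.subtype) ⟨by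
    rw [← LinearMap.ker_eq_bot, eq_bot_iff]
    rintro ⟨x, hx⟩ h
    simpa using (Submodule.disjoint_def.mp hC.disjoint x h hx), fun y => by
    obtain ⟨x, rfl⟩ := hf y
    obtain ⟨k, hk, c, hc, rfl⟩ := Submodule.mem_sup.mp
      (hC.codisjoint.eq_top ▸ Submodule.mem_top : x ∈ LinearMap.ker f ⊔ C)
    exact ⟨⟨c, hc⟩, by simp [LinearMap.mem_ker.mp hk]⟩⟩
  exact ⟨C.subtype ∘ₗ E.symm.toLinearMap, fun y => E.apply_symm_apply y⟩

theorem isSemisimpleModule_quotient {A M : Type u} [CommRing A] [IsArtinianRing A] [AddCommGroup M]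
    [Module A M] : IsSemisimpleModule A (M ⧸ (Ring.jacobson A • ⊤ : Submodule A M)) := by
  have htors : Module.IsTorsionBySet A (M ⧸ (Ring.jacobson A • ⊤ : Submodule A M))
      (Ring.jacobson A : Set A) := by
    rw [Module.isTorsionBySet_quotient_iff]
    exact fun m i hi => Submodule.smul_mem_smul hi trivial
  let _ := htors.module
  exact (htors.semilinearMap.isSemisimpleModule_iff_of_bijective Function.bijective_id).2 inferInstance

/-- An idempotent endomorphism of a projective module lifting one modulo a nilpotent ideal. -/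
theorem exists_idempotent_lift {A F : Type u} [CommRing A] [AddCommGroup F] [Module A F]
    [Module.Projective A F] (J : Ideal A) (hJ : IsNilpotent J)
    (ε : (F ⧸ (J • ⊤ : Submodule A F)) →ₗ[A] (F ⧸ (J • ⊤ : Submodule A F)))
    (hε : ∀ x, ε (ε x) = ε x) :
    ∃ e : F →ₗ[A] F, e ∘ₗ e = e ∧ ∀ x, (J • ⊤ : Submodule A F).mkQ (e x) = ε ((J • ⊤ : Submodule A F).mkQ x) := by
  let Jb : Submodule A F := J • ⊤
  have hφ : ∀ φ : Module.End A F, Jb ≤ Jb.comap φ := fun φ => by
    rw [← Submodule.map_le_iff_le_comap, Submodule.map_smul'']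
    exact Submodule.smul_mono le_rfl le_top
  let Ψ : Module.End A F →+* Module.End A (F ⧸ Jb) :=
    { toFun := fun φ => Jb.mapQ Jb φ (hφ φ)
      map_one' := by ext x; rfl
      map_mul' := fun a b => by ext x; rfl
      map_zero' := by ext x; rfl
      map_add' := fun a b => by ext x; rfl }
  have hker : ∀ φ ∈ RingHom.ker Ψ, IsNilpotent φ := by
    intro φ hφ0
    obtain ⟨n, hn⟩ := hJ
    have h1 : LinearMap.range φ ≤ J • ⊤ := by
      rintro _ ⟨x, rfl⟩
      have h' : Ψ φ (Jb.mkQ x) = 0 := by rw [RingHom.mem_ker.mp hφ0]; rfl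
      exact (Submodule.Quotient.mk_eq_zero Jb).mp h'
    have h2 : ∀ m : ℕ, LinearMap.range (φ ^ m) ≤ J ^ m • ⊤ := by
      intro m
      induction m with
      | zero => simp
      | succ m ih =>
        rw [pow_succ, Module.End.mul_eq_comp, LinearMap.range_comp]
        refine (Submodule.map_mono h1).trans ?_
        rw [Submodule.map_smul'', Submodule.map_top, pow_succ', Submodule.mul_smul]
        exact Submodule.smul_mono le_rfl ih
    refine ⟨n, LinearMap.range_eq_bot.mp (le_bot_iff.mp ((h2 n).trans ?_))⟩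
    rw [hn, Submodule.zero_eq_bot, Submodule.bot_smul]
  let εe : Module.End A (F ⧸ Jb) := ε
  obtain ⟨φ, hφ'⟩ := Module.projective_lifting_property Jb.mkQ (ε ∘ₗ Jb.mkQ) Jb.mkQ_surjective
  have hrange : ∃ φ, Ψ φ = εe := ⟨φ, Submodule.linearMap_qext _ hφ'⟩
  have hidem : IsIdempotentElem εe := LinearMap.ext hε
  obtain ⟨e, he, hΨ⟩ := exists_isIdempotentElem_eq_of_ker_isNilpotent Ψ hker εe hrange hidem
  exact ⟨e, he, fun x => congr($hΨ (Jb.mkQ x))⟩

/-- A projective cover of a module over an Artinian ring, as an idempotent on a projective module. -/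
theorem exists_cover {A F N : Type u} [CommRing A] [IsArtinianRing A] [AddCommGroup F] [Module A F]
    [Module.Projective A F] [AddCommGroup N] [Module A N] (π : F →ₗ[A] N) (hπ : Function.Surjective π) :
    ∃ e : F →ₗ[A] F, e ∘ₗ e = e ∧ Function.Surjective (π ∘ₗ e) ∧
      ∀ k, π (e k) = 0 → e k ∈ Ring.jacobson A • (⊤ : Submodule A F) := by
  let J := Ring.jacobson A
  let Jb : Submodule A F := J • ⊤
  let JN : Submodule A N := J • ⊤
  have hJ : IsNilpotent J := IsSemiprimaryRing.isNilpotent
  have hle : Jb ≤ JN.comap π := by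
    rw [← Submodule.map_le_iff_le_comap, Submodule.map_smul'']
    exact Submodule.smul_mono le_rfl le_top
  have hπb : Function.Surjective (Jb.mapQ JN π hle) := fun y => by
    obtain ⟨n, rfl⟩ := Submodule.Quotient.mk_surjective JN y
    obtain ⟨x, rfl⟩ := hπ n
    exact ⟨Submodule.Quotient.mk x, rfl⟩
  haveI : IsSemisimpleModule A (F ⧸ Jb) := isSemisimpleModule_quotient
  obtain ⟨s, hs⟩ := exists_section (Jb.mapQ JN π hle) hπb
  obtain ⟨e, he, key⟩ := exists_idempotent_lift J hJ (s ∘ₗ Jb.mapQ JN π hle) (fun x => by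
    rw [LinearMap.comp_apply, LinearMap.comp_apply, hs])
  have hkey : ∀ x, JN.mkQ (π (e x)) = JN.mkQ (π x) := fun x => by
    have h1 := congrArg (Jb.mapQ JN π hle) (key x)
    rw [LinearMap.comp_apply, hs] at h1
    exact h1
  refine ⟨e, he, ?_, fun k hk => ?_⟩
  · rw [← LinearMap.range_eq_top]
    refine eq_top_of_sup_smul_top J hJ _ (eq_top_iff.mpr fun y _ => ?_)
    obtain ⟨x, rfl⟩ := hπ y
    refine Submodule.mem_sup.mpr ⟨π (e x), ⟨x, rfl⟩, π x - π (e x), ?_, by abel⟩
    exact (Submodule.Quotient.eq JN).mp (hkey x).symm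
  · rw [← Submodule.Quotient.mk_eq_zero (p := J • (⊤ : Submodule A F))]
    refine (key k).trans ?_
    have h0 : Jb.mapQ JN π hle (Jb.mkQ k) = 0 := by
      show JN.mkQ (π k) = 0
      rw [← hkey k, hk, map_zero]
    show s (Jb.mapQ JN π hle (Jb.mkQ k)) = 0
    rw [h0, map_zero]

theorem exact_baseChange_ker {A F N : Type u} [CommRing A] [AddCommGroup F] [Module A F] [AddCommGroup N]
    [Module A N] (G : F →ₗ[A] N) (hG : Function.Surjective G) (A' : Type u) [CommRing A'] [Algebra A A'] :
    Function.Exact ((LinearMap.ker G).subtype.baseChange A') (G.baseChange A') := by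
  intro z
  simpa [LinearMap.baseChange_eq_ltensor] using lTensor_exact A' (LinearMap.exact_subtype_ker_map G) hG z

theorem exists_flattening (A : Type u) [CommRing A] [IsArtinianRing A] (N : Type u) [AddCommGroup N]
    [Module A N] :
    ∃ I : Ideal A, ∀ (A' : Type u) [CommRing A'] [Algebra A A'],
      Module.Flat A' (A' ⊗[A] N) ↔ I.map (algebraMap A A') = ⊥ := by
  classical
  obtain ⟨π, hπ⟩ : ∃ π : (N →₀ A) →ₗ[A] N, Function.Surjective π :=
    ⟨_, Finsupp.linearCombination_surjective A Function.surjective_id⟩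
  obtain ⟨e, he, hG, hK⟩ := exists_cover π hπ
  let G : (N →₀ A) →ₗ[A] N := π ∘ₗ e
  let K : Submodule A (N →₀ A) := (LinearMap.ker G).map e
  refine ⟨Ideal.span {a | ∃ x ∈ K, ∃ n, x n = a}, fun A' _ _ => ?_⟩
  have hee : ∀ x, e (e x) = e x := fun x => congr($he x)
  let e' : A' ⊗[A] (N →₀ A) →ₗ[A'] A' ⊗[A] (N →₀ A) := e.baseChange A'
  let G' : A' ⊗[A] (N →₀ A) →ₗ[A'] A' ⊗[A] N := G.baseChange A'
  have hG' : Function.Surjective G' := LinearMap.lTensor_surjective A' hG
  have hex : Function.Exact ((LinearMap.ker G).subtype.baseChange A') G' :=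
    exact_baseChange_ker G hG A'
  have hker : ∀ z ∈ LinearMap.ker G',
      ∃ w : A' ⊗[A] LinearMap.ker G, (LinearMap.ker G).subtype.baseChange A' w = z := fun z hz =>
    (hex z).mp hz
  have hGe : ∀ z, G' (e' z) = G' z := fun z => by
    induction z using TensorProduct.induction_on with
    | zero => simp
    | tmul a f => simp [e', G', G, hee]
    | add a b ha hb => simp [ha, hb]
  constructor
  · intro hflat
    let J' : Ideal A' := (Ring.jacobson A).map (algebraMap A A')
    let W : Submodule A' (A' ⊗[A] (N →₀ A)) := (LinearMap.ker G').map e'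
    have hJ' : IsNilpotent J' := by
      obtain ⟨n, hn⟩ := IsSemiprimaryRing.isNilpotent (R := A)
      exact ⟨n, by rw [← Ideal.map_pow, hn, Submodule.zero_eq_bot, Ideal.map_bot]; rfl⟩
    have he' : ∀ z, e' (e' z) = e' z := fun z => by
      induction z using TensorProduct.induction_on with
      | zero => simp
      | tmul a f => simp [e', hee]
      | add a b ha hb => simp [ha, hb]
    have hJle : ∀ x ∈ Ring.jacobson A • (⊤ : Submodule A (N →₀ A)),
        (1 : A') ⊗ₜ[A] x ∈ J' • (⊤ : Submodule A' (A' ⊗[A] (N →₀ A))) := by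
      intro x hx
      refine Submodule.smul_induction_on hx (fun r hr y _ => ?_) (fun a b ha hb => ?_)
      · rw [TensorProduct.tmul_smul, ← algebraMap_smul A' r ((1 : A') ⊗ₜ[A] y)]
        exact Submodule.smul_mem_smul (Ideal.mem_map_of_mem _ hr) trivial
      · rw [TensorProduct.tmul_add]; exact add_mem ha hb
    have hWJ : W ≤ J' • ⊤ := by
      rintro _ ⟨z, hz, rfl⟩
      obtain ⟨w, rfl⟩ := hker z hz
      induction w using TensorProduct.induction_on with
      | zero => simp
      | tmul a k =>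
        rw [show e' ((LinearMap.ker G).subtype.baseChange A' (a ⊗ₜ[A] k)) = a • ((1 : A') ⊗ₜ[A] e k.1) by
          simp [e', TensorProduct.smul_tmul']]
        exact Submodule.smul_mem _ _ (hJle _ (hK _ k.2))
      | add a b ha hb =>
        rw [map_add, map_add]
        exact add_mem (ha ((hex _).mpr ⟨a, rfl⟩))
          (hb ((hex _).mpr ⟨b, rfl⟩))
    have hW0 : W = ⊥ := by
      refine eq_bot_of_le_smul J' hJ' W fun w hw => ?_
      obtain ⟨z, hz, rfl⟩ := id hw
      have h1 : e' z ∈ LinearMap.ker G' := by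
        rw [LinearMap.mem_ker, hGe]; exact hz
      have h2 := Submodule.mem_map_of_mem (f := e')
        (mem_smul_ker_of_flat G' hG' J' (e' z) h1 (hWJ hw))
      rwa [Submodule.map_smul'', he'] at h2
    rw [Ideal.map_span, Ideal.span_eq_bot]
    rintro _ ⟨_, ⟨_, ⟨k, hk, rfl⟩, n, rfl⟩, rfl⟩
    have h1 : (1 : A') ⊗ₜ[A] e k ∈ W := ⟨(1 : A') ⊗ₜ[A] k, by
      show G' _ = 0
      simp [G', LinearMap.mem_ker.mp hk], by simp [e']⟩
    rw [hW0, Submodule.mem_bot] at h1
    have h2 := congr(TensorProduct.finsuppScalarRight A A' A' N $h1 n)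
    simpa [Algebra.smul_def] using h2
  · intro hI
    have hzero : ∀ x ∈ K, (1 : A') ⊗ₜ[A] x = 0 := by
      intro x hx
      rw [← x.sum_single, Finsupp.sum, TensorProduct.tmul_sum]
      refine Finset.sum_eq_zero fun n _ => ?_
      rw [Ideal.map_span, Ideal.span_eq_bot] at hI
      have h0 : algebraMap A A' (x n) = 0 := hI _ ⟨x n, ⟨x, hx, n, rfl⟩, rfl⟩
      rw [← Finsupp.smul_single_one, TensorProduct.tmul_smul, ← algebraMap_smul A' (x n), h0,
        zero_smul]
    have hkill : LinearMap.ker G' ≤ LinearMap.ker e' := by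
      intro z hz
      obtain ⟨w, rfl⟩ := hker z hz
      rw [LinearMap.mem_ker]
      induction w using TensorProduct.induction_on with
      | zero => simp
      | tmul a k =>
        rw [show e' ((LinearMap.ker G).subtype.baseChange A' (a ⊗ₜ[A] k)) = a • ((1 : A') ⊗ₜ[A] e k.1) by
          simp [e', TensorProduct.smul_tmul'], hzero _ ⟨k.1, k.2, rfl⟩, smul_zero]
      | add a b ha hb =>
        rw [map_add, map_add, ha ((hex _).mpr ⟨a, rfl⟩),
          hb ((hex _).mpr ⟨b, rfl⟩), add_zero]
    let h : A' ⊗[A] N →ₗ[A'] A' ⊗[A] (N →₀ A) :=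
      (LinearMap.ker G').liftQ e' hkill ∘ₗ (G'.quotKerEquivOfSurjective hG').symm.toLinearMap
    refine Module.Flat.of_retract h G' ?_
    ext n
    obtain ⟨z, hz⟩ := hG' ((1 : A') ⊗ₜ[A] n)
    show G' (h ((1 : A') ⊗ₜ[A] n)) = (1 : A') ⊗ₜ[A] n
    rw [← hz]
    have : h (G' z) = e' z := by
      have : (G'.quotKerEquivOfSurjective hG').symm (G' z) = Submodule.Quotient.mk z :=
        (LinearEquiv.symm_apply_eq _).mpr rfl
      simp [h, this]
    rw [this, hGe]

end Groth.Agent.MorLib.ArtinFlat
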