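import Groth.Agent.MorLib.BddFib
import Mathlib.AlgebraicGeometry.Morphisms.UniversallyOpen
import Mathlib.LinearAlgebra.TensorProduct.Quotient
import Mathlib.RingTheory.Ideal.Quotient.Operations

/-! Fibre degree bounds: compositions and triangles. -/

set_option autoImplicit false
universe u

namespace Groth.Agent.MorLib.BF

open AlgebraicGeometry CategoryTheory Limits TensorProduct

theorem sup_mul_smul_top_eq_top {R S : Type*} [CommRing R] [AddCommGroup S] [Module R S]
    {N : Submodule R S} {I J : Ideal R} (hI : N ⊔ I • ⊤ = ⊤) (hJ : N ⊔ J • ⊤ = ⊤) :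
    N ⊔ (I * J) • ⊤ = ⊤ := by
  refine top_le_iff.mp ?_
  calc (⊤ : Submodule R S) = N ⊔ I • (N ⊔ J • ⊤) := by rw [hJ, hI]
    _ = N ⊔ (I • N ⊔ I • J • ⊤) := by rw [Submodule.smul_sup]
    _ ≤ N ⊔ (I * J) • ⊤ := by
        rw [← Submodule.mul_smul]
        exact sup_le le_sup_left (sup_le (Submodule.smul_le_right.trans le_sup_left) le_sup_right)

theorem finite_finrank_le_mul {k R S : Type u} [Field k] [CommRing R] [CommRing S] [Algebra k R]
    [Algebra R S] [Algebra k S] [IsScalarTower k R S] [Module.Finite k R] (n : ℕ)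
    (h : ∀ (p : Ideal R) [p.IsMaximal], Module.Finite (R ⧸ p) ((R ⧸ p) ⊗[R] S) ∧
      Module.finrank (R ⧸ p) ((R ⧸ p) ⊗[R] S) ≤ n) :
    Module.Finite k S ∧ Module.finrank k S ≤ n * Module.finrank k R := by
  haveI : IsArtinianRing R := IsArtinianRing.of_finite k R
  haveI : Fintype (MaximalSpectrum R) := Fintype.ofFinite _
  have key : ∀ p : MaximalSpectrum R, ∃ x : Fin n → S,
      ∀ s : S, ∃ c : Fin n → R, s - ∑ j, c j • x j ∈ p.asIdeal • (⊤ : Submodule R S) := by
    intro p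
    haveI := p.isMaximal
    letI := Ideal.Quotient.field p.asIdeal
    obtain ⟨hf, hr⟩ := h p.asIdeal
    let b := Module.finBasis (R ⧸ p.asIdeal) ((R ⧸ p.asIdeal) ⊗[R] S)
    have hπ : Function.Surjective fun s : S => (1 : R ⧸ p.asIdeal) ⊗ₜ[R] s :=
      TensorProduct.mk_surjective R S (R ⧸ p.asIdeal) Ideal.Quotient.mk_surjective
    choose y hy using fun i => hπ (b i)
    refine ⟨fun j => if hj : (j : ℕ) < _ then y ⟨j, hj⟩ else 0, fun s => ?_⟩
    choose r hr' using fun i => Ideal.Quotient.mk_surjective (b.repr ((1 : R ⧸ p.asIdeal) ⊗ₜ[R] s) i)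
    refine ⟨fun j => if hj : (j : ℕ) < _ then r ⟨j, hj⟩ else 0, ?_⟩
    have hsum : ∑ j : Fin n, (if hj : (j : ℕ) < _ then r ⟨j, hj⟩ else 0) •
        (if hj : (j : ℕ) < Module.finrank (R ⧸ p.asIdeal) ((R ⧸ p.asIdeal) ⊗[R] S) then y ⟨j, hj⟩ else 0) =
        ∑ i, r i • y i := by
      refine (Fintype.sum_of_injective (Fin.castLE hr) (Fin.castLE_injective hr) _ _ ?_ ?_).symm
      · intro j hj
        rw [dif_neg fun hj' => hj ⟨⟨j, hj'⟩, rfl⟩, zero_smul]
      · intro i
        rw [dif_pos (by simpa using i.2), dif_pos (by simpa using i.2)]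
        rfl
    rw [hsum]
    have h0 : (1 : R ⧸ p.asIdeal) ⊗ₜ[R] (s - ∑ i, r i • y i) = 0 := by
      rw [tmul_sub, sub_eq_zero, tmul_sum]
      conv_lhs => rw [← b.sum_repr ((1 : R ⧸ p.asIdeal) ⊗ₜ[R] s)]
      refine Finset.sum_congr rfl fun i _ => ?_
      rw [tmul_smul, ← algebraMap_smul (R ⧸ p.asIdeal) (r i)]
      exact congrArg₂ (· • ·) (hr' i).symm (hy i).symm
    have := congrArg (TensorProduct.quotTensorEquivQuotSMul S p.asIdeal) h0
    rw [map_zero, ← map_one (Ideal.Quotient.mk p.asIdeal),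
      TensorProduct.quotTensorEquivQuotSMul_mk_tmul, one_smul, Submodule.Quotient.mk_eq_zero] at this
    exact this
  choose x hx using key
  classical
  have hco : Pairwise (Function.onFun IsCoprime fun q : MaximalSpectrum R => q.asIdeal) :=
    fun p q hpq => Ideal.isCoprime_iff_sup_eq.mpr
      (p.isMaximal.coprime_of_ne q.isMaximal fun he => hpq (MaximalSpectrum.ext he))
  choose e he using fun p : MaximalSpectrum R =>
    Ideal.exists_forall_sub_mem_ideal hco (fun q => if q = p then 1 else 0)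
  let v : Fin n → S := fun j => ∑ p, e p • x p j
  let φ : (Fin n → R) →ₗ[R] S := Fintype.linearCombination R v
  have hN : ∀ p : MaximalSpectrum R, LinearMap.range φ ⊔ p.asIdeal • ⊤ = ⊤ := by
    intro p
    refine Submodule.eq_top_iff'.mpr fun s => ?_
    obtain ⟨c, hc⟩ := hx p s
    have hv : ∀ j, v j - x p j ∈ p.asIdeal • (⊤ : Submodule R S) := by
      intro j
      have : v j - x p j = ∑ q, (e q - if p = q then 1 else 0) • x q j := by
        simp [v, sub_smul, Finset.sum_sub_distrib, ite_smul]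
      rw [this]
      exact sum_mem fun q _ => Submodule.smul_mem_smul (he q p) Submodule.mem_top
    refine Submodule.mem_sup.mpr ⟨φ c, ⟨c, rfl⟩, s - φ c, ?_, add_sub_cancel _ _⟩
    have : s - φ c = (s - ∑ j, c j • x p j) - ∑ j, c j • (v j - x p j) := by
      simp only [φ, Fintype.linearCombination_apply, smul_sub, Finset.sum_sub_distrib]
      abel
    rw [this]
    exact sub_mem hc (sum_mem fun j _ => Submodule.smul_mem _ _ (hv j))
  have hprod : LinearMap.range φ ⊔ (∏ p : MaximalSpectrum R, p.asIdeal) • ⊤ = ⊤ := by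
    refine Finset.prod_induction (fun p : MaximalSpectrum R => p.asIdeal)
      (fun I => LinearMap.range φ ⊔ I • ⊤ = ⊤) (fun _ _ => sup_mul_smul_top_eq_top) ?_
      (fun p _ => hN p)
    rw [Ideal.one_eq_top, Submodule.top_smul, sup_top_eq]
  obtain ⟨m, hm⟩ := IsArtinianRing.isNilpotent_jacobson_bot (R := R)
  have hle : (∏ p : MaximalSpectrum R, p.asIdeal) ≤ Ideal.jacobson ⊥ := by
    rw [Ideal.jacobson]
    refine le_sInf fun J hJ => ?_
    exact Ideal.prod_le_inf.trans (Finset.inf_le (f := fun p : MaximalSpectrum R => p.asIdeal)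
      (Finset.mem_univ ⟨J, hJ.2⟩))
  have hpow : ∀ i : ℕ, LinearMap.range φ ⊔ (∏ p : MaximalSpectrum R, p.asIdeal) ^ i • ⊤ = ⊤ := by
    intro i
    induction i with
    | zero => rw [pow_zero, Ideal.one_eq_top, Submodule.top_smul, sup_top_eq]
    | succ i ih => rw [pow_succ]; exact sup_mul_smul_top_eq_top ih hprod
  have hφ : Function.Surjective φ := by
    have h := hpow m
    have h0 : (∏ p : MaximalSpectrum R, p.asIdeal) ^ m = ⊥ := by
      refine le_bot_iff.mp ((Ideal.pow_right_mono hle m).trans ?_)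
      rw [hm]; rfl
    rw [h0, Submodule.bot_smul, sup_bot_eq] at h
    exact LinearMap.range_eq_top.mp h
  have hφ' : Function.Surjective (φ.restrictScalars k) := hφ
  refine ⟨Module.Finite.of_surjective (φ.restrictScalars k) hφ', ?_⟩
  have := (φ.restrictScalars k).finrank_range_le
  rw [LinearMap.range_eq_top.mpr hφ', finrank_top] at this
  refine this.trans (le_of_eq ?_)
  rw [Module.finrank_pi_fintype]
  simp

theorem finite_discrete_of_finiteOfDegLE {K : CommRingCat.{u}} (hK : IsField K) {T : Scheme.{u}}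
    {p : T ⟶ Spec K} {n : ℕ} (h : BddFib.FiniteOfDegLE K p n) :
    Finite T ∧ DiscreteTopology T := by
  obtain ⟨hT, hfin, -⟩ := h
  letI := hK.toField
  letI : Algebra K Γ(T, ⊤) := BddFib.secAlgebra K p
  haveI : Module.Finite K Γ(T, ⊤) := hfin
  haveI : IsArtinianRing Γ(T, ⊤) := IsArtinianRing.of_finite K _
  let e := Scheme.homeoOfIso T.isoSpec
  haveI : Finite (Spec Γ(T, ⊤)) := inferInstanceAs (Finite (PrimeSpectrum Γ(T, ⊤)))
  haveI : DiscreteTopology (Spec Γ(T, ⊤)) :=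
    inferInstanceAs (DiscreteTopology (PrimeSpectrum Γ(T, ⊤)))
  exact ⟨Finite.of_equiv _ e.toEquiv.symm, e.symm.discreteTopology⟩

variable {X Y Z : Scheme.{u}}

theorem finiteOfDegLE_pullback_snd_comp_iff (f : X ⟶ Y) (g : Y ⟶ Z) {K : CommRingCat.{u}}
    (hK : IsField K) (i : Spec K ⟶ Z) (n : ℕ) :
    BddFib.FiniteOfDegLE K (pullback.snd (f ≫ g) i) n ↔
      BddFib.FiniteOfDegLE K (pullback.snd f (pullback.fst g i) ≫ pullback.snd g i) n := by
  refine finiteOfDegLE_baseChange_iff hK hK (𝟙 _)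
    (q := ((IsPullback.of_hasPullback f (pullback.fst g i)).paste_vert
      (IsPullback.of_hasPullback g i)).isoPullback.hom) ?_ n
  refine IsPullback.of_horiz_isIso ⟨?_⟩
  simp

theorem finiteOfDegLE_comp {k : Type u} [Field k] {T U : Scheme.{u}}
    (q : U ⟶ T) (p : T ⟶ Spec (CommRingCat.of k)) (n m : ℕ) (hq : BddFib.FibreDegLE q n)
    (hT : BddFib.FiniteOfDegLE (CommRingCat.of k) p m) :
    BddFib.FiniteOfDegLE (CommRingCat.of k) (q ≫ p) (n * m) := by
  obtain ⟨hTfin, hTd⟩ := finite_discrete_of_finiteOfDegLE (Field.toIsField k) hT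
  obtain ⟨hTaff, hRfin, hRrk⟩ := hT
  have hfib : ∀ t, Finite (q.fiber t) ∧ DiscreteTopology (q.fiber t) := fun t =>
    finite_discrete_of_finiteOfDegLE (Field.toIsField _) (hq t)
  have hUfin : Finite U := by
    haveI : ∀ t : T, Finite {u : U // q u = t} := fun t =>
      haveI := (hfib t).1
      Finite.of_equiv (q.fiber t) (q.fiberHomeo t).toEquiv
    exact Finite.of_equiv _ (Equiv.sigmaFiberEquiv (fun u : U => q u))
  have hUd : DiscreteTopology U := by
    refine discreteTopology_iff_isOpen_singleton.mpr fun u => ?_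
    haveI := (hfib (q u)).2
    haveI : DiscreteTopology (q ⁻¹' {q u} : Set U) := (q.fiberHomeo (q u)).discreteTopology
    have ho : IsOpen (q ⁻¹' {q u}) := (isOpen_discrete {q u}).preimage q.continuous
    have := ho.isOpenMap_subtype_val _ (isOpen_discrete {(⟨u, rfl⟩ : (q ⁻¹' {q u} : Set U))})
    rwa [Set.image_singleton] at this
  haveI : IsAffine U := inferInstance
  letI algR : Algebra k Γ(T, ⊤) := BddFib.secAlgebra (CommRingCat.of k) p
  letI algRS : Algebra Γ(T, ⊤) Γ(U, ⊤) := q.appTop.hom.toAlgebra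
  letI algS : Algebra k Γ(U, ⊤) := BddFib.secAlgebra (CommRingCat.of k) (q ≫ p)
  haveI : Module.Finite k Γ(T, ⊤) := hRfin
  haveI : IsScalarTower k Γ(T, ⊤) Γ(U, ⊤) := IsScalarTower.of_algebraMap_eq' (by
    rw [RingHom.algebraMap_toAlgebra]
    show ((Scheme.ΓSpecIso (CommRingCat.of k)).inv ≫ (q ≫ p).appTop).hom = q.appTop.hom.comp
      ((Scheme.ΓSpecIso (CommRingCat.of k)).inv ≫ p.appTop).hom
    rw [← CommRingCat.hom_comp, Category.assoc, Scheme.Hom.comp_appTop])
  have hsq : IsPullback U.isoSpec.inv (Spec.map q.appTop) q T.isoSpec.inv :=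
    IsPullback.of_horiz_isIso ⟨(Scheme.isoSpec_inv_naturality q).symm⟩
  have hS := (fibreDegLE_iff _ n).mp (fibreDegLE_of_isPullback hsq hq)
  have key := finite_finrank_le_mul (k := k) (R := Γ(T, ⊤)) (S := Γ(U, ⊤)) n fun P hP => by
    letI := Ideal.Quotient.field P
    have hk : IsField (CommRingCat.of (Γ(T, ⊤) ⧸ P)) := Field.toIsField _
    have h1 := hS (Γ(T, ⊤) ⧸ P) (Spec.map (CommRingCat.ofHom (algebraMap Γ(T, ⊤) (Γ(T, ⊤) ⧸ P))))
    have hpb := (isPullback_SpecMap_of_isPushout _ _ _ _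
      (CommRingCat.isPushout_tensorProduct Γ(T, ⊤) (Γ(T, ⊤) ⧸ P) Γ(U, ⊤))).flip
    have h2 := (finiteOfDegLE_baseChange_iff hk hk (𝟙 _) (q := hpb.isoPullback.hom)
      (p := pullback.snd (Spec.map q.appTop)
        (Spec.map (CommRingCat.ofHom (algebraMap Γ(T, ⊤) (Γ(T, ⊤) ⧸ P)))))
      (p' := Spec.map (CommRingCat.ofHom (algebraMap (Γ(T, ⊤) ⧸ P) ((Γ(T, ⊤) ⧸ P) ⊗[Γ(T, ⊤)] Γ(U, ⊤))))) ?_ n).mp h1
    · rw [finiteOfDegLE_iff hk, IsFinite.SpecMap_iff] at h2
      refine ⟨RingHom.finite_algebraMap.mp h2.1, ?_⟩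
      have h3 := h2.2 (Classical.ofNonempty : PrimeSpectrum (Γ(T, ⊤) ⧸ P))
      rw [finrank_SpecMap_of_isField hk _ h2.1] at h3
      rw [CommRingCat.hom_ofHom, show (algebraMap (Γ(T, ⊤) ⧸ P) ((Γ(T, ⊤) ⧸ P) ⊗[Γ(T, ⊤)] Γ(U, ⊤))).toAlgebra =
        (inferInstance : Algebra (Γ(T, ⊤) ⧸ P) ((Γ(T, ⊤) ⧸ P) ⊗[Γ(T, ⊤)] Γ(U, ⊤))) from
          Algebra.algebra_ext _ _ fun r => rfl] at h3
      exact h3
    · refine IsPullback.of_horiz_isIso ⟨?_⟩
      rw [Spec.map_id, Category.comp_id]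
      exact hpb.isoPullback_hom_snd
  exact ⟨inferInstance, key.1, key.2.trans (Nat.mul_le_mul_left _ hRrk)⟩

theorem fibreDegLE_comp (f : X ⟶ Y) (g : Y ⟶ Z) (n m : ℕ) (hf : BddFib.FibreDegLE f n)
    (hg : BddFib.FibreDegLE g m) : BddFib.FibreDegLE (f ≫ g) (n * m) := by
  rw [fibreDegLE_iff]
  intro k _ i
  rw [finiteOfDegLE_pullback_snd_comp_iff f g (Field.toIsField k)]
  exact finiteOfDegLE_comp _ _ n m
    (fibreDegLE_of_isPullback (IsPullback.of_hasPullback f (pullback.fst g i)) hf)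
    ((fibreDegLE_iff g m).mp hg k i)

theorem finiteOfDegLE_of_flat_surjective {k : Type u} [Field k] {T U : Scheme.{u}}
    (q : U ⟶ T) (p : T ⟶ Spec (CommRingCat.of k)) (n : ℕ) (hq1 : Flat q) (hq2 : Surjective q)
    (hU : BddFib.FiniteOfDegLE (CommRingCat.of k) (q ≫ p) n) :
    BddFib.FiniteOfDegLE (CommRingCat.of k) p n := by
  obtain ⟨hUfin, hUd⟩ := finite_discrete_of_finiteOfDegLE (Field.toIsField k) hU
  haveI : Finite T := Finite.of_surjective _ q.surjective
  haveI : T1Space T := t1Space_iff_specializes_imp_eq.mpr fun a b hab => by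
    obtain ⟨b', rfl⟩ := q.surjective b
    obtain ⟨a', ha', rfl⟩ := Flat.generalizingMap q hab
    rw [ha'.eq]
  haveI : IsAffine T := inferInstance
  obtain ⟨hUaff, hSfin, hSrk⟩ := hU
  have hff : q.appTop.hom.FaithfullyFlat :=
    (Flat.flat_and_surjective_iff_faithfullyFlat_of_isAffine q).mp ⟨hq1, hq2⟩
  letI algR : Algebra k Γ(T, ⊤) := BddFib.secAlgebra (CommRingCat.of k) p
  letI algS : Algebra k Γ(U, ⊤) := BddFib.secAlgebra (CommRingCat.of k) (q ≫ p)
  let φ : Γ(T, ⊤) →ₐ[k] Γ(U, ⊤) :=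
    { q.appTop.hom with
      commutes' := fun r => by
        show q.appTop.hom (((Scheme.ΓSpecIso (CommRingCat.of k)).inv ≫ p.appTop).hom r) =
          ((Scheme.ΓSpecIso (CommRingCat.of k)).inv ≫ (q ≫ p).appTop).hom r
        rw [Scheme.Hom.comp_appTop]
        rfl }
  have hinj : Function.Injective φ.toLinearMap := hff.injective
  haveI : Module.Finite k Γ(U, ⊤) := hSfin
  exact ⟨inferInstance, Module.Finite.of_injective φ.toLinearMap hinj,
    (LinearMap.finrank_le_finrank_of_injective hinj).trans hSrk⟩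

theorem fibreDegLE_of_flat_surjective (f : X ⟶ Y) (g : Y ⟶ Z) [Flat f] [Surjective f] (n : ℕ)
    (hfg : BddFib.FibreDegLE (f ≫ g) n) : BddFib.FibreDegLE g n := by
  rw [fibreDegLE_iff]
  intro k _ i
  exact finiteOfDegLE_of_flat_surjective (pullback.snd f (pullback.fst g i)) _ n inferInstance
    inferInstance ((finiteOfDegLE_pullback_snd_comp_iff f g (Field.toIsField k) i n).mp
      ((fibreDegLE_iff _ n).mp hfg k i))

end Groth.Agent.MorLib.BF
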