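import Mathlib.RingTheory.FinitePresentation
import Mathlib.RingTheory.Localization.Away.AdjoinRoot
import Mathlib.RingTheory.Localization.Away.Basic
import Mathlib.RingTheory.Localization.AtPrime.Basic
import Mathlib.RingTheory.Extension.Presentation.Basic
import Mathlib.RingTheory.RingHom.FinitePresentation

/-! Spreading out an isomorphism of localisations at a prime. -/

set_option autoImplicit false
universe u

namespace Groth.Agent.MorLib.Birat

variable {A B : Type u} [CommRing A] [CommRing B] [Algebra A B]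

/-- The map `A_a → B_g`, for `g` a multiple of the image of `a`. -/
noncomputable def awayLift {a : A} {g : B} (h : algebraMap A B a ∣ g) :
    Localization.Away a →ₐ[A] Localization.Away g :=
  IsLocalization.liftAlgHom (M := Submonoid.powers a) (f := Algebra.ofId A (Localization.Away g)) (by
    rintro ⟨_, n, rfl⟩
    simp only [Algebra.ofId_apply, map_pow]
    refine IsUnit.pow _ ?_
    rw [IsScalarTower.algebraMap_apply A B (Localization.Away g)]
    exact isUnit_of_dvd_unit (map_dvd _ h) (IsLocalization.Away.algebraMap_isUnit g))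

theorem awayLift_surjective (q : Ideal B) [q.IsPrime] [Algebra.FiniteType A B]
    (hsurj : ∀ b : B, ∃ (x c : A) (h : B), algebraMap A B c ∉ q ∧ h ∉ q ∧
      h * (algebraMap A B c * b - algebraMap A B x) = 0) :
    ∃ (a₀ : A) (h : B), algebraMap A B a₀ ∉ q ∧ h ∉ q ∧ ∀ r : A,
      Function.Surjective (awayLift (a := a₀ * r) (g := algebraMap A B (a₀ * r) * h) (dvd_mul_right _ _)) := by
  classical
  obtain ⟨s, hs⟩ := Algebra.FiniteType.out (R := A) (A := B)
  choose x c h hc hh e using hsurj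
  let c₀ := ∏ i ∈ s, c i
  let h₀ := ∏ i ∈ s, h i
  have hc₀ : algebraMap A B c₀ ∉ q := by
    rw [map_prod]
    exact Submonoid.prod_mem q.primeCompl fun i _ => hc i
  have hh₀ : h₀ ∉ q := Submonoid.prod_mem q.primeCompl fun i _ => hh i
  -- every element is a fraction
  have key : ∀ b : B, ∃ (y : A) (n m : ℕ),
      h₀ ^ m * (algebraMap A B c₀ ^ n * b - algebraMap A B y) = 0 := by
    intro b
    have hb : b ∈ Algebra.adjoin A (s : Set B) := hs.ge trivial
    induction hb using Algebra.adjoin_induction with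
    | mem i hi =>
      refine ⟨(∏ j ∈ s.erase i, c j) * x i, 1, 1, ?_⟩
      obtain ⟨k, hk⟩ : h i ∣ h₀ := Finset.dvd_prod_of_mem _ hi
      have h2 : c₀ = c i * ∏ j ∈ s.erase i, c j := (Finset.mul_prod_erase s c hi).symm
      rw [pow_one, pow_one, hk, h2, map_mul, map_mul]
      linear_combination (k * algebraMap A B (∏ j ∈ s.erase i, c j)) * e i
    | algebraMap y => exact ⟨y, 0, 0, by simp⟩
    | add b₁ b₂ _ _ i₁ i₂ =>
      obtain ⟨y₁, n₁, m₁, e₁⟩ := i₁
      obtain ⟨y₂, n₂, m₂, e₂⟩ := i₂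
      refine ⟨c₀ ^ n₂ * y₁ + c₀ ^ n₁ * y₂, n₁ + n₂, m₁ + m₂, ?_⟩
      rw [map_add, map_mul, map_mul, map_pow, map_pow, pow_add, pow_add]
      linear_combination (h₀ ^ m₂ * algebraMap A B c₀ ^ n₂) * e₁ +
        (h₀ ^ m₁ * algebraMap A B c₀ ^ n₁) * e₂
    | mul b₁ b₂ _ _ i₁ i₂ =>
      obtain ⟨y₁, n₁, m₁, e₁⟩ := i₁
      obtain ⟨y₂, n₂, m₂, e₂⟩ := i₂
      refine ⟨y₁ * y₂, n₁ + n₂, m₁ + m₂, ?_⟩
      rw [map_mul, pow_add, pow_add]
      linear_combination (h₀ ^ m₂ * algebraMap A B c₀ ^ n₂ * b₂) * e₁ +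
        (h₀ ^ m₁ * algebraMap A B y₁) * e₂
  obtain ⟨y, n, m, hy⟩ := key h₀
  have hyq : algebraMap A B y ∉ q := by
    intro hy'
    have h1 : algebraMap A B c₀ ^ n * h₀ - algebraMap A B y ∈ q :=
      ((‹q.IsPrime›.mem_or_mem (hy.symm ▸ q.zero_mem : _ ∈ q))).resolve_left
        fun h2 => hh₀ (‹q.IsPrime›.mem_of_pow_mem _ h2)
    have h3 := q.add_mem h1 hy'
    rw [sub_add_cancel] at h3
    exact (‹q.IsPrime›.mem_or_mem h3).elim (fun h4 => hc₀ (‹q.IsPrime›.mem_of_pow_mem _ h4)) hh₀
  refine ⟨c₀ * y, h₀, ?_, hh₀, fun r => ?_⟩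
  · rw [map_mul]; exact fun h' => (‹q.IsPrime›.mem_or_mem h').elim hc₀ hyq
  set a := c₀ * y * r with ha
  set g := algebraMap A B a * h₀ with hg
  let ψ := awayLift (a := a) (g := g) (dvd_mul_right _ _)
  let L := algebraMap B (Localization.Away g)
  have hLg : IsUnit (L g) := IsLocalization.Away.algebraMap_isUnit g
  have hLh : IsUnit (L h₀) := isUnit_of_dvd_unit (map_dvd _ (dvd_mul_left _ _)) hLg
  have hψ : ∀ z, ψ (algebraMap A _ z) = L (algebraMap A B z) := fun z => by
    rw [AlgHom.commutes, IsScalarTower.algebraMap_apply A B (Localization.Away g)]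
  have hua : IsUnit (algebraMap A (Localization.Away a) a) := IsLocalization.Away.algebraMap_isUnit a
  have hrange : ∀ b, L b ∈ ψ.range := by
    intro b
    obtain ⟨z, k, l, hz⟩ := key b
    have h1 : L (algebraMap A B c₀) ^ k * L b = L (algebraMap A B z) := by
      have h2 := congrArg L hz
      rw [map_mul, map_pow, map_sub, map_mul, map_pow, map_zero] at h2
      exact sub_eq_zero.mp ((hLh.pow l).mul_right_eq_zero.mp h2)
    obtain ⟨v, hv⟩ := isUnit_iff_exists_inv'.mp
      (isUnit_of_dvd_unit (map_dvd (algebraMap A (Localization.Away a)) (show c₀ ∣ a from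
        (dvd_mul_right c₀ y).trans (dvd_mul_right _ r))) hua)
    refine (AlgHom.mem_range ψ).mpr ⟨v ^ k * algebraMap A _ z, ?_⟩
    rw [map_mul, map_pow, hψ, ← h1, ← mul_assoc, ← mul_pow, ← hψ c₀, ← map_mul, hv]
    simp
  intro w
  obtain ⟨b, ⟨_, k, rfl⟩, rfl⟩ := IsLocalization.exists_mk'_eq (Submonoid.powers g) w
  obtain ⟨zb, hzb⟩ := (AlgHom.mem_range ψ).mp (hrange b)
  -- `g` is the image of a unit
  have hh1 : L (algebraMap A B c₀) ^ n * L h₀ = L (algebraMap A B y) := by
    have h2 := congrArg L hy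
    rw [map_mul, map_pow, map_sub, map_mul, map_pow, map_zero] at h2
    exact sub_eq_zero.mp ((hLh.pow m).mul_right_eq_zero.mp h2)
  obtain ⟨v, hv⟩ := isUnit_iff_exists_inv'.mp
    (hua.mul (isUnit_of_dvd_unit (map_dvd (algebraMap A (Localization.Away a)) (show y ∣ a from
      (dvd_mul_left y c₀).trans (dvd_mul_right _ r))) hua))
  have hinv : L g * ψ (v * algebraMap A _ (c₀ ^ n)) = 1 := by
    have hgL : L g = L (algebraMap A B a) * L h₀ := map_mul L _ _
    rw [map_mul ψ, hψ, hgL, map_pow, map_pow]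
    calc L (algebraMap A B a) * L h₀ * (ψ v * L (algebraMap A B c₀) ^ n)
        = ψ v * (L (algebraMap A B a) * (L (algebraMap A B c₀) ^ n * L h₀)) := by ring
      _ = ψ v * (ψ (algebraMap A _ a) * ψ (algebraMap A _ y)) := by rw [hh1, hψ, hψ]
      _ = ψ (v * (algebraMap A _ a * algebraMap A _ y)) := by rw [map_mul ψ v, map_mul ψ]
      _ = 1 := by rw [hv, map_one]
  refine ⟨zb * (v * algebraMap A _ (c₀ ^ n)) ^ k, ?_⟩
  rw [eq_comm, IsLocalization.mk'_eq_iff_eq_mul]
  show L b = ψ _ * L (g ^ k)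
  rw [map_mul ψ, map_pow ψ, map_pow L, hzb, mul_assoc, ← mul_pow, mul_comm _ (L g), hinv, one_pow, mul_one]

/-- A ring map of finite type inducing a bijection of local rings at a prime is an isomorphism
after inverting suitable elements. -/
theorem exists_bijective (q : Ideal B) [q.IsPrime] [Algebra.FiniteType A B]
    (hsurj : ∀ b : B, ∃ (x c : A) (h : B), algebraMap A B c ∉ q ∧ h ∉ q ∧
      h * (algebraMap A B c * b - algebraMap A B x) = 0)
    (hinj : ∀ (x : A) (h : B), h ∉ q → h * algebraMap A B x = 0 →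
      ∃ t : A, algebraMap A B t ∉ q ∧ t * x = 0)
    (hcase : Algebra.FinitePresentation A B ∨
      ∀ x t : A, algebraMap A B t ∉ q → t * x = 0 → x = 0) :
    ∃ (a : A) (g : B) (hag : algebraMap A B a ∣ g), g ∉ q ∧ Function.Bijective (awayLift hag) := by
  classical
  obtain ⟨a₀, h, ha₀, hh, hs⟩ := awayLift_surjective q hsurj
  -- an element killing the kernel
  have num : ∀ r : A, algebraMap A B r ∉ q → ∀ z : Localization.Away (a₀ * r),
      awayLift (a := a₀ * r) (g := algebraMap A B (a₀ * r) * h) (dvd_mul_right _ _) z = 0 →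
      ∃ (x : A) (k : ℕ) (M : ℕ), algebraMap A (Localization.Away (a₀ * r)) ((a₀ * r) ^ k) * z =
        algebraMap A _ x ∧ (algebraMap A B (a₀ * r) * h) ^ M * algebraMap A B x = 0 := by
    intro r _ z hz
    obtain ⟨x, ⟨_, k, rfl⟩, rfl⟩ := IsLocalization.exists_mk'_eq (Submonoid.powers (a₀ * r)) z
    refine ⟨x, k, ?_⟩
    have h1 : algebraMap A (Localization.Away (a₀ * r)) ((a₀ * r) ^ k) *
        IsLocalization.mk' _ x (⟨_, k, rfl⟩ : Submonoid.powers (a₀ * r)) = algebraMap A _ x :=
      IsLocalization.mk'_spec' _ x (⟨_, k, rfl⟩ : Submonoid.powers (a₀ * r))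
    have h2 := congrArg (awayLift (a := a₀ * r) (g := algebraMap A B (a₀ * r) * h) (dvd_mul_right _ _)) h1
    replace h2 := (map_mul (awayLift (a := a₀ * r) (g := algebraMap A B (a₀ * r) * h) (dvd_mul_right _ _))
      _ _).symm.trans h2
    rw [hz, mul_zero, AlgHom.commutes, IsScalarTower.algebraMap_apply A B] at h2
    obtain ⟨⟨_, M, rfl⟩, hM⟩ := (IsLocalization.map_eq_zero_iff
      (Submonoid.powers (algebraMap A B (a₀ * r) * h)) _ _).mp h2.symm
    exact ⟨M, h1, hM⟩
  have hnot : ∀ r : A, algebraMap A B r ∉ q → algebraMap A B (a₀ * r) * h ∉ q := fun r hr h' => by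
    rw [map_mul] at h'
    exact (‹q.IsPrime›.mem_or_mem h').elim
      (fun h'' => (‹q.IsPrime›.mem_or_mem h'').elim ha₀ hr) hh
  obtain ⟨r, hr, hker⟩ : ∃ r : A, algebraMap A B r ∉ q ∧ ∀ x : A, (∃ M : ℕ,
      (algebraMap A B (a₀ * r) * h) ^ M * algebraMap A B x = 0) → ∃ k, (a₀ * r) ^ k * x = 0 := by
    rcases hcase with hfp | hdom
    · have h1 : algebraMap A B (1 : A) ∉ q := by
        rw [map_one]; exact ‹q.IsPrime›.one_notMem
      let ψ := awayLift (a := a₀ * 1) (g := algebraMap A B (a₀ * 1) * h) (dvd_mul_right _ _)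
      have : Algebra.FinitePresentation A (Localization.Away (a₀ * 1)) :=
        IsLocalization.Away.finitePresentation (S := Localization.Away (a₀ * 1)) (a₀ * 1)
      have : Algebra.FinitePresentation B (Localization.Away (algebraMap A B (a₀ * 1) * h)) :=
        IsLocalization.Away.finitePresentation (S := Localization.Away (algebraMap A B (a₀ * 1) * h))
          (algebraMap A B (a₀ * 1) * h)
      have : Algebra.FinitePresentation A (Localization.Away (algebraMap A B (a₀ * 1) * h)) :=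
        Algebra.FinitePresentation.trans A B _
      obtain ⟨s, hsk⟩ := Algebra.FinitePresentation.ker_fG_of_surjective ψ (hs 1)
      have hz : ∀ z ∈ s, ∃ t : A, algebraMap A B t ∉ q ∧ algebraMap A _ t * z = 0 := by
        intro z hz
        have hz0 : ψ z = 0 := hsk.le (Submodule.subset_span hz)
        obtain ⟨x, k, M, hx, hM⟩ := num 1 h1 z hz0
        obtain ⟨t, ht, htx⟩ := hinj x _ (fun h' => hnot 1 h1 (‹q.IsPrime›.mem_of_pow_mem _ h')) hM
        refine ⟨t, ht, ((IsLocalization.Away.algebraMap_isUnit (a₀ * 1)).pow k).mul_right_eq_zero.mp ?_⟩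
        rw [← map_pow, mul_left_comm, hx, ← map_mul, htx, map_zero]
      choose t ht htz using hz
      refine ⟨∏ z ∈ s.attach, t z.1 z.2, ?_, ?_⟩
      · rw [map_prod]
        exact Submonoid.prod_mem q.primeCompl fun z _ => ht _ _
      · set r := ∏ z ∈ s.attach, t z.1 z.2
        rintro x ⟨M, hM⟩
        have hrk : ∀ w ∈ RingHom.ker ψ.toRingHom, algebraMap A _ r * w = 0 := by
          intro w hw
          rw [← hsk] at hw
          induction hw using Submodule.span_induction with
          | mem z hz =>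
            obtain ⟨d, hd⟩ : t z hz ∣ r :=
              Finset.dvd_prod_of_mem (fun z : { z // z ∈ s } => t z.1 z.2) (Finset.mem_attach s ⟨z, hz⟩)
            rw [hd, map_mul, mul_comm (algebraMap A _ (t z hz)), mul_assoc, htz, mul_zero]
          | zero => exact mul_zero _
          | add w₁ w₂ _ _ i₁ i₂ => rw [mul_add, i₁, i₂, add_zero]
          | smul c w _ i => rw [smul_eq_mul, mul_left_comm, i, mul_zero]
        have hx0 : ψ (algebraMap A _ (r ^ M * x)) = 0 := by
          rw [AlgHom.commutes, IsScalarTower.algebraMap_apply A B]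
          refine (IsLocalization.map_eq_zero_iff
            (Submonoid.powers (algebraMap A B (a₀ * 1) * h)) _ _).mpr ⟨⟨_, M, rfl⟩, ?_⟩
          rw [← hM]
          show (algebraMap A B (a₀ * 1) * h) ^ M * algebraMap A B (r ^ M * x) = _
          simp only [map_mul, map_pow, mul_one]
          ring
        have h2 := hrk _ hx0
        rw [← map_mul] at h2
        obtain ⟨⟨_, k, rfl⟩, hk⟩ :=
          (IsLocalization.map_eq_zero_iff (Submonoid.powers (a₀ * 1)) _ _).mp h2
        refine ⟨k + (M + 1), ?_⟩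
        calc (a₀ * r) ^ (k + (M + 1)) * x
            = a₀ ^ (M + 1) * r ^ k * ((a₀ * 1) ^ k * (r * (r ^ M * x))) := by ring
          _ = 0 := by rw [hk, mul_zero]
    · have h1 : algebraMap A B (1 : A) ∉ q := by
        rw [map_one]; exact ‹q.IsPrime›.one_notMem
      refine ⟨1, h1, fun x ⟨M, hM⟩ => ?_⟩
      obtain ⟨t, ht, htx⟩ := hinj x _ (fun h' => hnot 1 h1 (‹q.IsPrime›.mem_of_pow_mem _ h')) hM
      exact ⟨0, by rw [hdom x t ht htx, mul_zero]⟩
  refine ⟨a₀ * r, algebraMap A B (a₀ * r) * h, dvd_mul_right _ _, hnot r hr, ?_, hs r⟩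
  rw [injective_iff_map_eq_zero]
  intro z hz
  obtain ⟨x, k, M, hx, hM⟩ := num r hr z hz
  obtain ⟨l, hl⟩ := hker x ⟨M, hM⟩
  have h3 := congrArg (fun w => algebraMap A (Localization.Away (a₀ * r)) ((a₀ * r) ^ l) * w) hx
  simp only [← map_mul, hl, map_zero, ← mul_assoc] at h3
  exact (((IsLocalization.Away.algebraMap_isUnit (a₀ * r)).pow (l + k))).mul_right_eq_zero.mp
    (by rw [← map_pow, pow_add]; exact h3)

end Groth.Agent.MorLib.Birat
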