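import Mathlib.AlgebraicGeometry.ValuativeCriterion
import Groth.Agent.Proj16.DVRPath
import Groth.Agent.FDescent.QuasiFlat

/-! Valuative criteria tested on generic points coming from a dense image. -/

set_option autoImplicit false
universe u

namespace Groth.Agent.MorLib.DenseValuative

open AlgebraicGeometry CategoryTheory Limits IsLocalRing
open Groth.Agent.Proj16 (specMapResidue specMapResidue_fromSpecStalk)

variable {U X S : Scheme.{u}}

/-- Two morphisms to `X` over `S` from a valuation subring of a residue field of `U`, agreeing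
generically with `h`, are equal. -/
def UniqueLifts (f : X ⟶ S) (h : U ⟶ X) : Prop :=
  ∀ (u : U) (V : ValuationSubring (U.residueField u)) (l₁ l₂ : Spec (.of V) ⟶ X),
    l₁ ≫ f = l₂ ≫ f →
    Spec.map (CommRingCat.ofHom V.subtype) ≫ l₁ = U.fromSpecResidueField u ≫ h →
    Spec.map (CommRingCat.ofHom V.subtype) ≫ l₂ = U.fromSpecResidueField u ≫ h → l₁ = l₂

/-- Squares at the points of `U` over valuation subrings of their residue fields have lifts. -/
def HasLifts (f : X ⟶ S) (h : U ⟶ X) : Prop :=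
  ∀ (u : U) (V : ValuationSubring (U.residueField u)) (y : Spec (.of V) ⟶ S),
    Spec.map (CommRingCat.ofHom V.subtype) ≫ y = U.fromSpecResidueField u ≫ h ≫ f →
    ∃ l : Spec (.of V) ⟶ X, l ≫ f = y ∧
      Spec.map (CommRingCat.ofHom V.subtype) ≫ l = U.fromSpecResidueField u ≫ h

theorem mem_range_diagonal (f : X ⟶ S) {T : Scheme.{u}} (k : T ⟶ pullback f f)
    (hk : k ≫ pullback.fst f f = k ≫ pullback.snd f f) (t : T) :
    k t ∈ Set.range (pullback.diagonal f) := by
  refine ⟨(k ≫ pullback.fst f f) t, ?_⟩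
  have e : (k ≫ pullback.fst f f) ≫ pullback.diagonal f = k := by
    apply pullback.hom_ext
    · simp
    · rw [Category.assoc, pullback.diagonal_snd, Category.comp_id, hk]
  rw [← Scheme.Hom.comp_apply, e]

theorem isSeparated_of_dense (f : X ⟶ S) (h : U ⟶ X) [QuasiCompact (h ≫ pullback.diagonal f)]
    (hd : DenseRange h)
    (H : ∀ (u : U) (z : ↥(pullback f f)), (h ≫ pullback.diagonal f) u ⤳ z →
      z ≠ (h ≫ pullback.diagonal f) u → z ∈ Set.range (pullback.diagonal f)) :
    IsSeparated f := by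
  let Δ := pullback.diagonal f
  have hcl : IsClosed (Set.range Δ) := isClosed_of_closure_subset fun z hz => by
    have hz' : z ∈ closure (Set.range (h ≫ Δ)) := by
      refine closure_minimal ?_ isClosed_closure hz
      rintro _ ⟨x, rfl⟩
      have h1 := image_closure_subset_closure_image Δ.continuous ⟨x, hd.closure_eq.ge trivial, rfl⟩
      rw [← Set.range_comp] at h1
      exact h1
    obtain ⟨u, hu⟩ :=
      Groth.Agent.FDescent.exists_specializes_of_mem_closure_range (f := h ≫ Δ) hz'
    by_cases he : z = (h ≫ Δ) u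
    · exact ⟨h u, he.symm⟩
    · exact H u z hu he
  exact ⟨IsClosedImmersion.of_isPreimmersion _ hcl⟩

theorem isSeparated_of_uniqueLifts (f : X ⟶ S) (h : U ⟶ X) [QuasiCompact h] [QuasiSeparated f]
    (hd : DenseRange h) (H : UniqueLifts f h) : IsSeparated f := by
  refine isSeparated_of_dense f h hd fun u z hsp hne => ?_
  obtain ⟨A, k, -, h1, h2⟩ := Groth.Agent.Proj16.exists_valuationSubring_path hsp hne
  rw [← h1]
  refine mem_range_diagonal f k (H u A _ _ ?_ ?_ ?_) _
  · rw [Category.assoc, pullback.condition, Category.assoc]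
  · rw [reassoc_of% h2]; simp
  · rw [reassoc_of% h2]; simp

theorem ringHom_ext_of_generic {R K : Type u} [CommRing R] [Field K] {j : R →+* K}
    (hj : Function.Injective j) {s : S} (a b : S.presheaf.stalk s ⟶ .of R)
    (he : Spec.map (CommRingCat.ofHom j) ≫ Spec.map a ≫ S.fromSpecStalk s =
      Spec.map (CommRingCat.ofHom j) ≫ Spec.map b ≫ S.fromSpecStalk s) : a = b := by
  rw [← Spec.map_comp_assoc, ← Spec.map_comp_assoc, cancel_mono] at he
  have := Spec.map_injective he
  exact CommRingCat.hom_ext (RingHom.ext fun x => hj (congrArg (fun k => k.hom x) this))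

theorem exists_stalkMap_eq {R : Type u} [CommRing R] [IsLocalRing R] (g : Spec (.of R) ⟶ S) {s : S}
    (hs : g (closedPoint R) = s) :
    ∃ a : S.presheaf.stalk s ⟶ .of R, IsLocalHom a.hom ∧ Spec.map a ≫ S.fromSpecStalk s = g := by
  subst hs
  exact ⟨Scheme.stalkClosedPointTo g, inferInstance, Scheme.Spec_stalkClosedPointTo_fromSpecStalk g⟩

theorem apply_closedPoint {R : Type u} [CommRing R] [IsLocalRing R] {s : S}
    (a : S.presheaf.stalk s ⟶ .of R) [IsLocalHom a.hom] :
    (Spec.map a ≫ S.fromSpecStalk s) (closedPoint R) = s := by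
  rw [Scheme.Hom.comp_apply]
  have : Spec.map a (closedPoint R) = closedPoint _ := comap_closedPoint a.hom
  rw [this, Scheme.fromSpecStalk_closedPoint]

/-- If squares through a dense quasi-compact image have unique lifts, all squares have lifts. -/
theorem existence_of_dense (f : X ⟶ S) (h : U ⟶ X) [QuasiCompact h] (hd : DenseRange h)
    (HE : HasLifts f h) (HU : UniqueLifts f h) : ValuativeCriterion.Existence f := by
  intro sq
  obtain ⟨R, K, i₁, i₂, ⟨w⟩⟩ := sq
  let jK : R →+* K := algebraMap R K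
  have hjK : Function.Injective jK := IsFractionRing.injective R K
  -- the point and the residue field map
  let x : X := i₁ (closedPoint K)
  let ι : X.residueField x ⟶ .of K := Scheme.descResidueField (Scheme.stalkClosedPointTo i₁)
  have hι : Spec.map ι ≫ X.fromSpecResidueField x = i₁ :=
    Scheme.descResidueField_stalkClosedPointTo_fromSpecResidueField K X i₁
  let s : S := i₂ (closedPoint R)
  obtain ⟨φ, hφl, hφ⟩ := exists_stalkMap_eq i₂ (s := s) rfl
  have hfx : f x ⤳ s := by
    have h1 := congrArg (fun k : Spec (.of K) ⟶ S => k (closedPoint K)) w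
    simp only [Scheme.Hom.comp_apply] at h1
    show f (i₁ (closedPoint K)) ⤳ i₂ (closedPoint R)
    rw [h1]
    exact (IsLocalRing.specializes_closedPoint _).map i₂.continuous
  let σ := specMapResidue hfx
  have hσι : ∀ a, ι.hom (σ.hom a) = jK (φ.hom a) := by
    have h1 : Spec.map ι ≫ Spec.map σ ≫ S.fromSpecStalk s =
        Spec.map (CommRingCat.ofHom jK) ≫ Spec.map φ ≫ S.fromSpecStalk s := by
      rw [specMapResidue_fromSpecStalk, reassoc_of% hι, hφ]
      exact w
    rw [← Spec.map_comp_assoc, ← Spec.map_comp_assoc, cancel_mono] at h1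
    intro a
    exact congrArg (fun k => k.hom a) (Spec.map_injective h1)
  -- the valuation ring of `κ(x)`
  let R₀ : ValuationSubring (X.residueField x) :=
    ValuationSubring.ofSubring (jK.range.comap ι.hom) fun a => by
      rcases ValuationRing.isInteger_or_isInteger R (ι.hom a) with ⟨r, hr⟩ | ⟨r, hr⟩
      · exact Or.inl ⟨r, hr⟩
      · exact Or.inr ⟨r, hr.trans (map_inv₀ ι.hom a).symm⟩
  have hσR : ∀ a, σ.hom a ∈ R₀ := fun a => ⟨φ.hom a, (hσι a).symm⟩
  have hR₀unit : ∀ a, σ.hom a ≠ 0 → (σ.hom a)⁻¹ ∈ R₀ → IsUnit a := by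
    intro a h0 hinv
    obtain ⟨r, hr⟩ := hinv
    refine hφl.map_nonunit a (IsUnit.of_mul_eq_one r (hjK ?_))
    rw [map_mul, map_one, hr, ← hσι, map_inv₀]
    exact mul_inv_cancel₀ (fun e => h0 (ι.hom.injective (e.trans (map_zero _).symm)))
  -- a valuation ring at a point of `U` dominating `x`
  obtain ⟨u, hu⟩ := Groth.Agent.FDescent.exists_specializes_of_mem_closure_range (f := h)
    (y := x) (hd.closure_eq.ge trivial)
  let τ := specMapResidue (p := h) hu
  obtain ⟨B, hτB, hτl⟩ := exists_factor_valuationRing τ.hom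
  let τB : X.presheaf.stalk x ⟶ .of B := CommRingCat.ofHom (τ.hom.codRestrict B.toSubring hτB)
  haveI : IsLocalHom τB.hom := hτl
  let j : X.residueField x →+* ResidueField B := ResidueField.map τB.hom
  have hj : ∀ a, j (X.residue x a) = residue B (τB.hom a) := fun a => rfl
  obtain ⟨R', hR', hR'l⟩ := exists_factor_valuationRing (j.comp R₀.subtype)
  have hR₀ : ∀ a, j a ∈ R' → a ∈ R₀ := by
    intro a ha
    by_contra hn
    have hinv : a⁻¹ ∈ R₀ := (R₀.mem_or_inv_mem a).resolve_left hn
    have h0 : a ≠ 0 := fun e => hn (e ▸ R₀.zero_mem)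
    have hu' : IsUnit (((j.comp R₀.subtype).codRestrict R'.toSubring hR') ⟨a⁻¹, hinv⟩) :=
      IsUnit.of_mul_eq_one ⟨j a, ha⟩ (Subtype.ext (by
        show j a⁻¹ * j a = 1
        rw [← map_mul, inv_mul_cancel₀ h0, map_one]))
    obtain ⟨c, hc⟩ := isUnit_iff_exists_inv.mp (hR'l.map_nonunit _ hu')
    have h2 : a⁻¹ * (c : X.residueField x) = 1 := congrArg Subtype.val hc
    rw [inv_mul_eq_one₀ h0] at h2
    exact hn (h2 ▸ c.2)
  -- the composite valuation ring
  let C : ValuationSubring (U.residueField u) :=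
    ValuationSubring.ofSubring ((R'.toSubring.comap (residue B)).map B.subtype) fun l => by
      rcases B.mem_or_inv_mem l with hl | hl
      · rcases R'.mem_or_inv_mem (residue B ⟨l, hl⟩) with hr | hr
        · exact Or.inl ⟨⟨l, hl⟩, hr, rfl⟩
        · by_cases hbu : IsUnit (⟨l, hl⟩ : B)
          · obtain ⟨v, hv⟩ := hbu
            refine Or.inr ⟨↑v⁻¹, ?_, ?_⟩
            · show residue B ↑v⁻¹ ∈ R'
              rw [show residue B (↑v⁻¹ : B) = (residue B ⟨l, hl⟩)⁻¹ by
                rw [← hv]; exact eq_inv_of_mul_eq_one_left (by rw [← map_mul, v.inv_mul, map_one])]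
              exact hr
            · refine eq_inv_of_mul_eq_one_left ?_
              have h1 := congrArg B.subtype v.inv_mul
              rw [map_mul, map_one, hv] at h1
              exact h1
          · exact Or.inl ⟨⟨l, hl⟩, by
              show residue B _ ∈ R'
              rw [(residue_eq_zero_iff _).mpr ((mem_maximalIdeal _).mpr hbu)]
              exact R'.zero_mem, rfl⟩
      · by_cases hbu : IsUnit (⟨l⁻¹, hl⟩ : B)
        · obtain ⟨v, hv⟩ := hbu
          rcases R'.mem_or_inv_mem (residue B ⟨l⁻¹, hl⟩) with hr | hr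
          · exact Or.inr ⟨⟨l⁻¹, hl⟩, hr, rfl⟩
          · refine Or.inl ⟨↑v⁻¹, ?_, ?_⟩
            · show residue B ↑v⁻¹ ∈ R'
              rw [show residue B (↑v⁻¹ : B) = (residue B ⟨l⁻¹, hl⟩)⁻¹ by
                rw [← hv]; exact eq_inv_of_mul_eq_one_left (by rw [← map_mul, v.inv_mul, map_one])]
              exact hr
            · rw [← inv_inv l]
              refine eq_inv_of_mul_eq_one_left ?_
              have h1 := congrArg B.subtype v.inv_mul
              rw [map_mul, map_one, hv] at h1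
              exact h1
        · exact Or.inr ⟨⟨l⁻¹, hl⟩, by
            show residue B _ ∈ R'
            rw [(residue_eq_zero_iff _).mpr ((mem_maximalIdeal _).mpr hbu)]
            exact R'.zero_mem, rfl⟩
  have hCB : ∀ l, l ∈ C → l ∈ B := by rintro _ ⟨b, -, rfl⟩; exact b.2
  have hCR : ∀ (b : B), (b : U.residueField u) ∈ C → residue B b ∈ R' := by
    rintro b ⟨b', hb', e⟩
    obtain rfl : b' = b := Subtype.ext e
    exact hb'
  let a₀ := S.presheaf.stalkSpecializes hfx ≫ f.stalkMap x
  have hres : ∀ a, residue B (τB.hom (a₀.hom a)) = j (σ.hom a) := fun a => rfl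
  have hgC : ∀ a, τ.hom (a₀.hom a) ∈ C := fun a =>
    ⟨τB.hom (a₀.hom a), by
      show residue B _ ∈ R'
      rw [hres]; exact hR' ⟨_, hσR a⟩, rfl⟩
  let g : S.presheaf.stalk s ⟶ .of C :=
    CommRingCat.ofHom ((τ.hom.comp a₀.hom).codRestrict C.toSubring hgC)
  haveI hgl : IsLocalHom g.hom := by
    refine ⟨fun a ha => ?_⟩
    obtain ⟨c, hc⟩ := isUnit_iff_exists_inv.mp ha
    have hcB : (c : U.residueField u) ∈ B := hCB _ c.2
    have h1 : τ.hom (a₀.hom a) * c = 1 := congrArg Subtype.val hc
    have h2 : residue B (τB.hom (a₀.hom a)) * residue B ⟨c, hcB⟩ = 1 := by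
      rw [← map_mul, ← map_one (residue B)]
      exact congrArg _ (Subtype.ext h1)
    rw [hres] at h2
    have h3 : residue B ⟨c, hcB⟩ = (j (σ.hom a))⁻¹ := eq_inv_of_mul_eq_one_right h2
    have h4 : (σ.hom a)⁻¹ ∈ R₀ := hR₀ _ (by rw [map_inv₀, ← h3]; exact hCR _ c.2)
    exact hR₀unit a (fun e => by rw [e, map_zero, zero_mul] at h2; exact zero_ne_one h2) h4
  have hgen : Spec.map (CommRingCat.ofHom C.subtype) ≫ Spec.map g ≫ S.fromSpecStalk s =
      U.fromSpecResidueField u ≫ h ≫ f := by
    rw [← reassoc_of% (specMapResidue_fromSpecStalk hu), ← Scheme.SpecMap_stalkMap_fromSpecStalk,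
      ← Scheme.SpecMap_stalkSpecializes_fromSpecStalk hfx]
    simp only [← Spec.map_comp_assoc]
    rfl
  obtain ⟨l, hlf, hl⟩ := HE u C (Spec.map g ≫ S.fromSpecStalk s) hgen
  -- restriction to `B`
  let incl : CommRingCat.of C ⟶ .of B :=
    CommRingCat.ofHom (C.subtype.codRestrict B.toSubring fun c => hCB _ c.2)
  have hinclB : Spec.map (CommRingCat.ofHom B.subtype) ≫ Spec.map incl =
      Spec.map (CommRingCat.ofHom C.subtype) := by
    rw [← Spec.map_comp]; rfl
  have hβ : Spec.map incl ≫ l = Spec.map τB ≫ X.fromSpecStalk x := by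
    refine HU u B _ _ ?_ ?_ ?_
    · rw [Category.assoc, hlf, Category.assoc, ← Scheme.SpecMap_stalkMap_fromSpecStalk,
        ← Scheme.SpecMap_stalkSpecializes_fromSpecStalk hfx]
      simp only [← Spec.map_comp_assoc]
      rfl
    · rw [reassoc_of% hinclB, hl]
    · rw [← Spec.map_comp_assoc, ← specMapResidue_fromSpecStalk hu]
      rfl
  let x'' : X := l (closedPoint C)
  obtain ⟨ξ, hξl, hξ⟩ := exists_stalkMap_eq l (s := x'') rfl
  have hx : x ⤳ x'' := by
    have h1 := congrArg (fun k : Spec (.of B) ⟶ X => k (closedPoint B)) hβ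
    rw [apply_closedPoint, Scheme.Hom.comp_apply] at h1
    rw [← h1]
    exact (IsLocalRing.specializes_closedPoint _).map l.continuous
  have hξB : ∀ a, (incl.hom (ξ.hom a)) = τB.hom ((X.presheaf.stalkSpecializes hx).hom a) := by
    have h1 : Spec.map incl ≫ Spec.map ξ ≫ X.fromSpecStalk x'' =
        Spec.map τB ≫ Spec.map (X.presheaf.stalkSpecializes hx) ≫ X.fromSpecStalk x'' := by
      rw [hξ, hβ, Scheme.SpecMap_stalkSpecializes_fromSpecStalk]
    rw [← Spec.map_comp_assoc, ← Spec.map_comp_assoc, cancel_mono] at h1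
    intro a
    exact congrArg (fun k => k.hom a) (Spec.map_injective h1)
  let μ := X.presheaf.stalkSpecializes hx ≫ X.residue x
  have hμ : ∀ a, μ.hom a ∈ R₀ := fun a => hR₀ _ (by
    have h1 := hCR (incl.hom (ξ.hom a)) (ξ.hom a).2
    rw [hξB] at h1
    exact h1)
  let ψ : X.presheaf.stalk x'' →+* K := ι.hom.comp μ.hom
  have hψ : ∀ a, ∃ r, jK r = ψ a := hμ
  choose r hr using hψ
  let μR : X.presheaf.stalk x'' ⟶ .of R := CommRingCat.ofHom
    { toFun := r
      map_one' := hjK ((hr 1).trans (ψ.map_one.trans jK.map_one.symm))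
      map_mul' := fun a b => hjK ((hr _).trans ((ψ.map_mul a b).trans
        ((congrArg₂ (· * ·) (hr a).symm (hr b).symm).trans (jK.map_mul _ _).symm)))
      map_zero' := hjK ((hr 0).trans (ψ.map_zero.trans jK.map_zero.symm))
      map_add' := fun a b => hjK ((hr _).trans ((ψ.map_add a b).trans
        ((congrArg₂ (· + ·) (hr a).symm (hr b).symm).trans (jK.map_add _ _).symm))) }
  have hgenR : Spec.map (CommRingCat.ofHom jK) ≫ Spec.map μR ≫ X.fromSpecStalk x'' = i₁ := by
    rw [← hι, Scheme.fromSpecResidueField, ← Scheme.SpecMap_stalkSpecializes_fromSpecStalk hx]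
    simp only [← Spec.map_comp_assoc]
    congr 2
    exact CommRingCat.hom_ext (RingHom.ext hr)
  refine ⟨⟨⟨Spec.map μR ≫ X.fromSpecStalk x'', hgenR, ?_⟩⟩⟩
  have hs : f x'' = s := by
    show f (l (closedPoint C)) = s
    rw [← Scheme.Hom.comp_apply, hlf, apply_closedPoint]
  obtain ⟨φ', -, hφ'⟩ := exists_stalkMap_eq i₂ (s := f x'') hs.symm
  rw [Category.assoc, ← Scheme.SpecMap_stalkMap_fromSpecStalk, ← Spec.map_comp_assoc]
  refine Eq.trans ?_ hφ'
  refine congrArg (fun k => Spec.map k ≫ S.fromSpecStalk (f x''))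
    (ringHom_ext_of_generic hjK _ _ ?_)
  rw [hφ', Spec.map_comp, Category.assoc, Scheme.SpecMap_stalkMap_fromSpecStalk, reassoc_of% hgenR]
  exact w

end Groth.Agent.MorLib.DenseValuative
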