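import Groth.Agent.MorLib.DenseValuative
import Mathlib.AlgebraicGeometry.Morphisms.FiniteType

/-! Reduction of the valuative criterion on a dense subset to discrete valuation rings. -/

set_option autoImplicit false
universe u

namespace Groth.Agent.MorLib.DenseValuative

open AlgebraicGeometry CategoryTheory Limits IsLocalRing

variable {U X S : Scheme.{u}}

theorem range_subset_of_closedPoint {R : Type u} [CommRing R] [IsLocalRing R]
    (g : Spec (.of R) ⟶ X) {O : X.Opens} (h : g (closedPoint R) ∈ O) : Set.range g ⊆ O := by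
  rintro _ ⟨p, rfl⟩
  exact ((IsLocalRing.specializes_closedPoint p).map g.continuous).mem_open O.2 h

theorem exists_factor_affine {R : Type u} [CommRing R] (g : Spec (.of R) ⟶ X) {O : X.Opens}
    (hO : IsAffineOpen O) (h : Set.range g ⊆ O) :
    ∃ η : Γ(X, O) ⟶ .of R, Spec.map η ≫ hO.fromSpec = g :=
  ⟨Spec.preimage (IsOpenImmersion.lift hO.fromSpec g (by rwa [hO.range_fromSpec])), by
    rw [Spec.map_preimage, IsOpenImmersion.lift_fac]⟩

theorem ringHom_eq_of_fromSpec {R : Type u} [CommRing R] {O : X.Opens} (hO : IsAffineOpen O)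
    {a b : Γ(X, O) ⟶ .of R} (h : Spec.map a ≫ hO.fromSpec = Spec.map b ≫ hO.fromSpec) : a = b :=
  Spec.map_injective ((cancel_mono hO.fromSpec).mp h)

theorem hom_ext_into_affine {R K : Type u} [CommRing R] [IsLocalRing R] [CommRing K] {j : R →+* K}
    (hj : Function.Injective j) (g₁ g₂ : Spec (.of R) ⟶ S) {W : S.Opens} (hW : IsAffineOpen W)
    (h₁ : g₁ (closedPoint R) ∈ W) (h₂ : g₂ (closedPoint R) ∈ W)
    (h : Spec.map (CommRingCat.ofHom j) ≫ g₁ = Spec.map (CommRingCat.ofHom j) ≫ g₂) : g₁ = g₂ := by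
  obtain ⟨a, rfl⟩ := exists_factor_affine g₁ hW (range_subset_of_closedPoint g₁ h₁)
  obtain ⟨b, rfl⟩ := exists_factor_affine g₂ hW (range_subset_of_closedPoint g₂ h₂)
  rw [← Spec.map_comp_assoc, ← Spec.map_comp_assoc] at h
  have e := ringHom_eq_of_fromSpec hW h
  rw [show a = b from CommRingCat.hom_ext (RingHom.ext fun x => hj (congrArg (fun k => k.hom x) e))]

/-- Lifts over discrete valuation subrings suffice, over a locally Noetherian base. -/
theorem hasLifts_of_dvr [IsLocallyNoetherian S] (f : X ⟶ S) [LocallyOfFiniteType f]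
    [QuasiCompact f] (h : U ⟶ X) [LocallyOfFiniteType h]
    (H : ∀ (u : U) (V : ValuationSubring (U.residueField u)) (y : Spec (.of V) ⟶ S),
      IsDiscreteValuationRing V →
      Spec.map (CommRingCat.ofHom V.subtype) ≫ y = U.fromSpecResidueField u ≫ h ≫ f →
      ∃ l : Spec (.of V) ⟶ X, l ≫ f = y ∧
        Spec.map (CommRingCat.ofHom V.subtype) ≫ l = U.fromSpecResidueField u ≫ h) :
    HasLifts f h := by
  classical
  intro u V₀ y hy
  let s : S := y (closedPoint V₀)
  obtain ⟨W, hW, hsW, -⟩ := exists_isAffineOpen_mem_and_subset (x := s) (U := ⊤) trivial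
  obtain ⟨η, hη⟩ := exists_factor_affine y hW (range_subset_of_closedPoint y hsW)
  obtain ⟨φ, hφl, hφ⟩ := exists_stalkMap_eq y (s := s) rfl
  let x₀ : X := h u
  have hsp : (h ≫ f) u ⤳ s := by
    have h1 := congrArg (fun k : Spec (.of (U.residueField u)) ⟶ S => k (closedPoint _)) hy
    simp only [Scheme.Hom.comp_apply] at h1
    have h2 : U.fromSpecResidueField u (closedPoint (U.residueField u)) = u :=
      Scheme.fromSpecResidueField_apply _ _
    rw [Scheme.Hom.comp_apply, ← congrArg (fun v => f (h v)) h2]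
    refine (specializes_of_eq h1.symm).trans ?_
    exact (IsLocalRing.specializes_closedPoint _).map y.continuous
  have hx₀W : x₀ ∈ f ⁻¹ᵁ W := hsp.mem_open W.2 hsW
  -- the charts
  obtain ⟨t, ht, hcov⟩ := (isCompact_iff_finite_and_eq_biUnion_affineOpens (U := f ⁻¹ᵁ W)).mp
    (QuasiCompact.isCompact_preimage (f := f) _ W.2 hW.isCompact)
  let χr := U.fromSpecResidueField u ≫ h
  have hχ : ∀ (O : X.affineOpens), x₀ ∈ O.1 → ∃ χ : Γ(X, O.1) ⟶ U.residueField u,
      Spec.map χ ≫ O.2.fromSpec = χr := fun O hO =>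
    exists_factor_affine χr O.2 (by
      rintro _ ⟨p, rfl⟩
      show (U.fromSpecResidueField u ≫ h) p ∈ O.1
      rw [Scheme.Hom.comp_apply, Scheme.fromSpecResidueField_apply]
      exact hO)
  choose χ hχ using hχ
  by_cases hex : ∃ (O : X.affineOpens) (hO : x₀ ∈ O.1), O.1 ≤ f ⁻¹ᵁ W ∧ ∀ a, (χ O hO).hom a ∈ V₀
  · obtain ⟨O, hO, hOW, hmem⟩ := hex
    let ζ : Γ(X, O.1) ⟶ .of V₀ := CommRingCat.ofHom ((χ O hO).hom.codRestrict V₀.toSubring hmem)
    have hgen : Spec.map (CommRingCat.ofHom V₀.subtype) ≫ Spec.map ζ ≫ O.2.fromSpec = χr := by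
      rw [← Spec.map_comp_assoc, ← hχ O hO]; rfl
    refine ⟨Spec.map ζ ≫ O.2.fromSpec, ?_, hgen⟩
    refine hom_ext_into_affine (j := V₀.subtype) Subtype.coe_injective _ y hW ?_ hsW ?_
    · rw [Scheme.Hom.comp_apply]
      refine hOW ?_
      show _ ∈ (O.1 : Set X)
      rw [← O.2.range_fromSpec]
      exact ⟨_, rfl⟩
    · rw [← Category.assoc, hgen, hy]
      exact Category.assoc _ _ _
  · exfalso
    push Not at hex
    have hbad : ∀ O : X.affineOpens, O.1 ≤ f ⁻¹ᵁ W → ∀ hO : x₀ ∈ O.1,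
        ∃ a, (χ O hO).hom a ∉ V₀ := fun O hOW hO => hex O hO hOW
    choose a ha using hbad
    have hOW : ∀ O ∈ t, O.1 ≤ f ⁻¹ᵁ W := fun O hO => by
      rw [hcov]; exact le_iSup₂ (f := fun (i : X.affineOpens) _ => i.1) O hO
    let T : Finset (U.residueField u) := ht.toFinset.attach.image fun O =>
      if hO : x₀ ∈ O.1.1 then ((χ O.1 hO).hom (a O.1 (hOW _ (ht.mem_toFinset.mp O.2)) hO))⁻¹ else 0
    let σ := Groth.Agent.Proj16.specMapResidue (p := h ≫ f) hsp
    have hσ : ∀ b, σ.hom b = (φ.hom b : U.residueField u) := by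
      have h1 : Spec.map σ ≫ S.fromSpecStalk s =
          Spec.map (CommRingCat.ofHom V₀.subtype) ≫ Spec.map φ ≫ S.fromSpecStalk s := by
        rw [Groth.Agent.Proj16.specMapResidue_fromSpecStalk, hφ, hy]
      rw [← Spec.map_comp_assoc, cancel_mono] at h1
      intro b
      exact congrArg (fun k => k.hom b) (Spec.map_injective h1)
    let : Algebra (S.presheaf.stalk s) (U.residueField u) := σ.hom.toAlgebra
    have : Algebra.EssFiniteType (S.presheaf.stalk s) (U.residueField u) :=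
      RingHom.essFiniteType_algebraMap.mp (Groth.Agent.Proj16.essFiniteType_specMapResidue hsp)
    obtain ⟨O₀, hO₀⟩ : ∃ O ∈ t, x₀ ∈ O.1 := by
      rw [hcov] at hx₀W
      obtain ⟨O, h1⟩ := TopologicalSpace.Opens.mem_iSup.mp hx₀W
      obtain ⟨h2, h3⟩ := TopologicalSpace.Opens.mem_iSup.mp h1
      exact ⟨O, h2, h3⟩
    have hTV : ∀ z ∈ T, z ∈ V₀ ∧ (z ≠ 0 → z ∈ V₀.nonunits) := by
      intro z hz
      obtain ⟨O, -, rfl⟩ := Finset.mem_image.mp hz
      split_ifs with hO
      · have := ha O.1 (hOW _ (ht.mem_toFinset.mp O.2)) hO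
        exact ⟨(V₀.mem_or_inv_mem _).resolve_left this, fun _ =>
          V₀.inv_mem_nonunits_iff.2 (Or.inr this)⟩
      · exact ⟨V₀.zero_mem, fun e => absurd rfl e⟩
    have hne : ∃ z ∈ T, z ≠ 0 ∧ z ∈ V₀.nonunits := by
      have hz : ((χ O₀ hO₀.2).hom (a O₀ (hOW _ hO₀.1) hO₀.2))⁻¹ ∈ T :=
        Finset.mem_image.mpr ⟨⟨O₀, ht.mem_toFinset.mpr hO₀.1⟩, Finset.mem_attach _ _, dif_pos hO₀.2⟩
      have h0 : ((χ O₀ hO₀.2).hom (a O₀ (hOW _ hO₀.1) hO₀.2))⁻¹ ≠ 0 := inv_ne_zero fun e =>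
        ha O₀ (hOW _ hO₀.1) hO₀.2 (by rw [e]; exact V₀.zero_mem)
      exact ⟨_, hz, h0, (hTV _ hz).2 h0⟩
    obtain ⟨V, hV, hVA, hVT⟩ := Groth.Agent.Proj16.exists_dvr_of_valuationSubring
      (A := S.presheaf.stalk s) V₀
      (fun b => by show σ.hom b ∈ V₀; rw [hσ]; exact (φ.hom b).2) T (fun z hz => (hTV z hz).1) hne
    have hloc : IsLocalHom (σ.hom.codRestrict V.toSubring fun b => (hVA b).1) := by
      refine ⟨fun b hb => ?_⟩
      by_contra hn
      have h1 : σ.hom b ∈ V₀.nonunits := by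
        rw [hσ b, ValuationSubring.coe_mem_nonunits_iff]
        exact fun hu' => hn (hφl.map_nonunit b hu')
      have h2 := (hVA b).2.mpr h1
      rw [show algebraMap (S.presheaf.stalk s) (U.residueField u) b =
        ((⟨_, (hVA b).1⟩ : V) : U.residueField u) from rfl,
        ValuationSubring.coe_mem_nonunits_iff] at h2
      exact h2 hb
    obtain ⟨y', hy'1, hy'2⟩ := Groth.Agent.Proj16.exists_path hsp V (fun b => (hVA b).1) hloc
    obtain ⟨l, hlf, hl⟩ := H u V y' hV hy'2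
    have hlW : l (closedPoint V) ∈ f ⁻¹ᵁ W := by
      show f (l (closedPoint V)) ∈ W
      rw [← Scheme.Hom.comp_apply, hlf, hy'1]; exact hsW
    rw [hcov] at hlW
    obtain ⟨O, h1⟩ := TopologicalSpace.Opens.mem_iSup.mp hlW
    obtain ⟨hOt, hlO⟩ := TopologicalSpace.Opens.mem_iSup.mp h1
    have hO : x₀ ∈ O.1 := by
      have h3 := congrArg (fun k : Spec (.of (U.residueField u)) ⟶ X => k (closedPoint _)) hl
      simp only [Scheme.Hom.comp_apply] at h3
      have h4 : U.fromSpecResidueField u (closedPoint (U.residueField u)) = u :=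
        Scheme.fromSpecResidueField_apply _ _
      show h u ∈ O.1
      rw [← congrArg (fun v => h v) h4, ← h3]
      exact range_subset_of_closedPoint l hlO ⟨_, rfl⟩
    obtain ⟨ζ, hζ⟩ := exists_factor_affine l O.2 (range_subset_of_closedPoint l hlO)
    have hζχ : ζ ≫ CommRingCat.ofHom V.subtype = χ O hO := by
      refine ringHom_eq_of_fromSpec (R := U.residueField u) O.2 ?_
      rw [Spec.map_comp, Category.assoc, hζ, hl, hχ]
    let z := (χ O hO).hom (a O (hOW _ hOt) hO)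
    have hzT : z⁻¹ ∈ T :=
      Finset.mem_image.mpr ⟨⟨O, ht.mem_toFinset.mpr hOt⟩, Finset.mem_attach _ _, dif_pos hO⟩
    have hz0 : z ≠ 0 := fun e => ha O (hOW _ hOt) hO (by
      show z ∈ V₀
      rw [e]; exact V₀.zero_mem)
    have hzV : z ∈ V := by
      show (χ O hO).hom _ ∈ V
      rw [← hζχ]
      exact (ζ.hom _).2
    exact ((V.mem_nonunits_iff_or).1 ((hVT _ hzT).2.mpr ((hTV _ hzT).2 (inv_ne_zero hz0)))).resolve_left
      (inv_ne_zero hz0) (by simpa using hzV)

end Groth.Agent.MorLib.DenseValuative
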