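import Groth.Agent.MorLib.DescendOpen
import Groth.Agent.MorLib.DescendSep

/-! Descent of unramifiedness along limits. -/

set_option autoImplicit false
universe u

namespace Groth.Agent.MorLib.Desc

open AlgebraicGeometry CategoryTheory Limits TopologicalSpace

theorem lfp_diagonal {X S : Scheme.{u}} (f : X ⟶ S) [IsAffine X] [IsAffine S] [LocallyOfFiniteType f] :
    LocallyOfFinitePresentation (pullback.diagonal f) := by
  haveI : IsAffine (pullback f f) := inferInstance
  haveI : LocallyOfFiniteType (pullback.fst f f) := MorphismProperty.pullback_fst _ _ inferInstance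
  refine (HasRingHomProperty.iff_of_isAffine (P := @LocallyOfFinitePresentation)).mpr ?_
  refine RingHom.FinitePresentation.of_comp_finiteType (pullback.fst f f).appTop.hom ?_
    (HasRingHomProperty.appTop @LocallyOfFiniteType (pullback.fst f f) inferInstance)
  have e : (pullback.fst f f).appTop ≫ (pullback.diagonal f).appTop = 𝟙 _ := by
    rw [← Scheme.Hom.comp_appTop, pullback.diagonal_fst]; exact Scheme.Hom.id_app ..
  rw [← CommRingCat.hom_comp, e]
  exact RingHom.FinitePresentation.id _

set_option backward.isDefEq.respectTransparency.types false in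
theorem core_formallyUnramified :
    Core @FormallyUnramified (@LocallyOfFiniteType : MorphismProperty Scheme.{u}) := by
  intro I _ _ D c hc hD i hi X₀ f₀ hcs hqs hQ h
  classical
  haveI : ∀ {i j : I} (f : i ⟶ j), IsAffineHom (D.map f) := fun {i j} f => hD i j f
  haveI : LocallyOfFiniteType f₀ := hQ
  haveI := hcs
  have hloc : ∀ W : X₀.affineOpens, ∃ (j : I) (φ : j ⟶ i),
      FormallyUnramified (pullback.snd (W.1.ι ≫ f₀) (D.map φ)) := by
    intro W
    haveI : IsAffine (W.1 : Scheme.{u}) := W.2
    let g := W.1.ι ≫ f₀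
    have hp := (IsPullback.of_hasPullback W.1.ι (pullback.fst f₀ (c.π.app i))).paste_vert
      (IsPullback.of_hasPullback f₀ (c.π.app i))
    haveI : IsOpenImmersion (pullback.snd W.1.ι (pullback.fst f₀ (c.π.app i))) :=
      MorphismProperty.pullback_snd _ _ inferInstance
    haveI := h
    have hg : FormallyUnramified (pullback.snd g (c.π.app i)) :=
      of_two @FormallyUnramified hp (IsPullback.of_hasPullback g _)
        (MorphismProperty.comp_mem @FormallyUnramified _ _ inferInstance h)
    haveI := hg
    haveI : LocallyOfFiniteType (pullback.snd g (c.π.app i)) :=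
      MorphismProperty.pullback_snd _ _ inferInstance
    haveI : IsAffine (pullback g g) := inferInstance
    haveI : LocallyOfFinitePresentation (pullback.diagonal g) := lfp_diagonal g
    obtain ⟨j, φ, Xj, Yj, fj, gj, pY, pX, hY, hX, hfj⟩ := descend₂ D c hc (P := @IsOpenImmersion)
      (Q := (@IsClosedImmersion ⊓ @LocallyOfFinitePresentation : MorphismProperty Scheme.{u}))
      core_openImmersion (pullback.diagonal g) (pullback.snd g g ≫ g) ⟨inferInstance, inferInstance⟩
      _ _ _ _ (IsPullback.of_hasPullback _ _) (IsPullback.of_hasPullback _ _)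
      ((diagonal_snd_iff @IsOpenImmersion g (c.π.app i)).mp inferInstance)
    refine ⟨j, φ, ?_⟩
    haveI : IsOpenImmersion (pullback.diagonal (pullback.snd g (D.map φ))) :=
      (diagonal_snd_iff @IsOpenImmersion g (D.map φ)).mpr
        (of_factor @IsOpenImmersion (of_two @IsOpenImmersion hX (IsPullback.of_hasPullback _ _) hfj)
          (a := hY.isoPullback.inv) hY.isoPullback_inv_fst (IsPullback.of_hasPullback _ _))
    infer_instance
  have hcov : ∀ p : X₀, ∃ V : X₀.affineOpens, p ∈ V.1 := fun p => by
    obtain ⟨V, hV, hp, -⟩ := exists_isAffineOpen_mem_and_subset (x := p) (U := ⊤) trivial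
    exact ⟨⟨V, hV⟩, hp⟩
  choose W hW using hcov
  obtain ⟨F, hF⟩ := isCompact_univ.elim_finite_subcover (fun p => (((W p).1 : X₀.Opens) : Set X₀))
    (fun p => (W p).1.2) fun p _ => Set.mem_iUnion.mpr ⟨p, hW p⟩
  choose k φ hk using fun p : F => hloc (W p.1)
  obtain ⟨j, ψ, χ, hχ⟩ := IsCofiltered.wideCospan φ
  refine ⟨j, ψ, ?_⟩
  refine IsZariskiLocalAtSource.of_iSup_eq_top (P := @FormallyUnramified)
    (fun p : F => pullback.fst f₀ (D.map ψ) ⁻¹ᵁ (W p.1).1) ?_ fun p => ?_
  · refine top_le_iff.mp fun x _ => ?_
    obtain ⟨q, hq, hx⟩ := Set.mem_iUnion₂.mp (hF (Set.mem_univ (pullback.fst f₀ (D.map ψ) x)))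
    exact Opens.mem_iSup.mpr ⟨⟨q, hq⟩, hx⟩
  · have hp := (isPullback_morphismRestrict (pullback.fst f₀ (D.map ψ)) (W p.1).1).paste_vert
      (IsPullback.of_hasPullback f₀ (D.map ψ))
    exact of_factor @FormallyUnramified (hk p) (a := D.map (χ p))
      (by rw [← D.map_comp, hχ p]) hp

end Groth.Agent.MorLib.Desc
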