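import Groth.Agent.MorLib.WeightBaseChange
import Groth.Agent.EtFound.Descent
import Mathlib.Topology.Semicontinuity.Basic

/-! Positive weightings: openness, semicontinuity, finiteness over the maximal locus. -/

set_option autoImplicit false
universe u

namespace Groth.Agent.MorLib.WT

open AlgebraicGeometry CategoryTheory Limits Filter Topology
open Groth.Agent.MorLib.GF (pt pt_comp geomSum)

variable {X Y : Scheme.{u}} {f : X ⟶ Y} [LocallyQuasiFinite f] [LocallyOfFiniteType f]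
  {w : X → ℤ}

/-- Around every point a piece whose integral is constantly the value of the weighting. -/
theorem exists_const_piece (hw : MoreMor.IsWeighting f w) (x : X) :
    ∃ (V : Scheme.{u}) (g : V ⟶ Y) (W : (pullback f g).Opens) (t : ↥(pullback f g)),
      Etale g ∧ IsFinite (W.ι ≫ pullback.snd f g) ∧ t ∈ W ∧ pullback.fst f g t = x ∧
      (∀ t' ∈ W, pullback.snd f g t' = pullback.snd f g t → t' = t) ∧
      ∀ᶠ v in 𝓝 (pullback.snd f g t),
        fiOn (pullback.snd f g) W (w ∘ ⇑(pullback.fst f g)) v = w x := by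
  obtain ⟨Ω, _, _, γ, rfl⟩ := GF.exists_geomPoint x
  obtain ⟨V, g, vb, W, δ, he, -, hp, hδ⟩ := exists_piece f γ
  have hs : pullback.snd f g (pt δ) = pt vb := by rw [← pt_comp, hp.over]
  refine ⟨V, g, W, pt δ, he, hp.finite, hp.mem, by rw [← pt_comp, hδ],
    fun t' h1 h2 => hp.eq_of_over h1 (h2.trans hs), ?_⟩
  rw [hs]
  filter_upwards [eventually_piece_eq hw (IsPullback.of_hasPullback f g) hp] with v hv
  rw [hv, hp.fiOn_eq]
  exact congrArg w (by rw [← pt_comp, hδ])

/-- A positive weighting makes a morphism open. -/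
theorem isOpenMap_of_positive (hw : MoreMor.IsWeighting f w) (hpos : ∀ x, 0 < w x) :
    IsOpenMap f := by
  rw [isOpenMap_iff_nhds_le]
  intro x s hs
  obtain ⟨O, hOs, hO, hxO⟩ := mem_nhds_iff.mp hs
  obtain ⟨V, g, W, t, he, hfin, -, rfl, huniq, hconst⟩ := exists_const_piece hw x
  have hout := eventually_forall_not hfin
    (hO.preimage (pullback.fst f g).continuous).isClosed_compl
    (v := pullback.snd f g t) fun t' h1 h2 h3 => h2 (by rw [huniq t' h1 h3]; exact hxO)
  have key : ∀ᶠ v in 𝓝 (pullback.snd f g t), g v ∈ f '' O := by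
    filter_upwards [hconst, hout] with v hv hv'
    obtain ⟨t', ht', rfl⟩ : ∃ t' ∈ W, pullback.snd f g t' = v := by
      by_contra h
      push Not at h
      refine (hpos (pullback.fst f g t)).ne ?_
      rw [← hv, fiOn_eq_sum hfin (W := fun i : PEmpty.{1} => i.elim) (fun i => i.elim) _
        (fun t' e => ⟨fun a => absurd e (h t' a), fun ⟨i, _⟩ => i.elim⟩) fun i => i.elim]
      simp
    refine ⟨pullback.fst f g t', not_not.mp (hv' t' ht' rfl), ?_⟩
    rw [← Scheme.Hom.comp_apply, pullback.condition, Scheme.Hom.comp_apply]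
  have h := eventually_of_etale g (P := fun y => y ∈ f '' O) key
  rw [← Scheme.Hom.comp_apply, ← pullback.condition, Scheme.Hom.comp_apply] at h
  filter_upwards [h] with y hy
  obtain ⟨a, ha, rfl⟩ := hy
  exact hOs ha

set_option backward.isDefEq.respectTransparency.types false in
/-- A positive weighting is upper semicontinuous. -/
theorem upperSemicontinuous_of_positive (hw : MoreMor.IsWeighting f w) (hpos : ∀ x, 0 < w x) :
    UpperSemicontinuous w := by
  intro x y hy
  obtain ⟨V, g, W, t, he, hfin, htW, rfl, -, hconst⟩ := exists_const_piece hw x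
  haveI : Etale (pullback.fst f g) := MorphismProperty.pullback_fst _ _ he
  refine eventually_of_etale (pullback.fst f g) ?_
  filter_upwards [W.2.mem_nhds htW,
    (pullback.snd f g).continuous.continuousAt.eventually hconst] with t' h1 h2
  refine lt_of_le_of_lt ?_ hy
  rw [← h2]
  exact le_fiOn (w := w ∘ ⇑(pullback.fst f g)) hfin (fun _ => (hpos _).le) h1

theorem le_fibreIntegral {T V : Scheme.{u}} {π : T ⟶ V} [LocallyQuasiFinite π] {ι : Type*}
    [Fintype ι] {W : ι → T.Opens} (hW : ∀ i, IsFinite ((W i).ι ≫ π)) {w : T → ℤ} (hw : ∀ t, 0 < w t)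
    {v : V} (hfin : (π ⁻¹' {v}).Finite) (hdis : ∀ i j, i ≠ j → ∀ t ∈ W i, π t = v → t ∉ W j) :
    ∑ i, fiOn π (W i) w v ≤ MoreMor.fibreIntegral π w v ∧
      (∑ i, fiOn π (W i) w v = MoreMor.fibreIntegral π w v → ∀ t, π t = v → ∃ i, t ∈ W i) := by
  classical
  obtain ⟨Ω, _, _, yb, rfl⟩ := GF.exists_geomPoint v
  haveI := GF.finite_lifts π yb hfin
  let := Fintype.ofFinite (Lifts π yb)
  have hpt : ∀ δ : Lifts π yb, π (pt δ.1) = pt yb := fun δ =>
    (pt_comp δ.1 π).symm.trans (congrArg pt δ.2)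
  have e : ∑ i, fiOn π (W i) w (pt yb) =
      ∑ δ ∈ (Finset.univ.filter fun δ : Lifts π yb => ∃ i, pt δ.1 ∈ W i), w (pt δ.1) := by
    rw [show (Finset.univ.filter fun δ : Lifts π yb => ∃ i, pt δ.1 ∈ W i) =
      Finset.univ.biUnion fun i => Finset.univ.filter fun δ : Lifts π yb => pt δ.1 ∈ W i by ext; simp,
      Finset.sum_biUnion fun i _ j _ hij => Finset.disjoint_left.mpr fun δ h1 h2 =>
        hdis i j hij _ (Finset.mem_filter.mp h1).2 (hpt δ) (Finset.mem_filter.mp h2).2]
    refine Finset.sum_congr rfl fun i _ => ?_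
    haveI := hW i
    rw [fiOn_eq_finsum π (W i) w yb, finsum_mem_eq_finite_toFinset_sum _ (Set.toFinite _)]
    congr 1
    ext; simp
  rw [e, GF.fibreIntegral_eq π w yb hfin, geomSum, finsum_eq_sum_of_fintype]
  refine ⟨Finset.sum_le_univ_sum_of_nonneg fun δ => (hw _).le, fun h t ht => ?_⟩
  obtain ⟨δ, rfl⟩ := exists_lift_pt π yb t ht
  by_contra hn
  exact (Finset.sum_lt_sum_of_subset (f := fun δ : Lifts π yb => w (pt δ.1))
    (Finset.filter_subset _ _) (Finset.mem_univ δ) (by simp [hn]) (hw _) fun δ _ _ => (hw _).le).ne h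

theorem separated_decomp [IsSeparated f] (hfin : ∀ y : Y, (f ⁻¹' {y}).Finite)
    (hw : MoreMor.IsWeighting f w) (hpos : ∀ x, 0 < w x) (y : Y) :
    ∃ (T V : Scheme.{u}) (k : T ⟶ X) (π : T ⟶ V) (h : V ⟶ Y) (v : V) (ι : Type u) (_ : Fintype ι)
      (W : ι → T.Opens), IsPullback k π f h ∧ Etale h ∧ h v = y ∧
      (∀ i, IsFinite ((W i).ι ≫ π)) ∧
      ∀ᶠ v' in 𝓝 v, MoreMor.fibreIntegral f w y ≤ MoreMor.fibreIntegral f w (h v') ∧
        (MoreMor.fibreIntegral f w y = MoreMor.fibreIntegral f w (h v') →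
          ∀ t, π t = v' → ∃ i, t ∈ W i) := by
  obtain ⟨Ω, _, _, yb, rfl⟩ := GF.exists_geomPoint y
  haveI := GF.finite_lifts f yb (hfin _)
  obtain ⟨T, V, k, π, h, vb, W, δ, hc, he, rfl, hp⟩ := exists_decomp f yb id
  haveI : LocallyQuasiFinite π := MorphismProperty.of_isPullback hc inferInstance
  haveI : IsSeparated π := MorphismProperty.of_isPullback hc inferInstance
  let := Fintype.ofFinite (Lifts f (vb ≫ h))
  refine ⟨T, V, k, π, h, pt vb, _, inferInstance, W, hc, he, (pt_comp vb h).symm,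
    fun i => (hp i).1.finite, ?_⟩
  have hne : ∀ i j, i ≠ j → δ i ≠ δ j := fun i j hij e =>
    hij (Subtype.ext ((hp i).2.symm.trans ((congrArg (· ≫ k) e).trans (hp j).2)))
  have h2 : ∀ᶠ v' in 𝓝 (pt vb), ∀ i j, i ≠ j → ∀ t ∈ W i, π t = v' → t ∉ W j := by
    simp only [eventually_all]
    exact fun i j hij => (hp i).1.eventually_disjoint (hp j).1 (hne i j hij)
  have h3 : ∀ᶠ v' in 𝓝 (pt vb), ∀ i, fiOn π (W i) (w ∘ ⇑k) v' = w (pt i.1) :=
    eventually_all.mpr fun i => by
      filter_upwards [eventually_piece_eq hw hc (hp i).1] with v' hv'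
      rw [hv', (hp i).1.fiOn_eq]
      exact congrArg w ((pt_comp (δ i) k).symm.trans (congrArg pt (hp i).2))
  have hsum : MoreMor.fibreIntegral f w (pt (vb ≫ h)) = ∑ i : Lifts f (vb ≫ h), w (pt i.1) := by
    rw [GF.fibreIntegral_eq f w _ (hfin _), geomSum, finsum_eq_sum_of_fintype]
  filter_upwards [h2, h3] with v' a b
  have := le_fibreIntegral (w := w ∘ ⇑k) (fun i => (hp i).1.finite) (fun t => hpos _)
    (GF.finite_preimage_baseChange hc v' (hfin _)) a
  rwa [GF.fibreIntegral_baseChange hc w v' (hfin _), Finset.sum_congr rfl (fun i _ => b i),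
    ← hsum] at this

theorem lowerSemicontinuous_fibreIntegral [IsSeparated f] (hfin : ∀ y : Y, (f ⁻¹' {y}).Finite)
    (hw : MoreMor.IsWeighting f w) (hpos : ∀ x, 0 < w x) :
    LowerSemicontinuous (MoreMor.fibreIntegral f w) := by
  intro y b hb
  obtain ⟨T, V, k, π, h, v, ι, _, W, -, he, rfl, -, hev⟩ := separated_decomp hfin hw hpos y
  refine eventually_of_etale h ?_
  filter_upwards [hev] with v' hv'
  exact lt_of_lt_of_le hb hv'.1

theorem universallyClosed_of_cover {T V : Scheme.{u}} (π : T ⟶ V) {ι : Type*} [Finite ι]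
    (W : ι → T.Opens) (hcov : ∀ t, ∃ i, t ∈ W i) (hW : ∀ i, UniversallyClosed ((W i).ι ≫ π)) :
    UniversallyClosed π := by
  refine ⟨fun T' V' k g π' hc' C hC => ?_⟩
  have hc := hc'.flip
  have : π' '' C = ⋃ i, ((k ⁻¹ᵁ W i).ι ≫ π') '' ((k ⁻¹ᵁ W i).ι ⁻¹' C) := by
    ext v
    simp only [Set.mem_image, Set.mem_iUnion, Set.mem_preimage]
    constructor
    · rintro ⟨t, ht, rfl⟩
      obtain ⟨i, hi⟩ := hcov (k t)
      exact ⟨i, ⟨t, hi⟩, ht, Scheme.Hom.comp_apply ..⟩
    · rintro ⟨i, a, ha, rfl⟩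
      exact ⟨_, ha, (Scheme.Hom.comp_apply ..).symm⟩
  rw [this]
  refine isClosed_iUnion_of_finite fun i => ?_
  haveI : UniversallyClosed ((k ⁻¹ᵁ W i).ι ≫ π') :=
    MorphismProperty.of_isPullback ((isPullback_morphismRestrict k (W i)).paste_vert hc) (hW i)
  exact ((k ⁻¹ᵁ W i).ι ≫ π').isClosedMap _ (hC.preimage (k ⁻¹ᵁ W i).ι.continuous)

set_option backward.isDefEq.respectTransparency.types false in
/-- Over the locus where the fibre integral is maximal the morphism is finite. -/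
theorem finite_over_max [IsSeparated f] (hfin : ∀ y : Y, (f ⁻¹' {y}).Finite)
    (hw : MoreMor.IsWeighting f w) (hpos : ∀ x, 0 < w x) (d : ℤ)
    (hmax : ∀ y : Y, MoreMor.fibreIntegral f w y ≤ d) :
    ∃ hYd : IsOpen {y : ↑Y | MoreMor.fibreIntegral f w y = d},
      IsFinite (f ∣_ ⟨{y : ↑Y | MoreMor.fibreIntegral f w y = d}, hYd⟩) := by
  have hlsc := lowerSemicontinuous_fibreIntegral hfin hw hpos
  have heq : {y : ↑Y | MoreMor.fibreIntegral f w y = d} = MoreMor.fibreIntegral f w ⁻¹' Set.Ioi (d - 1) := by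
    ext y
    have := hmax y
    simp only [Set.mem_setOf_eq, Set.mem_preimage, Set.mem_Ioi]
    omega
  have hYd : IsOpen {y : ↑Y | MoreMor.fibreIntegral f w y = d} := heq ▸ hlsc.isOpen_preimage _
  refine ⟨hYd, ?_⟩
  let U : Y.Opens := ⟨_, hYd⟩
  have key : ∀ y ∈ U, ∃ O : Y.Opens, y ∈ O ∧ O ≤ U ∧ IsFinite (f ∣_ O) := by
    intro y hy
    obtain ⟨T, V, k, π, h, v, ι, _, W, hc, he, rfl, hW, hev⟩ := separated_decomp hfin hw hpos y
    obtain ⟨N, hN, hNo, hvN⟩ := mem_nhds_iff.mp (hev.and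
      (h.continuous.continuousAt.eventually (hYd.mem_nhds hy)))
    let N' : V.Opens := ⟨N, hNo⟩
    let hN' : (N' : Scheme.{u}) ⟶ Y := N'.ι ≫ h
    let O : Y.Opens := ⟨Set.range hN', hN'.isOpenMap.isOpen_range⟩
    have hrange : ∀ a : N', hN' a ∈ U := fun a =>
      (congrArg (· ∈ U) (Scheme.Hom.comp_apply N'.ι h a)).mpr (hN a.2).2
    refine ⟨O, ⟨⟨v, hvN⟩, Scheme.Hom.comp_apply ..⟩, ?_, ?_⟩
    · rintro _ ⟨a, rfl⟩; exact hrange a
    let g := IsOpenImmersion.lift O.ι hN' (by rw [Scheme.Opens.range_ι]; exact subset_rfl)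
    have hgι : g ≫ O.ι = hN' := IsOpenImmersion.lift_fac ..
    haveI : Surjective g := ⟨fun ⟨_, a, rfl⟩ => ⟨a, O.ι.isOpenEmbedding.injective (by
      rw [← Scheme.Hom.comp_apply, hgι]; rfl)⟩⟩
    haveI : Etale g := by
      haveI : Etale (g ≫ O.ι) := by rw [hgι]; infer_instance
      exact Etale.of_comp g O.ι
    let TN := pullback.snd (f ∣_ O) g
    have hsq : IsPullback (pullback.fst (f ∣_ O) g ≫ (f ⁻¹ᵁ O).ι) TN f hN' := by
      rw [← hgι]
      exact (IsPullback.of_hasPullback _ _).paste_horiz (isPullback_morphismRestrict f O).flip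
    have hπ : IsFinite TN := by
      have hc' : IsPullback ((π ⁻¹ᵁ N').ι ≫ k) (π ∣_ N') f hN' :=
        (isPullback_morphismRestrict π N').flip.paste_horiz hc
      let e := hsq.isoIsPullback _ _ hc'
      have he' : e.hom ≫ (π ∣_ N') = TN := hsq.isoIsPullback_hom_snd _ _ hc'
      rw [← he']
      suffices IsFinite (π ∣_ N') by infer_instance
      haveI : LocallyQuasiFinite (π ∣_ N') := MorphismProperty.of_isPullback hc' inferInstance
      haveI : IsSeparated (π ∣_ N') := MorphismProperty.of_isPullback hc' inferInstance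
      haveI : LocallyOfFiniteType (π ∣_ N') := MorphismProperty.of_isPullback hc' inferInstance
      haveI : UniversallyClosed (π ∣_ N') := by
        refine universallyClosed_of_cover _ (fun i => (π ⁻¹ᵁ N').ι ⁻¹ᵁ W i) (fun t => ?_) fun i => ?_
        · obtain ⟨⟨h1, h2⟩, h3⟩ := hN t.2
          exact h2 ((show MoreMor.fibreIntegral f w (h v) = d from hy).trans h3.symm) t.1 rfl
        · haveI : IsFinite (((π ⁻¹ᵁ N').ι ⁻¹ᵁ W i).ι ≫ (π ∣_ N')) :=
            MorphismProperty.of_isPullback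
              ((isPullback_morphismRestrict (π ⁻¹ᵁ N').ι (W i)).paste_vert
                (isPullback_morphismRestrict π N').flip) (hW i)
          infer_instance
      haveI : IsProper (π ∣_ N') := ⟨⟩
      exact IsFinite.of_isProper_of_locallyQuasiFinite _
    haveI := Groth.Agent.EtFound.fpqc_isFinite.{u}
    exact MorphismProperty.of_isPullback_of_descendsAlong (P := @IsFinite)
      (Q := @Surjective ⊓ @Flat ⊓ @LocallyOfFinitePresentation)
      (IsPullback.of_hasPullback (f ∣_ O) g).flip ⟨⟨inferInstance, inferInstance⟩, inferInstance⟩ hπ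
  choose O hyO hOU hO using key
  rw [IsZariskiLocalAtTarget.iff_of_iSup_eq_top (P := @IsFinite.{u}) (fun y : U => U.ι ⁻¹ᵁ O y.1 y.2)
    (eq_top_iff.mpr fun a _ => TopologicalSpace.Opens.mem_iSup.mpr ⟨a, hyO a.1 a.2⟩)]
  intro a
  refine (MorphismProperty.arrow_mk_iso_iff @IsFinite (morphismRestrictRestrict f U _)).mpr ?_
  convert hO a.1 a.2 using 3 <;>
  · rw [Scheme.Hom.image_preimage_eq_opensRange_inf, Scheme.Opens.opensRange_ι, inf_eq_right.mpr (hOU a.1 a.2)]

end Groth.Agent.MorLib.WT
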