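import Groth.Agent.MorLib.ElemEtaleMulti
import Groth.Agent.MorLib.QFSplit
import Groth.Agent.MorLib.WeightPositive

/-! Splitting off the finite part over an elementary étale neighbourhood. -/

set_option autoImplicit false
universe u

namespace Groth.Agent.MorLib.EEF

open AlgebraicGeometry CategoryTheory Limits

variable {X S : Scheme.{u}}

set_option backward.isDefEq.respectTransparency.types false in
theorem quasiFiniteAt_of_isOpen_singleton (f : X ⟶ S) [LocallyOfFiniteType f] (s : S) (z : f.fiber s)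
    (hz : IsOpen ({z} : Set (f.fiber s))) : f.QuasiFiniteAt (f.fiberι s z) := by
  have hs : f (f.fiberι s z) = s := by
    have : f.fiberι s z ∈ Set.range (f.fiberι s) := ⟨z, rfl⟩
    rwa [Scheme.Hom.range_fiberι] at this
  obtain ⟨x, hx⟩ : ∃ x, f.fiberι s z = x := ⟨_, rfl⟩
  rw [hx] at hs ⊢
  subst hs
  rw [Scheme.Hom.quasiFiniteAt_iff_isOpen_singleton_asFiber]
  have : f.asFiber x = z := (f.fiberι (f x)).isEmbedding.injective ((f.fiberι_asFiber x).trans hx.symm)
  rwa [this]

set_option backward.isDefEq.respectTransparency.types false in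
theorem exists_elem_split (f : X ⟶ S) [LocallyOfFiniteType f] [IsSeparated f] (s : S)
    (hfin : {x : ↑(f.fiber s) | IsOpen ({x} : Set ↑(f.fiber s))}.Finite) :
    ∃ (U : Scheme.{u}) (g : U ⟶ S) (u : U), Hens2.IsEtaleNbhd g u s ∧
      ∃ V : (pullback f g).Opens, IsClopen (V : Set ↑(pullback f g)) ∧ IsFinite (V.ι ≫ pullback.snd f g) ∧
        ∀ w : ↑((pullback.snd f g).fiber u), (pullback.snd f g).fiberι u w ∉ V →
          ¬ IsOpen ({w} : Set ↑((pullback.snd f g).fiber u)) := by
  classical
  haveI := hfin.to_subtype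
  let ι₀ := {x : ↑(f.fiber s) | IsOpen ({x} : Set ↑(f.fiber s))}
  let e₀ := (Finite.equivFin ι₀).symm
  have hs : ∀ i, f (f.fiberι s (e₀ i).1) = s := fun i => by
    have : f.fiberι s (e₀ i).1 ∈ Set.range (f.fiberι s) := ⟨_, rfl⟩
    rwa [Scheme.Hom.range_fiberι] at this
  obtain ⟨U, g, u, hu, V, v, h⟩ := exists_elem_nbhd_multi f s (fun i => f.fiberι s (e₀ i).1) hs
    fun i => quasiFiniteAt_of_isOpen_singleton f s _ (e₀ i).2
  haveI := hu.etale
  let W : (pullback f g).Opens := ⨆ i, V i
  have hWc : (W : Set ↑(pullback f g)) = ⋃ i, (V i : Set _) := TopologicalSpace.Opens.coe_iSup _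
  haveI : LocallyQuasiFinite (W.ι ≫ pullback.snd f g) := by
    rw [← Scheme.Hom.quasiFiniteLocus_eq_top_iff, Scheme.Hom.quasiFiniteLocus_comp, eq_top_iff]
    rintro ⟨t, ht⟩ -
    obtain ⟨i, hi⟩ := TopologicalSpace.Opens.mem_iSup.mp ht
    haveI := (h i).2.1
    exact WT.quasiFiniteAt_of_mem _ (V i) hi
  haveI : UniversallyClosed (W.ι ≫ pullback.snd f g) := by
    refine WT.universallyClosed_of_cover _ (fun i => W.ι ⁻¹ᵁ V i)
      (fun t => by
        obtain ⟨i, hi⟩ := TopologicalSpace.Opens.mem_iSup.mp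
          (show (t.1 : ↑(pullback f g)) ∈ ⨆ i, V i from t.2)
        exact ⟨i, hi⟩) fun i => ?_
    haveI := (h i).2.1
    have hle : V i ≤ W := le_iSup V i
    haveI : IsIso (W.ι ∣_ V i) := by
      haveI : Surjective (W.ι ∣_ V i) := ⟨fun t => ⟨⟨⟨t.1, hle t.2⟩, t.2⟩, Subtype.ext (by
        show (V i).ι ((W.ι ∣_ V i) _) = t.1
        rw [← Scheme.Hom.comp_apply, morphismRestrict_ι]; rfl)⟩⟩
      exact (isIso_iff_isOpenImmersion_and_surjective _).mpr ⟨inferInstance, inferInstance⟩
    rw [← Category.assoc, ← morphismRestrict_ι, Category.assoc]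
    infer_instance
  haveI : IsProper (W.ι ≫ pullback.snd f g) := ⟨⟩
  refine ⟨U, g, u, hu, W, ⟨?_, W.2⟩, IsFinite.of_isProper_of_locallyQuasiFinite _, ?_⟩
  · rw [hWc]
    exact isClosed_iUnion_of_finite fun i => WT.isClosed_of_isFinite (h i).2.1
  intro w hwV hw
  have hgs : g u = s := hu.base_eq
  haveI : IsIso (g.residueFieldMap u) := (ConcreteCategory.isIso_iff_bijective _).mpr hu.residue_bijective
  let c : Spec (U.residueField u) ⟶ Spec (S.residueField s) :=
    Spec.map ((S.residueFieldCongr hgs.symm).hom ≫ g.residueFieldMap u)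
  have hc : c ≫ S.fromSpecResidueField s = U.fromSpecResidueField u ≫ g := by
    simp only [c]
    rw [Spec.map_comp, Category.assoc, Scheme.residueFieldCongr_fromSpecResidueField,
      Scheme.Hom.SpecMap_residueFieldMap_fromSpecResidueField]
  haveI : IsIso c := inferInstance
  let E : (pullback.snd f g).fiber u ⟶ f.fiber s :=
    pullback.lift ((pullback.snd f g).fiberι u ≫ pullback.fst f g)
      ((pullback.snd f g).fiberToSpecResidueField u ≫ c) (by
        rw [Category.assoc, Category.assoc, hc, pullback.condition, ← Category.assoc,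
          show (pullback.snd f g).fiberι u ≫ pullback.snd f g = _ from
            (pullback.snd f g).fiber_fac u, Category.assoc])
  have hbig : IsPullback ((pullback.snd f g).fiberι u ≫ pullback.fst f g)
      ((pullback.snd f g).fiberToSpecResidueField u) f (c ≫ S.fromSpecResidueField s) := by
    rw [hc]
    exact (IsPullback.of_hasPullback _ _).paste_horiz (IsPullback.of_hasPullback f g)
  have hE : IsPullback E ((pullback.snd f g).fiberToSpecResidueField u) (f.fiberToSpecResidueField s) c :=
    IsPullback.of_right (h₁₂ := f.fiberι s) (by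
      rw [show E ≫ f.fiberι s = _ from pullback.lift_fst _ _ _]; exact hbig)
      (pullback.lift_snd _ _ _) (IsPullback.of_hasPullback f (S.fromSpecResidueField s))
  haveI : IsIso E := hE.isIso_fst_of_isIso
  have hopen : IsOpen ({E w} : Set (f.fiber s)) := by
    rw [← Set.image_singleton]
    exact E.isOpenEmbedding.isOpenMap _ hw
  let i := e₀.symm ⟨E w, hopen⟩
  obtain ⟨z, -, -, -, huniq⟩ := exists_unique_point (IsPullback.of_hasPullback f g)
    (f.fiberι s (E w)) u (by rw [← show (e₀ i).1 = E w from congrArg Subtype.val (e₀.apply_symm_apply _), hs, hgs])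
    hu.residue_bijective
  have hwu : pullback.snd f g ((pullback.snd f g).fiberι u w) = u := by
    have : (pullback.snd f g).fiberι u w ∈ Set.range ((pullback.snd f g).fiberι u) := ⟨w, rfl⟩
    rwa [Scheme.Hom.range_fiberι] at this
  have hwx : pullback.fst f g ((pullback.snd f g).fiberι u w) = f.fiberι s (E w) := by
    rw [← Scheme.Hom.comp_apply, ← Scheme.Hom.comp_apply]
    rw [show E ≫ f.fiberι s = _ from pullback.lift_fst _ _ _]
  have hi : (e₀ i).1 = E w := congrArg Subtype.val (e₀.apply_symm_apply _)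
  refine hwV ?_
  rw [huniq _ hwx hwu, ← huniq (v i) ((h i).2.2.2.2.1.trans (congrArg _ hi)) (h i).2.2.1]
  exact TopologicalSpace.Opens.mem_iSup.mpr ⟨i, (h i).1⟩

end Groth.Agent.MorLib.EEF
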