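import Mathlib.RingTheory.Etale.QuasiFinite
import Mathlib.RingTheory.Etale.StandardEtale
import Mathlib.FieldTheory.PurelyInseparable.Basic
import Mathlib.FieldTheory.PrimitiveElement
import Mathlib.FieldTheory.IsAlgClosed.Basic
import Mathlib.Algebra.Polynomial.Lifts
import Mathlib.RingTheory.Polynomial.ScaleRoots

/-! Étale localization isolating a single geometric point of a quasi-finite algebra. -/

set_option autoImplicit false
universe u

namespace Groth.Agent.MorLib.EGP

open TensorProduct Polynomial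

variable {R S Ω : Type u} [CommRing R] [CommRing S] [Algebra R S] [Field Ω] [Algebra R Ω]

/-- A separable element over a residue field lifts to a standard étale pair. -/
theorem exists_standardEtalePair (p : Ideal R) [p.IsPrime] (L : Type u) [Field L]
    [Algebra p.ResidueField L] [Algebra R L] [IsScalarTower R p.ResidueField L] (α : L)
    (hα : IsSeparable p.ResidueField α) :
    ∃ (P : StandardEtalePair R) (c : R) (β : L), c ∉ p ∧ β = algebraMap R L c * α ∧ P.HasMap β := by
  classical
  let k := p.ResidueField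
  let μ := minpoly k α
  obtain ⟨c, hc, hcoef⟩ : ∃ c, c ∉ p ∧
      ∀ i, algebraMap R k c * μ.coeff i ∈ (algebraMap R k).range := by
    have hden : ∀ z : k, ∃ b, b ∉ p ∧ algebraMap R k b * z ∈ (algebraMap R k).range := by
      intro z
      obtain ⟨a, b, hb, rfl⟩ := IsFractionRing.div_surjective (A := R ⧸ p) z
      obtain ⟨a, rfl⟩ := Ideal.Quotient.mk_surjective a
      obtain ⟨b, rfl⟩ := Ideal.Quotient.mk_surjective b
      have hb' : b ∉ p := fun h =>
        nonZeroDivisors.ne_zero hb (Ideal.Quotient.eq_zero_iff_mem.mpr h)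
      refine ⟨b, hb', a, ?_⟩
      rw [Ideal.algebraMap_quotient_residueField_mk, Ideal.algebraMap_quotient_residueField_mk,
        mul_div_cancel₀ _ (by rwa [ne_eq, Ideal.algebraMap_residueField_eq_zero])]
    choose b hb hbz using hden
    refine ⟨∏ i ∈ Finset.range (μ.natDegree + 1), b (μ.coeff i),
      fun h => ?_, fun i => ?_⟩
    · obtain ⟨i, -, hi⟩ := (Ideal.IsPrime.prod_mem_iff (hp := inferInstance)).mp h
      exact hb _ hi
    · by_cases hi : i ∈ Finset.range (μ.natDegree + 1)
      · rw [← Finset.prod_erase_mul _ _ hi, map_mul, mul_assoc]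
        exact mul_mem ⟨_, rfl⟩ (hbz _)
      · rw [Finset.mem_range, not_lt] at hi
        rw [coeff_eq_zero_of_natDegree_lt (by omega), mul_zero]
        exact zero_mem _
  have hμ : μ.Monic := minpoly.monic (IsSeparable.isIntegral hα)
  let c' := algebraMap R k c
  have hc' : c' ≠ 0 := by rwa [ne_eq, Ideal.algebraMap_residueField_eq_zero]
  let h : k[X] := μ.scaleRoots c'
  have hlift : h ∈ Polynomial.lifts (algebraMap R k) := by
    rw [Polynomial.lifts_iff_coeff_lifts]
    intro i
    show h.coeff i ∈ (algebraMap R k).range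
    rw [coeff_scaleRoots]
    rcases lt_trichotomy i μ.natDegree with hi | hi | hi
    · obtain ⟨j, hj⟩ : ∃ j, μ.natDegree - i = j + 1 := ⟨μ.natDegree - i - 1, by omega⟩
      rw [hj, pow_succ', ← mul_assoc, mul_comm (μ.coeff i)]
      exact mul_mem (hcoef i) (pow_mem (show c' ∈ (algebraMap R k).range from ⟨c, rfl⟩) _)
    · subst hi
      rw [Nat.sub_self, pow_zero, mul_one, hμ.coeff_natDegree]
      exact one_mem _
    · rw [coeff_eq_zero_of_natDegree_lt hi, zero_mul]
      exact zero_mem _
  obtain ⟨F, hF, -, hFm⟩ :=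
    Polynomial.lifts_and_natDegree_eq_and_monic hlift ((monic_scaleRoots_iff c').mpr hμ)
  let P : StandardEtalePair R :=
    { f := F, monic_f := hFm, g := derivative F, cond := ⟨1, 0, 1, by ring⟩ }
  refine ⟨P, c, algebraMap R L c * α, hc, rfl, ?_, ?_⟩
  · show aeval _ F = 0
    rw [← aeval_map_algebraMap k, hF, IsScalarTower.algebraMap_apply R k L, aeval_def]
    exact scaleRoots_eval₂_eq_zero (algebraMap k L) (minpoly.aeval k α)
  · show IsUnit (aeval _ (derivative F))
    refine isUnit_iff_ne_zero.mpr ?_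
    rw [← aeval_map_algebraMap k, ← derivative_map, hF, IsScalarTower.algebraMap_apply R k L]
    have hs : h = C (c' ^ μ.natDegree) * μ.comp (C c'⁻¹ * X) := by
      ext i
      rw [coeff_scaleRoots, coeff_C_mul, comp_C_mul_X_coeff, inv_pow]
      by_cases hi : i ≤ μ.natDegree
      · rw [pow_sub₀ _ hc' hi]; ring
      · rw [coeff_eq_zero_of_natDegree_lt (not_le.mp hi)]; ring
    rw [hs, derivative_C_mul, derivative_comp, derivative_C_mul, derivative_X, mul_one]
    simp only [map_mul, aeval_C, aeval_comp, aeval_X, map_inv₀]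
    have hcL : algebraMap k L c' ≠ 0 := (_root_.map_ne_zero _).mpr hc'
    have hd : aeval α (derivative μ) ≠ 0 := hα.aeval_derivative_ne_zero (minpoly.aeval k α)
    refine mul_ne_zero ((_root_.map_ne_zero _).mpr (pow_ne_zero _ hc')) (mul_ne_zero (inv_ne_zero hcL) ?_)
    rwa [show (algebraMap k L c')⁻¹ * (algebraMap k L (algebraMap R k c) * α) = α from
      inv_mul_cancel_left₀ hcL α]

/-- After an étale extension the point becomes purely inseparable. -/
theorem exists_etale_eq_of_ker_eq (s : S →ₐ[R] Ω)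
    (hq : haveI := RingHom.ker_isPrime (s : S →+* Ω); Algebra.QuasiFiniteAt R (RingHom.ker (s : S →+* Ω))) :
    ∃ (R₁ : Type u) (_ : CommRing R₁) (_ : Algebra R R₁) (_ : Algebra.Etale R R₁) (r₁ : R₁ →ₐ[R] Ω),
      ∀ s' : S →ₐ[R] Ω,
        RingHom.ker (Algebra.TensorProduct.lift r₁ s' fun _ _ => .all _ _) =
          RingHom.ker (Algebra.TensorProduct.lift r₁ s fun _ _ => .all _ _) → s' = s := by
  let q : Ideal S := RingHom.ker (s : S →+* Ω)
  haveI hqp : q.IsPrime := RingHom.ker_isPrime _
  haveI : Algebra.QuasiFiniteAt R q := hq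
  let p : Ideal R := q.under R
  letI := Localization.AtPrime.algebraOfLiesOver p q
  let k := p.ResidueField
  let L := q.ResidueField
  haveI : Module.Finite k L := inferInstance
  let j : L →ₐ[R] Ω := Ideal.ResidueField.liftₐ q s le_rfl fun x hx =>
    isUnit_iff_ne_zero.mpr hx
  have hj : ∀ x : S, j (algebraMap S L x) = s x := fun x => Ideal.ResidueField.liftₐ_algebraMap _ _ _ _ _
  let K := separableClosure k L
  obtain ⟨α, hα⟩ := Field.exists_primitive_element k K
  obtain ⟨P, c, β, hc, hβ, hmap⟩ := exists_standardEtalePair p L (α : L)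
    (mem_separableClosure_iff.mp α.2)
  refine ⟨P.Ring, inferInstance, inferInstance, inferInstance, P.lift (j β) (hmap.map j), fun s' hs' => ?_⟩
  refine AlgHom.ext fun x => ?_
  haveI : Algebra.IsAlgebraic k L := Algebra.IsAlgebraic.of_finite k L
  obtain ⟨e, he⟩ := ExpChar.exists k
  haveI : ExpChar L e := expChar_of_injective_ringHom (algebraMap k L).injective e
  haveI : ExpChar Ω e := expChar_of_injective_ringHom j.toRingHom.injective e
  obtain ⟨n, y, hy⟩ := IsPurelyInseparable.pow_mem K e (algebraMap S L x)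
  -- write `y` as a polynomial in `β`
  obtain ⟨Q, hQ⟩ : ∃ Q : k[X], aeval β Q = (y : L) := by
    have hy' : y ∈ (IntermediateField.adjoin k {α}).toSubalgebra := by rw [hα]; trivial
    rw [IntermediateField.adjoin_simple_toSubalgebra_of_isAlgebraic (Algebra.IsAlgebraic.isAlgebraic α),
      Algebra.adjoin_singleton_eq_range_aeval] at hy'
    obtain ⟨Q, hQ⟩ := hy'
    refine ⟨Q.comp (C (algebraMap R k c)⁻¹ * X), ?_⟩
    rw [aeval_comp, map_mul, aeval_C, aeval_X, hβ, IsScalarTower.algebraMap_apply R k L, map_inv₀,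
      inv_mul_cancel_left₀ (by
        rw [ne_eq, map_eq_zero, Ideal.algebraMap_residueField_eq_zero]; exact hc), ← hQ]
    exact Polynomial.aeval_algebraMap_apply L α Q
  -- clear denominators
  obtain ⟨b, hb, Q', hQ'⟩ : ∃ b, b ∉ p ∧ ∃ Q' : R[X], Q'.map (algebraMap R k) = C (algebraMap R k b) * Q := by
    clear hQ
    induction Q using Polynomial.induction_on' with
    | add f g hf hg =>
      obtain ⟨b₁, hb₁, Q₁, h₁⟩ := hf
      obtain ⟨b₂, hb₂, Q₂, h₂⟩ := hg
      refine ⟨b₁ * b₂, (inferInstance : p.IsPrime).mul_notMem hb₁ hb₂, C b₂ * Q₁ + C b₁ * Q₂, ?_⟩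
      simp only [Polynomial.map_add, Polynomial.map_mul, map_C, h₁, h₂, map_mul]
      ring
    | monomial i z =>
      obtain ⟨a, b, hb, rfl⟩ := IsFractionRing.div_surjective (A := R ⧸ p) z
      obtain ⟨a, rfl⟩ := Ideal.Quotient.mk_surjective a
      obtain ⟨b, rfl⟩ := Ideal.Quotient.mk_surjective b
      have hb' : b ∉ p := fun h => nonZeroDivisors.ne_zero hb (Ideal.Quotient.eq_zero_iff_mem.mpr h)
      refine ⟨b, hb', monomial i a, ?_⟩
      rw [map_monomial, C_mul_monomial, Ideal.algebraMap_quotient_residueField_mk,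
        Ideal.algebraMap_quotient_residueField_mk,
        mul_div_cancel₀ _ (by rwa [ne_eq, Ideal.algebraMap_residueField_eq_zero])]
  let r₁ := P.lift (j β) (hmap.map j)
  let z : P.Ring ⊗[R] S := algebraMap R P.Ring b ⊗ₜ (x ^ e ^ n) - (aeval P.X Q') ⊗ₜ 1
  have hval : ∀ t : S →ₐ[R] Ω, Algebra.TensorProduct.lift r₁ t (fun _ _ => .all _ _) z =
      algebraMap R Ω b * t x ^ e ^ n - aeval (j β) Q' := fun t => by
    simp only [z, map_sub, Algebra.TensorProduct.lift_tmul, map_pow, map_one, mul_one,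
      AlgHom.commutes]
    rw [← Polynomial.aeval_algHom_apply, show r₁ P.X = j β from P.lift_X _ _]
  have hbx : algebraMap R Ω b * s x ^ e ^ n = aeval (j β) Q' := by
    rw [← hj, ← map_pow, ← hy, Polynomial.aeval_algHom_apply, ← aeval_map_algebraMap k β Q', hQ',
      map_mul, aeval_C, hQ, ← IsScalarTower.algebraMap_apply, map_mul, AlgHom.commutes]
    rfl
  have hz : z ∈ RingHom.ker (Algebra.TensorProduct.lift r₁ s fun _ _ => .all _ _) := by
    rw [RingHom.mem_ker, hval, hbx, sub_self]
  rw [← hs', RingHom.mem_ker, hval, sub_eq_zero, ← hbx] at hz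
  have hb0 : algebraMap R Ω b ≠ 0 := by
    rw [← j.commutes, IsScalarTower.algebraMap_apply R k L, _root_.map_ne_zero, _root_.map_ne_zero, ne_eq,
      Ideal.algebraMap_residueField_eq_zero]
    exact hb
  exact iterateFrobenius_inj Ω e n (mul_left_cancel₀ hb0 hz)

/-- Étale localization isolating a geometric point, with finite part. -/
theorem exists_etale_isolated_geomPoint [IsAlgClosed Ω] [Algebra.FiniteType R S] (s : S →ₐ[R] Ω)
    (hq : haveI := RingHom.ker_isPrime (s : S →+* Ω);
      Algebra.QuasiFiniteAt R (RingHom.ker (s : S →+* Ω))) :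
    ∃ (R' : Type u) (_ : CommRing R') (_ : Algebra R R') (_ : Algebra.Etale R R') (r : R' →ₐ[R] Ω)
      (e : R' ⊗[R] S), IsIdempotentElem e ∧ Module.Finite R' (Localization.Away e) ∧
      Algebra.TensorProduct.lift r s (fun _ _ => .all _ _) e ≠ 0 ∧
      ∀ s' : S →ₐ[R] Ω, Algebra.TensorProduct.lift r s' (fun _ _ => .all _ _) e ≠ 0 → s' = s := by
  obtain ⟨R₁, _, _, _, r₁, hr₁⟩ := exists_etale_eq_of_ker_eq s hq
  letI : Algebra R₁ Ω := r₁.toRingHom.toAlgebra
  haveI : IsScalarTower R R₁ Ω := IsScalarTower.of_algebraMap_eq fun x => (r₁.commutes x).symm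
  let t₁ : R₁ ⊗[R] S →ₐ[R] Ω := Algebra.TensorProduct.lift r₁ s fun _ _ => .all _ _
  let q₁ : Ideal (R₁ ⊗[R] S) := RingHom.ker t₁
  let p₁ : Ideal R₁ := RingHom.ker r₁
  haveI : q₁.IsPrime := RingHom.ker_isPrime _
  haveI : p₁.IsPrime := RingHom.ker_isPrime _
  haveI : q₁.LiesOver p₁ := ⟨Ideal.ext fun x => by
    show r₁ x = 0 ↔ t₁ (x ⊗ₜ 1) = 0
    simp [t₁]⟩
  haveI := RingHom.ker_isPrime (s : S →+* Ω)
  haveI : Algebra.QuasiFiniteAt R (RingHom.ker (s : S →+* Ω)) := hq
  haveI : Algebra.QuasiFiniteAt R₁ q₁ := Algebra.QuasiFiniteAt.baseChange (RingHom.ker (s : S →+* Ω)) q₁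
    (Ideal.ext fun x => by
      show s x = 0 ↔ t₁ (1 ⊗ₜ x) = 0
      simp [t₁])
  obtain ⟨R', _, _, _, P, _, _, e, he, P', _, _, hP'q, heP', hbij, hfin, huniq⟩ :=
    Algebra.exists_etale_isIdempotentElem_forall_liesOver_eq p₁ q₁
  letI : Algebra R R' := ((algebraMap R₁ R').comp (algebraMap R R₁)).toAlgebra
  haveI : IsScalarTower R R₁ R' := IsScalarTower.of_algebraMap_eq fun _ => rfl
  haveI : Algebra.Etale R R' := Algebra.Etale.comp R R₁ R'
  -- the geometric point of `R'`
  let j : p₁.ResidueField →ₐ[R₁] Ω := Ideal.ResidueField.liftₐ p₁ (Algebra.ofId R₁ Ω)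
    (fun x hx => hx) fun x hx => isUnit_iff_ne_zero.mpr hx
  let r' : R' →ₐ[R₁] Ω := (j.comp (AlgEquiv.ofBijective _ hbij).symm.toAlgHom).comp
    (IsScalarTower.toAlgHom R₁ R' P.ResidueField)
  have hr'P : RingHom.ker r' = P := Ideal.ext fun x => by
    rw [RingHom.mem_ker, ← Ideal.algebraMap_residueField_eq_zero (I := P)]
    change j ((AlgEquiv.ofBijective _ hbij).symm (algebraMap R' P.ResidueField x)) = 0 ↔ _
    exact (map_eq_zero_iff j j.toRingHom.injective).trans
      (map_eq_zero_iff _ (AlgEquiv.ofBijective _ hbij).symm.injective)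
  let c : R' ⊗[R₁] (R₁ ⊗[R] S) ≃ₐ[R'] R' ⊗[R] S :=
    Algebra.TensorProduct.cancelBaseChange R R₁ R' R' S
  let T : (S →ₐ[R] Ω) → (R' ⊗[R₁] (R₁ ⊗[R] S) →+* Ω) := fun s' =>
    (Algebra.TensorProduct.lift (r'.restrictScalars R) s' fun _ _ => .all _ _).toRingHom.comp
      c.toAlgHom.toRingHom
  have hT : ∀ s' (a : R') (b : R₁ ⊗[R] S),
      T s' (a ⊗ₜ b) = r' a * Algebra.TensorProduct.lift r₁ s' (fun _ _ => .all _ _) b := by
    intro s' a b
    induction b using TensorProduct.induction_on with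
    | zero => rw [tmul_zero, map_zero, map_zero, mul_zero]
    | add x y hx hy => rw [tmul_add, map_add, map_add, hx, hy, mul_add]
    | tmul u v =>
      change Algebra.TensorProduct.lift (r'.restrictScalars R) s' (fun _ _ => .all _ _)
        (c (a ⊗ₜ (u ⊗ₜ v))) = _
      rw [Algebra.TensorProduct.cancelBaseChange_tmul, Algebra.TensorProduct.lift_tmul,
        Algebra.TensorProduct.lift_tmul]
      change r' (u • a) * s' v = r' a * (r₁ u * s' v)
      rw [Algebra.smul_def, map_mul, AlgHom.commutes]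
      change r₁ u * r' a * s' v = _
      ring
  have hlies : ∀ s', (RingHom.ker (T s')).IsPrime ∧ (RingHom.ker (T s')).LiesOver P := fun s' =>
    ⟨RingHom.ker_isPrime _, ⟨Ideal.ext fun x => by
      show x ∈ P ↔ T s' (x ⊗ₜ 1) = 0
      rw [hT, map_one, mul_one, ← hr'P, RingHom.mem_ker]⟩⟩
  have hcomap : ∀ s', (RingHom.ker (T s')).comap Algebra.TensorProduct.includeRight.toRingHom =
      RingHom.ker (Algebra.TensorProduct.lift r₁ s' fun _ _ => .all _ _) := fun s' =>
    Ideal.ext fun x => by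
      show T s' (1 ⊗ₜ x) = 0 ↔ _
      rw [hT, map_one, one_mul, RingHom.mem_ker]
  have hts : RingHom.ker (T s) = P' := by
    haveI := (hlies s).1
    haveI := (hlies s).2
    exact Ideal.eq_of_comap_eq_comap_of_bijective_residueFieldMap hbij _ _
      ((hcomap s).trans hP'q.symm)
  refine ⟨R', inferInstance, inferInstance, inferInstance, r'.restrictScalars R, c e, ?_, ?_, ?_,
    fun s' hs' => ?_⟩
  · exact he.map c
  · haveI := hfin
    refine Module.Finite.equiv (AlgEquiv.toLinearEquiv
      (IsLocalization.algEquivOfAlgEquiv (M := Submonoid.powers e) (T := Submonoid.powers (c e))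
        (Localization.Away e) (Localization.Away (c e)) c ?_))
    rw [Submonoid.map_powers]
  · exact fun h => heP' (hts ▸ (h : T s e = 0))
  · haveI := (hlies s').1
    have h2 := huniq (RingHom.ker (T s')) inferInstance (hlies s').2 hs'
    refine hr₁ s' ?_
    rw [← hcomap, h2]
    exact hP'q

end Groth.Agent.MorLib.EGP
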