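import Groth.Agent.MorLib.Descend

/-! A closed subscheme of a limit which is of finite type over the base is a closed subscheme of
a stage. -/

set_option autoImplicit false
universe u

namespace Groth.Agent.MorLib.EvCI

open AlgebraicGeometry CategoryTheory Limits TopologicalSpace

variable {I : Type u} [SmallCategory I] [IsCofiltered I] {D : I ⥤ Scheme.{u}} {c : Cone D}
  (hc : IsLimit c) [∀ {i j : I} (f : i ⟶ j), IsAffineHom (D.map f)]
include hc

theorem exists_isClosedImmersion {S : Scheme.{u}} (i₀ : I) [CompactSpace (D.obj i₀)]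
    (t : D.obj i₀ ⟶ S) {Y : Scheme.{u}} (h : Y ⟶ c.pt) [IsClosedImmersion h]
    [LocallyOfFiniteType (h ≫ c.π.app i₀ ≫ t)] :
    ∃ j : Over i₀, ∀ (k : Over i₀) (_ : k ⟶ j), IsClosedImmersion (h ≫ c.π.app k.left) := by
  classical
  haveI := isAffineHom_π_app D c hc i₀
  have hloc : ∀ p : D.obj i₀, ∃ (V : (D.obj i₀).Opens) (j : Over i₀), p ∈ V ∧
      ∀ (k : Over i₀) (_ : k ⟶ j),
        IsClosedImmersion ((h ≫ c.π.app k.left) ∣_ (D.map k.hom ⁻¹ᵁ V)) := by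
    intro p
    obtain ⟨U, hU, hpU, -⟩ := exists_isAffineOpen_mem_and_subset (x := t p) (U := ⊤) trivial
    obtain ⟨V, hV, hpV, hVU⟩ :=
      exists_isAffineOpen_mem_and_subset (x := p) (U := t ⁻¹ᵁ U) hpU
    have hVU' : V ≤ t ⁻¹ᵁ U := hVU
    haveI : IsAffine (U : Scheme.{u}) := hU
    let T : Over i₀ := Over.mk (𝟙 i₀)
    haveI : ∀ j, IsAffine ((opensDiagram D i₀ V).obj j) := fun j => hV.preimage (D.map j.hom)
    haveI : IsAffine (opensCone D c i₀ V).pt := hV.preimage (c.π.app i₀)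
    have hVT : D.map T.hom ⁻¹ᵁ V ≤ (D.map T.hom ≫ t) ⁻¹ᵁ U := fun x hx => hVU' hx
    let u : (opensDiagram D i₀ V).obj T ⟶ (U : Scheme.{u}) :=
      (D.map T.hom ≫ t).resLE U (D.map T.hom ⁻¹ᵁ V) hVT
    let h' : (h ⁻¹ᵁ (c.π.app i₀ ⁻¹ᵁ V) : Scheme.{u}) ⟶ (opensCone D c i₀ V).pt :=
      h ∣_ (c.π.app i₀ ⁻¹ᵁ V)
    haveI : IsClosedImmersion h' :=
      IsZariskiLocalAtTarget.restrict (P := @IsClosedImmersion) inferInstance _
    haveI : IsAffine (h ⁻¹ᵁ (c.π.app i₀ ⁻¹ᵁ V) : Scheme.{u}) := isAffine_of_isAffineHom h'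
    let f : ∀ j, (h ⁻¹ᵁ (c.π.app i₀ ⁻¹ᵁ V) : Scheme.{u}) ⟶ (opensDiagram D i₀ V).obj j :=
      fun j => h' ≫ (opensCone D c i₀ V).π.app j
    have hf : ∀ j, f j ≫ (D.map j.hom ⁻¹ᵁ V).ι =
        (h ⁻¹ᵁ (c.π.app i₀ ⁻¹ᵁ V)).ι ≫ h ≫ c.π.app j.left := fun j => by
      show ((h ∣_ (c.π.app i₀ ⁻¹ᵁ V)) ≫ (c.π.app j.left).resLE _ _ _) ≫ _ = _
      rw [Category.assoc, Scheme.Hom.resLE_comp_ι, morphismRestrict_ι_assoc]
    haveI : LocallyOfFiniteType (f T ≫ u) := by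
      haveI : LocallyOfFiniteType ((f T ≫ u) ≫ U.ι) := by
        have e : (f T ≫ u) ≫ U.ι = (h ⁻¹ᵁ (c.π.app i₀ ⁻¹ᵁ V)).ι ≫ h ≫ c.π.app i₀ ≫ t := by
          rw [Category.assoc]
          show f T ≫ (D.map T.hom ≫ t).resLE U _ _ ≫ _ = _
          refine (congrArg (f T ≫ ·) (Scheme.Hom.resLE_comp_ι (D.map T.hom ≫ t) hVT)).trans ?_
          refine (congrArg (f T ≫ ·) (Category.assoc _ _ _).symm).trans ?_
          refine (congrArg (f T ≫ ·) (Category.assoc _ _ _)).trans ?_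
          refine (Category.assoc _ _ _).symm.trans ?_
          refine (congrArg (· ≫ (D.map T.hom ≫ t)) (hf T)).trans ?_
          simp only [Category.assoc]
          congr 2
          show c.π.app i₀ ≫ D.map (𝟙 i₀) ≫ t = c.π.app i₀ ≫ t
          rw [D.map_id, Category.id_comp]
        rw [e]; infer_instance
      exact locallyOfFiniteType_of_comp _ U.ι
    have hft : (f T ≫ u).appTop.hom.FiniteType :=
      HasRingHomProperty.appTop @LocallyOfFiniteType _ inferInstance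
    let Y' : Scheme.{u} := (h ⁻¹ᵁ (c.π.app i₀ ⁻¹ᵁ V) : Scheme.{u})
    letI := (f T ≫ u).appTop.hom.toAlgebra
    obtain ⟨s, hs⟩ := (hft : Algebra.FiniteType Γ((U : Scheme.{u}), ⊤) Γ(Y', ⊤)).out
    have hb : ∀ b : Γ(Y', ⊤), ∃ (j : Over i₀), b ∈ (f j).appTop.hom.range := fun b => by
      obtain ⟨a, ha⟩ := Scheme.Hom.app_surjective h' ⊤ (isAffineOpen_top _) b
      obtain ⟨j, a', ha'⟩ := exists_appTop_π_eq_of_isAffine_of_isLimit (opensDiagram D i₀ V)
        (opensCone D c i₀ V) (isLimitOpensCone D c hc i₀ V) a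
      refine ⟨j, a', ?_⟩
      show h'.appTop (((opensCone D c i₀ V).π.app j).appTop a') = b
      rw [ha']; exact ha
    choose jb hjb using hb
    obtain ⟨j, hj⟩ := IsCofiltered.inf_objs_exists (insert T (s.image jb))
    refine ⟨V, j, hpV, fun k g => ?_⟩
    have hmono : ∀ (i : Over i₀) (_ : k ⟶ i), ∀ x, x ∈ (f i).appTop.hom.range → x ∈ (f k).appTop.hom.range := by
      rintro i q x ⟨a, rfl⟩
      refine ⟨((opensDiagram D i₀ V).map q).appTop a, ?_⟩
      have e : f k ≫ (opensDiagram D i₀ V).map q = f i :=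
        (Category.assoc _ _ _).trans (congrArg (h' ≫ ·) ((opensCone D c i₀ V).w q))
      rw [← e]
      rfl
    have hsurj : Function.Surjective (f k).appTop := by
      intro x
      obtain ⟨qT⟩ := hj (Finset.mem_insert_self T _)
      let R : Subalgebra Γ((U : Scheme.{u}), ⊤) Γ(Y', ⊤) :=
        { (f k).appTop.hom.range.toSubsemiring with
          algebraMap_mem' := fun a => hmono T (g ≫ qT) _ ⟨u.appTop a, rfl⟩ }
      have hle : (⊤ : Subalgebra Γ((U : Scheme.{u}), ⊤) Γ(Y', ⊤)) ≤ R := hs ▸ Algebra.adjoin_le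
        (fun b hb => hmono (jb b)
          (g ≫ (hj (Finset.mem_insert_of_mem (Finset.mem_image_of_mem jb hb))).some) b (hjb b))
      exact hle (show x ∈ (⊤ : Subalgebra Γ((U : Scheme.{u}), ⊤) Γ(Y', ⊤)) from trivial)
    have hk : IsClosedImmersion (f k) := IsClosedImmersion.of_surjective_of_isAffine _ hsurj
    have hle : (h ≫ c.π.app k.left) ⁻¹ᵁ (D.map k.hom ⁻¹ᵁ V) = h ⁻¹ᵁ (c.π.app i₀ ⁻¹ᵁ V) := by
      rw [← Scheme.Hom.comp_preimage, Category.assoc, c.w, Scheme.Hom.comp_preimage]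
    have e : (h ≫ c.π.app k.left) ∣_ (D.map k.hom ⁻¹ᵁ V) = (Y.isoOfEq hle).hom ≫ f k := by
      rw [← cancel_mono (D.map k.hom ⁻¹ᵁ V).ι, morphismRestrict_ι]
      refine Eq.trans ?_ (Category.assoc _ _ _).symm
      erw [hf k]
      simp
    rw [e]
    exact (MorphismProperty.cancel_left_of_respectsIso @IsClosedImmersion _ _).mpr hk
  choose V j hpV hj using hloc
  obtain ⟨F, hF⟩ := isCompact_univ.elim_finite_subcover (fun p => (V p : Set (D.obj i₀)))
    (fun p => (V p).2) fun p _ => Set.mem_iUnion.mpr ⟨p, hpV p⟩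
  obtain ⟨m, hm⟩ := IsCofiltered.inf_objs_exists (F.image j)
  refine ⟨m, fun k g => IsZariskiLocalAtTarget.of_iSup_eq_top (P := @IsClosedImmersion)
    (fun p : F => D.map k.hom ⁻¹ᵁ V p.1) (top_le_iff.mp fun x _ => ?_) fun p => ?_⟩
  · obtain ⟨q, hq, hx⟩ := Set.mem_iUnion₂.mp (hF (Set.mem_univ (D.map k.hom x)))
    exact Opens.mem_iSup.mpr ⟨⟨q, hq⟩, hx⟩
  · exact hj p.1 k (g ≫ (hm (Finset.mem_image_of_mem j p.2)).some)

end Groth.Agent.MorLib.EvCI
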