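import Groth.Agent.MorLib.BaseChangeLim

/-! A limit of closed subschemes which is a closed subscheme of the base is eventually one. -/

set_option autoImplicit false
universe u

namespace Groth.Agent.MorLib.EvCI

open AlgebraicGeometry CategoryTheory Limits TopologicalSpace

variable {I : Type u} [SmallCategory I] [IsCofiltered I] {D : I ⥤ Scheme.{u}} {c : Cone D}
  (hc : IsLimit c) [hcl : ∀ {i j : I} (f : i ⟶ j), IsClosedImmersion (D.map f)]
include hc

theorem exists_isClosedImmersion_structure [∀ i, CompactSpace (D.obj i)]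
    [∀ i, QuasiSeparatedSpace (D.obj i)] {S : Scheme.{u}} [CompactSpace S] [QuasiSeparatedSpace S]
    (i₀ : I) (t : D.obj i₀ ⟶ S) [LocallyOfFiniteType t] [IsClosedImmersion (c.π.app i₀ ≫ t)] :
    ∃ j : Over i₀, ∀ (k : Over i₀) (_ : k ⟶ j), IsClosedImmersion (D.map k.hom ≫ t) := by
  classical
  haveI : ∀ {i j : I} (f : i ⟶ j), IsAffineHom (D.map f) := fun f => inferInstance
  haveI : QuasiCompact t := inferInstance
  have hloc : ∀ p : S, ∃ (V : S.Opens) (j : Over i₀), p ∈ V ∧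
      ∀ (k : Over i₀) (_ : k ⟶ j), IsClosedImmersion ((D.map k.hom ≫ t) ∣_ V) := by
    intro p
    obtain ⟨V, hV, hpV, -⟩ := exists_isAffineOpen_mem_and_subset (x := p) (U := ⊤) trivial
    haveI : IsAffine (V : Scheme.{u}) := hV
    let W : (D.obj i₀).Opens := t ⁻¹ᵁ V
    haveI hcE : ∀ j, CompactSpace ((opensDiagram D i₀ W).obj j) := fun j =>
      isCompact_iff_compactSpace.mp ((D.map j.hom).isCompact_preimage (t.isCompact_preimage hV.isCompact))
    haveI hqE : ∀ j, QuasiSeparatedSpace ((opensDiagram D i₀ W).obj j) := fun j =>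
      show QuasiSeparatedSpace (D.map j.hom ⁻¹ᵁ W : Scheme.{u}) from
        (D.map j.hom ⁻¹ᵁ W).ι.isOpenEmbedding.quasiSeparatedSpace
    haveI : ∀ {a b : Over i₀} (f : a ⟶ b), IsAffineHom ((opensDiagram D i₀ W).map f) :=
      fun f => inferInstance
    let g : (opensCone D c i₀ W).pt ⟶ (V : Scheme.{u}) :=
      (c.π.app i₀ ≫ t).resLE V (c.π.app i₀ ⁻¹ᵁ W) le_rfl
    haveI : IsClosedImmersion g := by
      show IsClosedImmersion ((c.π.app i₀ ≫ t).resLE V ((c.π.app i₀ ≫ t) ⁻¹ᵁ V) le_rfl)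
      rw [Scheme.Hom.resLE_eq_morphismRestrict]
      exact IsZariskiLocalAtTarget.restrict (P := @IsClosedImmersion) inferInstance V
    haveI : IsAffine (opensCone D c i₀ W).pt := isAffine_of_isAffineHom g
    obtain ⟨a, ha⟩ := Scheme.exists_isAffine_of_isLimit (opensDiagram D i₀ W) (opensCone D c i₀ W)
      (isLimitOpensCone D c hc i₀ W)
    let q : ∀ j : Over i₀, (opensDiagram D i₀ W).obj j ⟶ (V : Scheme.{u}) := fun j =>
      (D.map j.hom ≫ t).resLE V (D.map j.hom ⁻¹ᵁ W) le_rfl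
    have hq : ∀ {j k : Over i₀} (f : j ⟶ k), (opensDiagram D i₀ W).map f ≫ q k = q j := by
      intro j k f
      show (D.map f.left).resLE _ _ _ ≫ (D.map k.hom ≫ t).resLE V _ _ = _
      rw [Scheme.Hom.resLE_comp_resLE]
      congr 1
      rw [← Category.assoc, ← D.map_comp, Over.w f]
    have hg : ∀ j, (opensCone D c i₀ W).π.app j ≫ q j = g := by
      intro j
      show (c.π.app j.left).resLE _ _ _ ≫ (D.map j.hom ≫ t).resLE V _ _ = _
      rw [Scheme.Hom.resLE_comp_resLE]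
      congr 1
      rw [← Category.assoc, c.w]
    haveI : LocallyOfFiniteType (q a) := inferInstanceAs (LocallyOfFiniteType ((D.map a.hom ≫ t).resLE V _ _))
    have hft : (q a).appTop.hom.FiniteType := HasRingHomProperty.appTop @LocallyOfFiniteType _ inferInstance
    letI := (q a).appTop.hom.toAlgebra
    obtain ⟨s, hs⟩ := (hft : Algebra.FiniteType Γ((V : Scheme.{u}), ⊤) Γ((opensDiagram D i₀ W).obj a, ⊤)).out
    have hb : ∀ b : Γ((opensDiagram D i₀ W).obj a, ⊤), ∃ (k : Over i₀) (f : k ⟶ a),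
        ((opensDiagram D i₀ W).map f).appTop b ∈ (q k).appTop.hom.range := by
      intro b
      obtain ⟨x, hx⟩ := Scheme.Hom.app_surjective g ⊤ (isAffineOpen_top _)
        (((opensCone D c i₀ W).π.app a).appTop b)
      obtain ⟨k, f, hk⟩ := exists_appTop_map_eq_zero_of_isLimit (opensDiagram D i₀ W) (opensCone D c i₀ W)
        (isLimitOpensCone D c hc i₀ W) (i := a) (b - (q a).appTop x) (by
          rw [map_sub, sub_eq_zero]
          refine hx.symm.trans ?_
          rw [← hg a]; rfl)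
      refine ⟨k, f, x, ?_⟩
      rw [map_sub, sub_eq_zero] at hk
      rw [hk, ← hq f]; rfl
    choose kb fb hkb using hb
    obtain ⟨j, e, he⟩ : ∃ (j : Over i₀) (e : j ⟶ a), ∀ b ∈ s, ∃ r : j ⟶ kb b, r ≫ fb b = e := by
      obtain ⟨j, e, r, hr⟩ := IsCofiltered.wideCospan (fun b : s => fb b.1)
      exact ⟨j, e, fun b hb => ⟨r ⟨b, hb⟩, hr ⟨b, hb⟩⟩⟩
    refine ⟨V, j, hpV, fun k π => ?_⟩
    haveI : IsAffine ((opensDiagram D i₀ W).obj a) := ha
    haveI : IsClosedImmersion ((opensDiagram D i₀ W).map (π ≫ e)) := by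
      show IsClosedImmersion ((D.map (π ≫ e).left).resLE (D.map a.hom ⁻¹ᵁ W) (D.map k.hom ⁻¹ᵁ W) _)
      have e' : D.map (π ≫ e).left ⁻¹ᵁ (D.map a.hom ⁻¹ᵁ W) = D.map k.hom ⁻¹ᵁ W := by
        rw [← Scheme.Hom.comp_preimage, ← D.map_comp, Over.w]
      have e'' : (D.map (π ≫ e).left).resLE (D.map a.hom ⁻¹ᵁ W) (D.map k.hom ⁻¹ᵁ W) e'.ge =
          ((D.obj k.left).isoOfEq e'.symm).hom ≫ (D.map (π ≫ e).left) ∣_ (D.map a.hom ⁻¹ᵁ W) := by
        rw [← cancel_mono (D.map a.hom ⁻¹ᵁ W).ι]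
        simp
      rw [e'']
      exact (MorphismProperty.cancel_left_of_respectsIso @IsClosedImmersion _ _).mpr
        (IsZariskiLocalAtTarget.restrict (P := @IsClosedImmersion) (hcl _) _)
    haveI : IsAffine ((opensDiagram D i₀ W).obj k) :=
      isAffine_of_isAffineHom ((opensDiagram D i₀ W).map (π ≫ e))
    have hsurj : Function.Surjective (q k).appTop := by
      intro y
      obtain ⟨b, rfl⟩ := Scheme.Hom.app_surjective ((opensDiagram D i₀ W).map (π ≫ e)) ⊤ (isAffineOpen_top _) y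
      let m : Γ((opensDiagram D i₀ W).obj a, ⊤) →+* Γ((opensDiagram D i₀ W).obj k, ⊤) :=
        ((opensDiagram D i₀ W).map (π ≫ e)).appTop.hom
      let R : Subalgebra Γ((V : Scheme.{u}), ⊤) Γ((opensDiagram D i₀ W).obj a, ⊤) :=
        { ((q k).appTop.hom.range.comap m).toSubsemiring with
          algebraMap_mem' := fun x => ⟨x, by rw [← hq (π ≫ e)]; rfl⟩ }
      have hle : (⊤ : Subalgebra Γ((V : Scheme.{u}), ⊤) Γ((opensDiagram D i₀ W).obj a, ⊤)) ≤ R :=
        hs ▸ Algebra.adjoin_le (fun b hb => by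
          obtain ⟨r, hr⟩ := he b hb
          obtain ⟨x, hx⟩ := hkb b
          refine ⟨x, ?_⟩
          show _ = ((opensDiagram D i₀ W).map (π ≫ e)).appTop b
          rw [← hr, ← Category.assoc, Functor.map_comp, ← hq (π ≫ r)]
          show _ = ((opensDiagram D i₀ W).map (π ≫ r)).appTop (((opensDiagram D i₀ W).map (fb b)).appTop b)
          rw [← hx]
          rfl)
      exact hle (show b ∈ (⊤ : Subalgebra Γ((V : Scheme.{u}), ⊤) Γ((opensDiagram D i₀ W).obj a, ⊤)) from trivial)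
    have hk : IsClosedImmersion (q k) := IsClosedImmersion.of_surjective_of_isAffine _ hsurj
    have e3 : (D.map k.hom ≫ t) ∣_ V = q k := by
      show _ = (D.map k.hom ≫ t).resLE V ((D.map k.hom ≫ t) ⁻¹ᵁ V) le_rfl
      rw [Scheme.Hom.resLE_eq_morphismRestrict]
    rw [e3]; exact hk
  choose V j hpV hj using hloc
  obtain ⟨F, hF⟩ := isCompact_univ.elim_finite_subcover (fun p => (V p : Set S))
    (fun p => (V p).2) fun p _ => Set.mem_iUnion.mpr ⟨p, hpV p⟩
  obtain ⟨m, hm⟩ := IsCofiltered.inf_objs_exists (insert (Over.mk (𝟙 i₀)) (F.image j))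
  refine ⟨m, fun k g => IsZariskiLocalAtTarget.of_iSup_eq_top (P := @IsClosedImmersion)
    (fun p : F => V p.1) (top_le_iff.mp fun x _ => ?_) fun p => ?_⟩
  · obtain ⟨q, hq, hx⟩ := Set.mem_iUnion₂.mp (hF (Set.mem_univ x))
    exact Opens.mem_iSup.mpr ⟨⟨q, hq⟩, hx⟩
  · exact hj p.1 k (g ≫ (hm (Finset.mem_insert_of_mem (Finset.mem_image_of_mem j p.2))).some)

end Groth.Agent.MorLib.EvCI
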