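import Groth.Prelude.Def_MoreMor
import Mathlib.AlgebraicGeometry.Morphisms.ClosedImmersion
import Mathlib.AlgebraicGeometry.IdealSheaf.Functorial

set_option autoImplicit false
universe u

namespace Groth.Agent.MorLib

open AlgebraicGeometry CategoryTheory

/-- Criterion for a thickening of an affine scheme to be of first order. -/
theorem ker_mul_ker_eq_bot_of_isAffine {T T' : Scheme.{u}} (t : T ⟶ T') [IsAffine T']
    [QuasiCompact t] (h : RingHom.ker t.appTop.hom ^ 2 = ⊥) : t.ker * t.ker = ⊥ := by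
  apply Scheme.IdealSheafData.ext_of_isAffine
  simp only [Scheme.IdealSheafData.ideal_mul, Pi.mul_apply, Scheme.Hom.ker_apply,
    Scheme.IdealSheafData.ideal_bot, Pi.bot_apply]
  rw [← pow_two]
  exact h

theorem ker_appTop_sq_eq_bot {T T' : Scheme.{u}} (t : T ⟶ T') [IsAffine T']
    [QuasiCompact t] (h : t.ker * t.ker = ⊥) : RingHom.ker t.appTop.hom ^ 2 = ⊥ := by
  have := congr(($h).ideal ⟨⊤, isAffineOpen_top T'⟩)
  simp only [Scheme.IdealSheafData.ideal_mul, Pi.mul_apply, Scheme.Hom.ker_apply,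
    Scheme.IdealSheafData.ideal_bot, Pi.bot_apply] at this
  rw [← pow_two] at this
  exact this

theorem isFirstOrderThickening_restrict {T T' : Scheme.{u}} (t : T ⟶ T')
    (ht : MoreMor.IsFirstOrderThickening t) (W : T'.Opens) :
    MoreMor.IsFirstOrderThickening (t ∣_ W) := by
  obtain ⟨⟨hc, hs⟩, h2⟩ := ht
  have hc' : IsClosedImmersion (t ∣_ W) := IsZariskiLocalAtTarget.restrict hc W
  have hs' : Surjective (t ∣_ W) := IsZariskiLocalAtTarget.restrict hs W
  refine ⟨⟨hc', hs'⟩, ?_⟩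
  refine Scheme.IdealSheafData.ext (funext fun V => ?_)
  have hker : (t ∣_ W).ker.ideal V =
      RingHom.ker (t.app (W.ι ''ᵁ V.1)).hom := by
    rw [Scheme.Hom.ker_apply, morphismRestrict_app]
    exact RingHom.ker_comp_of_injective _ (ConcreteCategory.bijective_of_isIso _).1
  have := congr(($h2).ideal ⟨W.ι ''ᵁ V.1, V.2.image_of_isOpenImmersion W.ι⟩)
  simp only [Scheme.IdealSheafData.ideal_mul, Pi.mul_apply, Scheme.Hom.ker_apply,
    Scheme.IdealSheafData.ideal_bot, Pi.bot_apply] at this ⊢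
  rw [← Scheme.Hom.ker_apply, hker]
  exact this

theorem isFirstOrderThickening_quotientMk (A : Type u) [CommRing A] (I : Ideal A) (hI : I ^ 2 = ⊥) :
    MoreMor.IsFirstOrderThickening (Spec.map (CommRingCat.ofHom (Ideal.Quotient.mk I))) := by
  have hc : IsClosedImmersion (Spec.map (CommRingCat.ofHom (Ideal.Quotient.mk I))) :=
    IsClosedImmersion.spec_of_surjective _ Ideal.Quotient.mk_surjective
  have hs : Surjective (Spec.map (CommRingCat.ofHom (Ideal.Quotient.mk I))) := by
    refine ⟨fun p => ?_⟩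
    suffices H : ∀ q : PrimeSpectrum A, q ∈ Set.range (PrimeSpectrum.comap (Ideal.Quotient.mk I))
      from H p
    intro q


    rw [range_comap_of_surjective _ _ Ideal.Quotient.mk_surjective,
      Ideal.mk_ker, PrimeSpectrum.mem_zeroLocus]
    intro x hx
    have : x * x ∈ I ^ 2 := by rw [pow_two]; exact Ideal.mul_mem_mul hx hx
    rw [hI] at this
    exact q.2.mem_of_pow_mem 2 (by simp [pow_two, (Ideal.mem_bot.mp this)])
  refine ⟨⟨hc, hs⟩, ker_mul_ker_eq_bot_of_isAffine _ ?_⟩
  have key : (Spec.map (CommRingCat.ofHom (Ideal.Quotient.mk I))).appTop.hom =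
    ((Scheme.ΓSpecIso (CommRingCat.of (A ⧸ I))).inv.hom.comp (Ideal.Quotient.mk I)).comp
      (Scheme.ΓSpecIso (CommRingCat.of A)).hom.hom := by
    have := Scheme.ΓSpecIso_inv_naturality (CommRingCat.ofHom (Ideal.Quotient.mk I))
    have h2 : (Spec.map (CommRingCat.ofHom (Ideal.Quotient.mk I))).appTop =
        (Scheme.ΓSpecIso (CommRingCat.of A)).hom ≫
          CommRingCat.ofHom (Ideal.Quotient.mk I) ≫ (Scheme.ΓSpecIso _).inv := by
      rw [this, Iso.hom_inv_id_assoc]
    rw [h2]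
    rfl
  rw [key, ← RingHom.comap_ker, RingHom.ker_comp_of_injective _
    (ConcreteCategory.bijective_of_isIso (Scheme.ΓSpecIso (CommRingCat.of (A ⧸ I))).inv).1,
    Ideal.mk_ker, eq_bot_iff, pow_two, Ideal.mul_le]
  intro x hx y hy
  have hxy := Ideal.mul_mem_mul (Ideal.mem_comap.mp hx) (Ideal.mem_comap.mp hy)
  rw [← pow_two, hI, Ideal.mem_bot, ← map_mul] at hxy
  rw [Ideal.mem_bot]
  exact (map_eq_zero_iff _ (ConcreteCategory.bijective_of_isIso
    (Scheme.ΓSpecIso (CommRingCat.of A)).hom).1).mp hxy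

end Groth.Agent.MorLib
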