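import Mathlib.RingTheory.Jacobson.Ring
import Mathlib.RingTheory.KrullDimension.Zero
import Mathlib.RingTheory.Localization.Integral
import Mathlib.RingTheory.Localization.AtPrime.Basic
import Mathlib.RingTheory.RingHom.FiniteType
import Mathlib.RingTheory.RingHom.Finite
import Mathlib.RingTheory.RingHom.Integral

/-! Finiteness over a neighbourhood of a minimal prime. -/

set_option autoImplicit false
universe u

namespace Groth.Agent.MorLib.GenFinite

/-- A finite type algebra with a single prime over a zero-dimensional ring is integral. -/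
theorem isIntegral_of_subsingleton (R S : Type u) [CommRing R] [CommRing S] [Algebra R S]
    [IsJacobsonRing R] [Algebra.FiniteType R S] [Subsingleton (PrimeSpectrum S)] :
    Algebra.IsIntegral R S := by
  refine ⟨fun x => ?_⟩
  rcases subsingleton_or_nontrivial S with hS | hS
  · exact ⟨Polynomial.X, Polynomial.monic_X, Subsingleton.elim _ _⟩
  obtain ⟨m, hm⟩ := Ideal.exists_maximal S
  letI := Ideal.Quotient.field m
  haveI : Algebra.FiniteType R (S ⧸ m) := Algebra.FiniteType.trans (S := S) inferInstance inferInstance
  haveI := finite_of_finite_type_of_isJacobsonRing R (S ⧸ m)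
  obtain ⟨P, hP, hPx⟩ := Algebra.IsIntegral.isIntegral (R := R) (Ideal.Quotient.mk m x)
  have hnil : IsNilpotent (Polynomial.aeval x P) := by
    rw [nilpotent_iff_mem_prime]
    intro Q hQ
    obtain rfl : Q = m :=
      congrArg PrimeSpectrum.asIdeal (Subsingleton.elim (⟨Q, hQ⟩ : PrimeSpectrum S) ⟨m, hm.isPrime⟩)
    rw [← Ideal.Quotient.eq_zero_iff_mem]
    have h1 : Ideal.Quotient.mkₐ R Q (Polynomial.aeval x P) = Polynomial.aeval (Ideal.Quotient.mk Q x) P :=
      (Polynomial.aeval_algHom_apply (Ideal.Quotient.mkₐ R Q) x P).symm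
    exact h1.trans hPx
  obtain ⟨n, hn⟩ := hnil
  exact ⟨P ^ n, hP.pow n, by rw [Polynomial.eval₂_pow]; exact hn⟩

theorem isJacobsonRing_atPrime {A : Type u} [CommRing A] (p : Ideal A) [p.IsPrime]
    (hp : ∀ p' : Ideal A, p'.IsPrime → p' ≤ p → p' = p) :
    IsJacobsonRing (Localization.AtPrime p) := by
  haveI : Subsingleton (PrimeSpectrum (Localization.AtPrime p)) := by
    refine ⟨fun a b => ?_⟩
    refine PrimeSpectrum.localization_comap_injective (Localization.AtPrime p) p.primeCompl ?_
    have key : ∀ c : PrimeSpectrum (Localization.AtPrime p),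
        (PrimeSpectrum.comap (algebraMap A (Localization.AtPrime p)) c).asIdeal = p := fun c =>
      hp _ inferInstance fun z hz => by
        by_contra hn
        exact c.2.ne_top (Ideal.eq_top_of_isUnit_mem _ hz
          (IsLocalization.map_units (Localization.AtPrime p) (⟨z, hn⟩ : p.primeCompl)))
    exact PrimeSpectrum.ext ((key a).trans (key b).symm)
  haveI : Ring.KrullDimLE 0 (Localization.AtPrime p) := by
    refine Ring.KrullDimLE.mk₀ fun I hI => ?_
    obtain ⟨m, hm, hle⟩ := Ideal.exists_le_maximal I hI.ne_top
    have e : (⟨I, hI⟩ : PrimeSpectrum (Localization.AtPrime p)) = ⟨m, hm.isPrime⟩ := Subsingleton.elim _ _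
    have e' : I = m := congrArg PrimeSpectrum.asIdeal e
    rw [e']
    exact hm
  infer_instance

variable {A B : Type u} [CommRing A] [CommRing B] [Algebra A B]

/-- An algebra of finite type with at most one prime over a minimal prime becomes finite after
inverting an element outside that prime. -/
theorem exists_away_finite [Algebra.FiniteType A B] (p : Ideal A) [p.IsPrime]
    (hp : ∀ p' : Ideal A, p'.IsPrime → p' ≤ p → p' = p)
    (huniq : ∀ Q Q' : PrimeSpectrum B, Q.asIdeal.comap (algebraMap A B) = p →
      Q'.asIdeal.comap (algebraMap A B) = p → Q = Q') :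
    ∃ a : A, a ∉ p ∧ ∀ (a' : A), a ∣ a' → ∀ (A' B' : Type u) [CommRing A'] [CommRing B']
      [Algebra A A'] [Algebra B B'] [IsLocalization.Away a' A']
      [IsLocalization.Away (algebraMap A B a') B'] (θ : A' →+* B'),
      θ.comp (algebraMap A A') = (algebraMap B B').comp (algebraMap A B) → θ.Finite := by
  classical
  let M := Algebra.algebraMapSubmonoid B p.primeCompl
  haveI := isJacobsonRing_atPrime p hp
  haveI : Subsingleton (PrimeSpectrum (Localization M)) := by
    refine ⟨fun c d => PrimeSpectrum.localization_comap_injective (Localization M) M ?_⟩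
    have key : ∀ c : PrimeSpectrum (Localization M),
        ((c.asIdeal.comap (algebraMap B (Localization M))).comap (algebraMap A B)) = p := fun c =>
      hp _ inferInstance fun z hz => by
        by_contra hn
        exact c.2.ne_top (Ideal.eq_top_of_isUnit_mem _ hz
          (IsLocalization.map_units (Localization M) (⟨_, z, hn, rfl⟩ : M)))
    exact huniq _ _ (key c) (key d)
  letI : Algebra (Localization.AtPrime p) (Localization M) :=
    localizationAlgebra p.primeCompl B
  haveI : IsScalarTower A (Localization.AtPrime p) (Localization M) :=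
    IsScalarTower.of_algebraMap_eq fun z => by
      rw [IsScalarTower.algebraMap_apply A B (Localization M)]
      exact (IsLocalization.map_eq _ z).symm
  haveI : IsLocalization (Submonoid.map (algebraMap A B) p.primeCompl) (Localization M) :=
    Localization.isLocalization
  haveI : Algebra.FiniteType (Localization.AtPrime p) (Localization M) := by
    have h := RingHom.finiteType_localizationPreserves (algebraMap A B) p.primeCompl
      (Localization.AtPrime p) (Localization M) (RingHom.finiteType_algebraMap.mpr inferInstance)
    rw [← RingHom.finiteType_algebraMap]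
    convert h
    rfl
  haveI := isIntegral_of_subsingleton (Localization.AtPrime p) (Localization M)
  obtain ⟨s, hs⟩ := Algebra.FiniteType.out (R := A) (A := B)
  have key : ∀ x : B, ∃ a : A, a ∉ p ∧ ∃ (m : A) (Q : Polynomial A), Q.Monic ∧ m ∣ a ∧
      algebraMap A B a * Polynomial.eval₂ (algebraMap A B) (algebraMap A B m * x) Q = 0 := by
    intro x
    obtain ⟨⟨m, hm⟩, Q, hQ, hQx⟩ :=
      (Algebra.IsIntegral.isIntegral (R := Localization.AtPrime p)
        (algebraMap B (Localization M) x)).exists_multiple_integral_of_isLocalization p.primeCompl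
    have h1 : algebraMap B (Localization M)
        (Polynomial.eval₂ (algebraMap A B) (algebraMap A B m * x) Q) = 0 := by
      rw [Polynomial.hom_eval₂, map_mul, ← IsScalarTower.algebraMap_eq A B (Localization M)]
      rw [Submonoid.smul_def, Algebra.smul_def, IsScalarTower.algebraMap_apply A B (Localization M)]
        at hQx
      exact hQx
    obtain ⟨⟨_, t, ht, rfl⟩, hst⟩ := (IsLocalization.map_eq_zero_iff M _ _).mp h1
    exact ⟨t * m, fun h => (‹p.IsPrime›.mem_or_mem h).elim ht hm, m, Q, hQ, dvd_mul_left m t, by
      rw [map_mul, mul_right_comm, hst, zero_mul]⟩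
  choose a ha m Q hQ hma hQx using key
  refine ⟨∏ x ∈ s, a x, fun h => ?_, fun a' haa' A' B' _ _ _ _ _ _ θ hθ => ?_⟩
  · obtain ⟨x, -, hx⟩ := (Ideal.IsPrime.prod_mem_iff).mp h
    exact ha x hx
  let _ : Algebra A' B' := θ.toAlgebra
  let _ : Algebra A B' := ((algebraMap B B').comp (algebraMap A B)).toAlgebra
  haveI : IsScalarTower A B B' := IsScalarTower.of_algebraMap_eq' rfl
  haveI : IsScalarTower A A' B' := IsScalarTower.of_algebraMap_eq' hθ.symm
  haveI : Algebra.FiniteType B B' :=
    IsLocalization.finiteType_of_monoid_fg (Submonoid.powers (algebraMap A B a')) B'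
  haveI : Algebra.FiniteType A' B' :=
    Algebra.FiniteType.of_restrictScalars_finiteType A A' B'
      (hA := Algebra.FiniteType.trans (R := A) (S := B) (A := B') inferInstance inferInstance)
  have hgen : ∀ x ∈ s, IsIntegral A' (algebraMap B B' x) := by
    intro x hx
    have hdvd : a x ∣ a' := (Finset.dvd_prod_of_mem a hx).trans haa'
    have hua : IsUnit (algebraMap B B' (algebraMap A B (a x))) :=
      isUnit_of_dvd_unit (map_dvd _ (map_dvd _ hdvd))
        (IsLocalization.Away.algebraMap_isUnit (algebraMap A B a'))
    have h2 : IsIntegral A (algebraMap B B' (algebraMap A B (m x) * x)) := by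
      refine ⟨Q x, hQ x, ?_⟩
      have h3 := congrArg (algebraMap B B') (hQx x)
      rw [map_mul, map_zero, Polynomial.hom_eval₂] at h3
      exact hua.mul_right_eq_zero.mp h3
    obtain ⟨v, hv⟩ := isUnit_iff_exists_inv'.mp (isUnit_of_dvd_unit
      (map_dvd (algebraMap A A') ((hma x).trans hdvd)) (IsLocalization.Away.algebraMap_isUnit a'))
    have h4 : algebraMap B B' x = algebraMap A' B' v * algebraMap B B' (algebraMap A B (m x) * x) := by
      rw [map_mul, ← mul_assoc,
        show algebraMap B B' (algebraMap A B (m x)) = algebraMap A' B' (algebraMap A A' (m x)) from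
          (RingHom.congr_fun hθ (m x)).symm, ← map_mul, hv, map_one, one_mul]
    rw [h4]
    exact isIntegral_algebraMap.mul h2.tower_top
  have hB : ∀ b : B, IsIntegral A' (algebraMap B B' b) := by
    intro b
    have hb : b ∈ Algebra.adjoin A (s : Set B) := hs.ge trivial
    induction hb using Algebra.adjoin_induction with
    | mem i hi => exact hgen i hi
    | algebraMap y =>
      rw [show algebraMap B B' (algebraMap A B y) = algebraMap A' B' (algebraMap A A' y) from
        (RingHom.congr_fun hθ y).symm]
      exact isIntegral_algebraMap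
    | add b₁ b₂ _ _ i₁ i₂ => rw [map_add]; exact i₁.add i₂
    | mul b₁ b₂ _ _ i₁ i₂ => rw [map_mul]; exact i₁.mul i₂
  haveI : Algebra.IsIntegral A' B' := by
    refine ⟨fun w => ?_⟩
    obtain ⟨b, ⟨_, n, rfl⟩, rfl⟩ :=
      IsLocalization.exists_mk'_eq (Submonoid.powers (algebraMap A B a')) w
    obtain ⟨v, hv⟩ := isUnit_iff_exists_inv'.mp
      ((IsLocalization.Away.algebraMap_isUnit (S := A') a').pow n)
    have : IsLocalization.mk' B' b (⟨_, n, rfl⟩ : Submonoid.powers (algebraMap A B a')) =
        algebraMap A' B' v * algebraMap B B' b := by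
      rw [IsLocalization.mk'_eq_iff_eq_mul]
      show algebraMap B B' b = _ * algebraMap B B' (algebraMap A B a' ^ n)
      rw [map_pow, show algebraMap B B' (algebraMap A B a') = algebraMap A' B' (algebraMap A A' a') from
        (RingHom.congr_fun hθ a').symm, mul_right_comm, ← map_pow, ← map_mul, hv, map_one, one_mul]
    rw [this]
    exact isIntegral_algebraMap.mul (hB b)
  exact Algebra.IsIntegral.finite

end Groth.Agent.MorLib.GenFinite
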