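import Groth.Agent.MorLib.EtaleGeomPoint
import Mathlib.AlgebraicGeometry.ZariskisMainTheorem

/-! Étale neighbourhoods isolating a geometric point of a quasi-finite morphism. -/

set_option autoImplicit false
universe u

namespace Groth.Agent.MorLib.GL

open AlgebraicGeometry CategoryTheory Limits TensorProduct

variable {X Y : Scheme.{u}}

theorem range_SpecField_subset {Ω : Type u} [Field Ω] (γ : Spec (CommRingCat.of Ω) ⟶ X)
    (U : Set X) (hU : γ (IsLocalRing.closedPoint Ω) ∈ U) : Set.range γ ⊆ U := by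
  rintro _ ⟨z, rfl⟩
  rwa [Subsingleton.elim (α := PrimeSpectrum Ω) z (IsLocalRing.closedPoint Ω)]

-- Étale localization isolating a geometric point, with finite part.
set_option maxHeartbeats 1000000 in
theorem exists_nbhd (f : X ⟶ Y) [LocallyOfFiniteType f] {Ω : Type u} [Field Ω] [IsAlgClosed Ω]
    (γ : Spec (CommRingCat.of Ω) ⟶ X) (hγ : f.QuasiFiniteAt (γ (IsLocalRing.closedPoint Ω))) :
    ∃ (V : Scheme.{u}) (g : V ⟶ Y) (v : Spec (CommRingCat.of Ω) ⟶ V) (W : (pullback f g).Opens)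
      (δ : Spec (CommRingCat.of Ω) ⟶ W),
      Etale g ∧ v ≫ g = γ ≫ f ∧ IsFinite (W.ι ≫ pullback.snd f g) ∧
      δ ≫ W.ι ≫ pullback.fst f g = γ ∧ δ ≫ W.ι ≫ pullback.snd f g = v ∧
      ∀ δ', δ' ≫ W.ι ≫ pullback.snd f g = v → δ' = δ := by
  classical
  let x := γ (IsLocalRing.closedPoint Ω)
  obtain ⟨U, hU, hxU, -⟩ :=
    exists_isAffineOpen_mem_and_subset (x := f x) (U := (⊤ : Y.Opens)) trivial
  obtain ⟨V, hV, hxV, hUV'⟩ :=
    exists_isAffineOpen_mem_and_subset (x := x) (U := f ⁻¹ᵁ U) hxU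
  have hUV : V ≤ f ⁻¹ᵁ U := hUV'
  have hft : (f.appLE U V hUV).hom.FiniteType := f.finiteType_appLE hU hV hUV
  letI := (f.appLE U V hUV).hom.toAlgebra
  haveI : Algebra.FiniteType Γ(Y, U) Γ(X, V) := hft
  obtain ⟨σ, hσ⟩ : ∃ σ : Γ(X, V) ⟶ CommRingCat.of Ω, γ = Spec.map σ ≫ hV.fromSpec := by
    have hr : Set.range γ ⊆ Set.range hV.fromSpec := by
      rw [hV.range_fromSpec]; exact range_SpecField_subset γ _ hxV
    exact ⟨Spec.preimage (IsOpenImmersion.lift hV.fromSpec γ hr),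
      by rw [Spec.map_preimage, IsOpenImmersion.lift_fac]⟩
  letI : Algebra Γ(Y, U) Ω := (σ.hom.comp (f.appLE U V hUV).hom).toAlgebra
  let s : Γ(X, V) →ₐ[Γ(Y, U)] Ω := { σ.hom with commutes' := fun _ => rfl }
  have hpt : Spec.map σ (IsLocalRing.closedPoint Ω) = hV.primeIdealOf ⟨x, hxV⟩ := by
    apply hV.fromSpec.isOpenEmbedding.injective
    rw [hV.fromSpec_primeIdealOf]
    show (Spec.map σ ≫ hV.fromSpec) _ = x
    rw [← hσ]
  have hker : RingHom.ker (s : Γ(X, V) →+* Ω) = (hV.primeIdealOf ⟨x, hxV⟩).asIdeal := by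
    rw [← hpt]
    show _ = (IsLocalRing.maximalIdeal Ω).comap σ.hom
    rw [IsLocalRing.maximalIdeal_eq_bot]
    rfl
  obtain ⟨R', _, _, _, r, e, -, hfin, he, huniq⟩ := EGP.exists_etale_isolated_geomPoint s (by
    have h := hγ.quasiFiniteAt hV hU hUV hxV
    haveI := RingHom.ker_isPrime (s : Γ(X, V) →+* Ω)
    show Algebra.QuasiFiniteAt Γ(Y, U) (RingHom.ker (s : Γ(X, V) →+* Ω))
    convert h using 1)
  let φ : Γ(Y, U) ⟶ CommRingCat.of R' := CommRingCat.ofHom (algebraMap Γ(Y, U) R')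
  haveI : Etale (Spec.map φ) := HasRingHomProperty.Spec_iff.mpr (RingHom.etale_algebraMap.mpr ‹_›)
  let g : Spec (CommRingCat.of R') ⟶ Y := Spec.map φ ≫ hU.fromSpec
  let e₁ : Spec (CommRingCat.of (R' ⊗[Γ(Y, U)] Γ(X, V))) ≅
      pullback (Spec.map (f.appLE U V hUV)) (Spec.map φ) :=
    (pullbackSpecIso _ _ _).symm ≪≫ pullbackSymmetry _ _
  have he₁f : e₁.hom ≫ pullback.fst _ _ =
      Spec.map (CommRingCat.ofHom Algebra.TensorProduct.includeRight.toRingHom) := by
    show ((pullbackSpecIso _ _ _).symm ≪≫ pullbackSymmetry _ _).hom ≫ _ = _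
    rw [Iso.trans_hom, Category.assoc]
    erw [pullbackSymmetry_hom_comp_fst]
    exact pullbackSpecIso_inv_snd ..
  have he₁s : e₁.hom ≫ pullback.snd _ _ =
      Spec.map (CommRingCat.ofHom (algebraMap R' (R' ⊗[Γ(Y, U)] Γ(X, V)))) := by
    show ((pullbackSpecIso _ _ _).symm ≪≫ pullbackSymmetry _ _).hom ≫ _ = _
    rw [Iso.trans_hom, Category.assoc]
    erw [pullbackSymmetry_hom_comp_snd]
    exact pullbackSpecIso_inv_fst ..
  let j : Spec (CommRingCat.of (R' ⊗[Γ(Y, U)] Γ(X, V))) ⟶ pullback f g :=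
    e₁.hom ≫ pullback.map _ _ _ _ hV.fromSpec (𝟙 _) hU.fromSpec
      (IsAffineOpen.SpecMap_appLE_fromSpec ..) (by simp [g])
  have hjf : j ≫ pullback.fst f g =
      Spec.map (CommRingCat.ofHom Algebra.TensorProduct.includeRight.toRingHom) ≫ hV.fromSpec := by
    simp only [j, Category.assoc]
    erw [pullback.lift_fst]
    rw [← Category.assoc, he₁f]
  have hjs : j ≫ pullback.snd f g =
      Spec.map (CommRingCat.ofHom (algebraMap R' (R' ⊗[Γ(Y, U)] Γ(X, V)))) := by
    simp only [j, Category.assoc]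
    erw [pullback.lift_snd, Category.comp_id]
    exact he₁s
  let loc : Spec (CommRingCat.of (Localization.Away e)) ⟶
      Spec (CommRingCat.of (R' ⊗[Γ(Y, U)] Γ(X, V))) :=
    Spec.map (CommRingCat.ofHom (algebraMap _ _))
  haveI : IsOpenImmersion loc := .of_isLocalization e
  haveI : IsOpenImmersion j := inferInstance
  let ι := loc ≫ j
  have hιs : ι ≫ pullback.snd f g =
      Spec.map (CommRingCat.ofHom (algebraMap R' (Localization.Away e))) := by
    rw [Category.assoc, hjs, ← Spec.map_comp]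
    rfl
  let t := Algebra.TensorProduct.lift r s fun _ _ => .all _ _
  let ψ : Localization.Away e →+* Ω :=
    IsLocalization.Away.lift e (g := t.toRingHom) (isUnit_iff_ne_zero.mpr he)
  have hψ : ∀ z, ψ (algebraMap _ _ z) = t z := fun z => IsLocalization.Away.lift_eq _ _ z
  let v := Spec.map (CommRingCat.ofHom r.toRingHom)
  let δ₀ := Spec.map (CommRingCat.ofHom ψ)
  have hδf : δ₀ ≫ ι ≫ pullback.fst f g = γ := by
    rw [Category.assoc, hjf, hσ, ← Category.assoc loc, ← Category.assoc, ← Spec.map_comp,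
      ← Spec.map_comp]
    congr 2
    refine CommRingCat.hom_ext (RingHom.ext fun z => ?_)
    simp [hψ, t, s]
  have hδs : δ₀ ≫ ι ≫ pullback.snd f g = v := by
    rw [hιs, ← Spec.map_comp]
    congr 1
    refine CommRingCat.hom_ext (RingHom.ext fun z => ?_)
    rw [CommRingCat.hom_comp, CommRingCat.hom_ofHom, CommRingCat.hom_ofHom, RingHom.comp_apply,
      IsScalarTower.algebraMap_apply R' (R' ⊗[Γ(Y, U)] Γ(X, V)) (Localization.Away e), hψ]
    simp [t]
  have huniq₀ : ∀ δ', δ' ≫ ι ≫ pullback.snd f g = v → δ' = δ₀ := by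
    intro δ' hδ'
    obtain ⟨ψ', rfl⟩ := Spec.map_surjective δ'
    rw [hιs, ← Spec.map_comp, Spec.map_inj] at hδ'
    have hr : ∀ z, ψ'.hom (algebraMap _ _ (z ⊗ₜ[Γ(Y, U)] (1 : Γ(X, V)))) = r z := fun z =>
      congr($hδ' z)
    let s' : Γ(X, V) →ₐ[Γ(Y, U)] Ω :=
      { ψ'.hom.comp ((algebraMap _ (Localization.Away e)).comp
          (Algebra.TensorProduct.includeRight : Γ(X, V) →ₐ[Γ(Y, U)] R' ⊗[Γ(Y, U)] Γ(X, V)).toRingHom) with
        commutes' := fun a => by
          show ψ'.hom (algebraMap _ _ ((1 : R') ⊗ₜ[Γ(Y, U)] algebraMap Γ(Y, U) Γ(X, V) a)) = _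
          rw [← Algebra.TensorProduct.algebraMap_apply', Algebra.TensorProduct.algebraMap_apply,
            hr, AlgHom.commutes] }
    have hall : ∀ z, ψ'.hom (algebraMap _ _ z) =
        Algebra.TensorProduct.lift r s' (fun _ _ => .all _ _) z := by
      intro z
      induction z using TensorProduct.induction_on with
      | zero => simp
      | add a b ha hb => rw [map_add, map_add, map_add, ha, hb]
      | tmul a b =>
        rw [show a ⊗ₜ[Γ(Y, U)] b = (a ⊗ₜ 1) * (1 ⊗ₜ b) by simp, map_mul, map_mul, map_mul, hr]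
        simp [s', ← Algebra.TensorProduct.one_def]
    have hs' : s' = s := huniq s' (by
      rw [← hall]
      exact ((IsLocalization.Away.algebraMap_isUnit e).map ψ'.hom).ne_zero)
    rw [Spec.map_inj]
    refine CommRingCat.hom_ext (IsLocalization.ringHom_ext (Submonoid.powers e)
      (RingHom.ext fun z => ?_))
    show ψ'.hom (algebraMap _ _ z) = ψ (algebraMap _ _ z)
    rw [hall, hs', hψ]
  refine ⟨Spec (CommRingCat.of R'), g, v, ι.opensRange, δ₀ ≫ ι.isoOpensRange.hom, inferInstance,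
    ?_, ?_, ?_, ?_, fun δ' hδ' => ?_⟩
  · rw [← hδs, ← hδf]
    simp only [Category.assoc, pullback.condition]
  · haveI : IsFinite (ι ≫ pullback.snd f g) := by
      rw [hιs, IsFinite.SpecMap_iff]
      exact RingHom.finite_algebraMap.mpr hfin
    rw [← Scheme.Hom.isoOpensRange_inv_comp ι, Category.assoc]
    infer_instance
  · rw [Category.assoc, ← Category.assoc ι.isoOpensRange.hom, Scheme.Hom.isoOpensRange_hom_ι, hδf]
  · rw [Category.assoc, ← Category.assoc ι.isoOpensRange.hom, Scheme.Hom.isoOpensRange_hom_ι, hδs]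
  · rw [← Iso.comp_inv_eq]
    refine huniq₀ _ ?_
    rw [Category.assoc, ← Category.assoc ι.isoOpensRange.inv, Scheme.Hom.isoOpensRange_inv_comp, hδ']

end Groth.Agent.MorLib.GL
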