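import Mathlib

/-! Flatness of projections from limits of schemes. -/

set_option autoImplicit false
universe u

namespace Groth.Agent.MorLib.LimFlat

open AlgebraicGeometry CategoryTheory Limits TopologicalSpace

variable {I : Type u} [SmallCategory I] [IsCofiltered I] {D : I ⥤ Scheme.{u}} {c : Cone D}
  (hc : IsLimit c)
include hc

theorem flat_π_of_isAffine [∀ j, IsAffine (D.obj j)] (i : I)
    (hf : ∀ (j : I) (φ : j ⟶ i), Flat (D.map φ)) : ((c.π.app i).appTop).hom.Flat := by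
  classical
  letI : Algebra Γ(D.obj i, ⊤) Γ(c.pt, ⊤) := (c.π.app i).appTop.hom.toAlgebra
  show Module.Flat Γ(D.obj i, ⊤) Γ(c.pt, ⊤)
  rw [Module.Flat.iff_forall_isTrivialRelation]
  intro l f x hfx
  choose j t ht using fun a => exists_appTop_π_eq_of_isAffine_of_isLimit D c hc (x a)
  obtain ⟨k, hk⟩ := IsCofiltered.inf_objs_exists (insert i (Finset.univ.image j))
  let φ : k ⟶ i := (hk (Finset.mem_insert_self i _)).some
  let p : ∀ a, k ⟶ j a := fun a =>
    (hk (Finset.mem_insert_of_mem (Finset.mem_image_of_mem j (Finset.mem_univ a)))).some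
  let x' : Fin l → Γ(D.obj k, ⊤) := fun a => (D.map (p a)).appTop (t a)
  have hπ : ∀ {a b : I} (q : a ⟶ b) (z : Γ(D.obj b, ⊤)),
      (c.π.app a).appTop ((D.map q).appTop z) = (c.π.app b).appTop z := fun {a b} q z => by
    rw [← c.w q]; rfl
  have hx' : ∀ a, (c.π.app k).appTop (x' a) = x a := fun a => (hπ (p a) (t a)).trans (ht a)
  let s : Γ(D.obj k, ⊤) := ∑ a, (D.map φ).appTop (f a) * x' a
  have hs : (c.π.app k).appTop s = 0 := by
    refine Eq.trans ?_ hfx
    refine (map_sum _ _ _).trans (Finset.sum_congr rfl fun a _ => ?_)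
    rw [map_mul, hπ, hx', Algebra.smul_def]
    rfl
  obtain ⟨m, q, hq⟩ := exists_appTop_map_eq_zero_of_isAffine_of_isLimit D c hc k s hs
  haveI := hf m (q ≫ φ)
  have hflat : (D.map (q ≫ φ)).appTop.hom.Flat :=
    HasRingHomProperty.appTop (P := @Flat) _ inferInstance
  letI : Algebra Γ(D.obj i, ⊤) Γ(D.obj m, ⊤) := (D.map (q ≫ φ)).appTop.hom.toAlgebra
  haveI : Module.Flat Γ(D.obj i, ⊤) Γ(D.obj m, ⊤) := hflat
  have hrel : ∑ a, f a • (D.map q).appTop (x' a) = 0 := by
    refine Eq.trans ?_ hq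
    refine Eq.trans ?_ (map_sum _ _ _).symm
    refine Finset.sum_congr rfl fun a _ => ?_
    rw [map_mul, Algebra.smul_def]
    congr 1
    show (D.map (q ≫ φ)).appTop (f a) = _
    rw [D.map_comp]; rfl
  obtain ⟨N, A, y, hy, hA⟩ := Module.Flat.isTrivialRelation_of_sum_smul_eq_zero (R := Γ(D.obj i, ⊤)) (M := Γ(D.obj m, ⊤)) hrel
  refine ⟨N, A, fun b => (c.π.app m).appTop (y b), fun a => ?_, hA⟩
  rw [← hx' a, ← hπ q, show (D.map q).appTop (x' a) = _ from hy a]
  refine (map_sum _ _ _).trans (Finset.sum_congr rfl fun b _ => ?_)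
  rw [Algebra.smul_def, map_mul, Algebra.smul_def]
  congr 1
  exact hπ (q ≫ φ) (A a b)

theorem flat_π [∀ {j k : I} (f : j ⟶ k), IsAffineHom (D.map f)] (i : I)
    (hf : ∀ (j : I) (φ : j ⟶ i), Flat (D.map φ)) : Flat (c.π.app i) := by
  haveI := isAffineHom_π_app D c hc i
  refine IsZariskiLocalAtTarget.of_iSup_eq_top (fun V : (D.obj i).affineOpens => (V : (D.obj i).Opens))
    (iSup_affineOpens_eq_top _) fun V => ?_
  haveI : ∀ j, IsAffine ((opensDiagram D i V.1).obj j) := fun j => V.2.preimage (D.map j.hom)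
  haveI : IsAffine (opensCone D c i V.1).pt := V.2.preimage (c.π.app i)
  let T : Over i := Over.mk (𝟙 i)
  have h := flat_π_of_isAffine (isLimitOpensCone D c hc i V.1) T fun j ψ => by
    haveI := hf j.left ψ.left
    exact inferInstanceAs (Flat ((D.map ψ.left).resLE _ _ _))
  have h' : Flat ((opensCone D c i V.1).π.app T) :=
    (HasRingHomProperty.iff_of_isAffine (P := @Flat) (X := (opensCone D c i V.1).pt)).mpr h
  have hle : D.map T.hom ⁻¹ᵁ V.1 = V.1 := by
    show D.map (𝟙 i) ⁻¹ᵁ V.1 = V.1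
    rw [D.map_id]; rfl
  have e : (c.π.app i) ∣_ V.1 = (c.π.app i).resLE (D.map T.hom ⁻¹ᵁ V.1)
      (c.π.app i ⁻¹ᵁ V.1) (by rw [hle]) ≫ ((D.obj i).isoOfEq hle).hom := by
    rw [← cancel_mono V.1.ι]
    simp
  rw [e]
  exact (MorphismProperty.cancel_right_of_respectsIso @Flat _ _).mpr h'

end Groth.Agent.MorLib.LimFlat
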