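import Groth.Agent.MorLib.LimPro
import Groth.Agent.MorLib.LimFlat

/-! Closures in flat limits of schemes. -/

set_option autoImplicit false
universe u

namespace Groth.Agent.MorLib.LimClosure

open AlgebraicGeometry CategoryTheory Limits TopologicalSpace Topology

theorem preimage_closure {X Y : Scheme.{u}} (f : X ⟶ Y) [Flat f] {Z : Set Y}
    (hZ : ProCons.IsProConstructible Z) : f ⁻¹' closure Z = closure (f ⁻¹' Z) := by
  refine Set.Subset.antisymm (fun x hx => ?_) (f.continuous.closure_preimage_subset Z)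
  obtain ⟨z, hz, hzx⟩ := ProConsLib.exists_specializes_of_mem_closure hZ hx
  obtain ⟨w, hw, rfl⟩ := Flat.generalizingMap f hzx
  exact closure_mono (Set.singleton_subset_iff.mpr (show w ∈ f ⁻¹' Z from hz))
    (specializes_iff_mem_closure.mp hw)

variable {I : Type u} [SmallCategory I] [IsCofiltered I] {D : I ⥤ Scheme.{u}} {c : Cone D}
  (hc : IsLimit c) [∀ {i j : I} (f : i ⟶ j), IsAffineHom (D.map f)]
include hc

theorem subset_closure_iff (i : I) [CompactSpace (D.obj i)] (hfl : ∀ (j : I) (φ : j ⟶ i), Flat (D.map φ))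
    {Z Z' : Set (D.obj i)} (hZ : ProCons.IsProConstructible Z) (hZ' : ProCons.IsProConstructible Z')
    (hcl : IsConstructible (closure Z)) :
    (c.π.app i ⁻¹' Z' : Set c.pt) ⊆ closure (c.π.app i ⁻¹' Z : Set c.pt) ↔
      ∃ (j : I) (φ : j ⟶ i), D.map φ ⁻¹' Z' ⊆ closure (D.map φ ⁻¹' Z) := by
  haveI := LimFlat.flat_π hc i hfl
  rw [show closure (c.π.app i ⁻¹' Z : Set c.pt) = c.π.app i ⁻¹' closure Z from
    (preimage_closure (c.π.app i) hZ).symm]
  have e : ∀ {j : I} (φ : j ⟶ i), closure (D.map φ ⁻¹' Z) = D.map φ ⁻¹' closure Z := fun φ => by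
    haveI := hfl _ φ
    exact (preimage_closure _ hZ).symm
  simp only [e]
  constructor
  · exact LimPro.exists_subset hc i hZ' (EGA41Lib.lc_iff.mp hcl.isLocallyConstructible).1
  · rintro ⟨j, φ, h⟩ s hs
    have h' : D.map φ (c.π.app j s) ∈ closure Z := h (show D.map φ (c.π.app j s) ∈ Z' by
      rwa [← Scheme.Hom.comp_apply, c.w])
    rwa [← Scheme.Hom.comp_apply, c.w] at h'

end Groth.Agent.MorLib.LimClosure
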