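import Groth.Agent.MorLib.LimTop
import Groth.Agent.MorLib.LimPoints

/-! Irreducible and connected components of a Noetherian limit with dominant affine transition maps. -/

set_option autoImplicit false

universe u

namespace Groth.Agent.MorLib.LimComp

open AlgebraicGeometry CategoryTheory Limits TopologicalSpace

variable {I : Type u} [SmallCategory I] [IsCofiltered I]

theorem eventually_forall {ι : Type*} [Finite ι] (P : ι → I → Prop)
    (hmono : ∀ k {i j : I} (_ : j ⟶ i), P k i → P k j) (h : ∀ k, ∃ i, P k i) (i₀ : I) :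
    ∃ i, Nonempty (i ⟶ i₀) ∧ ∀ k, P k i := by
  classical
  haveI := Fintype.ofFinite ι
  choose s hs using h
  obtain ⟨j, hj⟩ := IsCofiltered.inf_objs_exists (insert i₀ (Finset.univ.image s))
  refine ⟨j, hj (Finset.mem_insert_self _ _), fun k => ?_⟩
  exact hmono k (hj (Finset.mem_insert_of_mem (Finset.mem_image_of_mem s (Finset.mem_univ k)))).some (hs k)

variable {D : I ⥤ Scheme.{u}} {c : Cone D}
  (hc : IsLimit c) [∀ {i j : I} (f : i ⟶ j), IsAffineHom (D.map f)]
include hc

theorem iUnion_closure_image (hd : ∀ (i j : I) (φ : i ⟶ j), IsDominant (D.map φ)) (j : I)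
    {ι : Type*} [Finite ι] (Y : ι → Set c.pt) (hY : (⋃ k, Y k) = Set.univ) :
    (⋃ k, closure (c.π.app j '' Y k)) = Set.univ := by
  rw [← closure_iUnion_of_finite, ← Set.image_iUnion, hY, Set.image_univ]
  exact ((LimPts.isDominant_π_iff hc).mpr fun k φ => hd k j φ).denseRange.closure_range

theorem bijOn_irreducibleComponents (i₀ : I) [NoetherianSpace c.pt]
    (hd : ∀ (i j : I) (φ : i ⟶ j), IsDominant (D.map φ)) :
    ∃ (i : I) (_ : i ⟶ i₀), ∀ (j : I) (_ : j ⟶ i),
      Set.BijOn (fun Y : Set c.pt => closure (⇑(c.π.app j) '' (Y : Set c.pt) : Set (D.obj j)))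
        (irreducibleComponents c.pt) (irreducibleComponents (D.obj j)) := by
  haveI : Finite (irreducibleComponents c.pt) :=
    NoetherianSpace.finite_irreducibleComponents.to_subtype
  let P : irreducibleComponents c.pt × irreducibleComponents c.pt → I → Prop := fun p i =>
    c.π.app i '' p.1.1 ⊆ closure (c.π.app i '' p.2.1) → p.1 = p.2
  have hmono : ∀ p {a b : I} (_ : b ⟶ a), P p a → P p b := fun p a b φ hPa hsub => hPa <| by
    rintro _ ⟨s, hs, rfl⟩
    rw [← LimTop.π_apply φ s]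
    have : c.π.app a '' p.2.1 = D.map φ '' (c.π.app b '' p.2.1) := by
      rw [Set.image_image]
      exact Set.image_congr fun t _ => (LimTop.π_apply φ t).symm
    rw [this]
    exact image_closure_subset_closure_image (D.map φ).continuous ⟨_, hsub ⟨s, hs, rfl⟩, rfl⟩
  have hex : ∀ p, ∃ a, P p a := fun p => by
    by_cases hp : p.1 = p.2
    · exact ⟨i₀, fun _ => hp⟩
    obtain ⟨y, hy1, hy2⟩ : ∃ y, y ∈ p.1.1 ∧ y ∉ p.2.1 := Set.not_subset.mp fun h =>
      hp (Subtype.ext (h.antisymm (p.1.2.2 p.2.2.1 h)))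
    obtain ⟨i, -, V, -, hyV, hV⟩ := LimTop.exists_basic hc i₀
      (isClosed_of_mem_irreducibleComponents _ p.2.2).isOpen_compl hy2
    refine ⟨i, fun hsub => absurd (hsub ⟨y, hy1, rfl⟩) fun hcl => ?_⟩
    obtain ⟨_, hzV, z, hz, rfl⟩ := mem_closure_iff.mp hcl V V.2 hyV
    exact hV hzV hz
  obtain ⟨i, ⟨φ₀⟩, hi⟩ := eventually_forall P hmono hex i₀
  refine ⟨i, φ₀, fun j φ => ?_⟩
  let F : Set c.pt → Set (D.obj j) := fun Y => closure (c.π.app j '' Y)
  have hinj : ∀ Y ∈ irreducibleComponents c.pt, ∀ Z ∈ irreducibleComponents c.pt,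
      F Y ⊆ F Z → Y = Z := fun Y hY Z hZ h => by
    refine congrArg Subtype.val (hi (⟨Y, hY⟩, ⟨Z, hZ⟩) ?_)
    rintro _ ⟨s, hs, rfl⟩
    rw [← LimTop.π_apply φ s]
    have : c.π.app i '' Z = D.map φ '' (c.π.app j '' Z) := by
      rw [Set.image_image]
      exact Set.image_congr fun t _ => (LimTop.π_apply φ t).symm
    rw [show ((⟨Y, hY⟩, ⟨Z, hZ⟩) : irreducibleComponents c.pt × irreducibleComponents c.pt).2.1 = Z from rfl,
      this]
    exact image_closure_subset_closure_image (D.map φ).continuous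
      ⟨_, h (subset_closure ⟨s, hs, rfl⟩), rfl⟩
  have hirr : ∀ Y ∈ irreducibleComponents c.pt, IsIrreducible (F Y) := fun Y hY =>
    (hY.1.image _ (c.π.app j).continuous.continuousOn).closure
  have hcov := iUnion_closure_image hc hd j (fun k : irreducibleComponents c.pt => k.1)
    (by rw [← Set.sUnion_eq_iUnion, sUnion_irreducibleComponents])
  have hsub : ∀ W : Set (D.obj j), IsIrreducible W → ∃ Y ∈ irreducibleComponents c.pt, W ⊆ F Y := by
    intro W hW
    obtain ⟨T, hT, hWT⟩ := isIrreducible_iff_sUnion_isClosed.mp hW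
      (Set.finite_range fun k : irreducibleComponents c.pt => F k.1).toFinset
      (fun T hT => by
        obtain ⟨k, rfl⟩ := (Set.Finite.mem_toFinset _).mp hT
        exact isClosed_closure)
      (by rw [Set.Finite.coe_toFinset, Set.sUnion_range]; exact hcov.symm ▸ Set.subset_univ _)
    obtain ⟨k, rfl⟩ := (Set.Finite.mem_toFinset _).mp hT
    exact ⟨k.1, k.2, hWT⟩
  refine ⟨fun Y hY => ⟨hirr Y hY, fun W hW hYW => ?_⟩, fun Y hY Z hZ h => hinj Y hY Z hZ h.le,
    fun W hW => ?_⟩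
  · obtain ⟨Z, hZ, hWZ⟩ := hsub W hW
    obtain rfl := hinj Y hY Z hZ (hYW.trans hWZ)
    exact hWZ
  · obtain ⟨Y, hY, hWY⟩ := hsub W hW.1
    exact ⟨Y, hY, (hWY.antisymm (hW.2 (hirr Y hY) hWY)).symm⟩

theorem bijOn_connectedComponents (i₀ : I) [CompactSpace (D.obj i₀)] [NoetherianSpace c.pt]
    (hd : ∀ (i j : I) (φ : i ⟶ j), IsDominant (D.map φ)) :
    ∃ (i : I) (_ : i ⟶ i₀), ∀ (j : I) (_ : j ⟶ i),
      Set.BijOn (fun C : Set c.pt => closure (⇑(c.π.app j) '' (C : Set c.pt) : Set (D.obj j)))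
        (Set.range (connectedComponent : c.pt → Set c.pt))
        (Set.range (connectedComponent : D.obj j → Set (D.obj j))) := by
  let Comp := Set.range (connectedComponent : c.pt → Set c.pt)
  haveI : Finite Comp := by
    refine (((NoetherianSpace.finite_irreducibleComponents (α := c.pt)).image
      fun Y => ⋃ y ∈ Y, connectedComponent y).subset ?_).to_subtype
    rintro _ ⟨x, rfl⟩
    refine ⟨irreducibleComponent x, irreducibleComponent_mem_irreducibleComponents x, ?_⟩
    refine subset_antisymm (Set.iUnion₂_subset fun y hy => ?_)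
      (Set.subset_biUnion_of_mem (u := fun y => connectedComponent y) mem_irreducibleComponent)
    rw [← connectedComponent_eq (irreducibleComponent_subset_connectedComponent hy)]
  have hopen : ∀ k : Comp, IsOpen k.1 := fun k => by
    have : k.1 = (⋃ l : {l : Comp // l ≠ k}, l.1.1)ᶜ := by
      obtain ⟨x, hx⟩ := k.2
      ext y
      simp only [Set.mem_compl_iff, Set.mem_iUnion, not_exists]
      constructor
      · rintro hy ⟨⟨_, z, rfl⟩, hne⟩ hyz
        refine hne (Subtype.ext ?_)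
        rw [← hx] at hy
        show connectedComponent z = k.1
        rw [← hx, connectedComponent_eq hy, connectedComponent_eq hyz]
      · intro h
        by_contra hy
        refine h ⟨⟨_, y, rfl⟩, fun e => hy ?_⟩ mem_connectedComponent
        rw [← e]; exact mem_connectedComponent
    rw [this]
    refine (isClosed_iUnion_of_finite fun l => ?_).isOpen_compl
    obtain ⟨x, hx⟩ := l.1.2
    rw [← hx]; exact isClosed_connectedComponent
  let P : Comp → I → Prop := fun k i =>
    ∃ A : (D.obj i).Opens, c.π.app i ⁻¹' (A : Set _) = k.1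
  obtain ⟨m, ⟨φm⟩, hm⟩ := eventually_forall P
    (fun k a b φ ⟨A, hA⟩ => ⟨D.map φ ⁻¹ᵁ A, by
      rw [← hA]; ext s
      show D.map φ (c.π.app b s) ∈ A ↔ c.π.app a s ∈ A
      rw [LimTop.π_apply]⟩)
    (fun k => by
      obtain ⟨a, A, -, hA⟩ := exists_preimage_eq D c hc ⟨k.1, hopen k⟩
        (NoetherianSpace.isCompact k.1)
      exact ⟨a, A, congrArg SetLike.coe hA⟩) i₀
  choose A hA using hm
  haveI : CompactSpace (D.obj m) := QuasiCompact.compactSpace_of_compactSpace (D.map φm)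
  obtain ⟨i, g, hg⟩ := exists_map_preimage_le_map_preimage D c hc (i := m) (U := ⊤) (V := ⨆ k, A k)
    isCompact_univ (fun s _ => Opens.mem_iSup.mpr ⟨⟨_, s, rfl⟩, by
      show s ∈ c.π.app m ⁻¹' (A ⟨_, s, rfl⟩ : Set _)
      rw [hA]; exact mem_connectedComponent⟩)
  refine ⟨i, g ≫ φm, fun j φ => ?_⟩
  let F : Set c.pt → Set (D.obj j) := fun C => closure (c.π.app j '' C)
  let U : Comp → (D.obj j).Opens := fun k => D.map (φ ≫ g) ⁻¹ᵁ A k
  have hUpre : ∀ k, c.π.app j ⁻¹' (U k : Set _) = k.1 := fun k => by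
    rw [← hA k]; ext s
    show D.map (φ ≫ g) (c.π.app j s) ∈ A k ↔ c.π.app m s ∈ A k
    rw [LimTop.π_apply]
  have hdis : ∀ k l x, x ∈ U k → x ∈ U l → k = l := fun k l x hk hl => by
    obtain ⟨_, ⟨hsk, hsl⟩, s, rfl⟩ := mem_closure_iff.mp
      (((LimPts.isDominant_π_iff hc).mpr fun k φ => hd k j φ).denseRange x)
      ((U k : Set _) ∩ U l) ((U k).2.inter (U l).2) ⟨hk, hl⟩
    have h1 : s ∈ c.π.app j ⁻¹' (U k : Set _) := hsk
    have h2 : s ∈ c.π.app j ⁻¹' (U l : Set _) := hsl
    rw [hUpre] at h1 h2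
    obtain ⟨_, x, rfl⟩ := k
    obtain ⟨_, y, rfl⟩ := l
    exact Subtype.ext ((connectedComponent_eq h1).trans (connectedComponent_eq h2).symm)
  have hcovU : ∀ x, ∃ k, x ∈ U k := fun x => by
    obtain ⟨k, hk⟩ := Opens.mem_iSup.mp
      (hg (show D.map φ x ∈ D.map g ⁻¹ᵁ (⊤ : (D.obj m).Opens) from trivial))
    refine ⟨k, ?_⟩
    show D.map (φ ≫ g) x ∈ A k
    rw [D.map_comp, Scheme.Hom.comp_apply]
    exact hk
  have hclosed : ∀ k, IsClosed (U k : Set (D.obj j)) := fun k => by
    have : ((U k : Set (D.obj j)))ᶜ = ⋃ l : {l : Comp // l ≠ k}, (U l.1 : Set _) := by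
      ext x
      refine ⟨fun hx => ?_, fun hx hk => ?_⟩
      · obtain ⟨l, hl⟩ := hcovU x
        exact Set.mem_iUnion.mpr ⟨⟨l, fun e => hx (e ▸ hl)⟩, hl⟩
      · obtain ⟨l, hl⟩ := Set.mem_iUnion.mp hx
        exact l.2 (hdis _ _ x hl hk)
    rw [← isOpen_compl_iff, this]
    exact isOpen_iUnion fun l => (U l.1).2
  have hne : ∀ k : Comp, k.1.Nonempty := by
    rintro ⟨_, x, rfl⟩; exact ⟨x, mem_connectedComponent⟩
  have hFU : ∀ k : Comp, F k.1 = U k := fun k => by
    refine subset_antisymm ((hclosed k).closure_subset_iff.mpr ?_) fun x hx => ?_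
    · rw [Set.image_subset_iff, hUpre]
    obtain ⟨l, hl⟩ := Set.mem_iUnion.mp ((iUnion_closure_image hc hd j (fun l : Comp => l.1)
      (Set.eq_univ_of_forall fun s => Set.mem_iUnion.mpr
        ⟨⟨_, s, rfl⟩, mem_connectedComponent⟩)).symm ▸ Set.mem_univ x)
    have hlU : x ∈ U l := ((hclosed l).closure_subset_iff.mpr
      (by rw [Set.image_subset_iff, hUpre])) hl
    rwa [← hdis l k x hlU hx]
  have hconn : ∀ (k : Comp) x, x ∈ U k → connectedComponent x = F k.1 := fun k x hx => by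
    refine subset_antisymm ?_ ?_
    · rw [hFU]; exact IsClopen.connectedComponent_subset ⟨hclosed k, (U k).2⟩ hx
    · refine IsPreconnected.subset_connectedComponent ?_ (by rw [hFU]; exact hx)
      obtain ⟨_, y, rfl⟩ := k
      exact (isPreconnected_connectedComponent.image _ (c.π.app j).continuous.continuousOn).closure
  refine ⟨?_, ?_, ?_⟩
  · rintro _ ⟨y, rfl⟩
    refine ⟨c.π.app j y, hconn ⟨_, y, rfl⟩ _ ?_⟩
    show y ∈ c.π.app j ⁻¹' (U ⟨_, y, rfl⟩ : Set _)
    rw [hUpre]; exact mem_connectedComponent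
  · intro C hC C' hC' h
    obtain ⟨s, hs⟩ := hne ⟨C, hC⟩
    refine congrArg Subtype.val (hdis ⟨C, hC⟩ ⟨C', hC'⟩ (c.π.app j s) ?_ ?_)
    · show s ∈ c.π.app j ⁻¹' (U ⟨C, hC⟩ : Set _)
      rw [hUpre]; exact hs
    · show c.π.app j s ∈ (U ⟨C', hC'⟩ : Set (D.obj j))
      rw [← hFU]
      show c.π.app j s ∈ closure (c.π.app j '' C')
      rw [← show closure (c.π.app j '' C) = closure (c.π.app j '' C') from h]
      exact subset_closure ⟨s, hs, rfl⟩
  · rintro _ ⟨x, rfl⟩
    obtain ⟨k, hk⟩ := hcovU x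
    exact ⟨k.1, k.2, (hconn k x hk).symm⟩

end Groth.Agent.MorLib.LimComp
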