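import Groth.Agent.MorLib.LimComp

/-! Limits with topological embeddings as transition maps are eventually dominant. -/

set_option autoImplicit false

universe u

namespace Groth.Agent.MorLib.LimComp

open AlgebraicGeometry CategoryTheory Limits TopologicalSpace

variable {I : Type u} [SmallCategory I] [IsCofiltered I] {D : I ⥤ Scheme.{u}} {c : Cone D}
  (hc : IsLimit c) [∀ {i j : I} (f : i ⟶ j), IsAffineHom (D.map f)]
include hc

theorem eventually_isDominant (i₀ : I) [NoetherianSpace (D.obj i₀)]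
    (he : ∀ (i j : I) (φ : i ⟶ j), Topology.IsEmbedding ⇑(D.map φ)) :
    ∃ (i : I) (_ : i ⟶ i₀), ∀ (a b : Over i) (g : a ⟶ b), IsDominant (D.map g.left) := by
  let U : (D.obj i₀).Opens := ⟨(closure (Set.range (c.π.app i₀)))ᶜ, isClosed_closure.isOpen_compl⟩
  obtain ⟨i, φ, hi⟩ := exists_map_preimage_le_map_preimage D c hc (i := i₀) (U := U) (V := ⊥)
    (NoetherianSpace.isCompact _) (fun s hs => (hs (subset_closure ⟨s, rfl⟩)).elim)
  refine ⟨i, φ, fun a b g => ?_⟩
  have hπ : ∀ k : Over i, DenseRange (c.π.app k.left) := fun k x => by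
    let e := D.map (k.hom ≫ φ)
    rw [(he _ _ (k.hom ≫ φ)).isInducing.closure_eq_preimage_closure_image]
    show e x ∈ closure (e '' Set.range (c.π.app k.left))
    have hr : e '' Set.range (c.π.app k.left) = Set.range (c.π.app i₀) := by
      rw [← Set.range_comp]
      exact congrArg Set.range (funext fun s => LimTop.π_apply (k.hom ≫ φ) s)
    rw [hr]
    by_contra hx
    have hm : D.map k.hom x ∈ D.map φ ⁻¹ᵁ U := by
      show D.map φ (D.map k.hom x) ∈ U
      rw [← Scheme.Hom.comp_apply, ← D.map_comp]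
      exact hx
    exact hi hm
  constructor
  refine (hπ b).mono ?_
  rintro _ ⟨s, rfl⟩
  exact ⟨c.π.app a.left s, LimTop.π_apply g.left s⟩

theorem bijOn_irreducibleComponents_of_isEmbedding (i₀ : I) [NoetherianSpace (D.obj i₀)]
    [NoetherianSpace c.pt]
    (he : ∀ (i j : I) (φ : i ⟶ j), Topology.IsEmbedding ⇑(D.map φ)) :
    ∃ (i : I) (_ : i ⟶ i₀), ∀ (j : I) (_ : j ⟶ i),
      Set.BijOn (fun Y : Set c.pt => closure (⇑(c.π.app j) '' (Y : Set c.pt) : Set (D.obj j)))
        (irreducibleComponents c.pt) (irreducibleComponents (D.obj j)) := by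
  obtain ⟨i, φ, hd⟩ := eventually_isDominant hc i₀ he
  haveI : ∀ {a b : Over i} (f : a ⟶ b), IsAffineHom ((Over.forget i ⋙ D).map f) := fun f =>
    inferInstanceAs (IsAffineHom (D.map f.left))
  haveI : NoetherianSpace (c.whisker (Over.forget i)).pt := ‹NoetherianSpace c.pt›
  obtain ⟨i', -, h⟩ := bijOn_irreducibleComponents
    ((Functor.Initial.isLimitWhiskerEquiv (Over.forget i) c).symm hc) (Over.mk (𝟙 i))
    (fun a b g => hd a b g)
  exact ⟨i'.left, i'.hom ≫ φ, fun j ψ => h (Over.mk (ψ ≫ i'.hom)) (Over.homMk ψ rfl)⟩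

theorem bijOn_connectedComponents_of_isEmbedding (i₀ : I) [NoetherianSpace (D.obj i₀)]
    [NoetherianSpace c.pt]
    (he : ∀ (i j : I) (φ : i ⟶ j), Topology.IsEmbedding ⇑(D.map φ)) :
    ∃ (i : I) (_ : i ⟶ i₀), ∀ (j : I) (_ : j ⟶ i),
      Set.BijOn (fun C : Set c.pt => closure (⇑(c.π.app j) '' (C : Set c.pt) : Set (D.obj j)))
        (Set.range (connectedComponent : c.pt → Set c.pt))
        (Set.range (connectedComponent : D.obj j → Set (D.obj j))) := by
  obtain ⟨i, φ, hd⟩ := eventually_isDominant hc i₀ he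
  haveI : ∀ {a b : Over i} (f : a ⟶ b), IsAffineHom ((Over.forget i ⋙ D).map f) := fun f =>
    inferInstanceAs (IsAffineHom (D.map f.left))
  haveI : NoetherianSpace (c.whisker (Over.forget i)).pt := ‹NoetherianSpace c.pt›
  haveI : CompactSpace ((Over.forget i ⋙ D).obj (Over.mk (𝟙 i))) :=
    show CompactSpace (D.obj i) from QuasiCompact.compactSpace_of_compactSpace (D.map φ)
  obtain ⟨i', -, h⟩ := bijOn_connectedComponents
    ((Functor.Initial.isLimitWhiskerEquiv (Over.forget i) c).symm hc) (Over.mk (𝟙 i))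
    (fun a b g => hd a b g)
  exact ⟨i'.left, i'.hom ≫ φ, fun j ψ => h (Over.mk (ψ ≫ i'.hom)) (Over.homMk ψ rfl)⟩

end Groth.Agent.MorLib.LimComp
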