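import Groth.Agent.MorLib.ProjLocal
import Groth.Agent.QCoh.Localize
import Mathlib.RingTheory.Localization.BaseChange
import Mathlib.Algebra.Module.LocalizedModule.Away

/-! Local projectivity of quasi-coherent modules. -/

set_option autoImplicit false
universe u

namespace Groth.Agent.MorLib

open AlgebraicGeometry CategoryTheory TensorProduct TopologicalSpace

theorem projective_tensor_of_tower {R S T : Type u} [CommRing R] [CommRing S] [CommRing T]
    [Algebra R S] [Algebra R T] [Algebra S T] [IsScalarTower R S T] (Q : Type u) [AddCommGroup Q]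
    [Module R Q] [Module.Projective S (S ⊗[R] Q)] : Module.Projective T (T ⊗[R] Q) :=
  Module.Projective.of_equiv (AlgebraTensorModule.cancelBaseChange R S T T Q)

variable {X : Scheme.{u}} {F : X.Modules}

theorem projective_basicOpen_iff (hF : Coh.IsQCoh F) {U : X.Opens} (hU : IsAffineOpen U)
    (f : Γ(X, U)) :
    Module.Projective Γ(X, X.basicOpen f) Γ(F, X.basicOpen f) ↔
      Module.Projective (Localization.Away f) (Localization.Away f ⊗[Γ(X, U)] Γ(F, U)) := by
  let Rf := Γ(X, X.basicOpen f)
  let rres := X.presheaf.map (homOfLE (X.basicOpen_le f)).op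
  let : Algebra Γ(X, U) Rf := rres.hom.toAlgebra
  have : IsLocalization.Away f Rf := hU.isLocalization_basicOpen f
  let : Module Γ(X, U) Γ(F, X.basicOpen f) := Module.compHom _ rres.hom
  have : IsScalarTower Γ(X, U) Rf Γ(F, X.basicOpen f) :=
    IsScalarTower.of_algebraMap_smul fun _ _ => rfl
  let l : Γ(F, U) →ₗ[Γ(X, U)] Γ(F, X.basicOpen f) :=
    { toFun := F.presheaf.map (homOfLE (X.basicOpen_le f)).op
      map_add' := map_add _
      map_smul' := fun r x => Groth.Agent.QCoh.map_smul' _ r x }
  have hl : IsLocalizedModule.Away f l := by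
    refine IsLocalizedModule.Away.mk_of_addCommGroup ?_ (fun s => ?_) fun t ht => ?_
    · rw [Module.End.isUnit_iff]
      obtain ⟨v, hv⟩ := IsLocalization.Away.algebraMap_isUnit (S := Rf) f
      refine ⟨fun a b h => ?_, fun a => ⟨(v⁻¹ : Rfˣ).val • a, ?_⟩⟩
      · have h' : (v : Rf) • a = (v : Rf) • b := by rw [hv]; exact h
        simpa [smul_smul] using congrArg ((v⁻¹ : Rfˣ).val • ·) h'
      · change algebraMap Γ(X, U) Rf f • (v⁻¹ : Rfˣ).val • a = a
        rw [← hv, smul_smul, Units.mul_inv, one_smul]
    · obtain ⟨n, t, ht⟩ := Groth.Agent.QCoh.exists_pow_smul_eq_map hF hU f s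
      refine ⟨n, t, ?_⟩
      change algebraMap Γ(X, U) Rf (f ^ n) • s = _
      rw [map_pow]
      exact ht.symm
    · exact Groth.Agent.QCoh.exists_pow_smul_eq_zero hF hU f t ht
  have e := ((isLocalizedModule_iff_isBaseChange (Submonoid.powers f) Rf l).mp hl).equiv
  let i := IsLocalization.algEquiv (Submonoid.powers f) Rf (Localization.Away f)
  constructor
  · intro h
    have : Module.Projective Rf (Rf ⊗[Γ(X, U)] Γ(F, U)) := Module.Projective.of_equiv e.symm
    let : Algebra Rf (Localization.Away f) := i.toAlgHom.toRingHom.toAlgebra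
    have : IsScalarTower Γ(X, U) Rf (Localization.Away f) :=
      IsScalarTower.of_algebraMap_eq fun r => (i.commutes r).symm
    exact projective_tensor_of_tower (S := Rf) _
  · intro h
    let : Algebra (Localization.Away f) Rf := i.symm.toAlgHom.toRingHom.toAlgebra
    have : IsScalarTower Γ(X, U) (Localization.Away f) Rf :=
      IsScalarTower.of_algebraMap_eq fun r => (i.symm.commutes r).symm
    have : Module.Projective Rf (Rf ⊗[Γ(X, U)] Γ(F, U)) :=
      projective_tensor_of_tower (S := Localization.Away f) _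
    exact Module.Projective.of_equiv e

theorem projective_sections_of_cover (hF : Coh.IsQCoh F) {I : Type u} (V : I → X.Opens)
    (hV : (⨆ i, V i) = ⊤) (hVa : ∀ i, IsAffineOpen (V i))
    (h : ∀ i, Module.Projective Γ(X, V i) Γ(F, V i)) {U : X.Opens} (hU : IsAffineOpen U) :
    Module.Projective Γ(X, U) Γ(F, U) := by
  let s : Set Γ(X, U) := {f | ∃ (i : I) (g : Γ(X, V i)), X.basicOpen f = X.basicOpen g}
  have hs : Ideal.span s = ⊤ := by
    rw [← hU.iSup_basicOpen_eq_self_iff]
    refine le_antisymm (iSup_le fun f => X.basicOpen_le _) fun x hx => ?_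
    obtain ⟨i, hi⟩ := Opens.mem_iSup.mp (hV.ge (trivial : x ∈ (⊤ : X.Opens)))
    obtain ⟨f, g, e, hxf⟩ := exists_basicOpen_le_affine_inter hU (hVa i) x ⟨hx, hi⟩
    exact Opens.mem_iSup.mpr ⟨⟨f, i, g, e⟩, hxf⟩
  refine projective_of_span _ s hs ?_
  rintro ⟨f, i, g, e⟩
  rw [← projective_basicOpen_iff hF hU f, e, projective_basicOpen_iff hF (hVa i) g]
  have := h i
  exact Module.Projective.tensorProduct

end Groth.Agent.MorLib
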