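import Mathlib.AlgebraicGeometry.Morphisms.QuasiSeparated

/-! Quasi-separatedness from an affine cover with quasi-compact pairwise intersections. -/

set_option autoImplicit false
universe u v

namespace Groth.Agent.MorLib

open AlgebraicGeometry CategoryTheory

theorem isCompact_inter_of_subset_affine {X : Scheme.{u}} {V : X.Opens} (hV : IsAffineOpen V)
    {B C : Set X} (hBo : IsOpen B) (hB : IsCompact B) (hBV : B ⊆ V) (hCo : IsOpen C)
    (hC : IsCompact ((V : Set X) ∩ C)) : IsCompact (B ∩ C) := by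
  have : B ∩ C = B ∩ ((V : Set X) ∩ C) := by
    ext z; exact ⟨fun h => ⟨h.1, hBV h.1, h.2⟩, fun h => ⟨h.1, h.2.2⟩⟩
  rw [this]
  exact hV.isQuasiSeparated B _ hBV hBo hB Set.inter_subset_left (V.isOpen.inter hCo) hC

theorem exists_compact_cover {X : Scheme.{u}} {κ : Type v} (V : κ → X.affineOpens) (A : X.Opens)
    (hA : ⨆ k, (V k : X.Opens) = A) {U : Set X} (hUo : IsOpen U) (hUc : IsCompact U)
    (hUA : U ⊆ A) :
    ∃ s : Set (X.affineOpens), s.Finite ∧ U = ⋃ B ∈ s, ((B : X.Opens) : Set X) ∧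
      ∀ B ∈ s, ∃ k, (B : X.Opens) ≤ (V k : X.Opens) := by
  have : ∀ x ∈ U, ∃ B : X.affineOpens, x ∈ (B : X.Opens) ∧ ((B : X.Opens) : Set X) ⊆ U ∧
      ∃ k, (B : X.Opens) ≤ (V k : X.Opens) := fun x hx => by
    obtain ⟨k, hk⟩ := TopologicalSpace.Opens.mem_iSup.mp (hA.ge (hUA hx))
    obtain ⟨_, ⟨B, hB, rfl⟩, hxB, hle⟩ := X.isBasis_affineOpens.exists_subset_of_mem_open
      (show x ∈ (V k : X.Opens).1 ∩ U from ⟨hk, hx⟩) ((V k : X.Opens).isOpen.inter hUo)
    exact ⟨⟨B, hB⟩, hxB, hle.trans Set.inter_subset_right, k, hle.trans Set.inter_subset_left⟩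
  choose B hxB hBU hBk using this
  obtain ⟨t, ht⟩ := hUc.elim_finite_subcover (fun x : U => ((B x x.2 : X.Opens) : Set X))
    (fun x => (B x x.2 : X.Opens).isOpen) (fun x hx => Set.mem_iUnion.mpr ⟨⟨x, hx⟩, hxB x hx⟩)
  refine ⟨(fun x : U => B x x.2) '' t, t.finite_toSet.image _, subset_antisymm ?_ ?_, ?_⟩
  · refine ht.trans ?_
    simp only [Set.iUnion_subset_iff, Finset.mem_coe]
    intro x hx z hz
    exact Set.mem_iUnion₂.mpr ⟨B x x.2, ⟨x, hx, rfl⟩, hz⟩
  · simp only [Set.iUnion_subset_iff]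
    rintro _ ⟨x, _, rfl⟩
    exact hBU x x.2
  · rintro _ ⟨x, _, rfl⟩
    exact hBk x x.2

theorem isQuasiSeparated_of_iSup {X : Scheme.{u}} {κ : Type v} (V : κ → X.affineOpens)
    (A : X.Opens) (hA : ⨆ k, (V k : X.Opens) = A)
    (hVV : ∀ j j', IsCompact ((V j : Set X) ∩ (V j' : Set X))) : IsQuasiSeparated (A : Set X) := by
  have key : ∀ (U : Set X) (j : κ), IsOpen U → IsCompact U → U ⊆ A →
      IsCompact (U ∩ (V j : Set X)) := by
    intro U j hUo hUc hUA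
    obtain ⟨s, hs, rfl, hk⟩ := exists_compact_cover V A hA hUo hUc hUA
    rw [Set.iUnion₂_inter]
    refine hs.isCompact_biUnion fun B hB => ?_
    obtain ⟨k, hk⟩ := hk B hB
    exact isCompact_inter_of_subset_affine (V k).2 B.1.isOpen B.2.isCompact hk (V j).1.isOpen
      (hVV k j)
  intro U U' hUA hUo hUc hUA' hUo' hUc'
  obtain ⟨s, hs, rfl, hk⟩ := exists_compact_cover V A hA hUo hUc hUA
  rw [Set.iUnion₂_inter]
  refine hs.isCompact_biUnion fun B hB => ?_
  obtain ⟨k, hk⟩ := hk B hB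
  refine isCompact_inter_of_subset_affine (V k).2 B.1.isOpen B.2.isCompact hk hUo' ?_
  rw [Set.inter_comm]
  exact key U' k hUo' hUc' hUA'

theorem quasiSeparated_of_affine_covers {X S : Scheme.{u}} (f : X ⟶ S) {ι : Type v}
    (W : ι → S.affineOpens) (hW : ⨆ i, (W i : S.Opens) = ⊤) {κ : ι → Type v}
    (V : ∀ i, κ i → X.affineOpens) (hV : ∀ i, ⨆ j, (V i j : X.Opens) = f ⁻¹ᵁ (W i : S.Opens))
    (hVV : ∀ i (j j' : κ i), IsCompact ((V i j : Set X) ∩ (V i j' : Set X))) :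
    QuasiSeparated f := by
  rw [HasAffineProperty.iff_of_iSup_eq_top (P := @QuasiSeparated) W hW]
  exact fun i => (isQuasiSeparated_iff_quasiSeparatedSpace _ (f ⁻¹ᵁ (W i).1).2).mp
    (isQuasiSeparated_of_iSup (V i) _ (hV i) (hVV i))

end Groth.Agent.MorLib
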