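import Mathlib

/-! The rank of the functions on a discrete scheme over a field bounds its number of points. -/

set_option autoImplicit false
universe u

namespace Groth.Agent.MorLib.RD

open AlgebraicGeometry CategoryTheory Limits TopologicalSpace Opposite

theorem exists_indicator {P : Scheme.{u}} [DiscreteTopology P] (x : P) :
    ∃ e : Γ(P, ⊤), ∀ (U : P.Opens) (y : P), (U : Set P) = {y} →
      (x = y → P.presheaf.map (homOfLE le_top).op e = (1 : Γ(P, U))) ∧
      (x ≠ y → P.presheaf.map (homOfLE le_top).op e = (0 : Γ(P, U))) := by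
  let A : P.Opens := ⟨{x}, isOpen_discrete _⟩
  let B : P.Opens := ⟨{x}ᶜ, isOpen_discrete _⟩
  let W : Bool → P.Opens := fun b => bif b then A else B
  let sf : ∀ b, Γ(P, W b) := fun b => match b with
    | true => 1
    | false => 0
  have hcov : (⊤ : P.Opens) ≤ iSup W := fun y _ => by
    by_cases h : y = x
    · exact Opens.mem_iSup.mpr ⟨true, h⟩
    · exact Opens.mem_iSup.mpr ⟨false, h⟩
  have hempty : W true ⊓ W false = ⊥ := Opens.ext (Set.inter_compl_self {x})
  have hcomp : TopCat.Presheaf.IsCompatible P.sheaf.1 W sf := by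
    intro i j
    cases i <;> cases j <;> try rfl
    · haveI : Subsingleton Γ(P, W false ⊓ W true) := by
        rw [inf_comm, hempty]; infer_instance
      exact Subsingleton.elim (α := Γ(P, W false ⊓ W true)) _ _
    · haveI : Subsingleton Γ(P, W true ⊓ W false) := by
        rw [hempty]; infer_instance
      exact Subsingleton.elim (α := Γ(P, W true ⊓ W false)) _ _
  obtain ⟨e', he', -⟩ := P.sheaf.existsUnique_gluing' W ⊤ (fun b => homOfLE le_top) hcov sf hcomp
  obtain ⟨e, he⟩ : ∃ e : Γ(P, ⊤), ∀ b, P.presheaf.map (homOfLE (le_top : W b ≤ ⊤)).op e = sf b :=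
    ⟨e', he'⟩
  refine ⟨e, fun U y hU => ⟨fun h => ?_, fun h => ?_⟩⟩
  · have hle : U ≤ W true := fun z hz => by rw [← SetLike.mem_coe, hU] at hz; exact hz.trans h.symm
    rw [show (homOfLE (le_top : U ≤ ⊤)).op = (homOfLE (le_top : W true ≤ ⊤)).op ≫ (homOfLE hle).op from rfl,
      P.presheaf.map_comp, CommRingCat.comp_apply]
    rw [he true]
    exact map_one _
  · have hle : U ≤ W false := fun z hz => by
      rw [← SetLike.mem_coe, hU] at hz
      exact fun hz' => h (hz'.symm.trans hz)
    rw [show (homOfLE (le_top : U ≤ ⊤)).op = (homOfLE (le_top : W false ≤ ⊤)).op ≫ (homOfLE hle).op from rfl,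
      P.presheaf.map_comp, CommRingCat.comp_apply]
    rw [he false]
    exact map_zero _

/-- The number of points of a discrete scheme over a field is at most the rank of its functions. -/
theorem card_le_rank {P : Scheme.{u}} [DiscreteTopology P] (K : Type u) [Field K]
    (φ : CommRingCat.of K ⟶ Γ(P, ⊤)) (F : Finset P) :
    (F.card : Cardinal.{u}) ≤ (letI := φ.hom.toAlgebra; Module.rank K (Γ(P, ⊤) : Type u)) := by
  classical
  letI := φ.hom.toAlgebra
  choose e he using fun x : P => exists_indicator x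
  have hli : LinearIndependent K fun x : F => (e x.1 : Γ(P, ⊤)) := by
    rw [Fintype.linearIndependent_iff]
    intro c hc y
    let U : P.Opens := ⟨{y.1}, isOpen_discrete _⟩
    let r : Γ(P, ⊤) →+* Γ(P, U) := (P.presheaf.map (homOfLE (le_top : U ≤ ⊤)).op).hom
    haveI : Nonempty U := ⟨⟨y.1, rfl⟩⟩
    have h1 : ∑ x : F, r (φ.hom (c x)) * r (e x.1) = 0 := by
      rw [← map_zero r, ← hc, map_sum]
      exact Finset.sum_congr rfl fun x _ => by rw [Algebra.smul_def, map_mul]; rfl
    rw [Finset.sum_eq_single y (fun x _ hxy => by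
        rw [show r (e x.1) = 0 from (he x.1 U y.1 rfl).2 fun h => hxy (Subtype.ext h), mul_zero])
      (fun h => absurd (Finset.mem_univ y) h),
      show r (e y.1) = 1 from (he y.1 U y.1 rfl).1 rfl, mul_one] at h1
    exact (r.comp φ.hom).injective (by rw [RingHom.comp_apply, h1, map_zero])
  simpa using hli.cardinal_le_rank

/-- A scheme with discrete topology over a field has at most `n` points if the rank of its global
functions is at most `n`. -/
theorem finite_of_rank_le {P : Scheme.{u}} [DiscreteTopology P] (K : Type u) [Field K]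
    (φ : CommRingCat.of K ⟶ Γ(P, ⊤)) (n : ℕ)
    (hn : (letI := φ.hom.toAlgebra; Module.rank K (Γ(P, ⊤) : Type u)) ≤ (n : Cardinal.{u})) :
    Finite P := by
  by_contra hinf
  rw [not_finite_iff_infinite] at hinf
  obtain ⟨F, hF⟩ := Infinite.exists_subset_card_eq P (n + 1)
  have := (card_le_rank K φ F).trans hn
  rw [hF, Nat.cast_le] at this
  omega

/-- Functions on an open subscheme of a discrete scheme extend. -/
theorem appTop_surjective {P Q : Scheme.{u}} [DiscreteTopology P] (j : Q ⟶ P) [IsOpenImmersion j] :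
    Function.Surjective j.appTop := by
  let A : P.Opens := j ''ᵁ ⊤
  have key : Function.Surjective (P.presheaf.map (homOfLE (le_top : A ≤ ⊤)).op) := by
    intro a
    let B : P.Opens := ⟨(A : Set P)ᶜ, isOpen_discrete _⟩
    let W : Bool → P.Opens := fun b => bif b then A else B
    let sf : ∀ b, Γ(P, W b) := fun b => match b with
      | true => a
      | false => 0
    have hcov : (⊤ : P.Opens) ≤ iSup W := fun y _ => by
      by_cases h : y ∈ A
      · exact Opens.mem_iSup.mpr ⟨true, h⟩
      · exact Opens.mem_iSup.mpr ⟨false, h⟩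
    have hempty : W true ⊓ W false = ⊥ := Opens.ext (Set.inter_compl_self (A : Set P))
    have hcomp : TopCat.Presheaf.IsCompatible P.sheaf.1 W sf := by
      intro i j
      cases i <;> cases j <;> try rfl
      · haveI : Subsingleton Γ(P, W false ⊓ W true) := by
          rw [inf_comm, hempty]; infer_instance
        exact Subsingleton.elim (α := Γ(P, W false ⊓ W true)) _ _
      · haveI : Subsingleton Γ(P, W true ⊓ W false) := by
          rw [hempty]; infer_instance
        exact Subsingleton.elim (α := Γ(P, W true ⊓ W false)) _ _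
    obtain ⟨e', he', -⟩ := P.sheaf.existsUnique_gluing' W ⊤ (fun b => homOfLE le_top) hcov sf hcomp
    exact ⟨e', he' true⟩
  have h2 : j.appTop = P.presheaf.map (homOfLE (le_top : A ≤ ⊤)).op ≫ (j.appIso ⊤).hom := by
    rw [Scheme.Hom.appIso_hom', Scheme.Hom.map_appLE]
    exact Scheme.Hom.app_eq_appLE j
  rw [h2]
  intro q
  obtain ⟨a, ha⟩ := (ConcreteCategory.bijective_of_isIso (j.appIso ⊤).hom).2 q
  obtain ⟨e, he⟩ := key a
  exact ⟨e, by rw [CommRingCat.comp_apply, he, ha]⟩

/-- Passing to an open subscheme does not increase the rank. -/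
theorem rank_le {P Q : Scheme.{u}} [DiscreteTopology P] (j : Q ⟶ P) [IsOpenImmersion j]
    (K : Type u) [Field K] (φ : CommRingCat.of K ⟶ Γ(P, ⊤)) (ψ : CommRingCat.of K ⟶ Γ(Q, ⊤))
    (h : φ ≫ j.appTop = ψ) :
    (letI := ψ.hom.toAlgebra; Module.rank K (Γ(Q, ⊤) : Type u)) ≤
      (letI := φ.hom.toAlgebra; Module.rank K (Γ(P, ⊤) : Type u)) := by
  letI := ψ.hom.toAlgebra
  letI := φ.hom.toAlgebra
  let l : (Γ(P, ⊤) : Type u) →ₐ[K] (Γ(Q, ⊤) : Type u) :=
    { j.appTop.hom with commutes' := fun c => by exact congr($(h).hom c) }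
  exact LinearMap.rank_le_of_surjective l.toLinearMap (appTop_surjective j)

theorem rank_le_of_iso {P Q : Scheme.{u}} (j : Q ⟶ P) [IsIso j]
    (K : Type u) [Field K] (φ : CommRingCat.of K ⟶ Γ(P, ⊤)) (ψ : CommRingCat.of K ⟶ Γ(Q, ⊤))
    (h : φ ≫ j.appTop = ψ) :
    (letI := φ.hom.toAlgebra; Module.rank K (Γ(P, ⊤) : Type u)) ≤
      (letI := ψ.hom.toAlgebra; Module.rank K (Γ(Q, ⊤) : Type u)) := by
  letI := ψ.hom.toAlgebra
  letI := φ.hom.toAlgebra
  let l : (Γ(P, ⊤) : Type u) →ₐ[K] (Γ(Q, ⊤) : Type u) :=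
    { j.appTop.hom with commutes' := fun c => by exact congr($(h).hom c) }
  haveI : IsIso j.appTop := inferInstanceAs (IsIso (j.app ⊤))
  exact LinearMap.rank_le_of_injective l.toLinearMap (ConcreteCategory.bijective_of_isIso j.appTop).1

end Groth.Agent.MorLib.RD
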