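import Mathlib.AlgebraicGeometry.IdealSheaf.Functorial
import Mathlib.AlgebraicGeometry.Properties

/-! The kernel ideal sheaf of a morphism with reduced source (no quasi-compactness needed). -/

set_option autoImplicit false
universe u

namespace Groth.Agent.MorLib

open AlgebraicGeometry CategoryTheory TopologicalSpace

set_option backward.isDefEq.respectTransparency false in
theorem ker_ideal_eq_ker_app_of_isReduced {X Y : Scheme.{u}} [IsReduced X] (f : X ⟶ Y)
    (U : Y.affineOpens) : f.ker.ideal U = RingHom.ker (f.app U).hom := by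
  let I : Scheme.IdealSheafData Y := ⟨fun U ↦ RingHom.ker (f.app U).hom, ?_, _, rfl⟩
  · exact congr($(Scheme.IdealSheafData.ofIdeals_ideal I).ideal U)
  intro U s
  apply le_antisymm
  · refine Ideal.map_le_iff_le_comap.mpr fun x hx ↦ ?_
    rw [Ideal.mem_comap, RingHom.mem_ker]
    show (f.app (Y.basicOpen s)).hom ((Y.presheaf.map (homOfLE (Y.basicOpen_le s)).op).hom x) = 0
    rw [← CommRingCat.comp_apply, f.naturality, CommRingCat.comp_apply, RingHom.mem_ker.mp hx,
      map_zero]
  · intro x hx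
    have := U.2.isLocalization_basicOpen s
    obtain ⟨x, ⟨_, n, rfl⟩, rfl⟩ := IsLocalization.exists_mk'_eq (.powers s) x
    refine (IsLocalization.mk'_mem_map_algebraMap_iff _ _ _ _ _).mpr ?_
    refine ⟨s, ⟨1, pow_one s⟩, ?_⟩
    rw [RingHom.mem_ker]
    apply eq_zero_of_basicOpen_eq_bot
    rw [map_mul, Scheme.basicOpen_mul]
    have hy : (f.app (Y.basicOpen s)).hom (algebraMap Γ(Y, U) _ x) = 0 := by
      have hx' : (f.app (Y.basicOpen s)).hom
          (IsLocalization.mk' Γ(Y, Y.basicOpen s) x (⟨s ^ n, ⟨n, rfl⟩⟩ : Submonoid.powers s)) = 0 := hx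
      rw [← IsLocalization.mk'_spec' (M := .powers s) Γ(Y, Y.basicOpen s) x (⟨s ^ n, ⟨n, rfl⟩⟩ : Submonoid.powers s),
        map_mul, hx', mul_zero]
    have h2 : X.basicOpen ((f.app (Y.basicOpen s)).hom (algebraMap Γ(Y, U) _ x)) = ⊥ := by
      rw [hy, Scheme.basicOpen_zero]
    rw [← Scheme.preimage_basicOpen, RingHom.algebraMap_toAlgebra] at h2
    rw [Scheme.basicOpen_res] at h2
    rw [← h2, ← Scheme.preimage_basicOpen, ← Scheme.preimage_basicOpen]
    rfl

theorem support_ker_eq_closure_range_of_isReduced {X Y : Scheme.{u}} [IsReduced X] (f : X ⟶ Y) :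
    (f.ker.support : Set Y) = closure (Set.range f) := by
  apply subset_antisymm
  · intro y hy
    by_contra hc
    obtain ⟨_, ⟨U, hU, rfl⟩, hyU, -⟩ :=
      Y.isBasis_affineOpens.exists_subset_of_mem_open (Set.mem_univ y) isOpen_univ
    obtain ⟨s, hs, hys⟩ := hU.exists_basicOpen_le
      (V := ⟨(closure (Set.range f))ᶜ, isClosed_closure.isOpen_compl⟩) ⟨y, hc⟩ hyU
    have hz := ((Scheme.IdealSheafData.coe_support_inter f.ker ⟨U, hU⟩).le ⟨hy, hyU⟩).1
    refine (Scheme.mem_zeroLocus_iff _ _ _).mp hz s ?_ hys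
    rw [SetLike.mem_coe, ker_ideal_eq_ker_app_of_isReduced, RingHom.mem_ker]
    apply eq_zero_of_basicOpen_eq_bot
    rw [← Scheme.preimage_basicOpen, eq_bot_iff]
    intro x hx
    exact hs hx (subset_closure ⟨x, rfl⟩)
  · rw [f.ker.support.isClosed.closure_subset_iff]
    exact f.range_subset_ker_support

end Groth.Agent.MorLib
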