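import Groth.Agent.MorLib.RingUnivHomeo

/-! Towers of elementary extensions and universal homeomorphisms. -/

set_option autoImplicit false
universe u

namespace Groth.Agent.MorLib.RUH

open AlgebraicGeometry CategoryTheory

variable {A B : Type u} [CommRing A] [CommRing B] [Algebra A B]

/-- The `(2,3)` step. -/
def Step23 (S : Subalgebra A B) (b : B) : Prop := b ^ 2 ∈ S ∧ b ^ 3 ∈ S

/-- The `(2,3)` or `p` step. -/
def StepP (S : Subalgebra A B) (b : B) : Prop :=
  (b ^ 2 ∈ S ∧ b ^ 3 ∈ S) ∨ ∃ p : ℕ, p.Prime ∧ (p : B) * b ∈ S ∧ b ^ p ∈ S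

theorem step23_mono (S S' : Subalgebra A B) (b : B) (h : S ≤ S') (hb : Step23 S b) : Step23 S' b :=
  ⟨h hb.1, h hb.2⟩

theorem stepP_mono (S S' : Subalgebra A B) (b : B) (h : S ≤ S') (hb : StepP S b) : StepP S' b :=
  hb.imp (fun h' => ⟨h h'.1, h h'.2⟩) fun ⟨p, hp, h1, h2⟩ => ⟨p, hp, h h1, h h2⟩

/-- If steps always exist out of a proper subalgebra, towers exhaust `B`. -/
theorem exists_good_of_exists_step (Step : Subalgebra A B → B → Prop)
    (hmono : ∀ S S' b, S ≤ S' → Step S b → Step S' b)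
    (hfin : ∀ (S : Subalgebra A B) b, Step S b → ∃ E : Finset B, (E : Set B) ⊆ S ∧
      ∀ S' : Subalgebra A B, (E : Set B) ⊆ S' → Step S' b)
    (h : ∀ T : Subalgebra A B, T ≠ ⊤ → ∃ b, b ∉ T ∧ Step T b) (E : Finset B) :
    ∃ l, (E : Set B) ⊆ Algebra.adjoin A {b : B | b ∈ l} ∧ Good Step l := by
  have htop : towerUnion Step hmono = ⊤ := by
    by_contra hne
    obtain ⟨b, hb, hstep⟩ := h _ hne
    obtain ⟨F, hF, hF'⟩ := hfin _ _ hstep
    obtain ⟨l, hl, hlg⟩ := exists_good_finset hmono F fun e he => hF he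
    refine hb ⟨l ++ [b], good_snoc hmono hlg (hF' _ hl), Algebra.subset_adjoin ?_⟩
    simp
  exact exists_good_finset hmono E fun e _ => htop ▸ trivial

theorem step23_fin (S : Subalgebra A B) (b : B) (h : Step23 S b) :
    ∃ E : Finset B, (E : Set B) ⊆ S ∧ ∀ S' : Subalgebra A B, (E : Set B) ⊆ S' → Step23 S' b := by
  classical
  exact ⟨{b ^ 2, b ^ 3}, by simp [Set.insert_subset_iff, h.1, h.2],
    fun S' hS' => ⟨hS' (by simp), hS' (by simp)⟩⟩

theorem stepP_fin (S : Subalgebra A B) (b : B) (h : StepP S b) :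
    ∃ E : Finset B, (E : Set B) ⊆ S ∧ ∀ S' : Subalgebra A B, (E : Set B) ⊆ S' → StepP S' b := by
  classical
  rcases h with ⟨h1, h2⟩ | ⟨p, hp, h1, h2⟩
  · exact ⟨{b ^ 2, b ^ 3}, by simp [Set.insert_subset_iff, h1, h2],
      fun S' hS' => Or.inl ⟨hS' (by simp), hS' (by simp)⟩⟩
  · exact ⟨{(p : B) * b, b ^ p}, by simp [Set.insert_subset_iff, h1, h2],
      fun S' hS' => Or.inr ⟨p, hp, hS' (by simp), hS' (by simp)⟩⟩

theorem subalgebra_range_iff (T : Subalgebra A B) (b : B) :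
    b ∈ (algebraMap T B).range ↔ b ∈ T :=
  ⟨by rintro ⟨x, rfl⟩; exact x.2, fun h => ⟨⟨b, h⟩, rfl⟩⟩

/-- Step out of a proper subalgebra. -/
theorem exists_step_subalgebra (hU : FlatMor.IsUnivHomeo (Spec.map (CommRingCat.ofHom (algebraMap A B))))
    (Q : ℕ → Prop) (hQ : ∀ e, Q e → 2 ≤ e)
    (hP : ∀ (q : PrimeSpectrum B) (b : B), ∃ e : ℕ, (e = 1 ∨ (Q e ∧ (e : B) ∈ q.asIdeal)) ∧
      ∃ (n : ℕ) (a s : A), algebraMap A B s ∉ q.asIdeal ∧
        algebraMap A B s * b ^ (e ^ n) - algebraMap A B a ∈ q.asIdeal)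
    (T : Subalgebra A B) (hT : T ≠ ⊤) :
    ∃ b, b ∉ T ∧ ((b ^ 2 ∈ T ∧ b ^ 3 ∈ T) ∨ ∃ e, Q e ∧ (e : B) * b ∈ T ∧ b ^ e ∈ T) := by
  obtain ⟨hi, hr, -⟩ := (isUnivHomeo_SpecMap_iff _).mp hU
  have : Algebra.IsIntegral A B := ⟨hi⟩
  have : Algebra.IsIntegral T B := Algebra.IsIntegral.tower_top A
  have hr' : Radicial (algebraMap T B) := fun K _ f g hfg => hr K f g (by
    rw [IsScalarTower.algebraMap_eq A T B, ← RingHom.comp_assoc, hfg, RingHom.comp_assoc])
  obtain ⟨b₀, hb₀⟩ : ∃ b₀, b₀ ∉ T := by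
    by_contra H
    push Not at H
    exact hT (Algebra.eq_top_iff.mpr H)
  obtain ⟨b, hb, hs⟩ := exists_step (A := T) (B := B) Subtype.val_injective
    (injective_comap_of_radicial hr') Q hQ
    (fun q b => by
      obtain ⟨e, he, n, a, s, hs, h⟩ := hP q b
      exact ⟨e, he, n, algebraMap A T a, algebraMap A T s, hs, h⟩)
    b₀ (fun h => hb₀ ((subalgebra_range_iff T b₀).mp h))
  simp only [subalgebra_range_iff] at hb hs
  exact ⟨b, hb, hs⟩

section converse

variable {Step : Subalgebra A B → B → Prop}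

theorem mem_of_good (hmono : ∀ S S' b, S ≤ S' → Step S b → Step S' b)
    (h : ∀ E : Finset B, ∃ l : List B, (↑E : Set B) ⊆ Algebra.adjoin A {b : B | b ∈ l} ∧ Good Step l)
    (C : Subalgebra A B) (hC : ∀ b, Step C b → b ∈ C) (b : B) : b ∈ C := by
  classical
  obtain ⟨l, hl, hlg⟩ := h {b}
  exact adjoin_le_of_good C hmono hC l hlg (hl (by simp))

end converse

theorem eq_of_sq_cube {K : Type u} [Field K] {x y : K} (h2 : x ^ 2 = y ^ 2) (h3 : x ^ 3 = y ^ 3) :
    x = y := by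
  by_cases hx : x = 0
  · subst hx
    exact (by simpa using h2.symm : y = 0).symm
  · have : x ^ 2 * x = x ^ 2 * y := by rw [← pow_succ, h3, h2, ← pow_succ]
    exact mul_left_cancel₀ (pow_ne_zero 2 hx) this

theorem eq_of_prime_step {K : Type u} [Field K] {x y : K} {p : ℕ} (hp : p.Prime)
    (h1 : (p : K) * x = p * y) (h2 : x ^ p = y ^ p) : x = y := by
  by_cases h : (p : K) = 0
  · have := CharP.charP_iff_prime_eq_zero hp |>.mpr h
    have : Fact p.Prime := ⟨hp⟩
    exact frobenius_inj K p h2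
  · exact mul_left_cancel₀ h h1

/-- Towers give universal homeomorphisms. -/
theorem isUnivHomeo_of_good (hinj : Function.Injective (algebraMap A B))
    (h : ∀ E : Finset B, ∃ l : List B, (↑E : Set B) ⊆ Algebra.adjoin A {b : B | b ∈ l} ∧
      Good (A := A) StepP l) :
    FlatMor.IsUnivHomeo (Spec.map (CommRingCat.ofHom (algebraMap A B))) := by
  refine isUnivHomeo_of_injective _ hinj ?_ ?_
  · intro b
    refine mem_of_good stepP_mono h (integralClosure A B) (fun b hb => ?_) b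
    rcases hb with ⟨h2, -⟩ | ⟨p, hp, -, h2⟩
    · exact IsIntegral.of_pow (by norm_num) h2
    · exact IsIntegral.of_pow hp.pos h2
  · intro K _ f g hfg
    let C : Subalgebra A B :=
      { RingHom.eqLocus f g with algebraMap_mem' := fun a => congr($hfg a) }
    ext b
    refine mem_of_good stepP_mono h C (fun b hb => ?_) b
    rcases hb with ⟨h2, h3⟩ | ⟨p, hp, h1, h2⟩
    · exact eq_of_sq_cube (by rw [← map_pow, ← map_pow]; exact h2) (by rw [← map_pow, ← map_pow]; exact h3)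
    · refine eq_of_prime_step hp ?_ (by rw [← map_pow, ← map_pow]; exact h2)
      have : f (p * b) = g (p * b) := h1
      simpa using this

/-- `(2,3)` towers give trivial residue field extensions. -/
theorem residueFieldMap_surjective_of_good
    (h : ∀ E : Finset B, ∃ l : List B, (↑E : Set B) ⊆ Algebra.adjoin A {b : B | b ∈ l} ∧
      Good (A := A) Step23 l) (q : Spec (CommRingCat.of B)) :
    Function.Surjective ((Spec.map (CommRingCat.ofHom (algebraMap A B))).residueFieldMap q) := by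
  let g := (Spec.map (CommRingCat.ofHom (algebraMap A B))).residueFieldMap q
  let C : Subalgebra A B :=
    { (g.hom.fieldRange.toSubring.comap (ev q).hom) with
      algebraMap_mem' := fun a => ⟨ev _ a, residueFieldMap_ev _ q a⟩ }
  have hC : ∀ b, b ∈ C ↔ ev q b ∈ g.hom.fieldRange := fun b => Iff.rfl
  intro z
  obtain ⟨b, c, -, rfl⟩ := exists_eq_ev_div q z
  have key : ∀ b, ev q b ∈ g.hom.fieldRange := by
    intro b
    rw [← hC]
    refine mem_of_good step23_mono h C (fun b ⟨h2, h3⟩ => ?_) b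
    rw [hC] at h2 h3 ⊢
    by_cases hb : ev q b = 0
    · rw [hb]; exact zero_mem _
    · have : ev q b = ev q (b ^ 3) / ev q (b ^ 2) := by
        rw [map_pow, map_pow, eq_div_iff (pow_ne_zero 2 hb)]
        ring
      rw [this]
      exact div_mem h3 h2
  exact div_mem (key b) (key c)

end Groth.Agent.MorLib.RUH
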