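import Groth.Agent.MorLib.ProjLocal
import Mathlib.RingTheory.Smooth.Basic
import Mathlib.Algebra.TrivSqZeroExt.Basic
import Mathlib.Algebra.Module.Torsion.Basic
import Mathlib.RingTheory.Localization.Away.Basic

/-! Algebra behind "local lifts along a square zero ideal give a global lift":
an `A`-algebra `S` with a surjection to `A ⧸ I`, locally a quotient of a formally smooth algebra by
the square of the kernel, admits a section `S →ₐ[A] A`. -/

set_option autoImplicit false
universe u

namespace Groth.Agent.MorLib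

open TensorProduct

variable {A : Type u} [CommRing A]

/-- Extend an `A`-linear map defined on the kernel of an augmentation `S → A ⧸ I`. -/
theorem exists_algHom_extend (I : Ideal A) {S : Type u} [CommRing S] [Algebra A S]
    (π : S →ₐ[A] A ⧸ I) (hK : ∀ x y, π x = 0 → π y = 0 → x * y = 0)
    {C : Type u} [CommRing C] [Algebra A C] (δ : LinearMap.ker π.toLinearMap →ₗ[A] C)
    (hδ : ∀ k k', δ k * δ k' = 0)
    (hI : ∀ a (_ : a ∈ I) (k : LinearMap.ker π.toLinearMap), (k : S) = algebraMap A S a →
      δ k = algebraMap A C a) :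
    ∃ φ : S →ₐ[A] C, ∀ (a : A) (k : LinearMap.ker π.toLinearMap),
      φ (algebraMap A S a + k) = algebraMap A C a + δ k := by
  classical
  have hmem : ∀ a k (_ : π k = 0), π (algebraMap A S a + k) = Ideal.Quotient.mk I a := fun a k hk => by
    rw [map_add, hk, add_zero, AlgHom.commutes]
    rfl
  have ex : ∀ s : S, ∃ a : A, Ideal.Quotient.mk I a = π s := fun s => Ideal.Quotient.mk_surjective _
  choose ℓ hℓ using ex
  let kp : S → LinearMap.ker π.toLinearMap := fun s => ⟨s - algebraMap A S (ℓ s), by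
    rw [LinearMap.mem_ker, AlgHom.toLinearMap_apply, map_sub, AlgHom.commutes, ← hℓ s]
    exact sub_self _⟩
  let F : S → C := fun s => algebraMap A C (ℓ s) + δ (kp s)
  have key : ∀ (a : A) (k : LinearMap.ker π.toLinearMap),
      F (algebraMap A S a + k) = algebraMap A C a + δ k := by
    intro a k
    have hk : π (k : S) = 0 := k.2
    have hd : a - ℓ (algebraMap A S a + k) ∈ I := by
      rw [← Ideal.Quotient.eq_zero_iff_mem, map_sub, hℓ, hmem a k hk, sub_self]
    let k' : LinearMap.ker π.toLinearMap := ⟨algebraMap A S (a - ℓ (algebraMap A S a + k)), by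
      rw [LinearMap.mem_ker, AlgHom.toLinearMap_apply, AlgHom.commutes]
      exact Ideal.Quotient.eq_zero_iff_mem.mpr hd⟩
    have h1 : kp (algebraMap A S a + k) = k' + k := by
      apply Subtype.ext
      simp only [kp, k', Submodule.coe_add, map_sub]
      ring
    simp only [F]
    rw [h1, map_add, hI _ hd k' rfl, map_sub]
    ring
  have dec : ∀ s : S, algebraMap A S (ℓ s) + (kp s : S) = s := fun s => by simp [kp]
  have hadd : ∀ s t, F (s + t) = F s + F t := fun s t => by
    conv_lhs => rw [← dec s, ← dec t]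
    have : algebraMap A S (ℓ s) + (kp s : S) + (algebraMap A S (ℓ t) + kp t) =
        algebraMap A S (ℓ s + ℓ t) + ((kp s + kp t : LinearMap.ker π.toLinearMap) : S) := by
      simp only [map_add, Submodule.coe_add]; ring
    rw [this, key, map_add, map_add]
    simp only [F]; ring
  have hmul : ∀ s t, F (s * t) = F s * F t := fun s t => by
    conv_lhs => rw [← dec s, ← dec t]
    have h0 : (kp s : S) * (kp t : S) = 0 := hK _ _ (kp s).2 (kp t).2
    have : (algebraMap A S (ℓ s) + (kp s : S)) * (algebraMap A S (ℓ t) + kp t) =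
        algebraMap A S (ℓ s * ℓ t) +
          ((ℓ s • kp t + ℓ t • kp s : LinearMap.ker π.toLinearMap) : S) := by
      simp only [map_mul, Submodule.coe_add, Submodule.coe_smul, Algebra.smul_def]
      linear_combination h0
    rw [this, key, map_mul, map_add, map_smul, map_smul]
    simp only [F, Algebra.smul_def]
    linear_combination -(hδ (kp s) (kp t))
  have hc : ∀ a : A, F (algebraMap A S a) = algebraMap A C a := fun a => by
    have := key a 0
    simpa using this
  exact ⟨{ toFun := F
           map_one' := by rw [← map_one (algebraMap A S), hc, map_one]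
           map_mul' := hmul
           map_zero' := by rw [← map_zero (algebraMap A S), hc, map_zero]
           map_add' := hadd
           commutes' := hc }, key⟩

/-- The local model hypothesis. -/
def IsLocalModel (I : Ideal A) {S : Type u} [CommRing S] [Algebra A S] (π : S →ₐ[A] A ⧸ I)
    (h : A) : Prop :=
  ∃ (S' : Type u) (_ : CommRing S') (_ : Algebra A S') (_ : Algebra.FormallySmooth A S')
    (ρ : S' →ₐ[A] Localization.Away (algebraMap A S h)),
    Function.Surjective ρ ∧ RingHom.ker ρ =
      Ideal.comap ρ (Ideal.map (algebraMap S (Localization.Away (algebraMap A S h))) (RingHom.ker π)) ^ 2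

section

variable {I : Ideal A} {S : Type u} [CommRing S] [Algebra A S] {π : S →ₐ[A] A ⧸ I}

theorem eq_zero_of_localization_span' {R T : Type u} [CommRing R] [CommRing T] (f : R →+* T)
    {s : Set R} (hs : Ideal.span s = ⊤) {z : T}
    (h : ∀ a ∈ s, algebraMap T (Localization.Away (f a)) z = 0) : z = 0 := by
  have h1 : Ideal.span s ≤ Ideal.radical (Ideal.comap f (Submodule.annihilator (Ideal.span {z}))) := by
    refine Ideal.span_le.mpr fun a ha => ?_
    obtain ⟨⟨_, n, rfl⟩, hn⟩ := (IsLocalization.map_eq_zero_iff (.powers (f a))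
      (Localization.Away (f a)) z).mp (h a ha)
    refine ⟨n, Ideal.mem_comap.mpr ?_⟩
    rw [map_pow, Submodule.mem_annihilator_span_singleton]
    exact hn
  rw [hs, top_le_iff, Ideal.radical_eq_top] at h1
  have h2 : (1 : R) ∈ (Submodule.annihilator (Ideal.span {z})).comap f := by rw [h1]; trivial
  rwa [Ideal.mem_comap, map_one, Submodule.mem_annihilator_span_singleton, one_smul] at h2


theorem mul_eq_zero_of_isLocalModel {s : Set A} (hs : Ideal.span s = ⊤)
    (h : ∀ a ∈ s, IsLocalModel I π a) (x y : S) (hx : π x = 0) (hy : π y = 0) : x * y = 0 := by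
  refine eq_zero_of_localization_span' (algebraMap A S) hs fun a ha => ?_
  obtain ⟨S', _, _, _, ρ, hρ, hker⟩ := h a ha
  obtain ⟨x', hx'⟩ := hρ (algebraMap S _ x)
  obtain ⟨y', hy'⟩ := hρ (algebraMap S _ y)
  rw [map_mul, ← hx', ← hy', ← map_mul]
  change x' * y' ∈ RingHom.ker ρ
  rw [hker, pow_two]
  refine Ideal.mul_mem_mul ?_ ?_ <;> rw [Ideal.mem_comap]
  · rw [hx']; exact Ideal.mem_map_of_mem _ hx
  · rw [hy']; exact Ideal.mem_map_of_mem _ hy

theorem algebraMap_eq_zero (hI : I ^ 2 = ⊥) {h : A} (hm : IsLocalModel I π h) (a : A) (ha : a ∈ I)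
    (h0 : algebraMap A S a = 0) : algebraMap A (Localization.Away h) a = 0 := by
  obtain ⟨S', _, _, _, ρ, hρ, hker⟩ := hm
  let Ah := Localization.Away h
  let J : Ideal Ah := I.map (algebraMap A Ah)
  let q : A ⧸ I →ₐ[A] Ah ⧸ J := Ideal.Quotient.liftₐ I (Algebra.ofId A _) fun x hx => by
    change algebraMap A (Ah ⧸ J) x = 0
    rw [IsScalarTower.algebraMap_apply A Ah (Ah ⧸ J), Ideal.Quotient.algebraMap_eq,
      Ideal.Quotient.eq_zero_iff_mem]
    exact Ideal.mem_map_of_mem _ hx
  have hu : IsUnit ((q.comp π) (algebraMap A S h)) := by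
    rw [AlgHom.commutes, IsScalarTower.algebraMap_apply A Ah (Ah ⧸ J)]
    exact (IsLocalization.Away.algebraMap_isUnit h).map _
  let πh : Localization.Away (algebraMap A S h) →+* Ah ⧸ J :=
    IsLocalization.Away.lift (algebraMap A S h) (g := (q.comp π).toRingHom) hu
  have hπh : ∀ s, πh (algebraMap S _ s) = q (π s) := fun s =>
    IsLocalization.Away.lift_eq _ hu s
  let π' : S' →ₐ[A] Ah ⧸ J :=
    { πh.comp ρ.toRingHom with
      commutes' := fun r => by
        change πh (ρ (algebraMap A S' r)) = _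
        rw [AlgHom.commutes, IsScalarTower.algebraMap_apply A S (Localization.Away _), hπh,
          AlgHom.commutes, AlgHom.commutes] }
  have hJ : J ^ 2 = ⊥ := by rw [← Ideal.map_pow, hI, Ideal.map_bot]
  let φ := Algebra.FormallySmooth.lift (R := A) (A := S') J ⟨2, hJ⟩ π'
  have hφ : ∀ x ∈ Ideal.comap ρ (Ideal.map (algebraMap S (Localization.Away (algebraMap A S h)))
      (RingHom.ker π)), φ x ∈ J := by
    intro x hx
    rw [← Ideal.Quotient.eq_zero_iff_mem]
    refine (Algebra.FormallySmooth.mk_lift J ⟨2, hJ⟩ π' x).trans ?_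
    change πh (ρ x) = 0
    have : Ideal.map (algebraMap S _) (RingHom.ker π) ≤ RingHom.ker πh := by
      rw [Ideal.map_le_iff_le_comap]
      intro y hy
      rw [Ideal.mem_comap, RingHom.mem_ker, hπh, hy, map_zero]
    exact this hx
  have ha' : algebraMap A S' a ∈ RingHom.ker ρ := by
    rw [RingHom.mem_ker, AlgHom.commutes, IsScalarTower.algebraMap_apply A S (Localization.Away _),
      h0, map_zero]
  rw [hker] at ha'
  have := Ideal.mem_map_of_mem φ.toRingHom ha'
  rw [Ideal.map_pow] at this
  have := Ideal.pow_right_mono (Ideal.map_le_iff_le_comap.mpr (fun x hx => hφ x hx) :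
    Ideal.map φ.toRingHom _ ≤ J) 2 this
  rw [hJ, Ideal.mem_bot] at this
  simpa using this

/-- Local lifting property of `K ⧸ I`. -/
theorem exists_lift_kernel {h : A} (hm : IsLocalModel I π h) (hK : ∀ x y, π x = 0 → π y = 0 → x * y = 0)
    {C : Type u} [CommRing C] [Algebra (A ⧸ I) C] [Algebra A C] [IsScalarTower A (A ⧸ I) C]
    (hC : IsUnit (algebraMap A C h))
    {M N : Type u} [AddCommGroup M] [AddCommGroup N] [Module A M] [Module A N] [Module C M]
    [Module C N] [IsScalarTower A C M] [IsScalarTower A C N] (f : M →ₗ[C] N)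
    (hf : Function.Surjective f) (g : LinearMap.ker π.toLinearMap →ₗ[A] N)
    (hg : ∀ a ∈ I, ∀ k : LinearMap.ker π.toLinearMap, (k : S) = algebraMap A S a → g k = 0) :
    ∃ k : LinearMap.ker π.toLinearMap →ₗ[A] M, (∀ x, f (k x) = g x) ∧
      ∀ a ∈ I, ∀ x : LinearMap.ker π.toLinearMap, (x : S) = algebraMap A S a → k x = 0 := by
  let : Module Cᵐᵒᵖ M := Module.compHom M ((RingHom.id C).fromOpposite mul_comm)
  have : IsCentralScalar C M := ⟨fun _ _ => rfl⟩
  let : Module Cᵐᵒᵖ N := Module.compHom N ((RingHom.id C).fromOpposite mul_comm)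
  have : IsCentralScalar C N := ⟨fun _ _ => rfl⟩
  have : IsScalarTower A Cᵐᵒᵖ M := ⟨fun a c m => by
    change (a • c.unop) • m = a • (c.unop • m)
    exact smul_assoc a c.unop m⟩
  have : IsScalarTower A Cᵐᵒᵖ N := ⟨fun a c m => by
    change (a • c.unop) • m = a • (c.unop • m)
    exact smul_assoc a c.unop m⟩
  obtain ⟨S', _, _, _, ρ, hρ, hker⟩ := hm
  have hI0 : ∀ a ∈ I, algebraMap A C a = 0 := fun a ha => by
    rw [IsScalarTower.algebraMap_apply A (A ⧸ I) C, Ideal.Quotient.algebraMap_eq,
      Ideal.Quotient.eq_zero_iff_mem.mpr ha, map_zero]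
  obtain ⟨G, hG⟩ := exists_algHom_extend I π hK
    ((TrivSqZeroExt.inrHom C N).restrictScalars A ∘ₗ g)
    (fun k k' => TrivSqZeroExt.inr_mul_inr C _ _)
    (fun a ha k hk => by
      change TrivSqZeroExt.inr (g k) = _
      rw [hg a ha k hk, TrivSqZeroExt.inr_zero,
        TrivSqZeroExt.algebraMap_eq_inl', hI0 a ha, TrivSqZeroExt.inl_zero])
  have hu : IsUnit (G (algebraMap A S h)) := by
    rw [AlgHom.commutes, TrivSqZeroExt.algebraMap_eq_inl']
    exact hC.map (TrivSqZeroExt.inlHom C N)
  let Gh := IsLocalization.Away.lift (S := Localization.Away (algebraMap A S h))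
    (algebraMap A S h) (g := G.toRingHom) hu
  have hGh : ∀ s, Gh (algebraMap S _ s) = G s := fun s => IsLocalization.Away.lift_eq _ hu s
  let G' : S' →ₐ[A] TrivSqZeroExt C N :=
    { Gh.comp ρ.toRingHom with
      commutes' := fun r => by
        change Gh (ρ (algebraMap A S' r)) = _
        rw [AlgHom.commutes, IsScalarTower.algebraMap_apply A S (Localization.Away _), hGh,
          AlgHom.commutes] }
  let F : TrivSqZeroExt C M →ₐ[A] TrivSqZeroExt C N := (TrivSqZeroExt.map f).restrictScalars A
  have hF : ∀ c m, F (TrivSqZeroExt.inl c + TrivSqZeroExt.inr m) =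
      TrivSqZeroExt.inl c + TrivSqZeroExt.inr (f m) := fun c m => by
    simp [F]
  have hFs : Function.Surjective F := fun z => by
    obtain ⟨m, hm⟩ := hf z.snd
    exact ⟨TrivSqZeroExt.inl z.fst + TrivSqZeroExt.inr m, by
      rw [hF, hm, TrivSqZeroExt.inl_fst_add_inr_snd_eq]⟩
  have hFk : ∀ z, F z = 0 → z.fst = 0 := fun z hz => by
    have := hF z.fst z.snd
    rw [TrivSqZeroExt.inl_fst_add_inr_snd_eq, hz] at this
    simpa using (congrArg TrivSqZeroExt.fst this).symm
  have hFn : IsNilpotent (RingHom.ker (F : TrivSqZeroExt C M →+* TrivSqZeroExt C N)) := by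
    refine ⟨2, ?_⟩
    rw [pow_two, Submodule.zero_eq_bot, eq_bot_iff, Ideal.mul_le]
    intro x hx y hy
    rw [Ideal.mem_bot]
    refine TrivSqZeroExt.ext ?_ ?_ <;>
      simp [hFk x (by simpa using hx), hFk y (by simpa using hy)]
  obtain ⟨H, hH⟩ : ∃ H : S' →ₐ[A] TrivSqZeroExt C M, ∀ x, F (H x) = G' x :=
    ⟨Algebra.FormallySmooth.liftOfSurjective G' F hFs hFn,
      Algebra.FormallySmooth.liftOfSurjective_apply G' F hFs hFn⟩
  -- `H` vanishes on `ker ρ`
  have hHJ : ∀ x ∈ Ideal.comap ρ (Ideal.map (algebraMap S (Localization.Away (algebraMap A S h)))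
      (RingHom.ker π)), (H x).fst = 0 := by
    intro x hx
    have h1 : (F (H x)).fst = (H x).fst := by
      conv_lhs => rw [← TrivSqZeroExt.inl_fst_add_inr_snd_eq (H x), hF]
      simp
    rw [← h1, hH]
    have : Ideal.map (algebraMap S (Localization.Away (algebraMap A S h))) (RingHom.ker π) ≤
        RingHom.ker ((TrivSqZeroExt.fstHom A C N).toRingHom.comp Gh) := by
      rw [Ideal.map_le_iff_le_comap]
      intro y hy
      rw [Ideal.mem_comap, RingHom.mem_ker, RingHom.comp_apply, hGh]
      have := hG 0 ⟨y, hy⟩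
      rw [map_zero, zero_add] at this
      rw [this]
      simp
    exact this hx
  have hHker : RingHom.ker ρ.toRingHom ≤ RingHom.ker H.toRingHom := by
    change RingHom.ker ρ ≤ RingHom.ker H
    rw [hker, pow_two, Ideal.mul_le]
    intro x hx y hy
    rw [RingHom.mem_ker, map_mul]
    refine TrivSqZeroExt.ext ?_ ?_ <;> simp [hHJ x hx, hHJ y hy]
  let Hh : Localization.Away (algebraMap A S h) →ₐ[A] TrivSqZeroExt C M :=
    AlgHom.liftOfSurjective ρ hρ H hHker
  have hHh : ∀ x, Hh (ρ x) = H x := fun x => AlgHom.liftOfSurjective_apply ρ hρ H hHker x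
  have hFH : ∀ z, F (Hh z) = Gh z := fun z => by
    obtain ⟨x, rfl⟩ := hρ z
    rw [hHh, hH]
    rfl
  let H₁ : S →ₐ[A] TrivSqZeroExt C M := Hh.comp (IsScalarTower.toAlgHom A S _)
  refine ⟨(TrivSqZeroExt.sndHom C M).restrictScalars A ∘ₗ H₁.toLinearMap ∘ₗ
    (LinearMap.ker π.toLinearMap).subtype, fun x => ?_, fun a ha x hx => ?_⟩
  · change f (H₁ (x : S)).snd = g x
    have h1 : (F (H₁ (x : S))).snd = f (H₁ (x : S)).snd := by
      conv_lhs => rw [← TrivSqZeroExt.inl_fst_add_inr_snd_eq (H₁ (x : S)), hF]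
      simp
    rw [← h1]
    change (F (Hh (algebraMap S _ (x : S)))).snd = _
    rw [hFH, hGh]
    have := hG 0 x
    rw [map_zero, zero_add] at this
    rw [this]
    simp
  · change (H₁ (x : S)).snd = 0
    rw [hx, AlgHom.commutes, TrivSqZeroExt.algebraMap_eq_inl', TrivSqZeroExt.snd_inl]

/-- A lifting criterion for projectivity of `(A ⧸ I)_a ⊗ Q`. -/
theorem projective_tensor_away (I : Ideal A) (Q : Type u) [AddCommGroup Q] [Module A Q]
    [Module (A ⧸ I) Q] [IsScalarTower A (A ⧸ I) Q] (a : A)
    (h : ∀ {C : Type u} [CommRing C] [Algebra (A ⧸ I) C] [Algebra A C] [IsScalarTower A (A ⧸ I) C]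
      (_ : IsUnit (algebraMap A C a))
      {M N : Type u} [AddCommGroup M] [AddCommGroup N] [Module A M] [Module A N] [Module C M]
      [Module C N] [IsScalarTower A C M] [IsScalarTower A C N] (f : M →ₗ[C] N)
      (_ : Function.Surjective f) (g : Q →ₗ[A] N),
      ∃ k : Q →ₗ[A] M, ∀ q, f (k q) = g q) :
    Module.Projective (Localization.Away (Ideal.Quotient.mk I a))
      (Localization.Away (Ideal.Quotient.mk I a) ⊗[A ⧸ I] Q) := by
  refine Module.Projective.of_lifting_property fun {M N} _ _ _ _ f g hf => ?_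
  let C := Localization.Away (Ideal.Quotient.mk I a)
  let : Module A M := Module.compHom M (algebraMap A C)
  have : IsScalarTower A C M := IsScalarTower.of_algebraMap_smul fun _ _ => rfl
  let : Module A N := Module.compHom N (algebraMap A C)
  have : IsScalarTower A C N := IsScalarTower.of_algebraMap_smul fun _ _ => rfl
  let : Module (A ⧸ I) M := Module.compHom M (algebraMap (A ⧸ I) C)
  have : IsScalarTower (A ⧸ I) C M := IsScalarTower.of_algebraMap_smul fun _ _ => rfl
  have hr : ∀ r : A, algebraMap A C r = algebraMap (A ⧸ I) C (Ideal.Quotient.mk I r) := fun r =>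
    IsScalarTower.algebraMap_apply A (A ⧸ I) C r
  have : IsScalarTower A (A ⧸ I) M := IsScalarTower.of_algebraMap_smul fun r m =>
    congrArg (fun c : C => c • m) (hr r).symm
  let g₀ : Q →ₗ[A] N :=
    { toFun := fun q => g (1 ⊗ₜ q)
      map_add' := fun x y => by rw [tmul_add, map_add]
      map_smul' := fun r x => by
        rw [← algebraMap_smul (A ⧸ I) r x, tmul_smul,
          ← algebraMap_smul C (algebraMap A (A ⧸ I) r), map_smul, Ideal.Quotient.algebraMap_eq,
          ← hr r]
        rfl }
  have hC : IsUnit (algebraMap A C a) := by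
    rw [hr]
    exact IsLocalization.Away.algebraMap_isUnit (S := C) (Ideal.Quotient.mk I a)
  obtain ⟨k, hk⟩ := h hC f hf g₀
  refine ⟨(k.extendScalarsOfSurjective Ideal.Quotient.mk_surjective).liftBaseChange C,
    LinearMap.ext fun x => ?_⟩
  induction x using TensorProduct.induction_on with
  | zero => rw [map_zero, map_zero]
  | add x y hx hy => rw [map_add, map_add, hx, hy]
  | tmul c q =>
    rw [LinearMap.comp_apply, LinearMap.liftBaseChange_tmul, map_smul]
    change c • f (k q) = _
    rw [hk]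
    change c • g (1 ⊗ₜ q) = _
    rw [← map_smul, smul_tmul', smul_eq_mul, mul_one]

theorem exists_section_of_projective (I : Ideal A) {K Q : Type u} [AddCommGroup K] [AddCommGroup Q]
    [Module A K] [Module A Q] [Module (A ⧸ I) Q] [IsScalarTower A (A ⧸ I) Q]
    [Module.Projective (A ⧸ I) Q] (hK : Module.IsTorsionBySet A K (I : Set A)) (p : K →ₗ[A] Q)
    (hp : Function.Surjective p) : ∃ σ : Q →ₗ[A] K, ∀ q, p (σ q) = q := by
  let : Module (A ⧸ I) K := hK.module
  have : IsScalarTower A (A ⧸ I) K := hK.isScalarTower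
  let p' : K →ₗ[A ⧸ I] Q := p.extendScalarsOfSurjective Ideal.Quotient.mk_surjective
  obtain ⟨σ, hσ⟩ := Module.projective_lifting_property p' (LinearMap.id : Q →ₗ[A ⧸ I] Q) hp
  exact ⟨σ.restrictScalars A, fun q => congrArg (fun m => m q) hσ⟩

/-- A section exists if local models exist on a cover. -/
theorem exists_algHom_section (hI : I ^ 2 = ⊥) (s : Set A) (hs : Ideal.span s = ⊤)
    (h : ∀ a ∈ s, IsLocalModel I π a) :
    ∃ φ : S →ₐ[A] A, (Ideal.Quotient.mkₐ A I).comp φ = π := by
  have hK := mul_eq_zero_of_isLocalModel hs h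
  let K := LinearMap.ker π.toLinearMap
  let j : I →ₗ[A] K :=
    ((Algebra.linearMap A S).comp I.subtype).codRestrict K fun a => by
      rw [LinearMap.mem_ker, AlgHom.toLinearMap_apply, LinearMap.comp_apply,
        Algebra.linearMap_apply, AlgHom.commutes]
      exact Ideal.Quotient.eq_zero_iff_mem.mpr a.2
  have hj : Function.Injective j := by
    rw [← LinearMap.ker_eq_bot, eq_bot_iff]
    intro a ha
    have h0 : algebraMap A S (a : A) = 0 := congrArg Subtype.val ha
    refine Submodule.mem_bot A |>.mpr (Subtype.ext ?_)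
    refine eq_zero_of_localization_span' (RingHom.id A) hs
      fun x hx => ?_
    exact algebraMap_eq_zero hI (h x hx) a a.2 h0
  have htor : Module.IsTorsionBySet A (K ⧸ LinearMap.range j) (I : Set A) := by
    intro z a
    obtain ⟨k, rfl⟩ := Submodule.Quotient.mk_surjective _ z
    have : (a : A) • k = 0 := Subtype.ext (by
      rw [Submodule.coe_smul, Algebra.smul_def, Submodule.coe_zero]
      exact hK _ _ ((π.commutes _).trans (Ideal.Quotient.eq_zero_iff_mem.mpr a.2)) k.2)
    rw [← Submodule.Quotient.mk_smul, this, Submodule.Quotient.mk_zero]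
  let : Module (A ⧸ I) (K ⧸ LinearMap.range j) := htor.module
  have : IsScalarTower A (A ⧸ I) (K ⧸ LinearMap.range j) := htor.isScalarTower
  have hproj : Module.Projective (A ⧸ I) (K ⧸ LinearMap.range j) := by
    refine projective_of_span _ (Ideal.Quotient.mk I '' s) ?_ ?_
    · rw [← Ideal.map_span, hs, Ideal.map_top]
    rintro ⟨_, a, ha, rfl⟩
    exact projective_tensor_away I _ a (fun {C} _ _ _ _ hC {M N} _ _ _ _ _ _ _ _ f hf g => by
      obtain ⟨k, hk, hk0⟩ := exists_lift_kernel (h a ha) hK hC f hf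
        (g ∘ₗ (LinearMap.range j).mkQ) (fun b hb x hx => by
          have : (LinearMap.range j).mkQ x = 0 :=
            (Submodule.Quotient.mk_eq_zero _).mpr ⟨⟨b, hb⟩, Subtype.ext hx.symm⟩
          rw [LinearMap.comp_apply, this, map_zero])
      refine ⟨Submodule.liftQ _ k (by
        rintro _ ⟨b, rfl⟩
        exact hk0 b b.2 _ rfl), fun q => ?_⟩
      obtain ⟨x, rfl⟩ := Submodule.Quotient.mk_surjective _ q
      exact hk x)
  have htorK : Module.IsTorsionBySet A K (I : Set A) := fun k a => Subtype.ext (by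
    rw [Submodule.coe_smul, Algebra.smul_def, Submodule.coe_zero]
    exact hK _ _ ((π.commutes _).trans (Ideal.Quotient.eq_zero_iff_mem.mpr a.2)) k.2)
  obtain ⟨σ, hσ⟩ := exists_section_of_projective I htorK (LinearMap.range j).mkQ
    (Submodule.mkQ_surjective _)
  let q := (LinearMap.range j).mkQ
  let d : K →ₗ[A] LinearMap.range j :=
    (LinearMap.id - σ ∘ₗ q).codRestrict _ fun k => by
      rw [← Submodule.Quotient.mk_eq_zero]
      change q (k - σ (q k)) = 0
      rw [map_sub, hσ, sub_self]
  let ψ : K →ₗ[A] A := I.subtype ∘ₗ (LinearEquiv.ofInjective j hj).symm.toLinearMap ∘ₗ d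
  have hψI : ∀ k, ψ k ∈ I := fun k => ((LinearEquiv.ofInjective j hj).symm (d k)).2
  obtain ⟨φ, hφ⟩ := exists_algHom_extend I π hK ψ
    (fun k k' => by
      have := Ideal.mul_mem_mul (hψI k) (hψI k')
      rwa [← pow_two, hI, Ideal.mem_bot] at this)
    (fun a ha k hk => by
      have hk' : k = j ⟨a, ha⟩ := Subtype.ext hk
      have h0 : q k = 0 := (Submodule.Quotient.mk_eq_zero _).mpr ⟨⟨a, ha⟩, hk'.symm⟩
      have : d k = LinearEquiv.ofInjective j hj ⟨a, ha⟩ := Subtype.ext (by
        simp [d, h0, hk'.symm])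
      simp [ψ, this])
  refine ⟨φ, AlgHom.ext fun x => ?_⟩
  obtain ⟨a, ha⟩ := Ideal.Quotient.mk_surjective (π x)
  let k : K := ⟨x - algebraMap A S a, by
    rw [LinearMap.mem_ker, AlgHom.toLinearMap_apply, map_sub, AlgHom.commutes, ← ha]
    exact sub_self _⟩
  have := hφ a k
  rw [add_sub_cancel] at this
  rw [AlgHom.comp_apply, Ideal.Quotient.mkₐ_eq_mk, this, map_add,
    Ideal.Quotient.eq_zero_iff_mem.mpr (hψI k), add_zero, ← ha]
  rfl

end

end Groth.Agent.MorLib
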