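import Mathlib.RingTheory.Valuation.ValuationSubring
import Mathlib.Order.Filter.Ultrafilter.Basic
import Mathlib.RingTheory.Ideal.Quotient.Basic
import Mathlib.RingTheory.Ideal.Quotient.Operations

/-! Ultraproducts of fields and of valuation rings in them. -/

set_option autoImplicit false
universe u

namespace Groth.Agent.MorLib.Ultra

open Filter

variable {J : Type u} (U : Ultrafilter J) (K : J → Type u) [∀ t, Field (K t)]

/-- The ideal of families vanishing almost everywhere. -/
def nullIdeal : Ideal (Π t, K t) where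
  carrier := {x | ∀ᶠ t in (U : Filter J), x t = 0}
  zero_mem' := Eventually.of_forall fun _ => rfl
  add_mem' := fun {a b} ha hb => (Eventually.and (show ∀ᶠ t in (U : Filter J), a t = 0 from ha)
    (show ∀ᶠ t in (U : Filter J), b t = 0 from hb)).mono fun t h => by simp [h.1, h.2]
  smul_mem' := fun r a ha => (show ∀ᶠ t in (U : Filter J), a t = 0 from ha).mono fun t h => by
    simp [smul_eq_mul, h]

theorem mem_nullIdeal {x : Π t, K t} : x ∈ nullIdeal U K ↔ ∀ᶠ t in (U : Filter J), x t = 0 := Iff.rfl

instance : (nullIdeal U K).IsMaximal := by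
  rw [Ideal.isMaximal_iff]
  refine ⟨fun h => ?_, fun L x hL hx hxL => ?_⟩
  · obtain ⟨t, ht⟩ := ((mem_nullIdeal U K).1 h).exists
    exact one_ne_zero ht
  · have hne : ∀ᶠ t in (U : Filter J), x t ≠ 0 := by
      rw [Ultrafilter.eventually_not]
      exact hx
    let y : Π t, K t := fun t => (x t)⁻¹
    have h1 : (1 - y * x) ∈ nullIdeal U K := hne.mono fun t ht => by
      simp [y, inv_mul_cancel₀ ht]
    have h2 : (1 - y * x) + y * x ∈ L := L.add_mem (hL h1) (L.mul_mem_left y hxL)
    simpa using h2

/-- The ultraproduct field. -/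
abbrev Field' : Type u := (Π t, K t) ⧸ nullIdeal U K

noncomputable instance : Field (Field' U K) := Ideal.Quotient.field _

/-- The class of a family. -/
abbrev mk : (Π t, K t) →+* Field' U K := Ideal.Quotient.mk _

theorem mk_eq_mk {x y : Π t, K t} : mk U K x = mk U K y ↔ ∀ᶠ t in (U : Filter J), x t = y t := by
  rw [Ideal.Quotient.eq, mem_nullIdeal]
  simp only [Pi.sub_apply, sub_eq_zero]

variable {U K}

open Classical in
/-- Gluing homomorphisms defined almost everywhere. -/
noncomputable def germ {A : Type u} [CommRing A] {P : J → Prop} (hP : ∀ᶠ t in (U : Filter J), P t)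
    (f : ∀ t, P t → A →+* K t) : A →+* Field' U K where
  toFun a := mk U K fun t => if h : P t then f t h a else 0
  map_one' := by
    rw [← map_one (mk U K), mk_eq_mk]
    exact hP.mono fun t ht => by simp [ht]
  map_mul' a b := by
    rw [← map_mul, mk_eq_mk]
    exact hP.mono fun t ht => by simp [ht]
  map_zero' := by
    rw [← map_zero (mk U K), mk_eq_mk]
    exact hP.mono fun t ht => by simp [ht]
  map_add' a b := by
    rw [← map_add, mk_eq_mk]
    exact hP.mono fun t ht => by simp [ht]

theorem germ_eq_mk {A : Type u} [CommRing A] {P : J → Prop} (hP : ∀ᶠ t in (U : Filter J), P t)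
    (f : ∀ t, P t → A →+* K t) (a : A) (x : Π t, K t)
    (h : ∀ᶠ t in (U : Filter J), ∀ ht : P t, f t ht a = x t) : germ hP f a = mk U K x := by
  classical
  show mk U K _ = _
  rw [mk_eq_mk]
  exact (hP.and h).mono fun t ht => by simp [ht.1, ht.2 ht.1]

/-- Comparison of two germs of homomorphisms. -/
theorem germ_comp_eq_germ {A B : Type u} [CommRing A] [CommRing B] {P Q : J → Prop}
    (hP : ∀ᶠ t in (U : Filter J), P t) (hQ : ∀ᶠ t in (U : Filter J), Q t)
    (f : ∀ t, P t → A →+* K t) (g : ∀ t, Q t → B →+* K t) (u : B →+* A)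
    (h : ∀ᶠ t in (U : Filter J), ∀ (hp : P t) (hq : Q t), (f t hp).comp u = g t hq) :
    (germ hP f).comp u = germ hQ g := by
  classical
  ext b
  show mk U K _ = mk U K _
  rw [mk_eq_mk]
  refine ((hP.and hQ).and h).mono fun t ht => ?_
  simp [ht.1.1, ht.1.2, ← ht.2 ht.1.1 ht.1.2]

section

variable (U) (R : J → Type u) [∀ t, CommRing (R t)] [∀ t, IsDomain (R t)] [∀ t, ValuationRing (R t)]
  [∀ t, Algebra (R t) (K t)] [∀ t, IsFractionRing (R t) (K t)]

/-- The family map from the rings to the fields. -/
noncomputable def incl : (Π t, R t) →+* Π t, K t :=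
  Pi.ringHom fun t => (algebraMap (R t) (K t)).comp (Pi.evalRingHom R t)

/-- The ultraproduct of the valuation rings. -/
noncomputable def subring : ValuationSubring (Field' U K) where
  toSubring := ((mk U K).comp (incl (K := K) R)).range
  mem_or_inv_mem' := by
    intro z
    obtain ⟨x, rfl⟩ := Ideal.Quotient.mk_surjective z
    classical
    by_cases h : ∀ᶠ t in (U : Filter J), x t ∈ (algebraMap (R t) (K t)).range
    · left
      refine ⟨fun t => if ht : x t ∈ (algebraMap (R t) (K t)).range then ht.choose else 0, ?_⟩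
      rw [RingHom.comp_apply, mk_eq_mk]
      exact h.mono fun t ht => by
        show algebraMap (R t) (K t) (if ht : x t ∈ (algebraMap (R t) (K t)).range then ht.choose else 0) = _
        rw [dif_pos ht]; exact ht.choose_spec
    · right
      have h' : ∀ᶠ t in (U : Filter J), (x t)⁻¹ ∈ (algebraMap (R t) (K t)).range :=
        (Ultrafilter.eventually_not.2 h).mono fun t ht => by
          rcases ValuationRing.isInteger_or_isInteger (R t) (x t) with h1 | h1
          · exact absurd h1 ht
          · exact h1
      refine ⟨fun t => if ht : (x t)⁻¹ ∈ (algebraMap (R t) (K t)).range then ht.choose else 0, ?_⟩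
      refine eq_inv_of_mul_eq_one_left ?_
      have hx : ∀ᶠ t in (U : Filter J), x t ≠ 0 :=
        (Ultrafilter.eventually_not.2 h).mono fun t ht e => ht ⟨0, by rw [map_zero, e]⟩
      rw [RingHom.comp_apply, ← map_mul, ← map_one (mk U K), mk_eq_mk]
      exact (h'.and hx).mono fun t ht => by
        show algebraMap (R t) (K t) (if ht : (x t)⁻¹ ∈ (algebraMap (R t) (K t)).range
          then ht.choose else 0) * x t = 1
        rw [dif_pos ht.1, ht.1.choose_spec, inv_mul_cancel₀ ht.2]

variable {U}

theorem mk_mem_subring_iff {x : Π t, K t} :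
    mk U K x ∈ subring U (K := K) R ↔ ∀ᶠ t in (U : Filter J), x t ∈ (algebraMap (R t) (K t)).range := by
  classical
  constructor
  · rintro ⟨r, hr⟩
    rw [RingHom.comp_apply, mk_eq_mk] at hr
    exact hr.mono fun t ht => ⟨r t, ht⟩
  · intro h
    refine ⟨fun t => if ht : x t ∈ (algebraMap (R t) (K t)).range then ht.choose else 0, ?_⟩
    rw [RingHom.comp_apply, mk_eq_mk]
    exact h.mono fun t ht => by
      show algebraMap (R t) (K t) (if ht : x t ∈ (algebraMap (R t) (K t)).range then ht.choose else 0) = _
      rw [dif_pos ht]; exact ht.choose_spec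

theorem germ_mem {A : Type u} [CommRing A] {P : J → Prop} (hP : ∀ᶠ t in (U : Filter J), P t)
    (f : ∀ t, P t → A →+* K t) (a : A)
    (h : ∀ t (ht : P t), f t ht a ∈ (algebraMap (R t) (K t)).range) :
    germ hP f a ∈ subring U (K := K) R := by
  classical
  refine (mk_mem_subring_iff R).2 (hP.mono fun t ht => ?_)
  rw [dif_pos ht]
  exact h t ht

theorem eventually_mem_of_germ_mem {A : Type u} [CommRing A] {P : J → Prop}
    (hP : ∀ᶠ t in (U : Filter J), P t) (f : ∀ t, P t → A →+* K t) (a : A)
    (h : germ hP f a ∈ subring U (K := K) R) :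
    ∀ᶠ t in (U : Filter J), ∀ ht : P t, f t ht a ∈ (algebraMap (R t) (K t)).range := by
  classical
  refine ((mk_mem_subring_iff R).1 h).mono fun t hm ht => ?_
  rwa [dif_pos ht] at hm

end

end Groth.Agent.MorLib.Ultra
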