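import Groth.Agent.MorLib.RingUnivHomeoTower
import Groth.Agent.S7402
import Groth.Agent.S7403
import Mathlib.RingTheory.FinitePresentation
import Mathlib.RingTheory.Spectrum.Prime.Homeomorph
import Mathlib.CategoryTheory.Limits.Constructions.Over.Connected
import Mathlib.Algebra.Category.Ring.FilteredColimits
import Mathlib.CategoryTheory.Limits.Types.Filtered

/-! A universal homeomorphism of rings is a filtered colimit of finitely presented ones. -/

set_option autoImplicit false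
universe u

namespace Groth.Agent.MorLib.RUH

open AlgebraicGeometry CategoryTheory

/-- Algebraic form of universal homeomorphism. -/
def UH {A B : Type u} [CommRing A] [CommRing B] (φ : A →+* B) : Prop :=
  φ.IsIntegral ∧ Radicial φ ∧ Function.Surjective (PrimeSpectrum.comap φ)

/-- Algebraic form of trivial residue field extensions. -/
def Res {A B : Type u} [CommRing A] [CommRing B] (φ : A →+* B) : Prop :=
  ∀ (q : PrimeSpectrum B) (b : B), ∃ a s : A, φ s ∉ q.asIdeal ∧ φ s * b - φ a ∈ q.asIdeal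

variable {A B C D : Type u} [CommRing A] [CommRing B] [CommRing C] [CommRing D]

theorem uh_comp {φ : A →+* C} {ψ : C →+* D} (h1 : UH φ) (h2 : UH ψ) : UH (ψ.comp φ) :=
  ⟨h1.1.trans _ _ h2.1, fun K _ f g h => h2.2.1 K f g (h1.2.1 K _ _ h), by
    rw [PrimeSpectrum.comap_comp]
    exact h1.2.2.comp h2.2.2⟩

theorem res_comp {φ : A →+* C} {ψ : C →+* D} (h1 : Res φ) (h2 : Res ψ) : Res (ψ.comp φ) := by
  intro q b
  obtain ⟨c, s, hs, hb⟩ := h2 q b
  let q' := PrimeSpectrum.comap ψ q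
  obtain ⟨a₁, s₁, hs₁, hc⟩ := h1 q' c
  obtain ⟨a₂, s₂, hs₂, hs'⟩ := h1 q' s
  change ψ (φ s₁ * c - φ a₁) ∈ q.asIdeal at hc
  change ψ (φ s₂ * s - φ a₂) ∈ q.asIdeal at hs'
  have ha₂ : ψ (φ a₂) ∉ q.asIdeal := fun h => by
    have : ψ (φ s₂) * ψ s ∈ q.asIdeal := by
      rw [map_sub, map_mul] at hs'
      simpa using add_mem hs' h
    rcases q.2.mem_or_mem this with h' | h'
    · exact hs₂ h'
    · exact hs h'
  refine ⟨a₁ * s₂, a₂ * s₁, ?_, ?_⟩
  · rw [RingHom.comp_apply, map_mul, map_mul]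
    exact q.2.mul_notMem ha₂ hs₁
  · simp only [RingHom.comp_apply, map_mul, map_sub] at hc hs' ⊢
    have : ψ (φ a₂) * ψ (φ s₁) * b - ψ (φ a₁) * ψ (φ s₂) =
        ψ (φ s₁) * ψ (φ s₂) * (ψ s * b - ψ c) - ψ (φ s₁) * b * (ψ (φ s₂) * ψ s - ψ (φ a₂)) +
          ψ (φ s₂) * (ψ (φ s₁) * ψ c - ψ (φ a₁)) := by ring
    rw [this]
    exact add_mem (sub_mem (Ideal.mul_mem_left _ _ hb) (Ideal.mul_mem_left _ _ hs'))
      (Ideal.mul_mem_left _ _ hc)

theorem uh_of_surjective {φ : A →+* B} (h : Function.Surjective φ)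
    (hk : RingHom.ker φ ≤ nilradical A) : UH φ :=
  ⟨φ.isIntegral_of_surjective h, fun K _ f g hfg => RingHom.ext fun b => by
    obtain ⟨a, rfl⟩ := h b
    exact congr($hfg a),
    (PrimeSpectrum.isHomeomorph_comap φ (fun b => ⟨1, one_pos, by
      obtain ⟨a, rfl⟩ := h b
      exact ⟨a, (pow_one _).symm⟩⟩) hk).surjective⟩

theorem res_of_surjective {φ : A →+* B} (h : Function.Surjective φ) : Res φ := fun q b => by
  obtain ⟨a, rfl⟩ := h b
  refine ⟨a, 1, ?_, by simp⟩
  rw [map_one]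
  exact fun h' => q.2.ne_top ((Ideal.eq_top_iff_one _).mpr h')

section Good

variable (r : Prop) (A B C)
variable [Algebra A B] [Algebra A C]

/-- A finitely presented universal homeomorphism, with trivial residue extensions if `r`. -/
def GoodAlg : Prop :=
  Algebra.FinitePresentation A C ∧ UH (algebraMap A C) ∧ (r → Res (algebraMap A C))

variable {r A B C} [Algebra A D]

theorem goodAlg_of_algEquiv (h : GoodAlg A C r) (e : C ≃ₐ[A] D) : GoodAlg A D r := by
  have he : (algebraMap A D) = (e : C →+* D).comp (algebraMap A C) :=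
    RingHom.ext fun a => (e.commutes a).symm
  have hk : RingHom.ker (e : C →+* D) ≤ nilradical C := fun x hx => by
    rw [e.injective ((RingHom.mem_ker.mp hx).trans (map_zero e).symm)]; exact zero_mem _
  have := h.1
  refine ⟨Algebra.FinitePresentation.equiv e, ?_, fun hr => ?_⟩
  · rw [he]; exact uh_comp h.2.1 (uh_of_surjective e.surjective hk)
  · rw [he]; exact res_comp (h.2.2 hr) (res_of_surjective e.surjective)

theorem goodAlg_self : GoodAlg A A r := by
  rw [GoodAlg, Algebra.algebraMap_self]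
  exact ⟨Algebra.FinitePresentation.self A, uh_of_surjective (fun b => ⟨b, rfl⟩)
    (by rw [(RingHom.injective_iff_ker_eq_bot _).mp (fun a b h => h)]; exact bot_le),
    fun _ => res_of_surjective fun b => ⟨b, rfl⟩⟩

/-- The kernel of a map from a good algebra to `B` consists of nilpotents. -/
theorem ker_le_nilradical (hB : UH (algebraMap A B)) (h : GoodAlg A C r) (ρ : C →ₐ[A] B) :
    RingHom.ker ρ ≤ nilradical C := by
  rw [nilradical_eq_sInf]
  refine le_sInf fun P hP => ?_
  obtain ⟨q, hq⟩ := hB.2.2 (PrimeSpectrum.comap (algebraMap A C) ⟨P, hP⟩)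
  have : PrimeSpectrum.comap (ρ : C →+* B) q = ⟨P, hP⟩ := by
    refine injective_comap_of_radicial h.2.1.2.1 ?_
    rw [← hq, ← PrimeSpectrum.comap_comp_apply, ρ.comp_algebraMap]
  intro z hz
  have hz' : z ∈ (PrimeSpectrum.comap (ρ : C →+* B) q).asIdeal := by
    show ρ z ∈ q.asIdeal
    rw [RingHom.mem_ker.mp hz]
    exact zero_mem _
  rwa [this] at hz'

theorem goodAlg_quotient (hB : UH (algebraMap A B)) (h : GoodAlg A C r) (ρ : C →ₐ[A] B)
    (K : Ideal C) (hK : K.FG) (hle : K ≤ RingHom.ker ρ) : GoodAlg A (C ⧸ K) r := by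
  have := h.1
  have hs : Function.Surjective (Ideal.Quotient.mk K) := Ideal.Quotient.mk_surjective
  refine ⟨Algebra.FinitePresentation.quotient hK, ?_, fun hr => ?_⟩
  · exact uh_comp h.2.1 (uh_of_surjective hs (by
      rw [Ideal.mk_ker]; exact hle.trans (ker_le_nilradical hB h ρ)))
  · exact res_comp (h.2.2 hr) (res_of_surjective hs)

open Polynomial in
/-- Adjoin an element subject to two relations. -/
theorem exists_adjoin_two (h : GoodAlg A C r) (ρ : C →ₐ[A] B) (b : B) (f g : C[X])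
    (hf : f.eval₂ (ρ : C →+* B) b = 0) (hg : g.eval₂ (ρ : C →+* B) b = 0)
    (hU : FlatMor.IsUnivHomeo (Spec.map (CommRingCat.ofHom
      (algebraMap C (C[X] ⧸ Ideal.span ({f, g} : Set C[X]))))))
    (hR : r → ∀ q, Function.Surjective ((Spec.map (CommRingCat.ofHom
      (algebraMap C (C[X] ⧸ Ideal.span ({f, g} : Set C[X]))))).residueFieldMap q)) :
    ∃ (C' : Type u) (_ : CommRing C') (_ : Algebra A C') (ρ' : C' →ₐ[A] B) (α : C →ₐ[A] C'),
      GoodAlg A C' r ∧ ρ'.comp α = ρ ∧ b ∈ ρ'.range := by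
  classical
  have := h.1
  let K := Ideal.span ({f, g} : Set C[X])
  let Φ : C[X] →ₐ[A] B :=
    { eval₂RingHom (ρ : C →+* B) b with
      commutes' := fun a => by
        change eval₂ (ρ : C →+* B) b (algebraMap A C[X] a) = _
        rw [IsScalarTower.algebraMap_apply A C C[X], Polynomial.algebraMap_eq, eval₂_C]
        exact ρ.commutes a }
  have hle : ∀ x ∈ K, Φ x = 0 := by
    intro x hx
    rw [← RingHom.mem_ker]
    refine Ideal.span_le.mpr ?_ hx
    rintro _ (rfl | rfl)
    exacts [hf, hg]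
  refine ⟨C[X] ⧸ K, inferInstance, inferInstance, Ideal.Quotient.liftₐ K Φ hle,
    IsScalarTower.toAlgHom A C _, ⟨?_, ?_, fun hr => ?_⟩, AlgHom.ext fun c => ?_,
    ⟨Ideal.Quotient.mk K X, ?_⟩⟩
  · have : Algebra.FinitePresentation C C[X] := Algebra.FinitePresentation.polynomial C C
    have : Algebra.FinitePresentation C (C[X] ⧸ K) :=
      Algebra.FinitePresentation.quotient ⟨{f, g}, by simp [K]⟩
    exact Algebra.FinitePresentation.trans A C _
  · rw [IsScalarTower.algebraMap_eq A C (C[X] ⧸ K)]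
    exact uh_comp h.2.1 ((isUnivHomeo_SpecMap_iff _).mp hU)
  · rw [IsScalarTower.algebraMap_eq A C (C[X] ⧸ K)]
    exact res_comp (h.2.2 hr) fun q b => (residueFieldMap_surjective_iff _ q).mp (hR hr q) b
  · change Φ (algebraMap C C[X] c) = ρ c
    rw [Polynomial.algebraMap_eq]
    exact eval₂_C _ _
  · change Φ X = b
    exact eval₂_X _ _

open Polynomial in
/-- One step of a tower. -/
theorem exists_goodAlg_step (hB : UH (algebraMap A B)) (h : GoodAlg A C r) (ρ : C →ₐ[A] B) (b : B)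
    (hb : Step23 ρ.range b ∨ (¬ r ∧ StepP ρ.range b)) :
    ∃ (C' : Type u) (_ : CommRing C') (_ : Algebra A C') (ρ' : C' →ₐ[A] B) (α : C →ₐ[A] C'),
      GoodAlg A C' r ∧ ρ'.comp α = ρ ∧ b ∈ ρ'.range := by
  have pre : ∀ z : C, ρ z = 0 → ∃ (C₁ : Type u) (_ : CommRing C₁) (_ : Algebra A C₁)
      (ρ₁ : C₁ →ₐ[A] B) (α : C →ₐ[A] C₁), GoodAlg A C₁ r ∧ ρ₁.comp α = ρ ∧ α z = 0 := by
    intro z hz
    have hle : Ideal.span {z} ≤ RingHom.ker ρ := by
      rwa [Ideal.span_le, Set.singleton_subset_iff]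
    exact ⟨C ⧸ Ideal.span {z}, inferInstance, inferInstance,
      Ideal.Quotient.liftₐ _ ρ (fun x hx => hle hx), Ideal.Quotient.mkₐ A _,
      goodAlg_quotient hB h ρ _ ⟨{z}, by simp⟩ hle, AlgHom.ext fun c => rfl,
      Ideal.Quotient.eq_zero_iff_mem.mpr (Ideal.subset_span rfl)⟩
  have case23 : Step23 ρ.range b → ∃ (C' : Type u) (_ : CommRing C') (_ : Algebra A C')
      (ρ' : C' →ₐ[A] B) (α : C →ₐ[A] C'),
      GoodAlg A C' r ∧ ρ'.comp α = ρ ∧ b ∈ ρ'.range := by
    rintro ⟨⟨x, hx⟩, ⟨y, hy⟩⟩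
    obtain ⟨C₁, _, _, ρ₁, α, h₁, hα, hz⟩ := pre (x ^ 3 - y ^ 2) (by
      change ρ x = _ at hx; change ρ y = _ at hy
      rw [map_sub, map_pow, map_pow, hx, hy]; ring)
    rw [map_sub, sub_eq_zero, map_pow, map_pow] at hz
    obtain ⟨hU, hR⟩ := S7402.result C₁ (α x) (α y) hz
    have hx' : ρ₁ (α x) = b ^ 2 := by rw [← AlgHom.comp_apply, hα]; exact hx
    have hy' : ρ₁ (α y) = b ^ 3 := by rw [← AlgHom.comp_apply, hα]; exact hy
    obtain ⟨C', _, _, ρ', β, h', hβ, hb'⟩ := exists_adjoin_two h₁ ρ₁ b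
      (X ^ 2 - Polynomial.C (α x)) (X ^ 3 - Polynomial.C (α y))
      (by simp [hx']) (by simp [hy']) hU (fun _ => hR)
    exact ⟨C', _, _, ρ', β.comp α, h', by rw [← AlgHom.comp_assoc, hβ, hα], hb'⟩
  rcases hb with hb | ⟨hr, hb | ⟨p, hp, ⟨y, hy⟩, ⟨x, hx⟩⟩⟩
  · exact case23 hb
  · exact case23 hb
  · obtain ⟨C₁, _, _, ρ₁, α, h₁, hα, hz⟩ := pre ((p : C) ^ p * x - y ^ p) (by
      change ρ x = _ at hx; change ρ y = _ at hy
      rw [map_sub, map_mul, map_pow, map_pow, map_natCast, hx, hy]; ring)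
    rw [map_sub, sub_eq_zero, map_mul, map_pow, map_pow, map_natCast] at hz
    have hU := S7403.result C₁ p hp (α x) (α y) hz
    have hx' : ρ₁ (α x) = b ^ p := by rw [← AlgHom.comp_apply, hα]; exact hx
    have hy' : ρ₁ (α y) = (p : B) * b := by rw [← AlgHom.comp_apply, hα]; exact hy
    obtain ⟨C', _, _, ρ', β, h', hβ, hb'⟩ := exists_adjoin_two h₁ ρ₁ b
      (X ^ p - Polynomial.C (α x)) (Polynomial.C (p : C₁) * X - Polynomial.C (α y))
      (by simp [hx']) (by simp [hy']) hU (fun h => absurd h hr)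
    exact ⟨C', _, _, ρ', β.comp α, h', by rw [← AlgHom.comp_assoc, hβ, hα], hb'⟩

end Good

section Model

variable (r : Prop) (A B)
variable [Algebra A B]

/-- A good model over `B`. -/
structure Model where
  /-- number of generators -/
  n : ℕ
  /-- relations -/
  I : Ideal (MvPolynomial (Fin n) A)
  /-- the map -/
  toB : (MvPolynomial (Fin n) A ⧸ I) →ₐ[A] B
  good : GoodAlg A (MvPolynomial (Fin n) A ⧸ I) r

variable {r A B}

/-- The underlying algebra. -/
abbrev Model.Alg (M : Model A B r) : Type u := MvPolynomial (Fin M.n) A ⧸ M.I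

theorem exists_model [Algebra A C] (h : GoodAlg A C r) (ρ : C →ₐ[A] B) :
    ∃ (M : Model A B r) (e : C ≃ₐ[A] M.Alg), M.toB.comp e.toAlgHom = ρ := by
  obtain ⟨n, π, hπ, -⟩ := h.1.out
  let e : (MvPolynomial (Fin n) A ⧸ RingHom.ker π) ≃ₐ[A] C :=
    Ideal.quotientKerAlgEquivOfSurjective hπ
  exact ⟨⟨n, RingHom.ker π, ρ.comp e.toAlgHom, goodAlg_of_algEquiv h e.symm⟩, e.symm,
    AlgHom.ext fun c => by simp⟩

/-- Hypothesis: towers reach everything. -/
def HasTowers (A B : Type u) [CommRing A] [CommRing B] [Algebra A B] (r : Prop) : Prop :=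
  ∀ E : Finset B, ∃ l, (E : Set B) ⊆ Algebra.adjoin A {b : B | b ∈ l} ∧
    Good (A := A) (fun S b => Step23 S b ∨ (¬ r ∧ StepP S b)) l

theorem exists_goodAlg_finset (hB : UH (algebraMap A B)) (ht : HasTowers A B r) (E : Finset B) :
    ∃ (G : Type u) (_ : CommRing G) (_ : Algebra A G) (ρ : G →ₐ[A] B),
      GoodAlg A G r ∧ ∀ e ∈ E, e ∈ ρ.range := by
  obtain ⟨l, hl, hlg⟩ := ht E
  have key : ∀ k, ∃ (G : Type u) (_ : CommRing G) (_ : Algebra A G) (ρ : G →ₐ[A] B),
      GoodAlg A G r ∧ ∀ j : Fin l.length, j.val < k → l.get j ∈ ρ.range := by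
    intro k
    induction k with
    | zero => exact ⟨A, inferInstance, inferInstance, Algebra.ofId A B, goodAlg_self,
        fun j hj => absurd hj (Nat.not_lt_zero _)⟩
    | succ k ih =>
      obtain ⟨G, _, _, ρ, hG, hρ⟩ := ih
      by_cases hk : k < l.length
      · have hle : Algebra.adjoin A {b : B | ∃ j : Fin l.length, j < ⟨k, hk⟩ ∧ b = l.get j} ≤
            ρ.range := by
          rw [Algebra.adjoin_le_iff]
          rintro _ ⟨j, hj, rfl⟩
          exact hρ j hj
        have hstep : Step23 ρ.range (l.get ⟨k, hk⟩) ∨ (¬ r ∧ StepP ρ.range (l.get ⟨k, hk⟩)) :=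
          (hlg ⟨k, hk⟩).imp (step23_mono _ _ _ hle) fun h => ⟨h.1, stepP_mono _ _ _ hle h.2⟩
        obtain ⟨G', _, _, ρ', α, hG', hα, hb⟩ := exists_goodAlg_step hB hG ρ _ hstep
        refine ⟨G', _, _, ρ', hG', fun j hj => ?_⟩
        rcases (Nat.lt_succ_iff.mp hj).lt_or_eq with h | h
        · obtain ⟨x, hx⟩ := hρ j h
          exact ⟨α x, by rw [← hx, ← hα]; rfl⟩
        · have : j = ⟨k, hk⟩ := Fin.ext h
          rwa [this]
      · exact ⟨G, _, _, ρ, hG, fun j _ => hρ j (lt_of_lt_of_le j.2 (not_lt.mp hk))⟩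
  obtain ⟨G, _, _, ρ, hG, hρ⟩ := key l.length
  refine ⟨G, _, _, ρ, hG, fun e he => ?_⟩
  refine (Algebra.adjoin_le_iff.mpr ?_ : Algebra.adjoin A {b : B | b ∈ l} ≤ ρ.range) (hl he)
  intro b hb
  obtain ⟨j, rfl⟩ := List.mem_iff_get.mp hb
  exact hρ j j.2

/-- Maps from finitely presented algebras factor through models. -/
theorem exists_model_factor (hB : UH (algebraMap A B)) (ht : HasTowers A B r) [Algebra A C]
    [Algebra.FinitePresentation A C] (ρ : C →ₐ[A] B) :
    ∃ (M : Model A B r) (α : C →ₐ[A] M.Alg), M.toB.comp α = ρ := by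
  classical
  obtain ⟨n, π, hπ, ⟨R, hR⟩⟩ := Algebra.FinitePresentation.out (R := A) (A := C)
  obtain ⟨G, _, _, ρG, hG, hE⟩ :=
    exists_goodAlg_finset hB ht (Finset.univ.image fun i => ρ (π (MvPolynomial.X i)))
  have hpre : ∀ i, ∃ g : G, ρG g = ρ (π (MvPolynomial.X i)) := fun i =>
    hE _ (Finset.mem_image_of_mem _ (Finset.mem_univ i))
  choose g hg using hpre
  let θ : MvPolynomial (Fin n) A →ₐ[A] G := MvPolynomial.aeval g
  have hθ : ρG.comp θ = ρ.comp π := MvPolynomial.algHom_ext fun i => by simp [θ, hg]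
  let K : Ideal G := (RingHom.ker π).map θ
  have hKle : K ≤ RingHom.ker ρG := by
    rw [Ideal.map_le_iff_le_comap]
    intro x hx
    rw [Ideal.mem_comap, RingHom.mem_ker, ← AlgHom.comp_apply, hθ, AlgHom.comp_apply,
      RingHom.mem_ker.mp hx, map_zero]
  have hKfg : K.FG := Ideal.FG.map ⟨R, hR⟩ _
  let ρK : (G ⧸ K) →ₐ[A] B := Ideal.Quotient.liftₐ K ρG fun x hx => hKle hx
  obtain ⟨M, e, he⟩ := exists_model (goodAlg_quotient hB hG ρG K hKfg hKle) ρK
  let β : C →ₐ[A] (G ⧸ K) := AlgHom.liftOfSurjective π hπ ((Ideal.Quotient.mkₐ A K).comp θ)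
    (fun x hx => Ideal.Quotient.eq_zero_iff_mem.mpr (Ideal.mem_map_of_mem _ hx))
  refine ⟨M, e.toAlgHom.comp β, ?_⟩
  rw [← AlgHom.comp_assoc, he]
  refine AlgHom.ext fun c => ?_
  obtain ⟨x, rfl⟩ := hπ c
  rw [AlgHom.comp_apply, AlgHom.liftOfSurjective_apply]
  exact congr($hθ x)

/-- Elements in the kernel can be killed. -/
theorem exists_model_kill (hB : UH (algebraMap A B)) (M : Model A B r) (s : Finset M.Alg)
    (hs : ∀ z ∈ s, M.toB z = 0) :
    ∃ (N : Model A B r) (α : M.Alg →ₐ[A] N.Alg), N.toB.comp α = M.toB ∧ ∀ z ∈ s, α z = 0 := by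
  have hle : Ideal.span (s : Set M.Alg) ≤ RingHom.ker M.toB := Ideal.span_le.mpr fun z hz => hs z hz
  obtain ⟨N, e, he⟩ := exists_model (goodAlg_quotient hB M.good M.toB _ ⟨s, rfl⟩ hle)
    (Ideal.Quotient.liftₐ _ M.toB fun x hx => hle hx)
  refine ⟨N, e.toAlgHom.comp (Ideal.Quotient.mkₐ A _), ?_, fun z hz => ?_⟩
  · rw [← AlgHom.comp_assoc, he]
    exact AlgHom.ext fun c => rfl
  · rw [AlgHom.comp_apply, Ideal.Quotient.mkₐ_eq_mk,
      Ideal.Quotient.eq_zero_iff_mem.mpr (Ideal.subset_span hz), map_zero]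

end Model

section Category

open Limits

variable (A B) (r : Prop) [Algebra A B]

/-- The category of good models. -/
structure ModelCat : Type u where
  /-- the model -/
  M : Model A B r

noncomputable instance : SmallCategory (ModelCat A B r) where
  Hom X Y := {α : X.M.Alg →ₐ[A] Y.M.Alg // Y.M.toB.comp α = X.M.toB}
  id X := ⟨AlgHom.id A _, AlgHom.comp_id _⟩
  comp f g := ⟨g.1.comp f.1, by rw [← AlgHom.comp_assoc, g.2, f.2]⟩

variable {A B r}

theorem isFiltered_modelCat (hB : UH (algebraMap A B)) (ht : HasTowers A B r) :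
    IsFiltered (ModelCat A B r) :=
  haveI : Nonempty (ModelCat A B r) :=
    have ⟨M, _, _⟩ := exists_model (C := A) (goodAlg_self (A := A) (r := r)) (Algebra.ofId A B)
    ⟨⟨M⟩⟩
  { cocone_objs := fun X Y => by
      haveI := X.M.good.1
      haveI := Y.M.good.1
      haveI : Algebra.FinitePresentation X.M.Alg (TensorProduct A X.M.Alg Y.M.Alg) :=
        Algebra.FinitePresentation.baseChange (A := Y.M.Alg) X.M.Alg
      haveI : Algebra.FinitePresentation A (TensorProduct A X.M.Alg Y.M.Alg) :=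
        Algebra.FinitePresentation.trans A X.M.Alg (TensorProduct A X.M.Alg Y.M.Alg)
      obtain ⟨M, α, hα⟩ := exists_model_factor (C := TensorProduct A X.M.Alg Y.M.Alg) hB ht
        (Algebra.TensorProduct.lift X.M.toB Y.M.toB fun _ _ => .all _ _)
      refine ⟨⟨M⟩, ⟨α.comp Algebra.TensorProduct.includeLeft, ?_⟩,
        ⟨α.comp Algebra.TensorProduct.includeRight, ?_⟩, trivial⟩ <;>
      · rw [← AlgHom.comp_assoc, hα]
        ext c
        simp
    cocone_maps := fun X Y f g => by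
      classical
      obtain ⟨N, α, hα, h0⟩ := exists_model_kill hB Y.M
        (Finset.univ.image fun i => f.1 (Ideal.Quotient.mk _ (MvPolynomial.X i)) -
          g.1 (Ideal.Quotient.mk _ (MvPolynomial.X i))) (fun z hz => by
            obtain ⟨i, -, rfl⟩ := Finset.mem_image.mp hz
            rw [map_sub, ← AlgHom.comp_apply, ← AlgHom.comp_apply, f.2, g.2, sub_self])
      refine ⟨⟨N⟩, ⟨α, hα⟩, Subtype.ext ?_⟩
      show α.comp f.1 = α.comp g.1
      refine Ideal.Quotient.algHom_ext _ (MvPolynomial.algHom_ext fun i => ?_)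
      simp only [AlgHom.comp_apply, Ideal.Quotient.mkₐ_eq_mk]
      rw [← sub_eq_zero, ← map_sub]
      exact h0 _ (Finset.mem_image_of_mem _ (Finset.mem_univ i)) }

variable (A B r) in
/-- The diagram of models. -/
noncomputable def modelDiagram : ModelCat A B r ⥤ Under (CommRingCat.of A) where
  obj X := Under.mk (CommRingCat.ofHom (algebraMap A X.M.Alg))
  map f := Under.homMk (CommRingCat.ofHom f.1.toRingHom) (by
    ext a; exact f.1.commutes a)

variable (A B r) in
/-- The cocone. -/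
noncomputable def modelCocone : Cocone (modelDiagram A B r) where
  pt := Under.mk (CommRingCat.ofHom (algebraMap A B))
  ι :=
    { app X := Under.homMk (CommRingCat.ofHom X.M.toB.toRingHom) (by
        ext a; exact X.M.toB.commutes a)
      naturality X Y f := by
        apply Under.UnderMorphism.ext
        ext b
        exact congr($(f.2) b) }

/-- `B` is the colimit of its models. -/
noncomputable def isColimitModelCocone (hB : UH (algebraMap A B)) (ht : HasTowers A B r) :
    IsColimit (modelCocone A B r) := by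
  haveI := isFiltered_modelCat hB ht
  haveI : IsConnected (ModelCat A B r) := IsFiltered.isConnected _
  haveI : PreservesColimit (modelDiagram A B r ⋙ Under.forget _) (forget CommRingCat.{u}) :=
    inferInstance
  haveI : ReflectsColimit (modelDiagram A B r ⋙ Under.forget _) (forget CommRingCat.{u}) :=
    reflectsColimit_of_reflectsIsomorphisms _ _
  refine isColimitOfReflects (Under.forget _) (isColimitOfReflects (forget CommRingCat.{u}) ?_)
  refine Types.FilteredColimit.isColimitOf' _ _ (fun z => ?_) fun X (x : X.M.Alg) (y : X.M.Alg) h => ?_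
  · obtain ⟨M, α, hα⟩ := exists_model_factor hB ht
      (Polynomial.aeval (z : B) : Polynomial A →ₐ[A] B)
    refine ⟨⟨M⟩, α Polynomial.X, ?_⟩
    show z = M.toB (α Polynomial.X)
    rw [← AlgHom.comp_apply, hα, Polynomial.aeval_X]
  · obtain ⟨N, α, hα, h0⟩ := exists_model_kill hB X.M {x - y} (fun w hw => by
      rw [Finset.mem_singleton] at hw
      rw [hw, map_sub, sub_eq_zero]
      exact h)
    refine ⟨⟨N⟩, ⟨α, hα⟩, ?_⟩
    show α x = α y
    rw [← sub_eq_zero, ← map_sub]
    exact h0 _ (Finset.mem_singleton_self _)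

end Category

end Groth.Agent.MorLib.RUH
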