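import Groth.Agent.MorLib.WeightPositive
import Groth.Agent.Approx.AffineImage
import Mathlib.AlgebraicGeometry.Morphisms.Affine
import Mathlib.AlgebraicGeometry.IdealSheaf.Subscheme

/-! The maximal locus of a positive weighting is affine over the base. -/

set_option autoImplicit false
set_option linter.style.haveILetI false
set_option backward.isDefEq.respectTransparency.types false
universe u

namespace Groth.Agent.MorLib.WT

open AlgebraicGeometry CategoryTheory Limits Filter Topology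
open Groth.Agent.MorLib.GF (pt pt_comp geomSum)

variable {X Y : Scheme.{u}}

theorem fibreIntegral_nonneg {f : X ⟶ Y} [LocallyQuasiFinite f] {w : X → ℤ} (hw : ∀ x, 0 ≤ w x) {y : Y}
    (hfin : (f ⁻¹' {y}).Finite) : 0 ≤ MoreMor.fibreIntegral f w y := by
  obtain ⟨Ω, _, _, yb, rfl⟩ := GF.exists_geomPoint y
  rw [GF.fibreIntegral_eq f w yb hfin, geomSum]
  exact finsum_nonneg fun δ => hw _

theorem fibreIntegral_pos {f : X ⟶ Y} [LocallyQuasiFinite f] {w : X → ℤ} (hw : ∀ x, 0 < w x) (x : X)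
    (hfin : (f ⁻¹' {f x}).Finite) : 0 < MoreMor.fibreIntegral f w (f x) := by
  obtain ⟨Ω, _, _, yb, hyb⟩ := GF.exists_geomPoint (f x)
  obtain ⟨δ, hδ⟩ := exists_lift_pt f yb x hyb.symm
  rw [← hyb] at hfin ⊢
  haveI := GF.finite_lifts f yb hfin
  let := Fintype.ofFinite (Lifts f yb)
  rw [GF.fibreIntegral_eq f w yb hfin, geomSum, finsum_eq_sum_of_fintype]
  exact Finset.sum_pos (fun δ _ => hw _) ⟨δ, Finset.mem_univ _⟩

/-- The fibre integral splits along a clopen decomposition. -/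
theorem fibreIntegral_split {f : X ⟶ Y} [LocallyQuasiFinite f] (w : X → ℤ) {A B : X.Opens}
    (hA : IsFinite (A.ι ≫ f)) (hcov : ∀ x, x ∈ B ↔ x ∉ A) (y : Y) (hfin : (f ⁻¹' {y}).Finite) :
    MoreMor.fibreIntegral (B.ι ≫ f) (w ∘ ⇑B.ι) y = MoreMor.fibreIntegral f w y - fiOn f A w y := by
  obtain ⟨Ω, _, _, yb, rfl⟩ := GF.exists_geomPoint y
  haveI := hA
  haveI := GF.finite_lifts f yb hfin
  let := Fintype.ofFinite (Lifts f yb)
  classical
  have hfinB : ((B.ι ≫ f) ⁻¹' {pt yb}).Finite := by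
    refine Set.Finite.of_finite_image (f := ⇑B.ι) (hfin.subset ?_) B.ι.isOpenEmbedding.injective.injOn
    rintro _ ⟨a, ha, rfl⟩
    exact (Scheme.Hom.comp_apply B.ι f a).symm.trans ha
  rw [GF.fibreIntegral_eq _ _ yb hfinB, geomSum_open, GF.fibreIntegral_eq f w yb hfin, fiOn_eq_finsum f A w yb, geomSum,
    finsum_mem_eq_finite_toFinset_sum _ (Set.toFinite _),
    finsum_mem_eq_finite_toFinset_sum _ (Set.toFinite _), finsum_eq_sum_of_fintype, eq_sub_iff_add_eq]
  refine Eq.trans ?_ (Finset.sum_filter_add_sum_filter_not Finset.univ (fun δ : Lifts f yb => pt δ.1 ∈ B) _)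
  congr 1
  · congr 1; ext δ; simp
  · congr 1; ext δ; simp [hcov]

/-- Chevalley for an open piece. -/
theorem isAffineOpen_of_finite_preimage (f : X ⟶ Y) (U : Y.Opens) [IsFinite (f ∣_ U)] [Surjective (f ∣_ U)]
    [(U : Scheme.{u}).IsSeparated] (h : IsAffineOpen (f ⁻¹ᵁ U)) : IsAffineOpen U := by
  haveI : IsAffine (f ⁻¹ᵁ U : Scheme.{u}) := h
  haveI : CompactSpace (U : Scheme.{u}) :=
    ⟨by rw [← (f ∣_ U).surjective.range_eq]; exact isCompact_range (f ∣_ U).continuous⟩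
  exact Approx.isAffine_of_isIntegralHom (f ∣_ U)

variable {f : X ⟶ Y} [LocallyQuasiFinite f] [LocallyOfFiniteType f] {w : X → ℤ}

theorem isAffineHom_maxLocus_aux : ∀ (d : ℕ) {X Y : Scheme.{u}} (f : X ⟶ Y) [LocallyQuasiFinite f]
    [LocallyOfFiniteType f] [IsAffineHom f] (_ : ∀ y : Y, (f ⁻¹' {y}).Finite) (w : X → ℤ)
    (_ : MoreMor.IsWeighting f w) (_ : ∀ x, 0 < w x) (_ : ∀ y, MoreMor.fibreIntegral f w y ≤ (d : ℤ))
    (U : Y.Opens), (U : Set Y) = {y | MoreMor.fibreIntegral f w y = (d : ℤ)} → IsAffineHom U.ι := by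
  intro d
  induction d using Nat.strong_induction_on with
  | h d IH =>
  intro X Y f _ _ _ hfin w hw hpos hmax U hU
  rcases Nat.eq_zero_or_pos d with rfl | hd
  · have : U = ⊤ := TopologicalSpace.Opens.ext <| hU.trans <| Set.eq_univ_of_forall fun y =>
      le_antisymm (hmax y) (fibreIntegral_nonneg (fun x => (hpos x).le) (hfin y))
    subst this
    exact isAffineHom_of_forall_exists_isAffineOpen _ fun y => by
      obtain ⟨W, hW, hyW, -⟩ := exists_isAffineOpen_mem_and_subset (U := (⊤ : Y.Opens)) (Set.mem_univ y)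
      exact ⟨W, hyW, hW, hW.preimage_of_isOpenImmersion _ (by simp)⟩
  have hlocal : ∀ x : X, ∃ O : X.Opens, x ∈ O ∧ IsAffineHom ((f ⁻¹ᵁ U).ι ∣_ O) := by
    intro x
    obtain ⟨V, g, W, t, he, hWfin, htW, rfl, -, hconst⟩ := exists_const_piece hw x
    let π := pullback.snd f g
    let k := pullback.fst f g
    obtain ⟨S, hS, hSo, htS⟩ := mem_nhds_iff.mp hconst
    let N : V.Opens := ⟨S, hSo⟩
    let π' := π ∣_ N
    let k' := (π ⁻¹ᵁ N).ι ≫ k
    let g' := N.ι ≫ g
    have hc : IsPullback k' π' f g' := (isPullback_morphismRestrict π N).flip.paste_horiz (IsPullback.of_hasPullback f g)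
    haveI : LocallyQuasiFinite π' := MorphismProperty.of_isPullback hc inferInstance
    haveI : LocallyOfFiniteType π' := MorphismProperty.of_isPullback hc inferInstance
    haveI : IsAffineHom π' := MorphismProperty.of_isPullback hc inferInstance
    have hN0 : IsPullback (π ⁻¹ᵁ N).ι π' π N.ι := (isPullback_morphismRestrict π N).flip
    let A : (π ⁻¹ᵁ N : Scheme.{u}).Opens := (π ⁻¹ᵁ N).ι ⁻¹ᵁ W
    haveI hA : IsFinite (A.ι ≫ π') :=
      MorphismProperty.of_isPullback ((isPullback_morphismRestrict (π ⁻¹ᵁ N).ι W).paste_vert hN0) hWfin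
    have hAc : IsClosed (A : Set (π ⁻¹ᵁ N : Scheme.{u})) := by
      haveI : UniversallyClosed A.ι := UniversallyClosed.of_comp_of_isSeparated A.ι π'
      rw [← Scheme.Opens.range_ι]
      exact A.ι.isClosedMap.isClosed_range
    let B : (π ⁻¹ᵁ N : Scheme.{u}).Opens := ⟨(A : Set _)ᶜ, hAc.isOpen_compl⟩
    haveI : IsClosedImmersion B.ι := IsClosedImmersion.of_isPreimmersion B.ι (by
      rw [Scheme.Opens.range_ι]; exact A.isOpen.isClosed_compl)
    have hfin' : ∀ v, (π' ⁻¹' {v}).Finite := fun v => GF.finite_preimage_baseChange hc v (hfin _)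
    have hA' : ∀ v, fiOn π' A (w ∘ ⇑k') v = w (k t) := by
      intro v
      have h1 := fiOn_baseChange hN0 hWfin (w ∘ ⇑k) v
      have h2 : (w ∘ ⇑k) ∘ ⇑(π ⁻¹ᵁ N).ι = w ∘ ⇑k' := funext fun a => congrArg w (Scheme.Hom.comp_apply _ k a).symm
      rw [h2] at h1
      exact h1.trans (hS v.2)
    have hB : ∀ v, MoreMor.fibreIntegral (B.ι ≫ π') ((w ∘ ⇑k') ∘ ⇑B.ι) v =
        MoreMor.fibreIntegral f w (g' v) - w (k t) := by
      intro v
      rw [fibreIntegral_split (w ∘ ⇑k') hA (fun a => Iff.rfl) v (hfin' v), hA',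
        GF.fibreIntegral_baseChange hc w v (hfin _)]
    let e : ℕ := d - (w (k t)).toNat
    have hpx := hpos (k t)
    have hle : w (k t) ≤ d := by
      have h3 := hB ⟨π t, htS⟩
      have h4 := fibreIntegral_nonneg (f := B.ι ≫ π') (w := (w ∘ ⇑k') ∘ ⇑B.ι) (fun a => (hpos _).le) (y := ⟨π t, htS⟩)
        (Scheme.Hom.finite_preimage_singleton _ _)
      have h5 := hmax (g' ⟨π t, htS⟩)
      omega
    have hfinB : ∀ v, ((B.ι ≫ π') ⁻¹' {v}).Finite := fun v => by
      refine Set.Finite.of_finite_image (f := ⇑B.ι) ((hfin' v).subset ?_) B.ι.isOpenEmbedding.injective.injOn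
      rintro _ ⟨a, ha, rfl⟩
      exact (Scheme.Hom.comp_apply B.ι π' a).symm.trans ha
    have hU' : IsAffineHom (g' ⁻¹ᵁ U).ι := by
      haveI : IsAffineHom B.ι := IsClosedImmersion.instIsAffineHom B.ι
      haveI : IsAffineHom (B.ι ≫ π') := MorphismProperty.comp_mem @IsAffineHom.{u} _ _ inferInstance inferInstance
      refine IH e (by omega) (B.ι ≫ π') hfinB _ (isWeighting_restrict (isWeighting_baseChange hw hc) B)
        (fun a => hpos _) (fun v => ?_) _ ?_
      · have := hB v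
        have := hmax (g' v)
        simp only [Function.comp_def] at *
        omega
      · ext v
        change g' v ∈ (U : Set Y) ↔ _
        rw [hU]
        have := hB v
        simp only [Set.mem_ofPred_eq, Function.comp_def] at *
        omega
    haveI : IsAffineHom (π' ⁻¹ᵁ (g' ⁻¹ᵁ U)).ι :=
      MorphismProperty.of_isPullback (isPullback_morphismRestrict π' (g' ⁻¹ᵁ U)).flip.flip hU'
    have heq : k' ⁻¹ᵁ (f ⁻¹ᵁ U) = π' ⁻¹ᵁ (g' ⁻¹ᵁ U) := by
      rw [← Scheme.Hom.comp_preimage, hc.w, Scheme.Hom.comp_preimage]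
    haveI : Etale k := MorphismProperty.pullback_fst (P := @Etale.{u}) f g he
    haveI : Etale k' := inferInstanceAs (Etale ((π ⁻¹ᵁ N).ι ≫ k))
    let O : X.Opens := ⟨Set.range k', k'.isOpenMap.isOpen_range⟩
    refine ⟨O, ⟨⟨t, htS⟩, Scheme.Hom.comp_apply ..⟩, ?_⟩
    let q := IsOpenImmersion.lift O.ι k' (by rw [Scheme.Opens.range_ι]; exact subset_rfl)
    have hq : q ≫ O.ι = k' := IsOpenImmersion.lift_fac ..
    haveI : Surjective q := ⟨fun ⟨_, a, rfl⟩ => ⟨a, O.ι.isOpenEmbedding.injective (by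
      rw [← Scheme.Hom.comp_apply, hq]; rfl)⟩⟩
    haveI : Etale q := by
      haveI : Etale (q ≫ O.ι) := by rw [hq]; infer_instance
      exact Etale.of_comp q O.ι
    haveI hk : IsAffineHom (k' ⁻¹ᵁ (f ⁻¹ᵁ U)).ι := by rw [heq]; infer_instance
    have h1 : IsPullback (pullback.fst ((f ⁻¹ᵁ U).ι ∣_ O) q ≫ ((f ⁻¹ᵁ U).ι ⁻¹ᵁ O).ι)
        (pullback.snd ((f ⁻¹ᵁ U).ι ∣_ O) q) (f ⁻¹ᵁ U).ι k' := by
      rw [← hq]
      exact (IsPullback.of_hasPullback _ _).paste_horiz (isPullback_morphismRestrict (f ⁻¹ᵁ U).ι O).flip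
    let ε := h1.isoIsPullback _ _ (isPullback_morphismRestrict k' (f ⁻¹ᵁ U))
    haveI : IsAffineHom (pullback.snd ((f ⁻¹ᵁ U).ι ∣_ O) q) := by
      rw [← h1.isoIsPullback_hom_snd _ _ (isPullback_morphismRestrict k' (f ⁻¹ᵁ U))]
      infer_instance
    haveI := Groth.Agent.EtFound.fpqc_isAffineHom.{u}
    exact MorphismProperty.of_isPullback_of_descendsAlong (P := @IsAffineHom.{u})
      (Q := @Surjective ⊓ @Flat ⊓ @LocallyOfFinitePresentation)
      (IsPullback.of_hasPullback ((f ⁻¹ᵁ U).ι ∣_ O) q).flip ⟨⟨inferInstance, inferInstance⟩, inferInstance⟩ inferInstance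
  choose O hxO hO using hlocal
  haveI hUX : IsAffineHom (f ⁻¹ᵁ U).ι :=
    (IsZariskiLocalAtTarget.iff_of_iSup_eq_top (P := @IsAffineHom.{u}) O
      (eq_top_iff.mpr fun a _ => TopologicalSpace.Opens.mem_iSup.mpr ⟨a, hxO a⟩)).mpr hO
  refine isAffineHom_of_forall_exists_isAffineOpen U.ι fun y => ?_
  obtain ⟨W, hW, hyW, -⟩ := exists_isAffineOpen_mem_and_subset (U := (⊤ : Y.Opens)) (Set.mem_univ y)
  refine ⟨W, hyW, hW, ?_⟩
  have hUW : IsAffineOpen (U ⊓ W) := by
    obtain ⟨hYd, hfinite⟩ := finite_over_max hfin hw hpos d hmax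
    have hUeq : U = ⟨_, hYd⟩ := TopologicalSpace.Opens.ext hU
    haveI : IsFinite (f ∣_ (U ⊓ W)) := by
      have h1 : IsFinite (f ∣_ U) := hUeq ▸ hfinite
      have h2 : U.ι ''ᵁ (U.ι ⁻¹ᵁ W) = U ⊓ W := by
        rw [Scheme.Hom.image_preimage_eq_opensRange_inf, Scheme.Opens.opensRange_ι]
      have h3 : IsFinite ((f ∣_ U) ∣_ (U.ι ⁻¹ᵁ W)) := IsZariskiLocalAtTarget.restrict h1 _
      have h4 := (MorphismProperty.arrow_mk_iso_iff @IsFinite.{u} (morphismRestrictRestrict f U (U.ι ⁻¹ᵁ W))).mp h3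
      exact h2 ▸ h4
    haveI : Surjective (f ∣_ (U ⊓ W)) := by
      refine ⟨fun ⟨z, hzU, hzW⟩ => ?_⟩
      have hz : MoreMor.fibreIntegral f w z = d := by have h : z ∈ (U : Set Y) := hzU; rw [hU] at h; exact h
      obtain ⟨a, rfl⟩ : ∃ a, f a = z := by
        by_contra h
        push Not at h
        obtain ⟨Ω, _, _, zb, rfl⟩ := GF.exists_geomPoint z
        haveI : IsEmpty (Lifts f zb) := ⟨fun δ => h _ ((pt_comp δ.1 f).symm.trans (congrArg pt δ.2))⟩
        rw [GF.fibreIntegral_eq f w zb (hfin _), geomSum, finsum_of_isEmpty] at hz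
        omega
      exact ⟨⟨a, hzU, hzW⟩, Subtype.ext (by rw [morphismRestrict_base]; rfl)⟩
    haveI : (↑(U ⊓ W) : Scheme.{u}).IsSeparated := by
      haveI : IsAffine (W : Scheme.{u}) := hW
      haveI : IsSeparated (Y.homOfLE (inf_le_right : U ⊓ W ≤ W)) := inferInstance
      exact (Scheme.isSeparated_iff _).mpr (by
        rw [← terminal.comp_from (Y.homOfLE (inf_le_right : U ⊓ W ≤ W))]; infer_instance)
    refine isAffineOpen_of_finite_preimage f _ ?_
    have hfW : IsAffineOpen (f ⁻¹ᵁ W) := hW.preimage f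
    have := (hfW.preimage (f ⁻¹ᵁ U).ι).image_of_isOpenImmersion (f ⁻¹ᵁ U).ι
    rw [Scheme.Hom.image_preimage_eq_opensRange_inf, Scheme.Opens.opensRange_ι] at this
    exact this
  exact hUW.preimage_of_isOpenImmersion U.ι (by rw [Scheme.Opens.opensRange_ι]; exact inf_le_left) |> fun h => by
    convert h using 1
    ext a
    exact ⟨fun ha => ⟨a.2, ha⟩, fun ha => ha.2⟩

end Groth.Agent.MorLib.WT
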