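import Groth.Agent.MorLib.WeightLocal

/-! Weightings: open subschemes, base change, and pieces. -/

set_option autoImplicit false
universe u

namespace Groth.Agent.MorLib.WT

open AlgebraicGeometry CategoryTheory Limits Filter Topology
open Groth.Agent.MorLib.GF (pt pt_comp geomSum)

variable {T V : Scheme.{u}} {Ω : Type u} [Field Ω]

theorem isFinite_image {T' : Scheme.{u}} (j : T' ⟶ T) [IsOpenImmersion j] (π : T ⟶ V)
    {U : T'.Opens} (hU : IsFinite (U.ι ≫ j ≫ π)) : IsFinite ((j ''ᵁ U).ι ≫ π) := by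
  rw [show (j ''ᵁ U).ι ≫ π = (j.isoImage U).inv ≫ U.ι ≫ j ≫ π by
    rw [← Scheme.Hom.isoImage_inv_ι_assoc]]
  infer_instance

theorem fiOn_image {T' : Scheme.{u}} (j : T' ⟶ T) [IsOpenImmersion j] (π : T ⟶ V)
    {U : T'.Opens} (hU : IsFinite (U.ι ≫ j ≫ π)) (w : T → ℤ) (v : V) :
    fiOn (j ≫ π) U (w ∘ ⇑j) v = fiOn π (j ''ᵁ U) w v := by
  haveI := isFinite_image j π hU
  have := GF.fibreIntegral_baseChange (g := 𝟙 V) (h := (j.isoImage U).hom) (π' := U.ι ≫ j ≫ π)
    (π := (j ''ᵁ U).ι ≫ π) (IsPullback.of_horiz_isIso ⟨by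
      rw [Category.comp_id, Scheme.Hom.isoImage_hom_ι_assoc]⟩) (w ∘ ⇑(j ''ᵁ U).ι) v
    (Scheme.Hom.finite_preimage_singleton _ _)
  refine Eq.trans ?_ this
  unfold fiOn
  congr 1
  funext a
  show w (j (U.ι a)) = w ((j ''ᵁ U).ι ((j.isoImage U).hom a))
  rw [← Scheme.Hom.comp_apply, ← Scheme.Hom.comp_apply, Scheme.Hom.isoImage_hom_ι]

theorem IsPiece.image {T' : Scheme.{u}} (j : T' ⟶ T) [IsOpenImmersion j] {π : T ⟶ V}
    {vb : Spec (CommRingCat.of Ω) ⟶ V} {W : T'.Opens} {δ : Spec (CommRingCat.of Ω) ⟶ T'}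
    (hp : IsPiece (j ≫ π) vb W δ) : IsPiece π vb (j ''ᵁ W) (δ ≫ j) where
  finite := isFinite_image j π hp.finite
  mem := ⟨pt δ, hp.mem, (pt_comp δ j).symm⟩
  over := by rw [Category.assoc, hp.over]
  uniq δ' h1 h2 := by
    obtain ⟨a, ha, hj⟩ := h2
    let δ'' := IsOpenImmersion.lift j δ' (GL.range_SpecField_subset δ' _ ⟨a, hj⟩)
    have he : δ'' ≫ j = δ' := IsOpenImmersion.lift_fac ..
    rw [← hp.uniq δ'' (by rw [← Category.assoc, he, h1]) ?_, he]
    have : j (pt δ'') = j a := by rw [← pt_comp, he]; exact hj.symm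
    rwa [j.isOpenEmbedding.injective this]

variable {X Y : Scheme.{u}}

/-- An isolated piece through any geometric point of a locally quasi-finite morphism. -/
theorem exists_piece [IsAlgClosed Ω] (f : X ⟶ Y) [LocallyQuasiFinite f] [LocallyOfFiniteType f]
    (γ : Spec (CommRingCat.of Ω) ⟶ X) :
    ∃ (V₁ : Scheme.{u}) (g : V₁ ⟶ Y) (vb : Spec (CommRingCat.of Ω) ⟶ V₁)
      (W : (pullback f g).Opens) (δ : Spec (CommRingCat.of Ω) ⟶ pullback f g),
      Etale g ∧ vb ≫ g = γ ≫ f ∧ IsPiece (pullback.snd f g) vb W δ ∧ δ ≫ pullback.fst f g = γ := by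
  obtain ⟨V₁, g, vb, W, δ, he, hv, hfin, hf, hs, huniq⟩ := GL.exists_nbhd f γ (f.quasiFiniteAt _)
  exact ⟨V₁, g, vb, W, δ ≫ W.ι, he, hv, ⟨hfin, pt_mem W δ, by rw [Category.assoc, hs], fun δ' h1 h2 => by
    obtain ⟨δ₀, rfl⟩ := exists_lift_to_open W δ' h2
    rw [huniq δ₀ (by rw [← h1, Category.assoc])]⟩, by rw [Category.assoc, hf]⟩

/-- A weighting has locally constant integral on every piece of every base change. -/
theorem eventually_piece_eq [IsAlgClosed Ω] {f : X ⟶ Y} [LocallyQuasiFinite f]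
    [LocallyOfFiniteType f] {w : X → ℤ} (hw : MoreMor.IsWeighting f w) {π : T ⟶ V} {k : T ⟶ X}
    {g : V ⟶ Y} (hc : IsPullback k π f g) {vb : Spec (CommRingCat.of Ω) ⟶ V} {W : T.Opens}
    {δ : Spec (CommRingCat.of Ω) ⟶ T} (hp : IsPiece π vb W δ) :
    ∀ᶠ v in 𝓝 (pt vb), fiOn π W (w ∘ ⇑k) v = fiOn π W (w ∘ ⇑k) (pt vb) := by
  haveI : LocallyQuasiFinite π := MorphismProperty.of_isPullback hc inferInstance
  obtain ⟨V₁, g₁, vb₁, W₁, δ₁, he, hv₁, hp₁, hδ₁⟩ := exists_piece f (δ ≫ k)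
  rw [Category.assoc, hc.w, reassoc_of% hp.over] at hv₁
  let p := pullback.fst g g₁
  let q := pullback.snd g g₁
  let vb' := pullback.lift vb vb₁ hv₁.symm
  have hc' : IsPullback (pullback.fst π p) (pullback.snd π p) π p := IsPullback.of_hasPullback _ _
  have hc₂ : IsPullback (pullback.fst π p ≫ k) (pullback.snd π p) f (q ≫ g₁) := by
    rw [← pullback.condition]
    exact hc'.paste_horiz hc
  let m := pullback.lift (f := f) (g := g₁) (pullback.fst π p ≫ k) (pullback.snd π p ≫ q)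
    (by rw [hc₂.w, Category.assoc])
  have hm : IsPullback m (pullback.snd π p) (pullback.snd f g₁) q :=
    IsPullback.of_right (h₁₂ := pullback.fst f g₁)
      (by rw [pullback.lift_fst]; exact hc₂) (pullback.lift_snd ..) (IsPullback.of_hasPullback f g₁)
  haveI : LocallyQuasiFinite (pullback.snd π p) := MorphismProperty.of_isPullback hc' inferInstance
  have hA := hp.baseChange hc' vb' (pullback.lift_fst ..)
  have hB := hp₁.baseChange hm vb' (pullback.lift_snd ..)
  have e : hc'.lift δ vb' (by rw [hp.over, pullback.lift_fst]) =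
      hm.lift δ₁ vb' (by rw [hp₁.over, pullback.lift_snd]) := by
    refine hc₂.hom_ext ?_ (by rw [IsPullback.lift_snd, IsPullback.lift_snd])
    rw [IsPullback.lift_fst_assoc, ← pullback.lift_fst (f := f) (g := g₁) (pullback.fst π p ≫ k)
      (pullback.snd π p ≫ q) (by rw [hc₂.w, Category.assoc]), IsPullback.lift_fst_assoc, hδ₁]
  rw [← e] at hB
  have hq : pullback.fst g g₁ (pt vb') = pt vb := by rw [← pt_comp, pullback.lift_fst]
  rw [← hq]
  refine eventually_of_etale (pullback.fst g g₁) ?_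
  have hcont : Tendsto q (𝓝 (pt vb')) (𝓝 (q (pt vb'))) := q.continuous.continuousAt
  have hlc : ∀ᶠ v in 𝓝 (pt vb'), fiOn (pullback.snd f g₁) W₁ (w ∘ ⇑(pullback.fst f g₁)) (q v) =
      fiOn (pullback.snd f g₁) W₁ (w ∘ ⇑(pullback.fst f g₁)) (q (pt vb')) :=
    hcont.eventually ((weighting_apply hw (IsPullback.of_hasPullback f g₁) hp₁.finite).eventually_eq _)
  have key : ∀ v, (∀ t, pullback.snd π p t = v → (t ∈ pullback.fst π p ⁻¹ᵁ W ↔ t ∈ m ⁻¹ᵁ W₁)) →
      fiOn π W (w ∘ ⇑k) (p v) = fiOn (pullback.snd f g₁) W₁ (w ∘ ⇑(pullback.fst f g₁)) (q v) := by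
    intro v hv
    rw [← fiOn_baseChange hc' hp.finite, ← fiOn_baseChange hm hp₁.finite,
      fiOn_congr hA.finite hB.finite _ hv]
    unfold fiOn
    congr 1
    funext a
    show w (k (pullback.fst π p _)) = w (pullback.fst f g₁ (m _))
    have : m ≫ pullback.fst f g₁ = pullback.fst π p ≫ k := pullback.lift_fst ..
    rw [← Scheme.Hom.comp_apply _ k, ← Scheme.Hom.comp_apply m, this]
  have hiff := hA.eventually_iff hB
  filter_upwards [hiff, hlc] with v a b
  rw [key v a, key _ hiff.self_of_nhds, b]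

/-- Weightings are stable under base change. -/
theorem isWeighting_baseChange {f : X ⟶ Y} [LocallyQuasiFinite f] [LocallyOfFiniteType f]
    {w : X → ℤ} (hw : MoreMor.IsWeighting f w) {X' Y' : Scheme.{u}} {f' : X' ⟶ Y'} {h : X' ⟶ X}
    {g : Y' ⟶ Y} (hc : IsPullback h f' f g) : MoreMor.IsWeighting f' (w ∘ ⇑h) := by
  intro V' g' _ U hU
  rw [IsLocallyConstant.iff_eventually_eq]
  intro v
  obtain ⟨Ω, _, _, vb, rfl⟩ := GF.exists_geomPoint v
  refine eventually_fibreIntegral_eq (U.ι ≫ pullback.snd f' g') _ vb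
    fun T' V'' k π' h₂ vb' W δ hc₁ he _ hp => ?_
  let q₁ := pullback.fst (pullback.snd f' g') h₂
  let q₂ := pullback.snd (pullback.snd f' g') h₂
  have hQ : IsPullback q₁ q₂ (pullback.snd f' g') h₂ := IsPullback.of_hasPullback _ _
  let j := hQ.lift (k ≫ U.ι) π' (by rw [Category.assoc, hc₁.w])
  have hj : j ≫ q₂ = π' := hQ.lift_snd ..
  have hjs : IsPullback k j U.ι q₁ :=
    IsPullback.of_bot (by rw [hj]; exact hc₁) (hQ.lift_fst ..).symm hQ
  haveI : IsOpenImmersion j := MorphismProperty.of_isPullback hjs inferInstance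
  rw [← hj] at hp
  have hall : IsPullback (q₁ ≫ pullback.fst f' g' ≫ h) q₂ f (h₂ ≫ g' ≫ g) :=
    hQ.paste_horiz ((IsPullback.of_hasPullback f' g').paste_horiz hc)
  have H := eventually_piece_eq hw hall (hp.image j)
  filter_upwards [H] with v' hv'
  rw [← fiOn_image j q₂ hp.finite, ← fiOn_image j q₂ hp.finite] at hv'
  rw [← hj]
  convert hv' using 3 <;>
  · funext a
    show w (h (pullback.fst f' g' (U.ι (k a)))) = w ((q₁ ≫ pullback.fst f' g' ≫ h) (j a))
    rw [Scheme.Hom.comp_apply, Scheme.Hom.comp_apply, ← Scheme.Hom.comp_apply k U.ι, hjs.w,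
      Scheme.Hom.comp_apply]

/-- Weightings restrict to open subschemes. -/
theorem isWeighting_restrict {f : X ⟶ Y} {w : X → ℤ} (hw : MoreMor.IsWeighting f w) (X' : X.Opens) :
    MoreMor.IsWeighting (X'.ι ≫ f) (fun x => w (X'.ι x)) := by
  intro V' g _ U hU
  have hc : IsPullback (pullback.fst f g ∣_ X') ((pullback.fst f g ⁻¹ᵁ X').ι ≫ pullback.snd f g)
      (X'.ι ≫ f) g :=
    (isPullback_morphismRestrict (pullback.fst f g) X').paste_vert (IsPullback.of_hasPullback f g)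
      |>.flip.flip
  let j := hc.isoPullback.inv ≫ (pullback.fst f g ⁻¹ᵁ X').ι
  have hj : j ≫ pullback.snd f g = pullback.snd (X'.ι ≫ f) g := by
    rw [Category.assoc, hc.isoPullback_inv_snd]
  have hj' : j ≫ pullback.fst f g = pullback.fst (X'.ι ≫ f) g ≫ X'.ι := by
    rw [Category.assoc, ← morphismRestrict_ι, hc.isoPullback_inv_fst_assoc]
  have hU' : IsFinite (U.ι ≫ j ≫ pullback.snd f g) := by rw [hj]; exact hU
  have h := weighting_apply hw (IsPullback.of_hasPullback f g) (isFinite_image j _ hU')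
  convert h using 1
  funext v
  rw [← fiOn_image j _ hU']
  unfold fiOn
  congr 1
  · rw [hj]
  · funext a
    show w (X'.ι (pullback.fst (X'.ι ≫ f) g (U.ι a))) = w (pullback.fst f g (j (U.ι a)))
    rw [← Scheme.Hom.comp_apply _ X'.ι, ← Scheme.Hom.comp_apply j, hj']

end Groth.Agent.MorLib.WT
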