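import Groth.Agent.MorLib.GeomFibre
import Groth.Agent.MorLib.GeomLift
import Mathlib.AlgebraicGeometry.Morphisms.Proper

/-! Weightings: étale decomposition at geometric points and local behaviour of fibre integrals. -/

set_option autoImplicit false
universe u

namespace Groth.Agent.MorLib.WT

open AlgebraicGeometry CategoryTheory Limits Filter Topology
open Groth.Agent.MorLib.GF (pt pt_comp geomSum)

variable {T V : Scheme.{u}} {Ω : Type u} [Field Ω]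

/-- The fibre integral along an open subscheme. -/
noncomputable def fiOn (π : T ⟶ V) (W : T.Opens) (w : T → ℤ) : V → ℤ :=
  MoreMor.fibreIntegral (W.ι ≫ π) (w ∘ ⇑W.ι)

/-- The lifts of `yb`. -/
abbrev Lifts (π : T ⟶ V) (yb : Spec (CommRingCat.of Ω) ⟶ V) : Type u :=
  {δ : Spec (CommRingCat.of Ω) ⟶ T // δ ≫ π = yb}

theorem exists_lift_to_open (W : T.Opens) (δ : Spec (CommRingCat.of Ω) ⟶ T) (h : pt δ ∈ W) :
    ∃ δ₀ : Spec (CommRingCat.of Ω) ⟶ W, δ₀ ≫ W.ι = δ :=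
  ⟨IsOpenImmersion.lift W.ι δ (by
    rw [Scheme.Opens.range_ι]; exact GL.range_SpecField_subset δ _ h),
    IsOpenImmersion.lift_fac ..⟩

theorem pt_mem (W : T.Opens) (δ : Spec (CommRingCat.of Ω) ⟶ W) : pt (δ ≫ W.ι) ∈ W := by
  rw [pt_comp]; exact (pt δ).2

theorem geomSum_open (π : T ⟶ V) (W : T.Opens) (w : T → ℤ) (yb : Spec (CommRingCat.of Ω) ⟶ V) :
    geomSum (W.ι ≫ π) (w ∘ ⇑W.ι) yb = ∑ᶠ δ ∈ {δ : Lifts π yb | pt δ.1 ∈ W}, w (pt δ.1) := by
  rw [← finsum_set_coe_eq_finsum_mem, geomSum]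
  refine finsum_eq_of_bijective
    (fun δ => ⟨⟨δ.1 ≫ W.ι, (Category.assoc _ _ _).trans δ.2⟩, pt_mem W δ.1⟩)
    ⟨fun δ δ' h => Subtype.ext ((cancel_mono W.ι).mp (congrArg (fun x => x.1.1) h)), fun δ => ?_⟩
    fun δ => congrArg w (pt_comp δ.1 W.ι).symm
  obtain ⟨δ₀, h⟩ := exists_lift_to_open W δ.1.1 δ.2
  exact ⟨⟨δ₀, by rw [← Category.assoc, h, δ.1.2]⟩, Subtype.ext (Subtype.ext h)⟩

theorem fiOn_eq_finsum [IsAlgClosed Ω] (π : T ⟶ V) [LocallyQuasiFinite π] (W : T.Opens) (w : T → ℤ)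
    (yb : Spec (CommRingCat.of Ω) ⟶ V) [IsFinite (W.ι ≫ π)] :
    fiOn π W w (pt yb) = ∑ᶠ δ ∈ {δ : Lifts π yb | pt δ.1 ∈ W}, w (pt δ.1) := by
  rw [fiOn, GF.fibreIntegral_eq _ _ yb (Scheme.Hom.finite_preimage_singleton _ _), geomSum_open]

/-- A point of the fibre is the image of a lift. -/
theorem exists_lift_pt [IsAlgClosed Ω] (π : T ⟶ V) [LocallyQuasiFinite π]
    (yb : Spec (CommRingCat.of Ω) ⟶ V) (t : T) (ht : π t = pt yb) : ∃ δ : Lifts π yb, pt δ.1 = t :=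
  let ⟨δ, h1, h2⟩ := GF.exists_lift π yb t ht
  ⟨⟨δ, h1⟩, h2⟩

/-- An isolated piece: an open, finite over the base, with a unique lift. -/
structure IsPiece (π : T ⟶ V) (vb : Spec (CommRingCat.of Ω) ⟶ V) (W : T.Opens)
    (δ : Spec (CommRingCat.of Ω) ⟶ T) : Prop where
  finite : IsFinite (W.ι ≫ π)
  mem : pt δ ∈ W
  over : δ ≫ π = vb
  uniq : ∀ δ', δ' ≫ π = vb → pt δ' ∈ W → δ' = δ

theorem IsPiece.baseChange {T' V' : Scheme.{u}} {π : T ⟶ V} {π' : T' ⟶ V'} {k : T' ⟶ T}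
    {h : V' ⟶ V} (hc : IsPullback k π' π h) {vb : Spec (CommRingCat.of Ω) ⟶ V} {W : T.Opens}
    {δ : Spec (CommRingCat.of Ω) ⟶ T} (hp : IsPiece π vb W δ)
    (vb' : Spec (CommRingCat.of Ω) ⟶ V') (hv : vb' ≫ h = vb) :
    IsPiece π' vb' (k ⁻¹ᵁ W) (hc.lift δ vb' (by rw [hp.over, hv])) where
  finite := MorphismProperty.of_isPullback ((isPullback_morphismRestrict k W).paste_vert hc)
    hp.finite
  mem := by
    show k (pt _) ∈ W
    rw [← pt_comp, hc.lift_fst]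
    exact hp.mem
  over := hc.lift_snd ..
  uniq δ' h1 h2 := hc.hom_ext (by
    rw [hc.lift_fst]
    refine hp.uniq _ ?_ (by rw [pt_comp]; exact h2)
    rw [Category.assoc, hc.w, reassoc_of% h1, hv]) (by rw [hc.lift_snd, h1])

set_option backward.isDefEq.respectTransparency.types false in
/-- Simultaneous étale isolation of finitely many lifts. -/
theorem exists_decomp' [IsAlgClosed Ω] (π : T ⟶ V) [LocallyOfFiniteType π]
    (vb : Spec (CommRingCat.of Ω) ⟶ V) {ι : Type u} [Finite ι] (γ : ι → Lifts π vb)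
    (hqf : ∀ i, π.QuasiFiniteAt (pt (γ i).1)) :
    ∃ (T' V' : Scheme.{u}) (k : T' ⟶ T) (π' : T' ⟶ V') (h : V' ⟶ V)
      (vb' : Spec (CommRingCat.of Ω) ⟶ V') (W : ι → T'.Opens)
      (δ : ι → (Spec (CommRingCat.of Ω) ⟶ T')),
      IsPullback k π' π h ∧ Etale h ∧ vb' ≫ h = vb ∧
      ∀ i, IsPiece π' vb' (W i) (δ i) ∧ δ i ≫ k = (γ i).1 := by
  revert γ
  refine Finite.induction_empty_option (P := fun ι => ∀ γ : ι → Lifts π vb,
    (∀ i, π.QuasiFiniteAt (pt (γ i).1)) →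
    ∃ (T' V' : Scheme.{u}) (k : T' ⟶ T) (π' : T' ⟶ V') (h : V' ⟶ V)
      (vb' : Spec (CommRingCat.of Ω) ⟶ V') (W : ι → T'.Opens)
      (δ : ι → (Spec (CommRingCat.of Ω) ⟶ T')),
      IsPullback k π' π h ∧ Etale h ∧ vb' ≫ h = vb ∧
      ∀ i, IsPiece π' vb' (W i) (δ i) ∧ δ i ≫ k = (γ i).1) ?_ ?_ ?_ ι
  · intro α β e H γ hqf
    obtain ⟨T', V', k, π', h, vb', W, δ, h1, h2, h3, h4⟩ := H (γ ∘ e) fun i => hqf _
    refine ⟨T', V', k, π', h, vb', W ∘ e.symm, δ ∘ e.symm, h1, h2, h3, fun i => ?_⟩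
    simpa using h4 (e.symm i)
  · intro γ _
    exact ⟨T, V, 𝟙 T, π, 𝟙 V, vb, fun i => i.elim, fun i => i.elim, IsPullback.id_horiz π,
      inferInstance, Category.comp_id _, fun i => i.elim⟩
  · intro α _ H γ hqf
    obtain ⟨T₁, V₁, k₁, π₁, h₁, vb₁, W₁, δ₁, hc₁, he₁, hv₁, hp₁⟩ := H (γ ∘ some) fun a => hqf _
    obtain ⟨V₂, h₂, vb₂, W₂, δ₂, he₂, hv₂, hfin, hf, hs, huniq⟩ :=
      GL.exists_nbhd π (γ none).1 (hqf none)
    rw [(γ none).2] at hv₂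
    have hp₂ : IsPiece (pullback.snd π h₂) vb₂ W₂ (δ₂ ≫ W₂.ι) :=
      ⟨hfin, pt_mem W₂ δ₂, by rw [Category.assoc, hs], fun δ' h1 h2 => by
        obtain ⟨δ₀, rfl⟩ := exists_lift_to_open W₂ δ' h2
        rw [huniq δ₀ (by rw [← h1, Category.assoc])]⟩
    let vb' := pullback.lift vb₁ vb₂ (hv₁.trans hv₂.symm)
    have hc' : IsPullback (pullback.fst π₁ (pullback.fst h₁ h₂)) (pullback.snd π₁ (pullback.fst h₁ h₂))
        π₁ (pullback.fst h₁ h₂) := IsPullback.of_hasPullback _ _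
    have hc : IsPullback (pullback.fst π₁ (pullback.fst h₁ h₂) ≫ k₁)
        (pullback.snd π₁ (pullback.fst h₁ h₂)) π (pullback.snd h₁ h₂ ≫ h₂) := by
      rw [← pullback.condition]
      exact hc'.paste_horiz hc₁
    have hc'' := IsPullback.of_right
      (h₁₁ := (IsPullback.of_hasPullback π h₂).lift (pullback.fst π₁ (pullback.fst h₁ h₂) ≫ k₁)
        (pullback.snd π₁ (pullback.fst h₁ h₂) ≫ pullback.snd h₁ h₂)
        (by rw [hc.w, Category.assoc]))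
      (h₁₂ := pullback.fst π h₂) (by rw [IsPullback.lift_fst]; exact hc)
      (IsPullback.lift_snd ..) (IsPullback.of_hasPullback π h₂)
    let d₁ := fun a => hc'.lift (δ₁ a) vb' (by rw [(hp₁ a).1.over, pullback.lift_fst])
    let m := (IsPullback.of_hasPullback π h₂).lift (pullback.fst π₁ (pullback.fst h₁ h₂) ≫ k₁)
      (pullback.snd π₁ (pullback.fst h₁ h₂) ≫ pullback.snd h₁ h₂) (by rw [hc.w, Category.assoc])
    let d₂ := hc''.lift (δ₂ ≫ W₂.ι) vb' (by rw [hp₂.over, pullback.lift_snd])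
    refine ⟨_, _, _, _, _, vb', fun o => o.elim (m ⁻¹ᵁ W₂) fun a => pullback.fst π₁ _ ⁻¹ᵁ W₁ a,
      fun o => o.elim d₂ d₁, hc, inferInstance, by rw [pullback.lift_snd_assoc, hv₂], fun o => ?_⟩
    cases o with
    | none =>
      refine ⟨hp₂.baseChange hc'' vb' (pullback.lift_snd ..), ?_⟩
      show d₂ ≫ _ = _
      have hm : m ≫ pullback.fst π h₂ = pullback.fst π₁ (pullback.fst h₁ h₂) ≫ k₁ :=
        IsPullback.lift_fst ..
      rw [← hm]
      rw [← Category.assoc, show d₂ ≫ m = δ₂ ≫ W₂.ι from hc''.lift_fst .., Category.assoc, hf]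
    | some a =>
      refine ⟨(hp₁ a).1.baseChange hc' vb' (pullback.lift_fst ..), ?_⟩
      show d₁ a ≫ _ = _
      simp only [d₁, IsPullback.lift_fst_assoc, (hp₁ a).2, Function.comp_apply]

/-- Simultaneous étale isolation for a locally quasi-finite morphism. -/
theorem exists_decomp [IsAlgClosed Ω] (π : T ⟶ V) [LocallyQuasiFinite π] [LocallyOfFiniteType π]
    (vb : Spec (CommRingCat.of Ω) ⟶ V) {ι : Type u} [Finite ι] (γ : ι → Lifts π vb) :
    ∃ (T' V' : Scheme.{u}) (k : T' ⟶ T) (π' : T' ⟶ V') (h : V' ⟶ V)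
      (vb' : Spec (CommRingCat.of Ω) ⟶ V') (W : ι → T'.Opens)
      (δ : ι → (Spec (CommRingCat.of Ω) ⟶ T')),
      IsPullback k π' π h ∧ Etale h ∧ vb' ≫ h = vb ∧
      ∀ i, IsPiece π' vb' (W i) (δ i) ∧ δ i ≫ k = (γ i).1 :=
  exists_decomp' π vb γ fun _ => π.quasiFiniteAt _

end Groth.Agent.MorLib.WT
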