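import Groth.Agent.MorLib.WeightConstr
import Groth.Agent.MorLib.GeomPts

/-! Boundedness of fibre integrals. -/

set_option autoImplicit false
universe u

namespace Groth.Agent.MorLib.WT

open AlgebraicGeometry CategoryTheory Limits
open Groth.Agent.MorLib.GF (pt pt_comp geomSum)

variable {X Y : Scheme.{u}} {Ω : Type u} [Field Ω] [IsAlgClosed Ω]

set_option backward.isDefEq.respectTransparency.types false in
theorem injective_pt_lifts (π : X ⟶ Spec (CommRingCat.of Ω)) [LocallyQuasiFinite π] :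
    Function.Injective fun δ : Lifts π (𝟙 (Spec (CommRingCat.of Ω))) => pt δ.1 := by
  rintro δ₁ δ₂ (h : pt δ₁.1 = pt δ₂.1)
  have hu : π (pt δ₁.1) = pt (𝟙 (Spec (CommRingCat.of Ω))) :=
    (pt_comp δ₁.1 π).symm.trans (congrArg pt δ₁.2)
  obtain ⟨hfin, hcard⟩ := GF.lifts_at π (𝟙 _) (pt δ₁.1) hu
  letI := (π.residueFieldMap (pt δ₁.1)).hom.toAlgebra
  haveI : Module.Finite _ (X.residueField (pt δ₁.1)) := GF.finite_residueFieldMap π (pt δ₁.1)
  let x : PrimeSpectrum (CommRingCat.of Ω) := π (pt δ₁.1)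
  haveI : x.asIdeal.IsMaximal := by
    have : x.asIdeal = ⊥ := (Ideal.eq_bot_or_top x.asIdeal).resolve_right x.isPrime.ne_top
    rw [this]
    exact Ideal.bot_isMaximal
  haveI : IsAlgClosed ((Spec (CommRingCat.of Ω)).residueField (π (pt δ₁.1))) :=
    IsAlgClosed.of_ringEquiv Ω _ ((RingEquiv.ofBijective (algebraMap Ω x.asIdeal.ResidueField)
      ⟨RingHom.injective _, Ideal.algebraMap_residueField_surjective x.asIdeal⟩).trans
      (Scheme.Spec.residueFieldIso (CommRingCat.of Ω) x).commRingCatIsoToRingEquiv.symm)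
  have h1 : Field.finSepDegree ((Spec (CommRingCat.of Ω)).residueField (π (pt δ₁.1)))
      (X.residueField (pt δ₁.1)) ≤ 1 := by
    refine (Field.finSepDegree_le_finrank _ _).trans (le_of_eq ?_)
    refine (LinearEquiv.finrank_eq ?_).trans (Module.finrank_self _)
    exact (LinearEquiv.ofBijective (Algebra.linearMap _ _)
      IsAlgClosed.algebraMap_bijective_of_isIntegral).symm
  rw [← hcard, Finite.card_le_one_iff_subsingleton] at h1
  exact Subtype.ext (congrArg (fun a : {δ // δ ≫ π = 𝟙 _ ∧ pt δ = pt δ₁.1} => a.1)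
    (Subsingleton.elim ⟨δ₁.1, δ₁.2, rfl⟩ ⟨δ₂.1, δ₂.2, h.symm⟩))

theorem finite_card_lifts (f : X ⟶ Y) [LocallyQuasiFinite f] {n : ℕ} (hn : GP.CardLE f n)
    (yb : Spec (CommRingCat.of Ω) ⟶ Y) :
    Finite (Lifts f yb) ∧ Nat.card (Lifts f yb) ≤ n := by
  have hc : IsPullback (pullback.fst f yb) (pullback.snd f yb) f yb := IsPullback.of_hasPullback _ _
  haveI : LocallyQuasiFinite (pullback.snd f yb) := MorphismProperty.of_isPullback hc inferInstance
  let F : Lifts f yb → ↥(pullback f yb) := fun δ =>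
    pt (pullback.lift δ.1 (𝟙 _) (δ.2.trans (Category.id_comp _).symm))
  have hF : Function.Injective F := fun δ δ' h => by
    have := injective_pt_lifts (pullback.snd f yb)
      (a₁ := ⟨_, pullback.lift_snd δ.1 (𝟙 _) (δ.2.trans (Category.id_comp _).symm)⟩)
      (a₂ := ⟨_, pullback.lift_snd δ'.1 (𝟙 _) (δ'.2.trans (Category.id_comp _).symm)⟩) h
    have := congrArg (fun a => a.1 ≫ pullback.fst f yb) this
    exact Subtype.ext ((pullback.lift_fst _ _ _).symm.trans (this.trans (pullback.lift_fst _ _ _)))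
  have hb : ENat.card (Lifts f yb) ≤ n := (ENat.card_le_card_of_injective hF).trans (hn Ω yb)
  have hfin : Finite (Lifts f yb) := by
    by_contra hinf
    rw [not_finite_iff_infinite] at hinf
    rw [ENat.card_eq_top_of_infinite] at hb
    exact absurd hb (by simp)
  refine ⟨hfin, ?_⟩
  rw [ENat.card_eq_coe_natCard] at hb
  exact_mod_cast hb

/-- The fibre integral of a weighting on a quasi-compact source is bounded. -/
theorem exists_bound_fibreIntegral {f : X ⟶ Y} [LocallyQuasiFinite f] [LocallyOfFiniteType f]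
    [CompactSpace X] {w : X → ℤ} (hw : MoreMor.IsWeighting f w) :
    ∃ B : ℤ, ∀ y, MoreMor.fibreIntegral f w y ≤ B := by
  obtain ⟨n, hn⟩ := GP.exists_cardLE f
  obtain ⟨M, hM⟩ := (finite_range_weighting hw).bddAbove
  refine ⟨n * max M 0, fun y => ?_⟩
  obtain ⟨Ω', _, _, yb, rfl⟩ := GF.exists_geomPoint y
  obtain ⟨hfin, hcard⟩ := finite_card_lifts f hn yb
  have hfib : (f ⁻¹' {pt yb}).Finite :=
    (Set.finite_range fun δ : Lifts f yb => pt δ.1).subset fun t ht =>
      exists_lift_pt f yb t ht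
  let := Fintype.ofFinite (Lifts f yb)
  rw [GF.fibreIntegral_eq f w yb hfib, geomSum, finsum_eq_sum_of_fintype]
  calc ∑ δ : Lifts f yb, w (pt δ.1) ≤ ∑ _δ : Lifts f yb, max M 0 :=
        Finset.sum_le_sum fun δ _ => (hM ⟨_, rfl⟩).trans (le_max_left _ _)
    _ ≤ n * max M 0 := by
        rw [Finset.sum_const, Finset.card_univ, nsmul_eq_mul, ← Nat.card_eq_fintype_card]
        exact mul_le_mul_of_nonneg_right (Int.ofNat_le.mpr hcard) (le_max_right _ _)

theorem exists_max_fibreIntegral {f : X ⟶ Y} [LocallyQuasiFinite f] [LocallyOfFiniteType f]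
    [CompactSpace X] {w : X → ℤ} (hw : MoreMor.IsWeighting f w) [Nonempty Y] :
    ∃ y₀ : Y, ∀ y : Y, MoreMor.fibreIntegral f w y ≤ MoreMor.fibreIntegral f w y₀ := by
  obtain ⟨B, hB⟩ := exists_bound_fibreIntegral hw
  obtain ⟨m, ⟨y₀, rfl⟩, hm⟩ := Int.exists_greatest_of_bdd
    (P := fun z => ∃ y, MoreMor.fibreIntegral f w y = z) ⟨B, fun z ⟨y, hy⟩ => hy ▸ hB y⟩
    ⟨_, Classical.arbitrary Y, rfl⟩
  exact ⟨y₀, fun y => hm _ ⟨y, rfl⟩⟩

end Groth.Agent.MorLib.WT
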