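import Groth.Agent.MorLib.WeightBaseChange

/-! Composition of weightings. -/

set_option autoImplicit false
universe u

namespace Groth.Agent.MorLib.WT

open AlgebraicGeometry CategoryTheory Limits Filter Topology
open Groth.Agent.MorLib.GF (pt pt_comp geomSum)

variable {A B V : Scheme.{u}}

/-- Fibre integrals along a composite. -/
theorem fibreIntegral_comp (a : A ⟶ B) (b : B ⟶ V) [IsFinite a] [IsFinite b] (wA : A → ℤ)
    (wB : B → ℤ) (c : ℤ) (v : V) (hc : ∀ s, b s = v → MoreMor.fibreIntegral a wA s = c) :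
    MoreMor.fibreIntegral (a ≫ b) (fun t => wA t * wB (a t)) v =
      c * MoreMor.fibreIntegral b wB v := by
  classical
  obtain ⟨Ω, _, _, yb, rfl⟩ := GF.exists_geomPoint v
  haveI := GF.finite_lifts (a ≫ b) yb (Scheme.Hom.finite_preimage_singleton _ _)
  haveI := GF.finite_lifts b yb (Scheme.Hom.finite_preimage_singleton _ _)
  haveI := fun η : Lifts b yb => GF.finite_lifts a η.1 (Scheme.Hom.finite_preimage_singleton _ _)
  let := fun η : Lifts b yb => Fintype.ofFinite (Lifts a η.1)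
  let := Fintype.ofFinite (Lifts (a ≫ b) yb)
  let := Fintype.ofFinite (Lifts b yb)
  rw [GF.fibreIntegral_eq (a ≫ b) _ yb (Scheme.Hom.finite_preimage_singleton _ _),
    GF.fibreIntegral_eq b _ yb (Scheme.Hom.finite_preimage_singleton _ _), geomSum, geomSum,
    finsum_eq_sum_of_fintype, finsum_eq_sum_of_fintype, Finset.mul_sum]
  let e : (Σ η : Lifts b yb, Lifts a η.1) ≃ Lifts (a ≫ b) yb :=
    { toFun := fun p => ⟨p.2.1, by rw [← Category.assoc, p.2.2, p.1.2]⟩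
      invFun := fun δ => ⟨⟨δ.1 ≫ a, (Category.assoc _ _ _).trans δ.2⟩, ⟨δ.1, rfl⟩⟩
      left_inv := fun p => Sigma.subtype_ext (Subtype.ext p.2.2) rfl
      right_inv := fun δ => rfl }
  rw [← e.sum_comp, Fintype.sum_sigma]
  refine Finset.sum_congr rfl fun η _ => ?_
  rw [← hc (pt η.1) ((pt_comp η.1 b).symm.trans (congrArg pt η.2)),
    GF.fibreIntegral_eq a _ η.1 (Scheme.Hom.finite_preimage_singleton _ _), geomSum,
    finsum_eq_sum_of_fintype, Finset.sum_mul]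
  refine Finset.sum_congr rfl fun δ _ => ?_
  show wA (pt δ.1) * wB (a (pt δ.1)) = _
  rw [← pt_comp, δ.2]

variable {X Y Z T Y' : Scheme.{u}} {Ω : Type u} [Field Ω] [IsAlgClosed Ω]

set_option backward.isDefEq.respectTransparency.types false in
/-- The integral over a piece mapped into a piece. -/
theorem eventually_comp_piece {f : X ⟶ Y} {g : Y ⟶ Z} [LocallyQuasiFinite f]
    [LocallyOfFiniteType f] [LocallyQuasiFinite g] [LocallyOfFiniteType g] {wf : X → ℤ} {wg : Y → ℤ}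
    (hf : MoreMor.IsWeighting f wf) (hg : MoreMor.IsWeighting g wg)
    {k : T ⟶ X} {kY : Y' ⟶ Y} {r : T ⟶ Y'} {σ : Y' ⟶ V} {gZ : V ⟶ Z} [Etale gZ]
    (hr : IsPullback k r f kY) (hs : IsPullback kY σ g gZ)
    {vb : Spec (CommRingCat.of Ω) ⟶ V} {W : T.Opens} {δ : Spec (CommRingCat.of Ω) ⟶ T}
    (hW : IsPiece (r ≫ σ) vb W δ) {B : Y'.Opens} {η : Spec (CommRingCat.of Ω) ⟶ Y'}
    (hB : IsPiece σ vb B η) (hη : δ ≫ r = η) (hle : ∀ t ∈ W, r t ∈ B) :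
    ∀ᶠ v in 𝓝 (pt vb), fiOn (r ≫ σ) W (fun t => wf (k t) * wg (f (k t))) v =
      wf (pt (δ ≫ k)) * wg (f (pt (δ ≫ k))) := by
  haveI : LocallyQuasiFinite r := MorphismProperty.of_isPullback hr inferInstance
  haveI : LocallyQuasiFinite σ := MorphismProperty.of_isPullback hs inferInstance
  haveI : Etale kY := MorphismProperty.of_isPullback hs.flip inferInstance
  haveI := hB.finite
  have hWB : W ≤ r ⁻¹ᵁ B := hle
  let A : (r ⁻¹ᵁ B : Scheme.{u}).Opens := (r ⁻¹ᵁ B).ι ⁻¹ᵁ W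
  have himg : (r ⁻¹ᵁ B).ι ''ᵁ A = W := by
    rw [Scheme.Hom.image_preimage_eq_opensRange_inf, Scheme.Opens.opensRange_ι, inf_eq_right.mpr hWB]
  have hc : IsPullback ((r ⁻¹ᵁ B).ι ≫ k) (r ∣_ B) f (B.ι ≫ kY) :=
    (isPullback_morphismRestrict r B).flip.paste_horiz hr
  have hcomp : (r ∣_ B) ≫ B.ι ≫ σ = (r ⁻¹ᵁ B).ι ≫ r ≫ σ := by
    rw [morphismRestrict_ι_assoc]
  haveI hA : IsFinite (A.ι ≫ (r ⁻¹ᵁ B).ι ≫ r ≫ σ) := by
    rw [← Scheme.Hom.isoImage_hom_ι_assoc]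
    haveI : IsFinite (((r ⁻¹ᵁ B).ι ''ᵁ A).ι ≫ r ≫ σ) := by rw [himg]; exact hW.finite
    infer_instance
  haveI : IsFinite (A.ι ≫ (r ∣_ B)) := by
    haveI : IsFinite ((A.ι ≫ (r ∣_ B)) ≫ B.ι ≫ σ) := by rwa [Category.assoc, hcomp]
    exact IsFinite.of_comp _ (B.ι ≫ σ)
  have hlc := weighting_apply hf hc (W := A) inferInstance
  obtain ⟨δ₀, rfl⟩ := exists_lift_to_open (r ⁻¹ᵁ B) δ (hWB hW.mem)
  let ηB := δ₀ ≫ (r ∣_ B)
  have hηB : ηB ≫ B.ι = η := by rw [Category.assoc, morphismRestrict_ι, ← Category.assoc, hη]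
  have hpA : IsPiece (r ∣_ B) ηB A δ₀ := by
    refine ⟨inferInstance, ?_, rfl, fun δ' h1 h2 => (cancel_mono (r ⁻¹ᵁ B).ι).mp (hW.uniq _ ?_ ?_)⟩
    · show (r ⁻¹ᵁ B).ι (pt δ₀) ∈ W
      rw [← pt_comp]; exact hW.mem
    · rw [Category.assoc, ← hcomp, reassoc_of% h1, reassoc_of% hηB, hB.over]
    · rw [pt_comp]; exact h2
  let c := wf (pt ((δ₀ ≫ (r ⁻¹ᵁ B).ι) ≫ k))
  have hc0 : fiOn (r ∣_ B) A (wf ∘ ⇑((r ⁻¹ᵁ B).ι ≫ k)) (pt ηB) = c := by
    rw [hpA.fiOn_eq]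
    show wf _ = wf _
    rw [← pt_comp, Category.assoc]
  let B₀ : Y'.Opens :=
    B.ι ''ᵁ ⟨_, hlc.isOpen_fiber c⟩
  have hB₀ : pt η ∈ B₀ := ⟨pt ηB, hc0, (pt_comp ηB B.ι).symm.trans (congrArg pt hηB)⟩
  have hgc : ∀ᶠ v in 𝓝 (pt vb), fiOn σ B (wg ∘ ⇑kY) v = wg (f (pt ((δ₀ ≫ (r ⁻¹ᵁ B).ι) ≫ k))) := by
    filter_upwards [eventually_piece_eq hg hs hB] with v hv
    rw [hv, hB.fiOn_eq]
    show wg (kY (pt η)) = _
    rw [← pt_comp, ← pt_comp _ f, Category.assoc _ k f, hr.w, ← Category.assoc, hη]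
  filter_upwards [hB.eventually_mem B₀ hB₀, hgc] with v hv hv'
  have key := fibreIntegral_comp (A.ι ≫ (r ∣_ B)) (B.ι ≫ σ) (fun t => wf (k ((r ⁻¹ᵁ B).ι (A.ι t))))
    (fun s => wg (kY (B.ι s))) c v fun s hs' => ?_
  swap
  · obtain ⟨a, ha, hab⟩ := hv (B.ι s) s.2 ((Scheme.Hom.comp_apply B.ι σ s).symm.trans hs')
    rw [← B.ι.isOpenEmbedding.injective hab]
    refine Eq.trans ?_ ha
    unfold fiOn
    congr 1
  rw [← hv']
  refine Eq.trans (Eq.trans ?_ key) rfl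
  have h1 : fiOn ((r ⁻¹ᵁ B).ι ≫ r ≫ σ) A ((fun t => wf (k t) * wg (f (k t))) ∘ ⇑(r ⁻¹ᵁ B).ι) v =
      fiOn (r ≫ σ) W (fun t => wf (k t) * wg (f (k t))) v := by
    rw [fiOn_image (r ⁻¹ᵁ B).ι _ hA, himg]
  rw [← h1]
  unfold fiOn
  congr 1
  · rw [Category.assoc, hcomp]
  · funext a
    show wf _ * wg (f (k ((r ⁻¹ᵁ B).ι (A.ι a)))) = wf _ * wg (kY (B.ι ((A.ι ≫ (r ∣_ B)) a)))
    congr 2
    rw [← Scheme.Hom.comp_apply k f, hr.w, Scheme.Hom.comp_apply, Scheme.Hom.comp_apply,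
      ← Scheme.Hom.comp_apply (r ∣_ B) B.ι, morphismRestrict_ι, Scheme.Hom.comp_apply]

theorem isWeighting_comp {f : X ⟶ Y} {g : Y ⟶ Z} [LocallyQuasiFinite f] [LocallyOfFiniteType f]
    [LocallyQuasiFinite g] [LocallyOfFiniteType g] {wf : X → ℤ} {wg : Y → ℤ}
    (hf : MoreMor.IsWeighting f wf) (hg : MoreMor.IsWeighting g wg) :
    MoreMor.IsWeighting (f ≫ g) (fun x => wf x * wg (f x)) := by
  intro V g' _ U hU
  rw [IsLocallyConstant.iff_eventually_eq]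
  intro v
  obtain ⟨Ω', _, _, vb, rfl⟩ := GF.exists_geomPoint v
  refine eventually_fibreIntegral_eq (U.ι ≫ pullback.snd (f ≫ g) g') _ vb
    fun T' V' k₁ π₁ h₂ vb' W δ hc₁ he _ hp => ?_
  -- embed T' in the pullback to V'
  let P := pullback (f ≫ g) (h₂ ≫ g')
  have hP : IsPullback (pullback.fst _ _) (pullback.snd _ _) (f ≫ g) (h₂ ≫ g') :=
    IsPullback.of_hasPullback _ _
  have hV : IsPullback (pullback.fst (f ≫ g) g') (pullback.snd (f ≫ g) g') (f ≫ g) g' :=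
    IsPullback.of_hasPullback _ _
  let m := hV.lift (pullback.fst _ _) (pullback.snd (f ≫ g) (h₂ ≫ g') ≫ h₂)
    (by rw [Category.assoc]; exact hP.w)
  have hm : IsPullback m (pullback.snd (f ≫ g) (h₂ ≫ g')) (pullback.snd (f ≫ g) g') h₂ :=
    IsPullback.of_right (by rw [IsPullback.lift_fst]; exact hP) (hV.lift_snd ..) hV
  let j := hm.lift (k₁ ≫ U.ι) π₁ (by rw [Category.assoc, hc₁.w])
  have hj : j ≫ pullback.snd (f ≫ g) (h₂ ≫ g') = π₁ := hm.lift_snd ..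
  have hjs : IsPullback k₁ j U.ι m :=
    IsPullback.of_bot (by rw [hj]; exact hc₁) (hm.lift_fst ..).symm hm
  haveI : IsOpenImmersion j := MorphismProperty.of_isPullback hjs inferInstance
  rw [← hj] at hp
  have hWf : IsFinite ((j ''ᵁ W).ι ≫ pullback.snd (f ≫ g) (h₂ ≫ g')) := isFinite_image j _ hp.finite
  suffices H : ∀ᶠ v' in 𝓝 (pt vb'), fiOn (pullback.snd (f ≫ g) (h₂ ≫ g')) (j ''ᵁ W)
      (fun t => wf (pullback.fst (f ≫ g) (h₂ ≫ g') t) * wg (f (pullback.fst (f ≫ g) (h₂ ≫ g') t))) v' =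
    fiOn (pullback.snd (f ≫ g) (h₂ ≫ g')) (j ''ᵁ W)
      (fun t => wf (pullback.fst (f ≫ g) (h₂ ≫ g') t) * wg (f (pullback.fst (f ≫ g) (h₂ ≫ g') t))) (pt vb') by
    filter_upwards [H] with v' hv'
    rw [← fiOn_image j _ hp.finite, ← fiOn_image j _ hp.finite] at hv'
    rw [← hj]
    convert hv' using 3 <;>
    · funext a
      have e : k₁ ≫ U.ι ≫ pullback.fst (f ≫ g) g' = j ≫ pullback.fst (f ≫ g) (h₂ ≫ g') := by
        rw [← hV.lift_fst (pullback.fst (f ≫ g) (h₂ ≫ g')) (pullback.snd (f ≫ g) (h₂ ≫ g') ≫ h₂)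
          (by rw [Category.assoc]; exact hP.w), reassoc_of% hjs.w]
      have e' := congr($e a)
      simp only [Scheme.Hom.comp_apply] at e'
      show wf (pullback.fst (f ≫ g) g' (U.ι (k₁ a))) * wg (f (pullback.fst (f ≫ g) g' (U.ι (k₁ a)))) = _
      rw [e']
      rfl
  have hp' := hp.image j
  generalize j ''ᵁ W = W₀, δ ≫ j = δ₀ at hp'
  -- a piece for g through the image
  obtain ⟨V₁, g₁, vb₁, B, η, he₁, hv₁, hpB, hη⟩ :=
    exists_piece g (δ₀ ≫ pullback.fst (f ≫ g) (h₂ ≫ g') ≫ f)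
  rw [Category.assoc, Category.assoc, hP.w, reassoc_of% hp'.over] at hv₁
  let p := pullback.fst (h₂ ≫ g') g₁
  let q := pullback.snd (h₂ ≫ g') g₁
  let vc := pullback.lift vb' vb₁ hv₁.symm
  let gZ := p ≫ h₂ ≫ g'
  let Y'' := pullback g gZ
  let kY := pullback.fst g gZ
  let σ := pullback.snd g gZ
  let r := pullback.snd f kY
  let k := pullback.fst f kY
  have hr : IsPullback k r f kY := IsPullback.of_hasPullback _ _
  have hs : IsPullback kY σ g gZ := IsPullback.of_hasPullback _ _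
  have hrs : IsPullback k (r ≫ σ) (f ≫ g) gZ := hr.paste_vert hs
  haveI : LocallyQuasiFinite (r ≫ σ) := MorphismProperty.of_isPullback hrs inferInstance
  haveI : LocallyQuasiFinite σ := MorphismProperty.of_isPullback hs inferInstance
  let mT := hP.lift k ((r ≫ σ) ≫ p) (hrs.w.trans (by simp only [gZ, Category.assoc]))
  have hmT : IsPullback mT (r ≫ σ) (pullback.snd (f ≫ g) (h₂ ≫ g')) p :=
    IsPullback.of_right (by rw [IsPullback.lift_fst]; exact hrs) (hP.lift_snd ..) hP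
  have hgeq : gZ = q ≫ g₁ := pullback.condition
  have hmYw : kY ≫ g = (σ ≫ q) ≫ g₁ :=
    hs.w.trans ((congrArg (σ ≫ ·) hgeq).trans (Category.assoc _ _ _).symm)
  let mY := pullback.lift (f := g) (g := g₁) kY (σ ≫ q) hmYw
  have hmY : IsPullback mY σ (pullback.snd g g₁) q :=
    IsPullback.of_right (h₁₂ := pullback.fst g g₁) (by rw [pullback.lift_fst]; exact IsPullback.of_iso hs (Iso.refl _) (Iso.refl _) (Iso.refl _) (Iso.refl _) (by simp) (by simp) (by simp) (by simp [hgeq]))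
      (pullback.lift_snd ..) (IsPullback.of_hasPullback g g₁)
  have hA := hp'.baseChange hmT vc (pullback.lift_fst ..)
  have hB := hpB.baseChange hmY vc (pullback.lift_snd ..)
  obtain ⟨δc, hδc⟩ : ∃ d, d = hmT.lift δ₀ vc (by rw [hp'.over, pullback.lift_fst]) := ⟨_, rfl⟩
  rw [← hδc] at hA
  have hηc : δc ≫ r = hmY.lift η vc (by rw [hpB.over, pullback.lift_snd]) := by
    refine hs.hom_ext ?_ (by rw [IsPullback.lift_snd, Category.assoc, hA.over])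
    have e1 : mY ≫ pullback.fst g g₁ = kY := pullback.lift_fst _ _ _
    have e2 : mT ≫ pullback.fst (f ≫ g) (h₂ ≫ g') = k := hP.lift_fst ..
    have e3 : δc ≫ mT = δ₀ := by rw [hδc]; exact hmT.lift_fst ..
    refine (Category.assoc _ _ _).trans ?_
    rw [← hr.w, ← e2, Category.assoc, reassoc_of% e3, ← hη]
    refine Eq.trans ?_ (congrArg (hmY.lift η vc (by rw [hpB.over, pullback.lift_snd]) ≫ ·) e1)
    simp
  rw [← hηc] at hB
  obtain ⟨N, hN, hNo, hvN⟩ := mem_nhds_iff.mp (hA.eventually_mem (r ⁻¹ᵁ (mY ⁻¹ᵁ B))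
    ((congrArg (· ∈ mY ⁻¹ᵁ B) (pt_comp δc r)).mp hB.mem))
  let N' : Scheme.Opens _ := ⟨N, hNo⟩
  obtain ⟨vN, hvN'⟩ := exists_lift_to_open N' vc hvN
  let Y₀ := σ ⁻¹ᵁ N'
  have hr₀ : IsPullback ((r ⁻¹ᵁ Y₀).ι ≫ k) (r ∣_ Y₀) f (Y₀.ι ≫ kY) :=
    (isPullback_morphismRestrict r Y₀).flip.paste_horiz hr
  have hs₀ : IsPullback (Y₀.ι ≫ kY) (σ ∣_ N') g (N'.ι ≫ gZ) :=
    (isPullback_morphismRestrict σ N').flip.paste_horiz hs
  have hBsq : IsPullback Y₀.ι (σ ∣_ N') σ N'.ι := (isPullback_morphismRestrict σ N').flip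
  have hAsq : IsPullback (r ⁻¹ᵁ Y₀).ι ((r ∣_ Y₀) ≫ (σ ∣_ N')) (r ≫ σ) N'.ι :=
    (isPullback_morphismRestrict r Y₀).flip.paste_vert hBsq
  have hA₀ := hA.baseChange hAsq vN hvN'
  have hB₀ := hB.baseChange hBsq vN hvN'
  have hev := eventually_comp_piece (f := f) (g := g) hf hg hr₀ hs₀ hA₀ hB₀
    (hBsq.hom_ext (by rw [Category.assoc, morphismRestrict_ι, IsPullback.lift_fst_assoc,
        IsPullback.lift_fst]) (by rw [Category.assoc, IsPullback.lift_snd, IsPullback.lift_snd]))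
    fun t ht => by
      have := hN t.2 _ ht rfl
      show Y₀.ι ((r ∣_ Y₀) t) ∈ mY ⁻¹ᵁ B
      rw [← Scheme.Hom.comp_apply, morphismRestrict_ι, Scheme.Hom.comp_apply]
      exact this
  let F : ↥(pullback (f ≫ g) (h₂ ≫ g')) → ℤ := fun t =>
    wf (pullback.fst (f ≫ g) (h₂ ≫ g') t) * wg (f (pullback.fst (f ≫ g) (h₂ ≫ g') t))
  have key : ∀ x, fiOn (pullback.snd (f ≫ g) (h₂ ≫ g')) W₀ F ((N'.ι ≫ p) x) =
      fiOn ((r ∣_ Y₀) ≫ (σ ∣_ N')) ((r ⁻¹ᵁ Y₀).ι ⁻¹ᵁ (mT ⁻¹ᵁ W₀))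
        (fun t => wf (((r ⁻¹ᵁ Y₀).ι ≫ k) t) * wg (f (((r ⁻¹ᵁ Y₀).ι ≫ k) t))) x := by
    intro x
    rw [Scheme.Hom.comp_apply, ← fiOn_baseChange hmT hp'.finite, ← fiOn_baseChange hAsq hA.finite]
    unfold fiOn
    congr 1
    funext a
    have e : mT ≫ pullback.fst (f ≫ g) (h₂ ≫ g') = k := hP.lift_fst ..
    simp only [Function.comp_apply, F, Scheme.Hom.comp_apply]
    rw [← Scheme.Hom.comp_apply mT, e]
  have hpt : pt vb' = (N'.ι ≫ p) (pt vN) := by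
    rw [← pt_comp, ← Category.assoc, hvN', pullback.lift_fst]
  rw [hpt]
  refine eventually_of_etale (N'.ι ≫ p) ?_
  filter_upwards [hev] with x hx
  show fiOn _ W₀ F _ = fiOn _ W₀ F _
  rw [key x, key (pt vN), hx, hev.self_of_nhds]

end Groth.Agent.MorLib.WT
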