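import Groth.Agent.MorLib.WeightConstr
import Groth.Agent.MorLib.WeightFlat

/-! Fibre integrals of constructible functions are constructible. -/

set_option autoImplicit false
universe u

namespace Groth.Agent.MorLib.WT

open AlgebraicGeometry CategoryTheory Limits Filter Topology
open Groth.Agent.MorLib.GF (pt pt_comp geomSum)

variable {T V X Y : Scheme.{u}}

/-- All preimages are constructible. -/
def Con (w : X → ℤ) : Prop := ∀ P : Set ℤ, IsConstructible (w ⁻¹' P)

theorem Con.comp {w : X → ℤ} (hw : Con w) (f : T ⟶ X) [QuasiCompact f] : Con (w ∘ ⇑f) :=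
  fun P => f.isConstructible_preimage (hw P)

theorem con_indicator_add {w : X → ℤ} (hw : Con w) {Z : Set X} (hZ : IsConstructible Z) (n : ℤ) :
    Con (Z.indicator (fun _ => n) + w) := by
  intro P
  have : (Z.indicator (fun _ => n) + w) ⁻¹' P = (Z ∩ w ⁻¹' ((n + ·) ⁻¹' P)) ∪ (Zᶜ ∩ w ⁻¹' P) := by
    ext x
    by_cases hx : x ∈ Z <;> simp [hx]
  rw [this]
  exact (hZ.inter (hw _)).union (hZ.compl.inter (hw _))

theorem con_zero : Con (0 : X → ℤ) := by
  intro P
  by_cases h : (0 : ℤ) ∈ P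
  · rw [show (0 : X → ℤ) ⁻¹' P = (∅ : Set X)ᶜ by ext; simpa using h]
    exact IsConstructible.empty.compl
  · rw [show (0 : X → ℤ) ⁻¹' P = (∅ : Set X) by ext; simpa using h]
    exact IsConstructible.empty

theorem con_finset_sum {κ : Type*} (S : Finset κ) (Z : κ → Set X) (hZ : ∀ i, IsConstructible (Z i))
    (n : κ → ℤ) : Con (∑ i ∈ S, (Z i).indicator fun _ => n i) := by
  classical
  induction S using Finset.induction_on with
  | empty => rw [Finset.sum_empty]; exact con_zero
  | insert a S ha ih => rw [Finset.sum_insert ha]; exact con_indicator_add ih (hZ a) _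

theorem fibreIntegral_of_subsingleton {Ω : Type u} [Field Ω] [IsAlgClosed Ω] (π : T ⟶ V) [IsFinite π]
    (w : T → ℤ) (yb : Spec (CommRingCat.of Ω) ⟶ V) [Subsingleton (Lifts π yb)] {z : T} (hz : π z = pt yb) :
    MoreMor.fibreIntegral π w (pt yb) = w z := by
  obtain ⟨d, rfl⟩ := exists_lift_pt π yb z hz
  haveI := GF.finite_lifts π yb (Scheme.Hom.finite_preimage_singleton _ _)
  rw [GF.fibreIntegral_eq π _ yb (Scheme.Hom.finite_preimage_singleton _ _), geomSum,
    finsum_eq_single _ d fun d' hd' => absurd (Subsingleton.elim d' d) hd']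

set_option backward.isDefEq.respectTransparency.types false in
theorem exists_const_constructible (π : T ⟶ V) [IsFinite π] [LocallyOfFinitePresentation π] [IsAffine V]
    {w : T → ℤ} (hw : Con w) (v : V) :
    ∃ C : Set V, IsConstructible C ∧ v ∈ C ∧
      ∀ c ∈ C, MoreMor.fibreIntegral π w c = MoreMor.fibreIntegral π w v := by
  classical
  obtain ⟨Ω, _, _, vb₀, rfl⟩ := GF.exists_geomPoint v
  haveI := GF.finite_lifts π vb₀ (Scheme.Hom.finite_preimage_singleton _ _)
  obtain ⟨T', V', k, π', h, vb, W, δ, hc, he, rfl, hp⟩ := exists_decomp π vb₀ id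
  haveI : IsFinite π' := MorphismProperty.of_isPullback hc inferInstance
  haveI : LocallyOfFinitePresentation π' := MorphismProperty.of_isPullback hc inferInstance
  let := Fintype.ofFinite (Lifts π (vb ≫ h))
  have hne : ∀ i j, i ≠ j → δ i ≠ δ j := fun i j hij e =>
    hij (Subtype.ext ((hp i).2.symm.trans ((congrArg (· ≫ k) e).trans (hp j).2)))
  have hcov : ∀ t, π' t = pt vb → ∃ i, t ∈ W i := by
    intro t ht
    obtain ⟨d, rfl⟩ := exists_lift_pt π' vb t ht
    let i : Lifts π (vb ≫ h) := ⟨d.1 ≫ k, by rw [Category.assoc, hc.w, reassoc_of% d.2]⟩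
    have e : d.1 = δ i := hc.hom_ext ((hp i).2.symm) (d.2.trans (hp i).1.over.symm)
    exact ⟨i, (congrArg (fun z => pt z ∈ W i) e).mpr (hp i).1.mem⟩
  have h1 : ∀ᶠ v' in 𝓝 (pt vb), ∀ t, π' t = v' → ∃ i, t ∈ W i := by
    filter_upwards [eventually_forall_not (π := π') (isFinite_top)
      (isOpen_iUnion fun i => (W i).2).isClosed_compl fun t _ ht htv =>
        ht (Set.mem_iUnion.mpr (hcov t htv))] with v' hv' t ht
    exact Set.mem_iUnion.mp (not_not.mp (hv' t trivial ht))
  have h2 : ∀ᶠ v' in 𝓝 (pt vb), ∀ i j, i ≠ j → ∀ t ∈ W i, π' t = v' → t ∉ W j := by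
    simp only [eventually_all]
    exact fun i j hij => (hp i).1.eventually_disjoint (hp j).1 (hne i j hij)
  obtain ⟨_, ⟨(V₀ : Scheme.Opens _), hV₀, rfl⟩, hvV₀, hV₀N⟩ :=
    V'.isBasis_affineOpens.mem_nhds_iff.mp (h1.and h2)
  obtain ⟨p, hp₀⟩ : ∃ p, hV₀.fromSpec p = pt vb := by
    have : pt vb ∈ Set.range hV₀.fromSpec := by rw [hV₀.range_fromSpec]; exact hvV₀
    exact this
  haveI := he
  haveI : LocallyQuasiFinite h := locallyQuasiFinite_of_etale h
  have key : ∀ i, ∃ D : Set (Spec Γ(V', V₀)), IsConstructible D ∧ p ∈ D ∧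
      ∀ c ∈ D, fiOn π' (W i) (w ∘ ⇑k) (hV₀.fromSpec c) = fiOn π' (W i) (w ∘ ⇑k) (pt vb) := by
    intro i
    haveI := (hp i).1.finite
    haveI : LocallyOfFinitePresentation ((W i).ι ≫ π') := inferInstance
    let π₀ := pullback.snd ((W i).ι ≫ π') hV₀.fromSpec
    let k₀ := pullback.fst ((W i).ι ≫ π') hV₀.fromSpec
    have hc₀ : IsPullback k₀ π₀ ((W i).ι ≫ π') hV₀.fromSpec := IsPullback.of_hasPullback _ _
    haveI : IsFinite π₀ := MorphismProperty.of_isPullback hc₀ (hp i).1.finite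
    haveI : LocallyOfFinitePresentation π₀ := MorphismProperty.of_isPullback hc₀ inferInstance
    haveI : IsAffine (pullback ((W i).ι ≫ π') hV₀.fromSpec) := isAffine_of_isAffineHom π₀
    let u : ↥(pullback ((W i).ι ≫ π') hV₀.fromSpec) → ℤ := w ∘ ⇑(k₀ ≫ (W i).ι ≫ k)
    haveI : IsAffine T := isAffine_of_isAffineHom π
    haveI : QuasiCompact (k₀ ≫ (W i).ι ≫ k) := inferInstance
    have hu : Con u := hw.comp _
    have hval : ∀ c, fiOn π' (W i) (w ∘ ⇑k) (hV₀.fromSpec c) = MoreMor.fibreIntegral π₀ u c := fun c => by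
      rw [show u = ((w ∘ ⇑k) ∘ ⇑(W i).ι) ∘ ⇑k₀ from rfl,
        GF.fibreIntegral_baseChange hc₀ _ c (Scheme.Hom.finite_preimage_singleton _ _)]
      rfl
    obtain ⟨D, hD, hpD, hsub⟩ := exists_constructible_subsingleton_lifts π₀ p fun Ω' _ _ yb hyb => by
      have hone : MoreMor.fibreIntegral π₀ ((fun _ => 1) ∘ ⇑k₀) p = 1 := by
        rw [GF.fibreIntegral_baseChange hc₀ _ p (Scheme.Hom.finite_preimage_singleton _ _), hp₀]
        exact (hp i).1.fiOn_eq fun _ => 1
      subst hyb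
      haveI := GF.finite_lifts π₀ yb (Scheme.Hom.finite_preimage_singleton _ _)
      let := Fintype.ofFinite (Lifts π₀ yb)
      rw [GF.fibreIntegral_eq π₀ _ yb (Scheme.Hom.finite_preimage_singleton _ _), geomSum,
        finsum_eq_sum_of_fintype] at hone
      simp only [Function.comp_apply, Finset.sum_const, Finset.card_univ, nsmul_eq_mul, mul_one,
        Nat.cast_eq_one] at hone
      exact Fintype.card_le_one_iff_subsingleton.mp hone.le
    obtain ⟨z, -, hz⟩ := Scheme.Pullback.exists_preimage_pullback (f := (W i).ι ≫ π')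
      (g := hV₀.fromSpec) (⟨pt (δ i), (hp i).1.mem⟩ : (W i : Scheme.{u})) p (by
        rw [hp₀, Scheme.Hom.comp_apply]
        show π' (pt (δ i)) = _
        rw [← pt_comp, (hp i).1.over])
    have hone : ∀ c : Spec Γ(V', V₀), c ∈ D → ∀ z', π₀ z' = c → MoreMor.fibreIntegral π₀ u c = u z' := fun c hcD z' hz' => by
      obtain ⟨Ω', _, _, yb, rfl⟩ := GF.exists_geomPoint c
      haveI := hsub Ω' yb hcD
      exact fibreIntegral_of_subsingleton π₀ u yb hz'
    refine ⟨D ∩ π₀ '' (u ⁻¹' {u z}), hD.inter (π₀.isConstructible_image (hu _)), ⟨hpD, z, rfl, hz⟩, ?_⟩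
    rintro c ⟨hcD, z', hz', rfl⟩
    rw [← hp₀, hval, hval, hone _ hcD z' rfl, hone p hpD z hz]
    exact hz'
  choose D hD hpD hDc using key
  haveI : QuasiCompact (hV₀.fromSpec ≫ h) := inferInstance
  have key' : ∀ v', (∀ t, π' t = v' → ∃ i, t ∈ W i) →
      (∀ i j, i ≠ j → ∀ t ∈ W i, π' t = v' → t ∉ W j) →
      MoreMor.fibreIntegral π w (h v') = ∑ i, fiOn π' (W i) (w ∘ ⇑k) v' := fun v' a b => by
    rw [← GF.fibreIntegral_baseChange hc w v' (Scheme.Hom.finite_preimage_singleton _ _), ← fiOn_top]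
    exact fiOn_eq_sum isFinite_top (fun i => (hp i).1.finite) _
      (fun t ht => ⟨fun _ => a t ht, fun _ => trivial⟩) b
  refine ⟨(hV₀.fromSpec ≫ h) '' (⋂ i, D i), (hV₀.fromSpec ≫ h).isConstructible_image
    (IsConstructible.iInter hD), ⟨p, Set.mem_iInter.mpr hpD, ?_⟩, ?_⟩
  · rw [Scheme.Hom.comp_apply, hp₀, pt_comp]
  · rintro _ ⟨c, hcD, rfl⟩
    have hcV : hV₀.fromSpec c ∈ V₀ := by
      have : hV₀.fromSpec c ∈ Set.range hV₀.fromSpec := ⟨_, rfl⟩
      rwa [hV₀.range_fromSpec] at this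
    rw [Scheme.Hom.comp_apply, pt_comp vb h, key' _ (hV₀N hcV).1 (hV₀N hcV).2,
      key' _ h1.self_of_nhds h2.self_of_nhds]
    exact Finset.sum_congr rfl fun i _ => hDc i c (Set.mem_iInter.mp hcD i)

/-- Fibre integrals of constructible functions have constructible preimages and finite range. -/
theorem con_fibreIntegral (π : T ⟶ V) [IsFinite π] [LocallyOfFinitePresentation π] [IsAffine V]
    {w : T → ℤ} (hw : Con w) :
    Con (MoreMor.fibreIntegral π w) ∧ (Set.range (MoreMor.fibreIntegral π w)).Finite := by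
  classical
  choose C hC hxC hCw using fun v => exists_const_constructible π hw v
  obtain ⟨F, hF⟩ := isCompact_univ.elim_finite_subcover
    (fun x : (V : Type u) => (WithTopology.ofTopology ⁻¹' C x : Set (WithConstructibleTopology V)))
    (fun x => WithConstructibleTopology.isOpen_iff.mpr (isClopen_constructibleTopology (hC x)).1)
    fun z _ => Set.mem_iUnion.mpr ⟨WithTopology.ofTopology z, hxC _⟩
  have hcov : ∀ a, ∃ c ∈ F, a ∈ C c := fun a => by
    simpa using hF (Set.mem_univ (WithTopology.toTopology _ a))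
  refine ⟨fun P => ?_, ?_⟩
  · have : MoreMor.fibreIntegral π w ⁻¹' P =
        ⋃ c ∈ (↑(F.filter fun c : (V : Type u) => MoreMor.fibreIntegral π w c ∈ P) : Set V), C c := by
      ext a
      simp only [Set.mem_preimage, Set.mem_iUnion, Finset.coe_filter, Set.mem_setOf_eq, exists_prop]
      constructor
      · intro ha
        obtain ⟨c, hc, hac⟩ := hcov a
        exact ⟨c, ⟨hc, hCw c a hac ▸ ha⟩, hac⟩
      · rintro ⟨c, ⟨-, hcn⟩, hac⟩
        rw [hCw c a hac]; exact hcn
    rw [this]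
    exact IsConstructible.biUnion (Finset.finite_toSet _) fun c _ => hC c
  · refine (F.image fun c : (V : Type u) => MoreMor.fibreIntegral π w c).finite_toSet.subset ?_
    rintro _ ⟨a, rfl⟩
    obtain ⟨c, hc, hac⟩ := hcov a
    exact Finset.mem_image.mpr ⟨c, hc, (hCw c a hac).symm⟩

end Groth.Agent.MorLib.WT
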