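import Groth.Agent.MorLib.WeightBaseChange
import Mathlib.AlgebraicGeometry.Morphisms.FinitePresentation
import Mathlib.Topology.Spectral.ConstructibleTopology
import Mathlib.RingTheory.Spectrum.Prime.Chevalley

/-! Weightings are constructible. -/

set_option autoImplicit false
universe u

namespace Groth.Agent.MorLib.WT

open AlgebraicGeometry CategoryTheory Limits Filter Topology
open Groth.Agent.MorLib.GF (pt pt_comp geomSum)

/-- A constructible neighbourhood on which a finite type algebra has at most one geometric point. -/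
theorem exists_constructible_subsingleton_algHom (R B : Type u) [CommRing R] [CommRing B]
    [Algebra R B] [Algebra.FiniteType R B] (p : PrimeSpectrum R)
    (h : ∀ (Ω : Type u) [Field Ω] [IsAlgClosed Ω] [Algebra R Ω],
      RingHom.ker (algebraMap R Ω) = p.asIdeal → Subsingleton (B →ₐ[R] Ω)) :
    ∃ D : Set (PrimeSpectrum R), IsConstructible D ∧ p ∈ D ∧
      ∀ (Ω : Type u) [Field Ω] [IsAlgClosed Ω] [Algebra R Ω] (q : PrimeSpectrum R),
        q ∈ D → RingHom.ker (algebraMap R Ω) = q.asIdeal → Subsingleton (B →ₐ[R] Ω) := by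
  classical
  obtain ⟨n, g, hg⟩ := Algebra.FiniteType.iff_quotient_mvPolynomial''.mp ‹Algebra.FiniteType R B›
  let k := p.asIdeal.ResidueField
  let red : MvPolynomial (Fin n) R →+* MvPolynomial (Fin n) k := MvPolynomial.map (algebraMap R k)
  obtain ⟨F, hF, hspan⟩ := Submodule.fg_span_iff_fg_span_finset_subset
    (red '' (RingHom.ker g.toRingHom : Set (MvPolynomial (Fin n) R))) |>.mp
    (IsNoetherian.noetherian (Submodule.span (MvPolynomial (Fin n) k) _))
  choose pre hpre using fun f : F => hF f.2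
  let P := MvPolynomial (Fin n ⊕ Fin n) R
  let l : MvPolynomial (Fin n) R →ₐ[R] P := MvPolynomial.rename Sum.inl
  let r : MvPolynomial (Fin n) R →ₐ[R] P := MvPolynomial.rename Sum.inr
  let S₁ : Finset P := Finset.univ.image (fun f : F => l (pre f)) ∪ Finset.univ.image (fun f : F => r (pre f))
  let S₂ : Finset P := Finset.univ.image fun i : Fin n => MvPolynomial.X (Sum.inl i) - MvPolynomial.X (Sum.inr i)
  let Z : Set (PrimeSpectrum P) := PrimeSpectrum.zeroLocus S₁ \ PrimeSpectrum.zeroLocus S₂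
  have hcons : ∀ S : Finset P, IsConstructible (PrimeSpectrum.zeroLocus (S : Set P)) := fun S => by
    rw [← isConstructible_compl]
    exact ((PrimeSpectrum.isCompact_isOpen_iff.mpr ⟨S, rfl⟩).1.isRetrocompact
      (PrimeSpectrum.isClosed_zeroLocus _).isOpen_compl).isConstructible
        (PrimeSpectrum.isClosed_zeroLocus _).isOpen_compl
  have hZ : IsConstructible Z := (hcons S₁).sdiff (hcons S₂)
  refine ⟨(PrimeSpectrum.comap (algebraMap R P) '' Z)ᶜ, (PrimeSpectrum.isConstructible_comap_image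
    (RingHom.finitePresentation_algebraMap.mpr inferInstance) hZ).compl, ?_, ?_⟩
  · rintro ⟨Q, ⟨hQ1, hQ2⟩, hQp⟩
    let Ω := AlgebraicClosure Q.asIdeal.ResidueField
    let ev : P →ₐ[R] Ω := IsScalarTower.toAlgHom R P Ω
    have hev : ∀ z, ev z = 0 ↔ z ∈ Q.asIdeal := fun z => by
      show algebraMap P Ω z = 0 ↔ _
      rw [IsScalarTower.algebraMap_apply P Q.asIdeal.ResidueField Ω, map_eq_zero_iff _
        (algebraMap Q.asIdeal.ResidueField Ω).injective, Ideal.algebraMap_residueField_eq_zero]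
    have hker : RingHom.ker (algebraMap R Ω) = p.asIdeal := by
      ext a
      rw [RingHom.mem_ker, ← hQp, PrimeSpectrum.comap_asIdeal, Ideal.mem_comap, ← hev,
        AlgHom.commutes]
    let e := Ideal.ResidueField.lift p.asIdeal (algebraMap R Ω) hker.ge
      (fun a ha => isUnit_iff_ne_zero.mpr fun h0 => ha (hker.le (RingHom.mem_ker.mpr h0)))
    have hfac : ∀ s : MvPolynomial (Fin n) R →ₐ[R] Ω, (∀ f : F, s (pre f) = 0) →
        ∀ z ∈ RingHom.ker g.toRingHom, s z = 0 := by
      intro s hs z hz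
      let sk : MvPolynomial (Fin n) k →+* Ω := MvPolynomial.eval₂Hom e fun i => s (MvPolynomial.X i)
      have hsk : ∀ z, sk (red z) = s z := by
        intro z
        have : sk.comp red = s.toRingHom := MvPolynomial.ringHom_ext
          (fun a => by
            simp [sk, red]
            exact (Ideal.ResidueField.lift_algebraMap _ (algebraMap R Ω) _ _ a))
          (fun i => by simp [sk, red])
        exact congr($this z)
      rw [← hsk]
      have hzmem : red z ∈ Submodule.span (MvPolynomial (Fin n) k) (↑F : Set _) :=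
        hspan ▸ Submodule.subset_span ⟨z, hz, rfl⟩
      have hle : Submodule.span (MvPolynomial (Fin n) k) (↑F : Set (MvPolynomial (Fin n) k)) ≤
          RingHom.ker sk := Submodule.span_le.mpr fun f hf => by
        exact ((congrArg sk (hpre ⟨f, hf⟩).2).symm.trans ((hsk _).trans (hs _)))
      exact hle hzmem
    have hQ1' : ∀ f : F, ev (l (pre f)) = 0 ∧ ev (r (pre f)) = 0 := fun f =>
      ⟨(hev _).mpr (hQ1 (by simp [S₁])), (hev _).mpr (hQ1 (by simp [S₁]))⟩
    let sl := AlgHom.liftOfSurjective g hg (ev.comp l) (hfac _ fun f => (hQ1' f).1)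
    let sr := AlgHom.liftOfSurjective g hg (ev.comp r) (hfac _ fun f => (hQ1' f).2)
    haveI := h Ω hker
    have heq : sl = sr := Subsingleton.elim _ _
    refine hQ2 fun z hz => ?_
    obtain ⟨i, -, rfl⟩ := Finset.mem_image.mp hz
    rw [SetLike.mem_coe, ← hev, map_sub, sub_eq_zero]
    have h1 : sl (g (MvPolynomial.X i)) = ev (l (MvPolynomial.X i)) := AlgHom.liftOfSurjective_apply _ _ _ _ _
    have h2 : sr (g (MvPolynomial.X i)) = ev (r (MvPolynomial.X i)) := AlgHom.liftOfSurjective_apply _ _ _ _ _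
    rw [heq, h2] at h1
    exact ((congrArg ev (MvPolynomial.rename_X _ i)).symm.trans h1.symm).trans
      (congrArg ev (MvPolynomial.rename_X _ i))
  · intro Ω _ _ _ q hq hker
    refine ⟨fun s₁ s₂ => ?_⟩
    let ev : P →ₐ[R] Ω := MvPolynomial.aeval
      (Sum.elim (fun i => s₁ (g (MvPolynomial.X i))) fun i => s₂ (g (MvPolynomial.X i)))
    have hl : ev.comp l = s₁.comp g := MvPolynomial.algHom_ext fun i =>
      (congrArg ev (MvPolynomial.rename_X _ _)).trans (MvPolynomial.aeval_X _ _)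
    have hr : ev.comp r = s₂.comp g := MvPolynomial.algHom_ext fun i =>
      (congrArg ev (MvPolynomial.rename_X _ _)).trans (MvPolynomial.aeval_X _ _)
    let Q : PrimeSpectrum P := ⟨RingHom.ker ev.toRingHom, RingHom.ker_isPrime _⟩
    have hQq : PrimeSpectrum.comap (algebraMap R P) Q = q := by
      refine PrimeSpectrum.ext (Ideal.ext fun a => ?_)
      rw [← hker]
      simp [Q]
    have hQ1 : Q ∈ PrimeSpectrum.zeroLocus (S₁ : Set P) := by
      intro z hz
      simp only [S₁, Finset.coe_union, Finset.coe_image, Finset.coe_univ, Set.image_univ,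
        Set.mem_union, Set.mem_range] at hz
      show ev z = 0
      rcases hz with ⟨f, rfl⟩ | ⟨f, rfl⟩
      · rw [show ev (l (pre f)) = s₁ (g (pre f)) from congr($hl (pre f)),
          show g (pre f) = 0 from (hpre f).1, map_zero]
      · rw [show ev (r (pre f)) = s₂ (g (pre f)) from congr($hr (pre f)),
          show g (pre f) = 0 from (hpre f).1, map_zero]
    have hQ2 : Q ∈ PrimeSpectrum.zeroLocus (S₂ : Set P) := by
      by_contra h2
      exact hq ⟨Q, ⟨hQ1, h2⟩, hQq⟩
    have hX : ∀ i, s₁ (g (MvPolynomial.X i)) = s₂ (g (MvPolynomial.X i)) := fun i => by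
      have : ev (MvPolynomial.X (Sum.inl i) - MvPolynomial.X (Sum.inr i)) = 0 :=
        hQ2 (Finset.mem_image_of_mem _ (Finset.mem_univ i))
      rw [map_sub, sub_eq_zero] at this
      exact ((MvPolynomial.aeval_X _ _).symm.trans this).trans (MvPolynomial.aeval_X _ _)
    exact AlgHom.cancel_right hg |>.mp (MvPolynomial.algHom_ext hX)

variable {T X Y : Scheme.{u}}

set_option backward.isDefEq.respectTransparency.types false in
/-- The scheme version: at most one geometric point over a constructible neighbourhood. -/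
theorem exists_constructible_subsingleton_lifts {R : CommRingCat.{u}} (π : T ⟶ Spec R) [IsAffine T]
    [LocallyOfFiniteType π] (p : PrimeSpectrum R)
    (h : ∀ (Ω : Type u) [Field Ω] [IsAlgClosed Ω] (yb : Spec (CommRingCat.of Ω) ⟶ Spec R),
      pt yb = p → Subsingleton (Lifts π yb)) :
    ∃ D : Set (PrimeSpectrum R), IsConstructible D ∧ p ∈ D ∧
      ∀ (Ω : Type u) [Field Ω] [IsAlgClosed Ω] (yb : Spec (CommRingCat.of Ω) ⟶ Spec R),
        pt yb ∈ D → Subsingleton (Lifts π yb) := by
  obtain ⟨φ, hφ⟩ := Spec.map_surjective (T.isoSpec.inv ≫ π)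
  haveI hft : LocallyOfFiniteType (Spec.map φ) := by rw [hφ]; infer_instance
  letI := φ.hom.toAlgebra
  haveI : Algebra.FiniteType R Γ(T, ⊤) :=
    RingHom.finiteType_algebraMap.mp ((HasRingHomProperty.Spec_iff (P := @LocallyOfFiniteType)).mp hft)
  have hker : ∀ (Ω : Type u) [Field Ω] (ρ : R ⟶ CommRingCat.of Ω),
      (pt (Spec.map ρ)).asIdeal = RingHom.ker ρ.hom := fun Ω _ ρ => by
    show (IsLocalRing.maximalIdeal Ω).comap ρ.hom = _
    rw [IsLocalRing.maximalIdeal_eq_bot]
    rfl
  obtain ⟨D, hD, hpD, hsub⟩ := exists_constructible_subsingleton_algHom R Γ(T, ⊤) p fun Ω _ _ _ hk => by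
    haveI := h Ω (Spec.map (CommRingCat.ofHom (algebraMap R Ω)))
      (PrimeSpectrum.ext ((hker Ω _).trans hk))
    refine ⟨fun s₁ s₂ => ?_⟩
    have lift : ∀ s : Γ(T, ⊤) →ₐ[R] Ω, (Spec.map (CommRingCat.ofHom s.toRingHom) ≫ T.isoSpec.inv) ≫ π =
        Spec.map (CommRingCat.ofHom (algebraMap R Ω)) := fun s => by
      rw [Category.assoc, ← hφ, ← Spec.map_comp]
      congr 1
      exact CommRingCat.hom_ext (RingHom.ext fun a => s.commutes a)
    have e := congrArg Subtype.val (Subsingleton.elim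
      (⟨_, lift s₁⟩ : Lifts π (Spec.map (CommRingCat.ofHom (algebraMap R Ω)))) ⟨_, lift s₂⟩)
    rw [cancel_mono, Spec.map_inj] at e
    exact AlgHom.ext fun z => congr($e z)
  refine ⟨D, hD, hpD, fun Ω _ _ yb hyb => ?_⟩
  obtain ⟨ρ, rfl⟩ := Spec.map_surjective yb
  letI : Algebra R Ω := ρ.hom.toAlgebra
  haveI := hsub Ω (pt (Spec.map ρ)) hyb (hker Ω ρ).symm
  refine ⟨fun δ₁ δ₂ => Subtype.ext ?_⟩
  have alg : ∀ δ : Lifts π (Spec.map ρ), φ ≫ Spec.preimage (δ.1 ≫ T.isoSpec.hom) = ρ := fun δ => by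
    rw [← Spec.map_inj, Spec.map_comp, Spec.map_preimage, hφ, Category.assoc, Iso.hom_inv_id_assoc, δ.2]
  let toHom : Lifts π (Spec.map ρ) → (Γ(T, ⊤) →ₐ[R] Ω) := fun δ =>
    { (Spec.preimage (δ.1 ≫ T.isoSpec.hom)).hom with commutes' := fun a => congr($(alg δ) a) }
  have := Subsingleton.elim (toHom δ₁) (toHom δ₂)
  have e : Spec.preimage (δ₁.1 ≫ T.isoSpec.hom) = Spec.preimage (δ₂.1 ≫ T.isoSpec.hom) :=
    CommRingCat.hom_ext (congrArg (fun s : Γ(T, ⊤) →ₐ[R] Ω => s.toRingHom) this)
  rwa [← Spec.map_inj, Spec.map_preimage, Spec.map_preimage, cancel_mono] at e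

variable {f : X ⟶ Y} [LocallyQuasiFinite f] [LocallyOfFiniteType f] {w : X → ℤ}

set_option backward.isDefEq.respectTransparency.types false in
/-- Around each point a weighting is constant on a constructible set. -/
theorem exists_constructible_const (hw : MoreMor.IsWeighting f w) (x : X) (U : X.Opens)
    (hU : IsAffineOpen U) (hx : x ∈ U) :
    ∃ C : Set (U : Scheme.{u}), IsConstructible C ∧ ⟨x, hx⟩ ∈ C ∧
      ∀ c ∈ C, w (U.ι c) = w x := by
  obtain ⟨Ω, _, _, γ, rfl⟩ := GF.exists_geomPoint x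
  obtain ⟨V, g, vb, W, δ, he, -, hp, hδ⟩ := exists_piece f γ
  have hconst := eventually_piece_eq hw (IsPullback.of_hasPullback f g) hp
  rw [hp.fiOn_eq] at hconst
  obtain ⟨_, ⟨V₀, hV₀, rfl⟩, hvV₀, hV₀N⟩ :=
    V.isBasis_affineOpens.mem_nhds_iff.mp hconst
  obtain ⟨p, hp₀⟩ : ∃ p, hV₀.fromSpec p = pt vb := by
    have : pt vb ∈ Set.range hV₀.fromSpec := by rw [hV₀.range_fromSpec]; exact hvV₀
    exact this
  haveI := hp.finite
  let π₀ := pullback.snd (W.ι ≫ pullback.snd f g) hV₀.fromSpec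
  let k₀ := pullback.fst (W.ι ≫ pullback.snd f g) hV₀.fromSpec
  have hc₀ : IsPullback k₀ π₀ (W.ι ≫ pullback.snd f g) hV₀.fromSpec := IsPullback.of_hasPullback _ _
  haveI : IsAffine (pullback (W.ι ≫ pullback.snd f g) hV₀.fromSpec) := isAffine_of_isAffineHom π₀
  obtain ⟨D, hD, hpD, hsub⟩ := exists_constructible_subsingleton_lifts π₀ p fun Ω' _ _ yb hyb => by
    have hone : MoreMor.fibreIntegral π₀ ((fun _ => 1) ∘ ⇑k₀) p = 1 := by
      rw [GF.fibreIntegral_baseChange hc₀ _ p (Scheme.Hom.finite_preimage_singleton _ _), hp₀]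
      exact hp.fiOn_eq fun _ => 1
    subst hyb
    haveI := GF.finite_lifts π₀ yb (Scheme.Hom.finite_preimage_singleton _ _)
    let := Fintype.ofFinite (Lifts π₀ yb)
    rw [GF.fibreIntegral_eq π₀ _ yb (Scheme.Hom.finite_preimage_singleton _ _), geomSum,
      finsum_eq_sum_of_fintype] at hone
    simp only [Function.comp_apply, Finset.sum_const, Finset.card_univ, nsmul_eq_mul, mul_one,
      Nat.cast_eq_one] at hone
    exact Fintype.card_le_one_iff_subsingleton.mp hone.le
  haveI : Etale (pullback.fst f g) := MorphismProperty.pullback_fst _ _ he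
  haveI : Etale k₀ := MorphismProperty.of_isPullback hc₀.flip inferInstance
  let q := k₀ ≫ W.ι ≫ pullback.fst f g
  obtain ⟨t₀, ht₀k, ht₀π⟩ := Scheme.Pullback.exists_preimage_pullback (f := W.ι ≫ pullback.snd f g)
    (g := hV₀.fromSpec) (⟨pt δ, hp.mem⟩ : (W : Scheme.{u})) p (by
      rw [hp₀, Scheme.Hom.comp_apply]
      show pullback.snd f g (pt δ) = _
      rw [← pt_comp, hp.over])
  have hq₀ : q t₀ = pt γ := by
    show (k₀ ≫ W.ι ≫ pullback.fst f g) t₀ = _
    rw [Scheme.Hom.comp_apply, Scheme.Hom.comp_apply]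
    show pullback.fst f g (W.ι (k₀ t₀)) = _
    rw [ht₀k]
    show pullback.fst f g (pt δ) = _
    rw [← pt_comp, hδ]
  obtain ⟨_, ⟨(A : Scheme.Opens _), hA, rfl⟩, htA, hAU⟩ :=
    (Scheme.isBasis_affineOpens _).mem_nhds_iff.mp ((q ⁻¹ᵁ U).2.mem_nhds (x := t₀) (by
      show q t₀ ∈ U
      rw [hq₀]; exact hx))
  have hsubA : Set.range (A.ι ≫ q) ⊆ Set.range U.ι := by
    rintro _ ⟨a, rfl⟩
    rw [Scheme.Hom.comp_apply, Scheme.Opens.range_ι]
    exact hAU a.2
  let qA := IsOpenImmersion.lift U.ι (A.ι ≫ q) hsubA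
  have hqA : qA ≫ U.ι = A.ι ≫ q := IsOpenImmersion.lift_fac ..
  haveI : Etale qA := by
    haveI : Etale (qA ≫ U.ι) := by rw [hqA]; infer_instance
    exact Etale.of_comp qA U.ι
  haveI : IsAffine (A : Scheme.{u}) := hA
  haveI : IsAffine (U : Scheme.{u}) := hU
  haveI : QuasiCompact qA := inferInstance
  let CA : Set (A : Scheme.{u}) := (A.ι ≫ π₀) ⁻¹' D
  have hCA : IsConstructible CA := (A.ι ≫ π₀).isConstructible_preimage hD
  refine ⟨qA '' CA, qA.isConstructible_image hCA, ⟨⟨t₀, htA⟩, ?_, ?_⟩, ?_⟩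
  · show π₀ t₀ ∈ D
    rw [ht₀π]; exact hpD
  · apply U.ι.isOpenEmbedding.injective
    rw [← Scheme.Hom.comp_apply, hqA, Scheme.Hom.comp_apply]
    exact hq₀
  rintro _ ⟨a, ha, rfl⟩
  rw [← Scheme.Hom.comp_apply, hqA, Scheme.Hom.comp_apply]
  obtain ⟨Ω', _, _, yb, hyb⟩ := GF.exists_geomPoint (π₀ (A.ι a))
  obtain ⟨d, hd⟩ := exists_lift_pt π₀ yb (A.ι a) hyb.symm
  haveI := hsub Ω' yb (by rw [hyb]; rwa [← Scheme.Hom.comp_apply])
  have hval : MoreMor.fibreIntegral π₀ (w ∘ ⇑q) (π₀ (A.ι a)) = w (q (A.ι a)) := by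
    rw [← hyb, GF.fibreIntegral_eq π₀ _ yb (Scheme.Hom.finite_preimage_singleton _ _), geomSum,
      finsum_eq_single _ d fun d' hd' => absurd (Subsingleton.elim d' d) hd', hd]
    rfl
  rw [← hval]
  have hv : hV₀.fromSpec (π₀ (A.ι a)) ∈ V₀ := by
    have : hV₀.fromSpec (π₀ (A.ι a)) ∈ Set.range hV₀.fromSpec := ⟨_, rfl⟩
    rwa [hV₀.range_fromSpec] at this
  have := hV₀N hv
  refine Eq.trans ?_ (Eq.trans this (congrArg w ((pt_comp δ _).symm.trans (congrArg pt hδ))))
  rw [show w ∘ ⇑q = (w ∘ ⇑(W.ι ≫ pullback.fst f g)) ∘ ⇑k₀ from rfl]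
  rw [GF.fibreIntegral_baseChange hc₀ _ _ (Scheme.Hom.finite_preimage_singleton _ _)]
  rfl

theorem isClopen_constructibleTopology {Z : Type*} [TopologicalSpace Z] [CompactSpace Z]
    {s : Set Z} (hs : IsConstructible s) :
    IsOpen[constructibleTopology Z] s ∧ IsClosed[constructibleTopology Z] s := by
  induction hs using IsConstructible.empty_union_induction with
  | open_retrocompact U ho hc =>
    refine ⟨hc.isCompact.isOpen_constructibleTopology_of_isOpen ho,
      @IsClosed.mk _ (constructibleTopology Z) _ ?_⟩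
    exact IsCompact.isOpen_constructibleTopology_of_isClosed (by rw [compl_compl]; exact hc.isCompact)
      ho.isClosed_compl
  | union s _ t _ hs ht =>
    exact ⟨@IsOpen.union _ _ _ (constructibleTopology Z) hs.1 ht.1,
      @IsClosed.union _ _ _ (constructibleTopology Z) hs.2 ht.2⟩
  | compl s _ hs =>
    exact ⟨@IsClosed.isOpen_compl _ (constructibleTopology Z) _ hs.2,
      @IsOpen.isClosed_compl _ (constructibleTopology Z) _ hs.1⟩

/-- On an affine open a weighting has constructible level sets and finitely many values. -/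
theorem constructible_level_affine (hw : MoreMor.IsWeighting f w) (U : X.Opens) (hU : IsAffineOpen U) :
    (∀ n : ℤ, IsConstructible {c : (U : Scheme.{u}) | w (U.ι c) = n}) ∧ (w '' (U : Set X)).Finite := by
  classical
  haveI : IsAffine (U : Scheme.{u}) := hU
  choose C hC hxC hCw using fun c : (U : Scheme.{u}) => exists_constructible_const hw c.1 U hU c.2
  let S : ((U : Scheme.{u}) : Type u) → Set (WithConstructibleTopology (U : Scheme.{u})) :=
    fun c => WithTopology.ofTopology ⁻¹' C c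
  obtain ⟨F, hF⟩ := isCompact_univ.elim_finite_subcover S
    (fun c => WithConstructibleTopology.isOpen_iff.mpr (isClopen_constructibleTopology (hC c)).1)
    fun z _ => Set.mem_iUnion.mpr ⟨WithTopology.ofTopology z, hxC _⟩
  have hcov : ∀ a, ∃ c ∈ F, a ∈ C c := fun a => by
    simpa [S] using hF (Set.mem_univ (WithTopology.toTopology _ a))
  refine ⟨fun n => ?_, ?_⟩
  · have : {c : (U : Scheme.{u}) | w (U.ι c) = n} = ⋃ c ∈ (↑(F.filter fun c : (U : Scheme.{u}) => w c.1 = n) : Set (U : Scheme.{u})), C c := by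
      ext a
      simp only [Set.mem_setOf_eq, Set.mem_iUnion, Finset.coe_filter, exists_prop]
      constructor
      · intro ha
        obtain ⟨c, hc, hac⟩ := hcov a
        exact ⟨c, ⟨hc, (hCw c a hac).symm.trans ha⟩, hac⟩
      · rintro ⟨c, ⟨hc, hcn⟩, hac⟩
        exact (hCw c a hac).trans hcn
    rw [this]
    exact IsConstructible.biUnion (Finset.finite_toSet _) fun c _ => hC c
  · refine (F.image fun c : (U : Scheme.{u}) => w c.1).finite_toSet.subset ?_
    rintro _ ⟨x, hx, rfl⟩
    obtain ⟨c, hc, hac⟩ := hcov ⟨x, hx⟩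
    exact Finset.mem_image.mpr ⟨c, hc, (hCw c _ hac).symm⟩

theorem isLocallyConstructible_level (hw : MoreMor.IsWeighting f w) (n : ℤ) :
    IsLocallyConstructible {x : X | w x = n} :=
  .of_isOpenCover (U := fun U : X.affineOpens => U.1) (TopologicalSpace.IsOpenCover.mk (iSup_affineOpens_eq_top X)) fun U =>
    ((constructible_level_affine hw U.1 U.2).1 n).isLocallyConstructible

theorem finite_range_weighting [CompactSpace X] (hw : MoreMor.IsWeighting f w) :
    (Set.range w).Finite := by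
  obtain ⟨F, hF⟩ := isCompact_univ.elim_finite_subcover (fun U : X.affineOpens => (U.1 : Set X))
    (fun U => U.1.2) (fun x _ => by
      obtain ⟨U, hU, hxU, -⟩ := exists_isAffineOpen_mem_and_subset (x := x) (U := (⊤ : X.Opens)) trivial
      exact Set.mem_iUnion.mpr ⟨⟨U, hU⟩, hxU⟩)
  refine (F.finite_toSet.biUnion fun U _ => (constructible_level_affine hw U.1 U.2).2).subset ?_
  rintro _ ⟨x, rfl⟩
  obtain ⟨U, hU, hxU⟩ := Set.mem_iUnion₂.mp (hF (Set.mem_univ x))
  exact Set.mem_biUnion hU ⟨x, hxU, rfl⟩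

end Groth.Agent.MorLib.WT
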