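import Groth.Agent.MorLib.WeightBasic

/-! Local behaviour of fibre integrals near an isolated piece. -/

set_option autoImplicit false
universe u

namespace Groth.Agent.MorLib.WT

open AlgebraicGeometry CategoryTheory Limits Filter Topology
open Groth.Agent.MorLib.GF (pt pt_comp geomSum)

variable {T V : Scheme.{u}} {Ω : Type u} [Field Ω] {π : T ⟶ V}

theorem isClosedMap_open {W : T.Opens} (hW : IsFinite (W.ι ≫ π)) : IsClosedMap ⇑(W.ι ≫ π) :=
  (W.ι ≫ π).isClosedMap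

theorem eventually_forall_not {W : T.Opens} (hW : IsFinite (W.ι ≫ π)) {C : Set T} (hC : IsClosed C)
    {v : V} (h : ∀ t ∈ W, t ∈ C → π t ≠ v) : ∀ᶠ v' in 𝓝 v, ∀ t ∈ W, π t = v' → t ∉ C := by
  have hcl := isClosedMap_open hW _ (hC.preimage W.ι.continuous)
  have hv : v ∉ ⇑(W.ι ≫ π) '' (W.ι ⁻¹' C) := by
    rintro ⟨a, ha, rfl⟩
    exact h a.1 a.2 ha (Scheme.Hom.comp_apply W.ι π a).symm
  filter_upwards [hcl.isOpen_compl.mem_nhds hv] with v' hv' t ht htv htC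
  exact hv' ⟨⟨t, ht⟩, htC, (Scheme.Hom.comp_apply _ _ _).trans htv⟩

theorem IsPiece.eq_of_over [IsAlgClosed Ω] [LocallyQuasiFinite π]
    {vb : Spec (CommRingCat.of Ω) ⟶ V} {W : T.Opens} {δ : Spec (CommRingCat.of Ω) ⟶ T}
    (hp : IsPiece π vb W δ) {t : T} (ht : t ∈ W) (htv : π t = pt vb) : t = pt δ := by
  obtain ⟨δ', rfl⟩ := exists_lift_pt π vb t htv
  rw [hp.uniq δ'.1 δ'.2 ht]

/-- Near the base point, the fibres of a piece lie in any open around its distinguished point. -/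
theorem IsPiece.eventually_mem [IsAlgClosed Ω] [LocallyQuasiFinite π]
    {vb : Spec (CommRingCat.of Ω) ⟶ V} {W : T.Opens} {δ : Spec (CommRingCat.of Ω) ⟶ T}
    (hp : IsPiece π vb W δ) (A : T.Opens) (hA : pt δ ∈ A) :
    ∀ᶠ v' in 𝓝 (pt vb), ∀ t ∈ W, π t = v' → t ∈ A := by
  filter_upwards [eventually_forall_not hp.finite A.2.isClosed_compl fun t ht htC htv =>
    htC (by rw [hp.eq_of_over ht htv]; exact hA)] with v' hv' t ht htv
  exact not_not.mp (hv' t ht htv)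

/-- Two pieces at the same point have the same fibres nearby. -/
theorem IsPiece.eventually_iff [IsAlgClosed Ω] [LocallyQuasiFinite π]
    {vb : Spec (CommRingCat.of Ω) ⟶ V} {W W' : T.Opens} {δ : Spec (CommRingCat.of Ω) ⟶ T}
    (hp : IsPiece π vb W δ) (hp' : IsPiece π vb W' δ) :
    ∀ᶠ v' in 𝓝 (pt vb), ∀ t, π t = v' → (t ∈ W ↔ t ∈ W') := by
  filter_upwards [hp.eventually_mem W' hp'.mem, hp'.eventually_mem W hp.mem] with v' h h' t ht
  exact ⟨fun a => h t a ht, fun a => h' t a ht⟩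

theorem isClosed_of_isFinite [IsSeparated π] {W : T.Opens} (hW : IsFinite (W.ι ≫ π)) :
    IsClosed (W : Set T) := by
  haveI := UniversallyClosed.of_comp_of_isSeparated W.ι π
  rw [← W.range_ι, ← Set.image_univ]
  exact W.ι.isClosedMap _ isClosed_univ

/-- In a separated situation distinct pieces have disjoint fibres nearby. -/
theorem IsPiece.eventually_disjoint [IsAlgClosed Ω] [LocallyQuasiFinite π] [IsSeparated π]
    {vb : Spec (CommRingCat.of Ω) ⟶ V} {W W' : T.Opens} {δ δ' : Spec (CommRingCat.of Ω) ⟶ T}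
    (hp : IsPiece π vb W δ) (hp' : IsPiece π vb W' δ') (hne : δ ≠ δ') :
    ∀ᶠ v' in 𝓝 (pt vb), ∀ t ∈ W, π t = v' → t ∉ W' := by
  refine eventually_forall_not hp.finite (isClosed_of_isFinite hp'.finite) fun t ht ht' htv => hne ?_
  obtain ⟨δ'', rfl⟩ := exists_lift_pt π vb t htv
  exact (hp.uniq δ''.1 δ''.2 ht).symm.trans (hp'.uniq δ''.1 δ''.2 ht')

theorem finite_lifts_open [IsAlgClosed Ω] [LocallyQuasiFinite π] {W : T.Opens}
    (hW : IsFinite (W.ι ≫ π)) (yb : Spec (CommRingCat.of Ω) ⟶ V) :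
    {δ : Lifts π yb | pt δ.1 ∈ W}.Finite := by
  haveI := GF.finite_lifts (W.ι ≫ π) yb (Scheme.Hom.finite_preimage_singleton _ _)
  refine (Set.finite_range fun δ : Lifts (W.ι ≫ π) yb =>
    (⟨δ.1 ≫ W.ι, by rw [Category.assoc, δ.2]⟩ : Lifts π yb)).subset fun δ hδ => ?_
  obtain ⟨δ₀, h⟩ := exists_lift_to_open W δ.1 hδ
  exact ⟨⟨δ₀, by rw [← Category.assoc, h, δ.2]⟩, Subtype.ext h⟩

theorem fiOn_congr [LocallyQuasiFinite π] {W W' : T.Opens}
    (hW : IsFinite (W.ι ≫ π)) (hW' : IsFinite (W'.ι ≫ π)) (w : T → ℤ) {v' : V}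
    (h : ∀ t, π t = v' → (t ∈ W ↔ t ∈ W')) : fiOn π W w v' = fiOn π W' w v' := by
  obtain ⟨Ω', _, _, yb, rfl⟩ := GF.exists_geomPoint v'
  haveI := hW
  haveI := hW'
  rw [fiOn_eq_finsum π W w yb, fiOn_eq_finsum π W' w yb]
  congr! 3 with δ
  exact (h _ ((pt_comp δ.1 π).symm.trans (congrArg pt δ.2)))

theorem IsPiece.fiOn_eq [IsAlgClosed Ω] [LocallyQuasiFinite π]
    {vb : Spec (CommRingCat.of Ω) ⟶ V} {W : T.Opens} {δ : Spec (CommRingCat.of Ω) ⟶ T}
    (hp : IsPiece π vb W δ) (w : T → ℤ) : fiOn π W w (pt vb) = w (pt δ) := by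
  haveI := hp.finite
  rw [fiOn_eq_finsum π W w vb]
  have : {δ' : Lifts π vb | pt δ'.1 ∈ W} = {⟨δ, hp.over⟩} := by
    ext δ'
    exact ⟨fun h => Subtype.ext (hp.uniq δ'.1 δ'.2 h), by rintro rfl; exact hp.mem⟩
  rw [this, finsum_mem_singleton]

theorem fiOn_baseChange {T' V' : Scheme.{u}} {π' : T' ⟶ V'} {k : T' ⟶ T} {h : V' ⟶ V}
    (hc : IsPullback k π' π h) {W : T.Opens} (hW : IsFinite (W.ι ≫ π)) (w : T → ℤ) (v' : V') :
    fiOn π' (k ⁻¹ᵁ W) (w ∘ ⇑k) v' = fiOn π W w (h v') := by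
  have := GF.fibreIntegral_baseChange ((isPullback_morphismRestrict k W).paste_vert hc)
    (w ∘ ⇑W.ι) v' (Scheme.Hom.finite_preimage_singleton _ _)
  refine Eq.trans ?_ this
  unfold fiOn
  congr 1
  funext a
  show w (k ((k ⁻¹ᵁ W).ι a)) = w (W.ι ((k ∣_ W) a))
  rw [← Scheme.Hom.comp_apply, ← Scheme.Hom.comp_apply, morphismRestrict_ι]

theorem isFinite_top [IsFinite π] : IsFinite ((⊤ : T.Opens).ι ≫ π) :=
  haveI : IsIso (⊤ : T.Opens).ι := T.topIso.isIso_hom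
  inferInstance

theorem fiOn_top [IsFinite π] (w : T → ℤ) (v : V) :
    fiOn π ⊤ w v = MoreMor.fibreIntegral π w v :=
  haveI : IsIso (⊤ : T.Opens).ι := T.topIso.isIso_hom
  GF.fibreIntegral_baseChange (g := 𝟙 V) (h := (⊤ : T.Opens).ι)
    (IsPullback.of_horiz_isIso ⟨(Category.comp_id _).symm⟩ : IsPullback (⊤ : T.Opens).ι ((⊤ : T.Opens).ι ≫ π) π (𝟙 V)) w v
    (Scheme.Hom.finite_preimage_singleton _ _)

/-- A fibre integral is a sum over pieces with disjoint fibres. -/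
theorem fiOn_eq_sum [LocallyQuasiFinite π] {ι : Type*} [Fintype ι] {U : T.Opens}
    (hU : IsFinite (U.ι ≫ π)) {W : ι → T.Opens} (hW : ∀ i, IsFinite ((W i).ι ≫ π)) (w : T → ℤ)
    {v' : V} (hcov : ∀ t, π t = v' → (t ∈ U ↔ ∃ i, t ∈ W i))
    (hdis : ∀ i j, i ≠ j → ∀ t ∈ W i, π t = v' → t ∉ W j) :
    fiOn π U w v' = ∑ i, fiOn π (W i) w v' := by
  obtain ⟨Ω', _, _, yb, rfl⟩ := GF.exists_geomPoint v'
  have hpt : ∀ δ : Lifts π yb, π (pt δ.1) = pt yb := fun δ => by rw [← pt_comp, δ.2]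
  have e : {δ : Lifts π yb | pt δ.1 ∈ U} = ⋃ i, {δ : Lifts π yb | pt δ.1 ∈ W i} := by
    ext δ; simp [hcov _ (hpt δ)]
  haveI := hU
  rw [fiOn_eq_finsum π U w yb, e, finsum_mem_iUnion, finsum_eq_sum_of_fintype]
  · exact Finset.sum_congr rfl fun i _ => (haveI := hW i; (fiOn_eq_finsum π (W i) w yb).symm)
  · exact fun i j hij => Set.disjoint_left.mpr fun δ h1 h2 => hdis i j hij _ h1 (hpt δ) h2
  · exact fun i => finite_lifts_open (hW i) yb

theorem le_fiOn [LocallyQuasiFinite π] {W : T.Opens} (hW : IsFinite (W.ι ≫ π)) {w : T → ℤ}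
    (hw : ∀ t, 0 ≤ w t) {t : T} (ht : t ∈ W) : w t ≤ fiOn π W w (π t) := by
  obtain ⟨Ω', _, _, yb, hyb⟩ := GF.exists_geomPoint (π t)
  obtain ⟨δ, rfl⟩ := exists_lift_pt π yb t hyb.symm
  haveI := hW
  rw [← hyb, fiOn_eq_finsum π W w yb, finsum_mem_eq_finite_toFinset_sum _ (finite_lifts_open hW yb)]
  exact Finset.single_le_sum (f := fun δ : Lifts π yb => w (pt δ.1)) (fun i _ => hw _)
    ((Set.Finite.mem_toFinset _).mpr ht)

/-- The defining property of weightings, for arbitrary cartesian squares. -/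
theorem weighting_apply {X Y : Scheme.{u}} {f : X ⟶ Y} {w : X → ℤ} (hw : MoreMor.IsWeighting f w)
    {T' V' : Scheme.{u}} {π' : T' ⟶ V'} {k : T' ⟶ X} {g : V' ⟶ Y} [Etale g]
    (hc : IsPullback k π' f g) {W : T'.Opens} (hW : IsFinite (W.ι ≫ π')) :
    IsLocallyConstant (fiOn π' W (w ∘ ⇑k)) := by
  let e := hc.isoPullback
  haveI : IsFinite ((e.inv ⁻¹ᵁ W).ι ≫ pullback.snd f g) :=
    MorphismProperty.of_isPullback ((isPullback_morphismRestrict e.inv W).paste_vert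
      (IsPullback.of_horiz_isIso ⟨by simp [e]⟩ : IsPullback e.inv (pullback.snd f g) π' (𝟙 V'))) hW
  have h := hw V' g (e.inv ⁻¹ᵁ W) inferInstance
  convert h using 1
  ext v
  have := fiOn_baseChange (IsPullback.of_horiz_isIso ⟨by simp [e]⟩ :
    IsPullback e.inv (pullback.snd f g) π' (𝟙 V')) hW (w ∘ ⇑k) v
  refine this.symm.trans ?_
  unfold fiOn
  congr 1
  funext a
  show w (k (e.inv ((e.inv ⁻¹ᵁ W).ι a))) = _
  rw [← Scheme.Hom.comp_apply, hc.isoPullback_inv_fst]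

theorem eventually_of_etale {V' : Scheme.{u}} (h : V' ⟶ V) [Etale h] {v' : V'} {P : V → Prop}
    (H : ∀ᶠ x in 𝓝 v', P (h x)) : ∀ᶠ v in 𝓝 (h v'), P v :=
  h.isOpenMap.nhds_le v' H

/-- Reduction of local constancy to pieces. -/
theorem eventually_fibreIntegral_eq [IsAlgClosed Ω] (π : T ⟶ V) [IsFinite π] (w : T → ℤ)
    (vb : Spec (CommRingCat.of Ω) ⟶ V)
    (H : ∀ (T' V' : Scheme.{u}) (k : T' ⟶ T) (π' : T' ⟶ V') (h : V' ⟶ V)
      (vb' : Spec (CommRingCat.of Ω) ⟶ V') (W : T'.Opens) (δ : Spec (CommRingCat.of Ω) ⟶ T'),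
      IsPullback k π' π h → Etale h → vb' ≫ h = vb → IsPiece π' vb' W δ →
        ∀ᶠ v' in 𝓝 (pt vb'), fiOn π' W (w ∘ ⇑k) v' = fiOn π' W (w ∘ ⇑k) (pt vb')) :
    ∀ᶠ v in 𝓝 (pt vb), MoreMor.fibreIntegral π w v = MoreMor.fibreIntegral π w (pt vb) := by
  classical
  haveI := GF.finite_lifts π vb (Scheme.Hom.finite_preimage_singleton _ _)
  obtain ⟨T', V', k, π', h, vb', W, δ, hc, he, rfl, hp⟩ := exists_decomp π vb id
  haveI : IsFinite π' := MorphismProperty.of_isPullback hc inferInstance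
  let := Fintype.ofFinite (Lifts π (vb' ≫ h))
  have hne : ∀ i j, i ≠ j → δ i ≠ δ j := fun i j hij e =>
    hij (Subtype.ext ((hp i).2.symm.trans ((congrArg (· ≫ k) e).trans (hp j).2)))
  have hcov : ∀ t, π' t = pt vb' → ∃ i, t ∈ W i := by
    intro t ht
    obtain ⟨d, rfl⟩ := exists_lift_pt π' vb' t ht
    refine ⟨⟨d.1 ≫ k, by rw [Category.assoc, hc.w, reassoc_of% d.2]⟩, ?_⟩
    let i : Lifts π (vb' ≫ h) := ⟨d.1 ≫ k, by rw [Category.assoc, hc.w, reassoc_of% d.2]⟩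
    have e : d.1 = δ i := hc.hom_ext ((hp i).2.symm) (d.2.trans (hp i).1.over.symm)
    exact (congrArg (fun z => pt z ∈ W i) e).mpr (hp i).1.mem
  have h1 : ∀ᶠ v' in 𝓝 (pt vb'), ∀ t, π' t = v' → ∃ i, t ∈ W i := by
    filter_upwards [eventually_forall_not (π := π') (isFinite_top)
      (isOpen_iUnion fun i => (W i).2).isClosed_compl fun t _ ht htv =>
        ht (Set.mem_iUnion.mpr (hcov t htv))] with v' hv' t ht
    exact Set.mem_iUnion.mp (not_not.mp (hv' t trivial ht))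
  have h2 : ∀ᶠ v' in 𝓝 (pt vb'), ∀ i j, i ≠ j → ∀ t ∈ W i, π' t = v' → t ∉ W j := by
    simp only [eventually_all]
    exact fun i j hij => (hp i).1.eventually_disjoint (hp j).1 (hne i j hij)
  have h3 : ∀ᶠ v' in 𝓝 (pt vb'), ∀ i, fiOn π' (W i) (w ∘ ⇑k) v' = fiOn π' (W i) (w ∘ ⇑k) (pt vb') :=
    eventually_all.mpr fun i => H _ _ _ _ _ _ _ _ hc he rfl (hp i).1
  have key : ∀ v', (∀ t, π' t = v' → ∃ i, t ∈ W i) →
      (∀ i j, i ≠ j → ∀ t ∈ W i, π' t = v' → t ∉ W j) →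
      MoreMor.fibreIntegral π w (h v') = ∑ i, fiOn π' (W i) (w ∘ ⇑k) v' := fun v' a b => by
    rw [← GF.fibreIntegral_baseChange hc w v' (Scheme.Hom.finite_preimage_singleton _ _), ← fiOn_top]
    exact fiOn_eq_sum isFinite_top (fun i => (hp i).1.finite) _
      (fun t ht => ⟨fun _ => a t ht, fun _ => trivial⟩) b
  rw [pt_comp]
  refine eventually_of_etale h ?_
  filter_upwards [h1, h2, h3] with v' a b c
  rw [key v' a b, key _ h1.self_of_nhds h2.self_of_nhds]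
  exact Finset.sum_congr rfl fun i _ => c i

end Groth.Agent.MorLib.WT
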