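import Groth.Agent.MorLib.WeightConstr
import Groth.Agent.MorLib.WeightFlat
import Groth.Agent.MorLib.WeightBaseChange

/-! Weightings are detected by finitely many étale test pieces. -/

set_option autoImplicit false
universe u

namespace Groth.Agent.MorLib.WT

open AlgebraicGeometry CategoryTheory Limits Filter Topology
open Groth.Agent.MorLib.GF (pt pt_comp geomSum)

variable {T V X Y X' Y' : Scheme.{u}}

/-- An étale test piece of `f`. -/
structure Test (f : X ⟶ Y) where
  V : Scheme.{u}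
  g : V ⟶ Y
  W : (pullback f g).Opens
  etale : Etale g
  affine : IsAffine V
  finite : IsFinite (W.ι ≫ pullback.snd f g)

/-- Every geometric point is isolated in one of the test pieces. -/
def Covered (f : X ⟶ Y) {ι : Type u} (t : ι → Test f) : Prop :=
  ∀ (Ω : Type u) [Field Ω] [IsAlgClosed Ω] (γ : Spec (CommRingCat.of Ω) ⟶ X),
    ∃ (a : ι) (vb : Spec (CommRingCat.of Ω) ⟶ (t a).V)
      (δ : Spec (CommRingCat.of Ω) ⟶ pullback f (t a).g),
      IsPiece (pullback.snd f (t a).g) vb (t a).W δ ∧ δ ≫ pullback.fst f (t a).g = γ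

/-- The function of a test piece. -/
noncomputable def Test.val {f : X ⟶ Y} (t : Test f) (w : X → ℤ) : t.V → ℤ :=
  fiOn (pullback.snd f t.g) t.W (w ∘ ⇑(pullback.fst f t.g))

theorem Test.val_isLocallyConstant {f : X ⟶ Y} (t : Test f) {w : X → ℤ} (hw : MoreMor.IsWeighting f w) :
    IsLocallyConstant (t.val w) :=
  haveI := t.etale
  weighting_apply hw (IsPullback.of_hasPullback f t.g) t.finite

/-- Comparison of any isolated piece with a test piece at the same geometric point. -/
theorem eventually_piece_eq_of_test {Ω : Type u} [Field Ω] [IsAlgClosed Ω] {f : X ⟶ Y} [LocallyQuasiFinite f]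
    [LocallyOfFiniteType f] {w : X → ℤ} {ι : Type u} {t : ι → Test f} (ht : Covered f t)
    (hval : ∀ a, IsLocallyConstant ((t a).val w)) {π : T ⟶ V} {k : T ⟶ X}
    {g : V ⟶ Y} (hc : IsPullback k π f g) {vb : Spec (CommRingCat.of Ω) ⟶ V} {W : T.Opens}
    {δ : Spec (CommRingCat.of Ω) ⟶ T} (hp : IsPiece π vb W δ) :
    ∀ᶠ v in 𝓝 (pt vb), fiOn π W (w ∘ ⇑k) v = fiOn π W (w ∘ ⇑k) (pt vb) := by
  haveI : LocallyQuasiFinite π := MorphismProperty.of_isPullback hc inferInstance
  obtain ⟨a, vb₁, δ₁, hp₁, hδ₁⟩ := ht Ω (δ ≫ k)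
  let g₁ := (t a).g
  let W₁ : (pullback f g₁).Opens := (t a).W
  haveI : Etale g₁ := (t a).etale
  change IsPiece (pullback.snd f g₁) vb₁ W₁ δ₁ at hp₁
  change δ₁ ≫ pullback.fst f g₁ = δ ≫ k at hδ₁
  have hv₁ : vb₁ ≫ g₁ = vb ≫ g := by
    rw [← hp₁.over, Category.assoc, ← pullback.condition, reassoc_of% hδ₁, hc.w, reassoc_of% hp.over]
  let p := pullback.fst g g₁
  let q := pullback.snd g g₁
  let vb' := pullback.lift vb vb₁ hv₁.symm
  have hc' : IsPullback (pullback.fst π p) (pullback.snd π p) π p := IsPullback.of_hasPullback _ _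
  have hc₂ : IsPullback (pullback.fst π p ≫ k) (pullback.snd π p) f (q ≫ g₁) := by
    rw [← pullback.condition]
    exact hc'.paste_horiz hc
  let m := pullback.lift (f := f) (g := g₁) (pullback.fst π p ≫ k) (pullback.snd π p ≫ q)
    (by rw [hc₂.w, Category.assoc])
  have hm : IsPullback m (pullback.snd π p) (pullback.snd f g₁) q :=
    IsPullback.of_right (h₁₂ := pullback.fst f g₁)
      (by rw [pullback.lift_fst]; exact hc₂) (pullback.lift_snd ..) (IsPullback.of_hasPullback f g₁)
  haveI : LocallyQuasiFinite (pullback.snd π p) := MorphismProperty.of_isPullback hc' inferInstance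
  have hA := hp.baseChange hc' vb' (pullback.lift_fst ..)
  have hB := hp₁.baseChange hm vb' (pullback.lift_snd ..)
  have e : hc'.lift δ vb' (by rw [hp.over, pullback.lift_fst]) =
      hm.lift δ₁ vb' (by rw [hp₁.over, pullback.lift_snd]) := by
    refine hc₂.hom_ext ?_ (by rw [IsPullback.lift_snd, IsPullback.lift_snd])
    rw [IsPullback.lift_fst_assoc, ← pullback.lift_fst (f := f) (g := g₁) (pullback.fst π p ≫ k)
      (pullback.snd π p ≫ q) (by rw [hc₂.w, Category.assoc]), IsPullback.lift_fst_assoc, hδ₁]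
  rw [← e] at hB
  have hq : pullback.fst g g₁ (pt vb') = pt vb := by rw [← pt_comp, pullback.lift_fst]
  rw [← hq]
  refine eventually_of_etale (pullback.fst g g₁) ?_
  have hcont : Tendsto q (𝓝 (pt vb')) (𝓝 (q (pt vb'))) := q.continuous.continuousAt
  have hlc : ∀ᶠ v in 𝓝 (pt vb'), fiOn (pullback.snd f g₁) W₁ (w ∘ ⇑(pullback.fst f g₁)) (q v) =
      fiOn (pullback.snd f g₁) W₁ (w ∘ ⇑(pullback.fst f g₁)) (q (pt vb')) :=
    hcont.eventually ((hval a).eventually_eq _)
  have key : ∀ v, (∀ t, pullback.snd π p t = v → (t ∈ pullback.fst π p ⁻¹ᵁ W ↔ t ∈ m ⁻¹ᵁ W₁)) →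
      fiOn π W (w ∘ ⇑k) (p v) = fiOn (pullback.snd f g₁) W₁ (w ∘ ⇑(pullback.fst f g₁)) (q v) := by
    intro v hv
    rw [← fiOn_baseChange hc' hp.finite, ← fiOn_baseChange hm hp₁.finite,
      fiOn_congr hA.finite hB.finite _ hv]
    unfold fiOn
    congr 1
    funext b
    show w (k (pullback.fst π p _)) = w (pullback.fst f g₁ (m _))
    have : m ≫ pullback.fst f g₁ = pullback.fst π p ≫ k := pullback.lift_fst ..
    rw [← Scheme.Hom.comp_apply _ k, ← Scheme.Hom.comp_apply m, this]
  have hiff := hA.eventually_iff hB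
  filter_upwards [hiff, hlc] with v a b
  rw [key v a, key _ hiff.self_of_nhds, b]

/-- A function locally constant on all test pieces is a weighting. -/
theorem isWeighting_of_test {f : X ⟶ Y} [LocallyQuasiFinite f] [LocallyOfFiniteType f]
    {w : X → ℤ} {ι : Type u} {t : ι → Test f} (ht : Covered f t)
    (hval : ∀ a, IsLocallyConstant ((t a).val w)) : MoreMor.IsWeighting f w := by
  intro V' g' _ U hU
  rw [IsLocallyConstant.iff_eventually_eq]
  intro v
  obtain ⟨Ω, _, _, vb, rfl⟩ := GF.exists_geomPoint v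
  refine eventually_fibreIntegral_eq (U.ι ≫ pullback.snd f g') _ vb
    fun T' V'' k π' h₂ vb' W δ hc₁ he _ hp => ?_
  let q₁ := pullback.fst (pullback.snd f g') h₂
  let q₂ := pullback.snd (pullback.snd f g') h₂
  have hQ : IsPullback q₁ q₂ (pullback.snd f g') h₂ := IsPullback.of_hasPullback _ _
  let j := hQ.lift (k ≫ U.ι) π' (by rw [Category.assoc, hc₁.w])
  have hj : j ≫ q₂ = π' := hQ.lift_snd ..
  have hjs : IsPullback k j U.ι q₁ :=
    IsPullback.of_bot (by rw [hj]; exact hc₁) (hQ.lift_fst ..).symm hQ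
  haveI : IsOpenImmersion j := MorphismProperty.of_isPullback hjs inferInstance
  rw [← hj] at hp
  have hall : IsPullback (q₁ ≫ pullback.fst f g') q₂ f (h₂ ≫ g') :=
    hQ.paste_horiz (IsPullback.of_hasPullback f g')
  have H := eventually_piece_eq_of_test ht hval hall (hp.image j)
  filter_upwards [H] with v' hv'
  rw [← fiOn_image j q₂ hp.finite, ← fiOn_image j q₂ hp.finite] at hv'
  rw [← hj]
  convert hv' using 3 <;>
  · funext a
    show w (pullback.fst f g' (U.ι (k a))) = w ((q₁ ≫ pullback.fst f g') (j a))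
    rw [Scheme.Hom.comp_apply, ← Scheme.Hom.comp_apply k U.ι, hjs.w, Scheme.Hom.comp_apply]

variable {f : X ⟶ Y} {f' : X' ⟶ Y'} {pX : X' ⟶ X} {h : Y' ⟶ Y}

noncomputable def Test.mT (t : Test f) (hc : IsPullback pX f' f h) :
    pullback f' (pullback.snd t.g h) ⟶ pullback f t.g :=
  pullback.lift (pullback.fst _ _ ≫ pX) (pullback.snd _ _ ≫ pullback.fst t.g h) (by
    rw [Category.assoc, hc.w, ← Category.assoc, pullback.condition, Category.assoc, Category.assoc,
      pullback.condition])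

theorem Test.isPullback_mT (t : Test f) (hc : IsPullback pX f' f h) :
    IsPullback (t.mT hc) (pullback.snd f' (pullback.snd t.g h)) (pullback.snd f t.g) (pullback.fst t.g h) := by
  refine IsPullback.of_right (h₁₂ := pullback.fst f t.g) ?_ (pullback.lift_snd ..) (IsPullback.of_hasPullback f t.g)
  rw [Test.mT, pullback.lift_fst, pullback.condition (f := t.g) (g := h)]
  exact (IsPullback.of_hasPullback f' (pullback.snd t.g h)).paste_horiz hc

/-- Base change of a test piece. -/
noncomputable def Test.baseChange (t : Test f) (hc : IsPullback pX f' f h) [IsAffine Y] [IsAffine Y'] :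
    Test f' where
  V := pullback t.g h
  g := pullback.snd t.g h
  W := t.mT hc ⁻¹ᵁ t.W
  etale := haveI := t.etale; MorphismProperty.pullback_snd _ _ inferInstance
  affine := haveI := t.affine; inferInstance
  finite := MorphismProperty.of_isPullback
    ((isPullback_morphismRestrict (t.mT hc) t.W).paste_vert (t.isPullback_mT hc)) t.finite

theorem Covered.baseChange {ι : Type u} {t : ι → Test f} (ht : Covered f t)
    (hc : IsPullback pX f' f h) [IsAffine Y] [IsAffine Y'] :
    Covered f' (fun a => (t a).baseChange hc) := by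
  intro Ω _ _ γ
  obtain ⟨a, vb, δ, hp, hδ⟩ := ht Ω (γ ≫ pX)
  let vb' := pullback.lift (f := (t a).g) (g := h) vb (γ ≫ f') (by
    rw [← hp.over, Category.assoc, ← pullback.condition, reassoc_of% hδ, Category.assoc, hc.w])
  refine ⟨a, vb', _, hp.baseChange ((t a).isPullback_mT hc) vb' (pullback.lift_fst ..), ?_⟩
  refine hc.hom_ext ?_ ?_
  · rw [Category.assoc]
    have e : (t a).mT hc ≫ pullback.fst f (t a).g = pullback.fst f' (pullback.snd (t a).g h) ≫ pX :=
      pullback.lift_fst ..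
    show _ ≫ pullback.fst f' (pullback.snd (t a).g h) ≫ pX = _
    rw [← e, IsPullback.lift_fst_assoc, hδ]
  · show (_ ≫ pullback.fst f' (pullback.snd (t a).g h)) ≫ f' = _
    rw [Category.assoc, pullback.condition (f := f') (g := pullback.snd (t a).g h)]
    exact (IsPullback.lift_snd_assoc ..).trans (pullback.lift_snd ..)

set_option backward.isDefEq.respectTransparency.types false in
/-- Finitely many test pieces suffice for a morphism of affine schemes. -/
theorem exists_covered (f : X ⟶ Y) [IsAffine X] [LocallyQuasiFinite f] [LocallyOfFiniteType f] :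
    ∃ (ι : Type u) (_ : Finite ι) (t : ι → Test f), Covered f t := by
  classical
  have key : ∀ x : X, ∃ (t : Test f) (C : Set X), IsConstructible C ∧ x ∈ C ∧
      ∀ (Ω : Type u) [Field Ω] [IsAlgClosed Ω] (γ : Spec (CommRingCat.of Ω) ⟶ X), pt γ ∈ C →
        ∃ (vb : Spec (CommRingCat.of Ω) ⟶ t.V) (δ : Spec (CommRingCat.of Ω) ⟶ pullback f t.g),
          IsPiece (pullback.snd f t.g) vb t.W δ ∧ δ ≫ pullback.fst f t.g = γ := by
    intro x
    obtain ⟨Ω, _, _, γ, rfl⟩ := GF.exists_geomPoint x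
    obtain ⟨V, g, vb, W, δ, he, -, hp, hδ⟩ := exists_piece f γ
    obtain ⟨V₀, hV₀, hvV₀, -⟩ := exists_isAffineOpen_mem_and_subset (x := pt vb) (U := ⊤) trivial
    let g₀ : Spec Γ(V, V₀) ⟶ Y := hV₀.fromSpec ≫ g
    haveI := he
    haveI : Etale g₀ := inferInstance
    let m := pullback.lift (f := f) (g := g) (pullback.fst f g₀) (pullback.snd f g₀ ≫ hV₀.fromSpec)
      (by rw [pullback.condition, Category.assoc])
    have hm : IsPullback m (pullback.snd f g₀) (pullback.snd f g) hV₀.fromSpec :=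
      IsPullback.of_right (h₁₂ := pullback.fst f g)
        (by rw [pullback.lift_fst]; exact IsPullback.of_hasPullback f g₀) (pullback.lift_snd ..)
        (IsPullback.of_hasPullback f g)
    obtain ⟨vb₀, hvb₀⟩ : ∃ vb₀, vb₀ ≫ hV₀.fromSpec = vb :=
      ⟨IsOpenImmersion.lift hV₀.fromSpec vb (by
        rw [hV₀.range_fromSpec]; exact GL.range_SpecField_subset vb _ hvV₀), IsOpenImmersion.lift_fac ..⟩
    have hp₀ := hp.baseChange hm vb₀ hvb₀
    let W₀ : (pullback f g₀).Opens := m ⁻¹ᵁ W
    let t : Test f := ⟨Spec Γ(V, V₀), g₀, W₀, inferInstance, inferInstance, hp₀.finite⟩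
    haveI : IsFinite (W₀.ι ≫ pullback.snd f g₀) := hp₀.finite
    haveI : IsAffine (W₀ : Scheme.{u}) := isAffine_of_isAffineHom (W₀.ι ≫ pullback.snd f g₀)
    let π₀ := W₀.ι ≫ pullback.snd f g₀
    let q := W₀.ι ≫ pullback.fst f g₀
    haveI : Etale (pullback.fst f g₀) := MorphismProperty.pullback_fst _ _ inferInstance
    haveI : Etale q := inferInstance
    haveI : QuasiCompact q := inferInstance
    haveI : LocallyQuasiFinite q := locallyQuasiFinite_of_etale q
    obtain ⟨D, hD, hpD, hsub⟩ := exists_constructible_subsingleton_lifts π₀ (pt vb₀) fun Ω' _ _ yb hyb => by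
      have hone : MoreMor.fibreIntegral π₀ (fun _ => 1) (pt vb₀) = 1 := hp₀.fiOn_eq fun _ => 1
      rw [← hyb] at hone
      haveI := GF.finite_lifts π₀ yb (Scheme.Hom.finite_preimage_singleton _ _)
      let := Fintype.ofFinite (Lifts π₀ yb)
      rw [GF.fibreIntegral_eq π₀ _ yb (Scheme.Hom.finite_preimage_singleton _ _), geomSum,
        finsum_eq_sum_of_fintype] at hone
      simp only [Finset.sum_const, Finset.card_univ, nsmul_eq_mul, mul_one, Nat.cast_eq_one] at hone
      exact Fintype.card_le_one_iff_subsingleton.mp hone.le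
    refine ⟨t, q '' (π₀ ⁻¹' D), q.isConstructible_image (π₀.isConstructible_preimage hD), ?_, ?_⟩
    · obtain ⟨δ₀, hδ₀⟩ := exists_lift_to_open W₀ _ hp₀.mem
      refine ⟨pt δ₀, ?_, ?_⟩
      · show π₀ (pt δ₀) ∈ D
        rw [← pt_comp, show δ₀ ≫ π₀ = vb₀ by rw [reassoc_of% hδ₀]; exact hp₀.over]
        exact hpD
      · rw [← pt_comp]
        congr 1
        rw [reassoc_of% hδ₀, ← pullback.lift_fst (f := f) (g := g) (pullback.fst f g₀)
          (pullback.snd f g₀ ≫ hV₀.fromSpec) (by rw [pullback.condition, Category.assoc]),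
          IsPullback.lift_fst_assoc, hδ]
    · rintro Ω' _ _ γ' ⟨z, hz, hzq⟩
      obtain ⟨d, hd, hdz⟩ := GF.exists_lift q γ' z hzq
      refine ⟨d ≫ π₀, d ≫ W₀.ι, ⟨hp₀.finite, pt_mem W₀ d, Category.assoc .., fun δ' h1 h2 => ?_⟩,
        (Category.assoc ..).trans hd⟩
      obtain ⟨d', rfl⟩ := exists_lift_to_open W₀ δ' h2
      haveI := hsub Ω' (d ≫ π₀) (by rw [pt_comp, hdz]; exact hz)
      have h1' : d' ≫ π₀ = d ≫ π₀ := (Category.assoc ..).symm.trans h1
      exact congrArg (· ≫ W₀.ι) (congrArg Subtype.val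
        (Subsingleton.elim (⟨d', h1'⟩ : Lifts π₀ (d ≫ π₀)) ⟨d, rfl⟩))
  choose t C hC hxC ht using key
  obtain ⟨F, hF⟩ := isCompact_univ.elim_finite_subcover
    (fun x : (X : Type u) => (WithTopology.ofTopology ⁻¹' C x : Set (WithConstructibleTopology X)))
    (fun x => WithConstructibleTopology.isOpen_iff.mpr (isClopen_constructibleTopology (hC x)).1)
    fun z _ => Set.mem_iUnion.mpr ⟨WithTopology.ofTopology z, hxC _⟩
  refine ⟨{x : (X : Type u) // x ∈ F}, inferInstance, fun x => t x.1, fun Ω _ _ γ => ?_⟩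
  obtain ⟨x, hx, hγ⟩ := Set.mem_iUnion₂.mp (hF (Set.mem_univ (WithTopology.toTopology _ (pt γ))))
  exact ⟨⟨x, hx⟩, ht x Ω γ hγ⟩

end Groth.Agent.MorLib.WT

namespace Groth.Agent.MorLib.WT

open AlgebraicGeometry CategoryTheory Limits

variable {X Y X' Y' X'' Y'' : Scheme.{u}} {f : X ⟶ Y} {f' : X' ⟶ Y'} {pX : X' ⟶ X} {h : Y' ⟶ Y}
  {f'' : X'' ⟶ Y''} {pX' : X'' ⟶ X} {h'' : Y'' ⟶ Y} {h' : Y'' ⟶ Y'} {a : X'' ⟶ X'}

theorem Test.val_comp [IsAffine Y] [IsAffine Y'] [IsAffine Y''] (t : Test f) (hc'' : IsPullback pX' f'' f h'')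
    (hc : IsPullback pX f' f h) (ha : a ≫ pX = pX') (ha' : a ≫ f' = f'' ≫ h') (hh : h' ≫ h = h'')
    {q : pullback t.g h'' ⟶ pullback t.g h}
    (hq : IsPullback q (pullback.snd t.g h'') (pullback.snd t.g h) h')
    (hq' : q ≫ pullback.fst t.g h = pullback.fst t.g h'')
    (w : X' → ℤ) (v : ↥(pullback t.g h'')) :
    (t.baseChange hc'').val (w ∘ ⇑a) v = (t.baseChange hc).val w (q v) := by
  let π' := pullback.snd f' (pullback.snd t.g h)
  let π'' := pullback.snd f'' (pullback.snd t.g h'')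
  let m : pullback f'' (pullback.snd t.g h'') ⟶ pullback f' (pullback.snd t.g h) :=
    pullback.lift (pullback.fst _ _ ≫ a) (pullback.snd _ _ ≫ q) (by
      rw [Category.assoc, ha', pullback.condition_assoc, Category.assoc, hq.w])
  have hsq : IsPullback a f'' f' h' := IsPullback.of_right (h₁₂ := pX) (h₂₂ := h)
    (by rw [ha, hh]; exact hc'') ha' hc
  have hm : IsPullback m π'' π' q := by
    refine IsPullback.of_right (h₁₂ := pullback.fst f' (pullback.snd t.g h)) ?_ (pullback.lift_snd ..)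
      (IsPullback.of_hasPullback f' (pullback.snd t.g h))
    rw [pullback.lift_fst, hq.w]
    exact (IsPullback.of_hasPullback f'' (pullback.snd t.g h'')).paste_horiz hsq
  have hmT : m ≫ t.mT hc = t.mT hc'' := by
    apply pullback.hom_ext
    · rw [Test.mT, Test.mT, Category.assoc, pullback.lift_fst, pullback.lift_fst, pullback.lift_fst_assoc,
        Category.assoc, ha]
    · rw [Test.mT, Test.mT, Category.assoc, pullback.lift_snd, pullback.lift_snd, pullback.lift_snd_assoc,
        Category.assoc, hq']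
  have hW : IsFinite ((t.mT hc ⁻¹ᵁ t.W).ι ≫ π') := (t.baseChange hc).finite
  refine Eq.trans ?_ (fiOn_baseChange hm hW (w ∘ ⇑(pullback.fst f' (pullback.snd t.g h))) v)
  show fiOn π'' (t.mT hc'' ⁻¹ᵁ t.W) ((w ∘ ⇑a) ∘ ⇑(pullback.fst f'' (pullback.snd t.g h''))) v = _
  rw [← hmT, Scheme.Hom.comp_preimage]
  congr 1
  funext z
  show w (a (pullback.fst f'' (pullback.snd t.g h'') z)) = w (pullback.fst f' (pullback.snd t.g h) (m z))
  rw [← Scheme.Hom.comp_apply, ← Scheme.Hom.comp_apply m, pullback.lift_fst]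

end Groth.Agent.MorLib.WT
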